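import Cfsg.Agent.Lib.Known2.TT2
import Cfsg.Agent.Lib.Known2.Invol
import Cfsg.Agent.Lib.Block.ZStar
import Cfsg.Agent.Lib.Coprime.Sylow

/-! Classes of involutions with products of odd prime power order. -/

set_option autoImplicit false

namespace Cfsg.Lib.Known2

open Subgroup Cfsg.Lib.Core Cfsg.Lib.Transfer

variable {G : Type*} [Group G]

theorem ncard_conj_orbit (H : Subgroup G) (d : G) :
    {y | ∃ x ∈ H, x * d * x⁻¹ = y}.ncard = (centralizer {d}).relIndex H := by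
  let := MulAction.compHom G ((MulAut.conj).comp H.subtype)
  have e : (centralizer {d}).subgroupOf H = MulAction.stabilizer H d := by
    ext u
    rw [mem_subgroupOf, mem_centralizer_singleton_iff, MulAction.mem_stabilizer_iff]
    exact conj_eq_self_iff.symm
  rw [relIndex, e, MulAction.index_stabilizer]
  congr 1
  ext y
  exact ⟨fun ⟨x, hx, e⟩ => ⟨⟨x, hx⟩, e⟩, fun ⟨x, e⟩ => ⟨x, x.2, e⟩⟩

theorem mem_conjugatesOf_iff {d y : G} : y ∈ conjugatesOf d ↔ ∃ g, g * d * g⁻¹ = y := isConj_iff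

theorem sq_of_mem_conjugatesOf {d y : G} (hd : d * d = 1) (hy : y ∈ conjugatesOf d) : y * y = 1 := by
  obtain ⟨g, rfl⟩ := mem_conjugatesOf_iff.1 hy
  rw [conj_mul, hd]; group

theorem mul_mem_pCore_of_pow [Finite G] {p : ℕ} (hp : p.Prime) (hp2 : p ≠ 2) {d : G} (hd : orderOf d = 2)
    (h : ∀ a ∈ conjugatesOf d, ∀ b ∈ conjugatesOf d, ∃ k : ℕ, orderOf (a * b) = p ^ k) :
    ∀ a ∈ conjugatesOf d, ∀ b ∈ conjugatesOf d, a * b ∈ pCore p G := by
  have := Fact.mk hp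
  have d2 := mul_self_of_orderOf_two hd
  have di := inv_eq_of_orderOf_two hd
  have dm : d ∈ conjugatesOf d := IsConj.refl d
  have cm : ∀ g, g * d * g⁻¹ ∈ conjugatesOf d := fun g => mem_conjugatesOf_iff.2 ⟨g, rfl⟩
  have iso : IsIsolatedInvolution d := ⟨hd, fun g hg => by
    obtain ⟨k, hk⟩ := h d dm _ (cm g)
    have h1 : (d * (g * d * g⁻¹)) ^ 2 = 1 := by
      rw [hg.mul_pow, sq, sq, d2, sq_of_mem_conjugatesOf d2 (cm g), mul_one]
    have h2 := eq_one_of_pow_prime_pow ((Nat.coprime_primes Nat.prime_two hp).2 hp2.symm) h1 (hk ▸ pow_orderOf_eq_one _)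
    rw [eq_inv_of_mul_eq_one_right h2, di]⟩
  have odd := odd_card_oddCore G
  have inv : ∀ q : ℕ, ∀ [Fact q.Prime], ∃ Q, SylowIn q Q (oddCore G) ∧ ∀ x ∈ Q, d * x * d⁻¹ ∈ Q := fun q _ => by
    obtain ⟨Q, h1, h2⟩ := Coprime.exists_invariant_sylowIn (A := zpowers d) (K := oddCore G) (by simp [normalizer_eq_top])
      (by rw [Nat.card_zpowers, hd]; exact Nat.coprime_two_left.2 odd) (Or.inl inferInstance) q
    exact ⟨Q, h1, fun x hx => (mem_normalizer_iff.1 (h2 (mem_zpowers d)) x).1 hx⟩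
  obtain ⟨P, hP, hPd⟩ := inv p
  have e : {y | ∃ x ∈ P, x * d * x⁻¹ = y} = {y | ∃ x ∈ oddCore G, x * d * x⁻¹ = y} := by
    refine Set.eq_of_subset_of_ncard_le (fun y ⟨x, hx, e⟩ => ⟨x, hP.le hx, e⟩) ?_
    rw [ncard_conj_orbit, ncard_conj_orbit]
    refine Nat.le_of_dvd (Nat.pos_of_ne_zero index_ne_zero_of_finite) (Nat.Coprime.dvd_of_dvd_mul_right
      (n := P.relIndex (oddCore G)) (Nat.coprime_of_dvd fun q hq h1 h2 => ?_) ?_)
    · have := Fact.mk hq
      obtain ⟨Q, hQ, hQd⟩ := inv q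
      refine hQ.not_dvd (h1.trans (relIndex_dvd_of_le_left _ fun x hx => ?_))
      obtain ⟨k, hk⟩ := h d dm _ (cm x)
      obtain ⟨l, hl⟩ := isPGroup_iff_forall_mem.1 hQ.isPGroup _ (mul_mem (hQd x hx) (inv_mem hx))
      have h3 : d * (x * d * x⁻¹) = 1 := eq_one_of_pow_prime_pow (q := q ^ l) (Nat.Coprime.pow_left l
        ((Nat.coprime_primes hq hp).2 fun e => hP.not_dvd (e ▸ h2))) (by rw [← hl, di]; group) (hk ▸ pow_orderOf_eq_one _)
      rw [mem_centralizer_singleton_iff]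
      exact conj_eq_self_iff.1 (by rw [eq_inv_of_mul_eq_one_right h3, di])
    · rw [← inf_relIndex_right _ P, relIndex_mul_relIndex _ _ _ inf_le_right hP.le]
      exact relIndex_dvd_of_le_left _ inf_le_left
  have k : ∀ a ∈ conjugatesOf d, ∃ x ∈ P, x * d * x⁻¹ = a := fun a ha => by
    obtain ⟨g, rfl⟩ := mem_conjugatesOf_iff.1 ha
    have h1 := inv_mem (Block.z_star iso g)
    rw [show (d * g * d⁻¹ * g⁻¹)⁻¹ = g * d * g⁻¹ * d⁻¹ by group, di] at h1
    obtain ⟨m, hm⟩ := conj_of_odd_orderOf (sq_of_mem_conjugatesOf d2 ha) d2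
      (Nat.coprime_two_right.1 (coprime_orderOf_of_mem (Nat.coprime_two_right.2 odd) h1))
    exact e.ge ⟨_, pow_mem h1 m, hm⟩
  let S := {x | ∃ a ∈ conjugatesOf d, ∃ b ∈ conjugatesOf d, a * b = x}
  have hn : (closure S).Normal := by
    rw [← normalizer_eq_top_iff, eq_top_iff]
    refine le_normalizer_closure_iff.2 ?_
    rintro g - _ ⟨a, ha, b, hb, rfl⟩
    exact subset_closure ⟨_, ha.trans (isConj_iff.2 ⟨g, rfl⟩), _, hb.trans (isConj_iff.2 ⟨g, rfl⟩), by group⟩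
  have hle : closure S ≤ P := (closure_le _).2 (by
    rintro _ ⟨a, ha, b, hb, rfl⟩
    obtain ⟨x, hx, rfl⟩ := k a ha
    obtain ⟨y, hy, rfl⟩ := k b hb
    have := mul_mem (mul_mem hx (hPd _ (mul_mem (inv_mem hx) hy))) (inv_mem hy)
    rw [di] at this
    simpa [mul_assoc] using this)
  exact fun a ha b hb => le_pCore (hP.isPGroup.to_le hle) (subset_closure ⟨a, ha, b, hb, rfl⟩)

end Cfsg.Lib.Known2
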