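import Cfsg.Agent.Lib.Known2.ES
import Cfsg.Agent.Lib.Known2.Odd
import Cfsg.Agent.Lib.Amalg.Ops
import Cfsg.Agent.Lib.Core.PCore

/-! Large extraspecial 2-subgroups, elementwise. -/

set_option autoImplicit false

namespace Cfsg.Lib.Known2

open Subgroup Cfsg.Lib.Core Cfsg.Lib.Amalg
open scoped commutatorElement

variable {G : Type*} [Group G]

/-- `Q` extraspecial with centre `{1,z}`, self-centralising, normal in `C(z)`. -/
structure LS (Q : Subgroup G) (z : G) : Prop extends ES Q z where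
  selfc : ∀ g, (∀ x ∈ Q, g * x = x * g) → g = 1 ∨ g = z
  norm : ∀ g, g * z = z * g → ∀ x ∈ Q, g * x * g⁻¹ ∈ Q

theorem mem_cent_zpowers {z g : G} : g ∈ 𝐂 (zpowers z) ↔ g * z = z * g := by
  rw [mem_centralizer_comm]
  constructor
  · intro h; exact (h z (mem_zpowers z)).symm
  · rintro h _ ⟨n, rfl⟩
    exact ((Commute.zpow_right (show Commute g z from h) n).eq).symm

theorem mem_cent_single {z g : G} : g ∈ centralizer ({z} : Set G) ↔ g * z = z * g :=
  mem_centralizer_singleton_iff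

theorem conj_eq_of_comm {g x : G} (h : g * x = x * g) : g * x * g⁻¹ = x := by rw [h]; group

theorem comm_of_conj_eq {g x : G} (h : g * x * g⁻¹ = x) : g * x = x * g := by
  calc g * x = g * x * g⁻¹ * g := by group
    _ = x * g := by rw [h]

theorem LS.of [Finite G] {Q : Subgroup G} (h1 : IsExtraspecial 2 Q)
    (h2 : 𝐂 Q = (center Q).map Q.subtype) (h3 : 𝐂 ((center Q).map Q.subtype) ≤ 𝐍 Q) {z : G}
    (hz : (center Q).map Q.subtype = zpowers z) : LS Q z := by
  have h := ES.of_isExtraspecial h1 hz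
  refine ⟨h, fun g hg => ?_, fun g hg x hx => ?_⟩
  · rw [← h.mem_zp, ← hz, ← h2, mem_centralizer_comm]
    exact fun x hx => (hg x hx).symm
  · have : g ∈ 𝐍 Q := h3 (by rw [hz]; exact mem_cent_zpowers.2 hg)
    exact (mem_normalizer_iff.1 this x).1 hx

theorem exists_LS [Finite G] {Q : Subgroup G} (h1 : IsExtraspecial 2 Q)
    (h2 : 𝐂 Q = (center Q).map Q.subtype) (h3 : 𝐂 ((center Q).map Q.subtype) ≤ 𝐍 Q) :
    ∃ z, (center Q).map Q.subtype = zpowers z ∧ LS Q z := by
  obtain ⟨z, hz, -⟩ := exists_ES h1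
  exact ⟨z, hz, LS.of h1 h2 h3 hz⟩

/-- A fixed-point-free involution on a subgroup inverts it. -/
theorem inverts_of_fpf [Finite G] {K : Subgroup G} {t : G} (ht : t * t = 1) (hn : t ∈ 𝐍 K)
    (h : ∀ k ∈ K, t * k = k * t → k = 1) : ∀ k ∈ K, t * k * t⁻¹ = k⁻¹ := by
  let φ : K →* K := (K.normalizerMonoidHom ⟨t, hn⟩).toMonoidHom
  have hφ : ∀ k : K, ((φ k : K) : G) = t * k * t⁻¹ := fun k => rfl
  have h1 : MonoidHom.FixedPointFree φ := by
    intro k hk
    apply Subtype.ext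
    exact h k k.2 (comm_of_conj_eq (by rw [← hφ, hk]))
  have h2 : Function.Involutive φ := by
    intro k
    apply Subtype.ext
    rw [hφ, hφ]
    calc t * (t * k * t⁻¹) * t⁻¹ = (t * t) * k * (t * t)⁻¹ := by group
      _ = k := by rw [ht]; group
  intro k hk
  have := congrFun (h1.coe_eq_inv_of_involutive h2) ⟨k, hk⟩
  rw [← hφ ⟨k, hk⟩, this]; rfl

theorem eq_one_of_odd_of_two {K : Subgroup G} (hK : Odd (Nat.card K)) {k : G} (hk : k ∈ K) {n : ℕ}
    (h : k ^ 2 ^ n = 1) : k = 1 := by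
  have h1 : orderOf k ∣ Nat.card K := Subgroup.orderOf_dvd_natCard K hk
  have h2 : orderOf k ∣ 2 ^ n := orderOf_dvd_of_pow_eq_one h
  have h3 : Nat.Coprime (Nat.card K) (2 ^ n) := (Nat.coprime_two_right.2 hK).pow_right n
  have := Nat.dvd_gcd h1 h2
  rw [h3, Nat.dvd_one] at this
  exact orderOf_eq_one_iff.1 this

namespace ES
variable {Q : Subgroup G} {z : G} (h : ES Q z)
include h

theorem pow_four {x : G} (hx : x ∈ Q) : x ^ 2 ^ 2 = 1 := by
  have : x ^ 2 ^ 2 = (x * x) * (x * x) := by norm_num [pow_succ, mul_assoc]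
  rw [this]
  rcases h.sq_mem x hx with e | e <;> rw [e]
  · simp
  · exact h.sq

/-- an element normalising `Q` centralises `z` -/
theorem comm_of_norm {g : G} (hg : g ∈ 𝐍 Q) : g * z = z * g := by
  have h1 := (h.conj g)
  rw [cj_of_mem_normalizer hg] at h1
  rcases h.of_cen _ h1.mem (fun y hy => (h1.cen y hy).symm) with e | e
  · exact absurd e h1.ne
  · exact comm_of_conj_eq e

/-- automorphisms trivial on `Q/Z` are inner -/
theorem exists_inner [Finite G] {c : G} (hc : c * z = z * c)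
    (ht : ∀ x ∈ Q, c * x * c⁻¹ = x ∨ c * x * c⁻¹ = x * z) :
    ∃ q ∈ Q, ∀ x ∈ Q, c * x * c⁻¹ = q * x * q⁻¹ := by
  have hne : ∀ x : G, x ≠ x * z := fun x e => h.ne (by simpa using e.symm)
  obtain ⟨q, hq, H⟩ := h.exists_rep (fun x => c * x * c⁻¹ = x) (by
    intro x hx y hy
    rw [← conj_mul]
    rcases ht x hx with e1 | e1 <;> rcases ht y hy with e2 | e2 <;> rw [e1, e2]
    · simp
    · have h1 := (hne y).symm
      have h2 := (hne (x * y)).symm
      rw [← mul_assoc]; simp only [h1, h2]; simp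
    · have h1 := (hne x).symm
      have h2 := (hne (x * y)).symm
      rw [mul_assoc, ← h.cen y hy, ← mul_assoc]; simp only [h1, h2]; simp
    · have : x * z * (y * z) = x * y := by
        rw [mul_assoc, ← mul_assoc z, ← h.cen y hy, mul_assoc y, h.sq, mul_one]
      have h1 := (hne x).symm
      have h2 := (hne y).symm
      simp only [this, h1, h2])
  refine ⟨q, hq, fun x hx => ?_⟩
  by_cases e : c * x * c⁻¹ = x
  · rw [e, conj_eq_of_comm ((H x hx).1 e)]
  · rw [(ht x hx).resolve_left e, h.conj_anti hq hx (fun e' => e ((H x hx).2 e'))]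

/-- for `|Q| > 8` the centraliser in `Q` of an element is non-abelian -/
theorem exists_anti_cent [Finite G] (hc : 8 < Nat.card Q) {b : G} (hb : b ∈ Q) :
    ∃ a ∈ Q, ∃ a' ∈ Q, b * a = a * b ∧ b * a' = a' * b ∧ a * a' ≠ a' * a := by
  classical
  by_contra hn
  push Not at hn
  have key : ∀ x ∈ Q, b * x = x * b → (x = 1 ∨ x = z) ∨ (x = b ∨ x = b * z) :=
    fun x hx e => h.double_perp hb hx fun y hy e' => hn x hx y hy e e'
  by_cases hy : ∀ y ∈ Q, b * y = y * b
  · obtain ⟨x, hx, y, hy', e⟩ := h.nonab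
    exact e (hn x hx y hy' (hy x hx) (hy y hy'))
  push Not at hy
  obtain ⟨y, hy, e⟩ := hy
  have hsub : (Q : Set G) ⊆ (({1, z, b, b * z, y, z * y, b * y, b * z * y} : Finset G) : Set G) := by
    intro x hx
    simp only [Finset.coe_insert, Finset.coe_singleton, Set.mem_insert_iff, Set.mem_singleton_iff]
    by_cases e' : b * x = x * b
    · have := key x hx e'; tauto
    · have e2 : b * y⁻¹ ≠ y⁻¹ * b := by
        intro e3; apply e
        calc b * y = y * (y⁻¹ * b) * y := by group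
          _ = y * b := by rw [← e3]; group
      have := key (x * y⁻¹) (mul_mem hx (inv_mem hy))
        ((h.mul_comm_iff hb hx (inv_mem hy)).2 (by tauto))
      simp only [mul_inv_eq_iff_eq_mul, one_mul] at this
      tauto
  have h1 := Set.ncard_le_ncard hsub
  rw [Set.ncard_coe_finset] at h1
  have h2 : ({1, z, b, b * z, y, z * y, b * y, b * z * y} : Finset G).card ≤ 8 := by
    refine (Finset.card_insert_le _ _).trans (Nat.succ_le_succ ?_)
    refine (Finset.card_insert_le _ _).trans (Nat.succ_le_succ ?_)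
    exact Finset.card_le_six
  have h3 : (Q : Set G).ncard = Nat.card Q := rfl
  omega

end ES

namespace LS
variable {Q : Subgroup G} {z : G} (h : LS Q z)
include h

theorem mem_norm {g : G} (hg : g * z = z * g) : g ∈ 𝐍 Q := by
  rw [mem_normalizer_iff]
  refine fun x => ⟨h.norm g hg x, fun hx => ?_⟩
  have := h.norm g⁻¹ ((show Commute g z from hg).inv_left) _ hx
  simpa [mul_assoc] using this

theorem cent_le_norm : centralizer {z} ≤ 𝐍 Q := fun _ hg => h.mem_norm (mem_cent_single.1 hg)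

theorem conj (g : G) : LS (cj g Q) (g * z * g⁻¹) := by
  refine ⟨h.toES.conj g, fun k hk => ?_, fun k hk x hx => ?_⟩
  · rcases h.selfc (g⁻¹ * k * g) (fun x hx => by
      have := hk _ (conj_mem_cj g hx)
      calc g⁻¹ * k * g * x = g⁻¹ * (k * (g * x * g⁻¹)) * g := by group
        _ = _ := by rw [this]; group) with e | e
    · left
      calc k = g * (g⁻¹ * k * g) * g⁻¹ := by group
        _ = 1 := by rw [e]; group
    · right; rw [← e]; group
  · rw [mem_cj] at hx ⊢
    have := h.norm (g⁻¹ * k * g) (by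
      calc g⁻¹ * k * g * z = g⁻¹ * (k * (g * z * g⁻¹)) * g := by group
        _ = _ := by rw [hk]; group) _ hx
    convert this using 1; group

theorem cj_eq {g g' : G} (e : g * z * g⁻¹ = g' * z * g'⁻¹) : cj g Q = cj g' Q := by
  have : g'⁻¹ * g ∈ 𝐍 Q := h.mem_norm (by
    calc g'⁻¹ * g * z = g'⁻¹ * (g * z * g⁻¹) * g := by group
      _ = _ := by rw [e]; group)
  calc cj g Q = cj (g' * (g'⁻¹ * g)) Q := by congr 3; group
    _ = _ := by rw [cj_mul, cj_of_mem_normalizer this]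

theorem cent_eq : 𝐂 Q = (center Q).map Q.subtype := by
  rw [h.toES.center_eq]
  ext g
  rw [mem_centralizer_comm, h.toES.mem_zp]
  constructor
  · exact fun hg => h.selfc g fun x hx => (hg x hx).symm
  · rintro (rfl | rfl)
    · simp
    · exact h.cen

theorem large (hK : ∀ K : Subgroup G, Odd (Nat.card K) → Q ≤ 𝐍 K → K = ⊥) [Finite G] :
    IsLargeExtraspecial Q :=
  ⟨h.toES.isExtraspecial, h.cent_eq, by
    rw [h.toES.center_eq]; exact fun g hg => h.mem_norm (mem_cent_zpowers.1 hg), hK⟩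

theorem mem_of_inner [Finite G] {c : G} (hc : c * z = z * c)
    (ht : ∀ x ∈ Q, c * x * c⁻¹ = x ∨ c * x * c⁻¹ = x * z) : c ∈ Q := by
  obtain ⟨q, hq, H⟩ := h.toES.exists_inner hc ht
  rcases h.selfc (q⁻¹ * c) (fun x hx => by
    calc q⁻¹ * c * x = q⁻¹ * (c * x * c⁻¹) * c := by group
      _ = _ := by rw [H x hx]; group) with e | e
  · rw [← inv_mul_eq_one.1 e]; exact hq
  · have : c = q * z := by rw [← e]; group
    rw [this]; exact mul_mem hq h.mem

theorem cent_odd {K : Subgroup G} (hK : Odd (Nat.card K)) (hn : Q ≤ 𝐍 K) {k : G} (hk : k ∈ K)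
    (hz : k * z = z * k) : k = 1 := by
  have : ∀ x ∈ Q, k * x = x * k := by
    intro x hx
    have h1 : k * x * k⁻¹ * x⁻¹ ∈ Q := mul_mem (h.norm k hz x hx) (inv_mem hx)
    have h2 : k * x * k⁻¹ * x⁻¹ ∈ K := by
      have := mul_mem hk ((mem_normalizer_iff.1 (hn hx) _).1 (inv_mem hk))
      simpa [mul_assoc] using this
    have h3 := eq_one_of_odd_of_two hK h2 (h.toES.pow_four h1)
    exact comm_of_conj_eq (mul_inv_eq_one.1 h3)
  rcases h.selfc k this with e | e
  · exact e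
  · refine eq_one_of_odd_of_two hK hk (n := 1) ?_
    rw [e, pow_one, pow_two, h.sq]

/-- largeness from a non-central involution `b` with `z ∈ O₂(C(b))` -/
theorem odd_eq_bot [Finite G] {b : G} (hb : b ∈ Q) (h1 : b ≠ 1) (h2 : b ≠ z) (hbb : b * b = 1)
    (ho : ∀ k, k * b = b * k → ∃ n : ℕ, (k * z * k⁻¹ * z⁻¹) ^ 2 ^ n = 1)
    (K : Subgroup G) (hK : Odd (Nat.card K)) (hn : Q ≤ 𝐍 K) : K = ⊥ := by
  have hb0 : ∀ k ∈ K, b * k = k * b → k = 1 := by
    intro k hk e
    obtain ⟨n, hn'⟩ := ho k e.symm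
    have h2 : k * z * k⁻¹ * z⁻¹ ∈ K := by
      have := mul_mem hk ((mem_normalizer_iff.1 (hn h.mem) _).1 (inv_mem hk))
      simpa [mul_assoc] using this
    exact h.cent_odd hK hn hk (comm_of_conj_eq (mul_inv_eq_one.1 (eq_one_of_odd_of_two hK h2 hn')))
  have i1 := inverts_of_fpf hbb (hn hb) hb0
  have i2 := inverts_of_fpf h.sq (hn h.mem) (fun k hk e => h.cent_odd hK hn hk e.symm)
  obtain ⟨y, hy, hby⟩ := h.toES.exists_anti hb h1 h2
  have hy' : y * b * y⁻¹ = b * z := h.toES.conj_anti hy hb (Ne.symm hby)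
  rw [eq_bot_iff]
  intro k hk
  have e1 : (b * z) * k * (b * z)⁻¹ = k := by
    calc (b * z) * k * (b * z)⁻¹ = b * (z * k * z⁻¹) * b⁻¹ := by group
      _ = k := by rw [i2 k hk, i1 _ (inv_mem hk), inv_inv]
  have hk' : y⁻¹ * k * y ∈ K := by
    have := (mem_normalizer_iff.1 (hn (inv_mem hy)) _).1 hk
    simpa using this
  have := hb0 _ hk' (comm_of_conj_eq (by
    calc b * (y⁻¹ * k * y) * b⁻¹ = y⁻¹ * ((y * b * y⁻¹) * k * (y * b * y⁻¹)⁻¹) * y := by group
      _ = _ := by rw [hy', e1]))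
  rw [mem_bot]
  calc k = y * (y⁻¹ * k * y) * y⁻¹ := by group
    _ = 1 := by rw [this]; group

/-- `C(z)` contains a Sylow 2-subgroup, whose centre is `⟨z⟩` -/
theorem exists_syl [Finite G] : ∃ T, Syl 2 T ⊤ ∧ Q ≤ T ∧ T ≤ centralizer {z} := by
  have : Fact (Nat.Prime 2) := ⟨Nat.prime_two⟩
  obtain ⟨T, hT, hQT⟩ := exists_syl_ge h.toES.isPGroup (le_top (a := Q))
  refine ⟨T, hT, hQT, ?_⟩
  have hne := inf_center_ne_bot hT.isPGroup le_rfl le_normalizer
    (fun e => h.ne (mem_bot.1 (e ▸ hQT h.mem)))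
  obtain ⟨⟨t, ht1, ht2⟩, ht⟩ := ne_bot_iff_exists_ne_one.1 hne
  rcases h.selfc t (fun x hx => (mem_centralizer_comm.1 ht2 x (hQT hx)).symm) with e | e
  · exact absurd (Subtype.ext e) ht
  · intro x hx
    rw [mem_cent_single, ← e]
    exact mem_centralizer_comm.1 ht2 x hx

/-- a non-trivial `Q`-invariant 2-subgroup contains `z` -/
theorem mem_of_two [Finite G] {P : Subgroup G} (hP : IsPGroup 2 P) (hn : Q ≤ 𝐍 P) (hne : P ≠ ⊥) :
    z ∈ P := by
  have : Fact (Nat.Prime 2) := ⟨Nat.prime_two⟩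
  have h2 : IsPGroup 2 (Q ⊔ P : Subgroup G) := isPGroup_sup_of_le_normalizer h.toES.isPGroup hP hn
  have := inf_center_ne_bot h2 le_sup_right (sup_le hn le_normalizer) hne
  obtain ⟨⟨t, ht1, ht2⟩, ht⟩ := ne_bot_iff_exists_ne_one.1 this
  rcases h.selfc t (fun x hx => (mem_centralizer_comm.1 ht2 x (mem_sup_left hx)).symm) with e | e
  · exact absurd (Subtype.ext e) ht
  · exact e ▸ ht1

/-- a `Q`-invariant subgroup of even order contains `z` -/
theorem mem_of_even [Finite G] {K : Subgroup G} (hn : Q ≤ 𝐍 K) (he : ¬ Odd (Nat.card K)) :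
    z ∈ K := by
  have : Fact (Nat.Prime 2) := ⟨Nat.prime_two⟩
  obtain ⟨T, hT, hQT⟩ := exists_syl_ge h.toES.isPGroup (le_sup_left (a := Q) (b := K))
  have h1 := hT.inf_normal le_sup_right (sup_le hn le_normalizer)
  have h2 := h1.ne_bot (even_iff_two_dvd.1 (Nat.not_odd_iff_even.1 he))
  refine (h.mem_of_two h1.isPGroup ?_ h2).2
  intro q hq
  exact le_normalizer_inf (A := Q) (hQT.trans le_normalizer) hn hq

/-- an element swapping `z` and `b` -/
theorem swap {b x y : G} (hb : b ∈ Q) (hbb : b * b = 1) (hy : y ∈ Q) (hyb : y * b ≠ b * y)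
    (hxb : x * b = b * x) (hxz : x * z * x⁻¹ = z * b) :
    (y * x * y) * z * (y * x * y)⁻¹ = b ∧ (y * x * y) * b * (y * x * y)⁻¹ = z := by
  have e1 : y * z * y⁻¹ = z := conj_eq_of_comm (h.cen y hy)
  have e2 : y * b * y⁻¹ = b * z := h.toES.conj_anti hy hb hyb
  have e3 : x * b * x⁻¹ = b := conj_eq_of_comm hxb
  constructor
  · calc _ = y * (x * (y * z * y⁻¹) * x⁻¹) * y⁻¹ := by group
      _ = b := by rw [e1, hxz, ← conj_mul, e1, e2, h.cen b hb, ← mul_assoc, h.sq, one_mul]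
  · calc _ = y * (x * (y * b * y⁻¹) * x⁻¹) * y⁻¹ := by group
      _ = z := by
        rw [e2, ← conj_mul (b := x), e3, hxz, ← h.cen b hb, ← mul_assoc b b, hbb, one_mul, e1]

theorem conj_sq (g : G) : (g * z * g⁻¹) * (g * z * g⁻¹) = 1 := (h.conj g).sq

theorem sym_of_fuse {g x : G} (hb : g * z * g⁻¹ ∈ Q) (hne : g * z * g⁻¹ ≠ z) (hx : x ∈ cj g Q)
    (hxz : x * z * x⁻¹ = z * (g * z * g⁻¹)) : z ∈ cj g Q := by
  have h1 := h.conj g
  obtain ⟨y, hy, hby⟩ := h.toES.exists_anti hb h1.ne hne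
  obtain ⟨e1, e2⟩ := h.swap hb h1.sq hy (Ne.symm hby) (h1.cen x hx) hxz
  rw [← h.cj_eq e1, ← e2]
  exact conj_mem_cj _ hb

/-- orthogonality is symmetric when `C_Q(b)` is non-abelian -/
theorem sym' {g : G} (hb : g * z * g⁻¹ ∈ Q) (hc : ∃ a ∈ Q, ∃ a' ∈ Q, g * z * g⁻¹ * a = a * (g * z * g⁻¹) ∧
    g * z * g⁻¹ * a' = a' * (g * z * g⁻¹) ∧ a * a' ≠ a' * a) : z ∈ cj g Q := by
  have h1 := h.conj g
  by_cases hne : g * z * g⁻¹ = z
  · rw [← hne]; exact h1.mem
  by_cases hf : ∃ x ∈ cj g Q, x * z * x⁻¹ = z * (g * z * g⁻¹)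
  · obtain ⟨x, hx, e⟩ := hf
    exact h.sym_of_fuse hb hne hx e
  push Not at hf
  obtain ⟨a, ha, a', ha', e1, e2, e3⟩ := hc
  generalize g * z * g⁻¹ = b at *
  generalize cj g Q = Q1 at *
  by_contra hz
  have hzb : z * b = b * z := (h.cen b hb).symm
  have hzi := h.toES.inv_z
  -- `Q ∩ Q1 = ⟨b⟩`
  have hE : ∀ e ∈ Q, e ∈ Q1 → e = 1 ∨ e = b := by
    intro e he he1
    rcases h.toES.double_perp hb he (fun y hy e' => by
      by_contra hn
      apply hz
      have h2 := h.toES.conj_anti hy he (Ne.symm hn)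
      have h3 := mul_mem (inv_mem he1) (h1.norm y e'.symm e he1)
      rwa [h2, inv_mul_cancel_left] at h3) with (e' | e') | (e' | e')
    · exact Or.inl e'
    · exact absurd (e' ▸ he1) hz
    · exact Or.inr e'
    · exfalso; apply hz
      have := mul_mem (inv_mem h1.mem) he1
      rwa [e', inv_mul_cancel_left] at this
  -- fixed modulo `b` implies fixed
  have hW : ∀ x ∈ Q1, (z * x * z⁻¹ = x ∨ z * x * z⁻¹ = x * b) → z * x * z⁻¹ = x := by
    rintro x hx (e | e)
    · exact e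
    · exfalso
      apply hf x⁻¹ (inv_mem hx)
      calc x⁻¹ * z * x⁻¹⁻¹ = x⁻¹ * (z * x * z⁻¹) * z := by group
        _ = _ := by rw [e, hzb]; group
  have hzz : ∀ x, z * (z * x * z⁻¹) * z⁻¹ = x := by
    intro x
    calc _ = (z * z) * x * (z * z)⁻¹ := by group
      _ = x := by rw [h.sq]; group
  have hcz : ∀ x ∈ Q1, z * (x⁻¹ * (z * x * z⁻¹)) * z⁻¹ = x⁻¹ * (z * x * z⁻¹) := by
    intro x hx
    have hc : x⁻¹ * (z * x * z⁻¹) ∈ Q1 := mul_mem (inv_mem hx) (h1.norm z hzb x hx)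
    apply hW _ hc
    have e : z * (x⁻¹ * (z * x * z⁻¹)) * z⁻¹ = (x⁻¹ * (z * x * z⁻¹))⁻¹ := by
      rw [← conj_mul, hzz]; group
    rw [e]
    rcases h1.sq_mem _ hc with e' | e'
    · left; exact inv_eq_of_mul_eq_one_right e'
    · right
      apply inv_eq_of_mul_eq_one_right
      rw [← mul_assoc, e', h1.sq]
  -- centraliser in `Q1` of `R = C_{Q1}(z)` lies in `R`
  have hR : ∀ t ∈ Q1, (∀ w ∈ Q1, z * w * z⁻¹ = w → t * w = w * t) → z * t * z⁻¹ = t := by
    intro t ht H
    apply hW t ht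
    have ht' := h1.norm z hzb t ht
    have : ∀ x ∈ Q1, (t⁻¹ * (z * t * z⁻¹)) * x = x * (t⁻¹ * (z * t * z⁻¹)) := by
      intro x hx
      have hx' := h1.norm z hzb x hx
      have k1 := (h1.toES.mul_comm_iff ht (inv_mem hx) hx').1
        (H _ (mul_mem (inv_mem hx) hx') (hcz x hx))
      have k2 : t * (z * x * z⁻¹) = (z * x * z⁻¹) * t ↔ x * (z * t * z⁻¹) = (z * t * z⁻¹) * x := by
        constructor
        · intro e
          have : z * (t * (z * x * z⁻¹)) * z⁻¹ = z * ((z * x * z⁻¹) * t) * z⁻¹ := by rw [e]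
          rw [← conj_mul (a := t), ← conj_mul (c := t), hzz] at this
          exact this.symm
        · intro e
          have : z * (x * (z * t * z⁻¹)) * z⁻¹ = z * ((z * t * z⁻¹) * x) * z⁻¹ := by rw [e]
          rw [← conj_mul (a := x), ← conj_mul (c := x), hzz] at this
          exact this.symm
      have k3 : t * x⁻¹ = x⁻¹ * t ↔ x * t⁻¹ = t⁻¹ * x := by
        constructor
        · intro e; simpa using ((show Commute t x⁻¹ from e).inv_inv.symm).eq
        · intro e; simpa using ((show Commute x t⁻¹ from e).inv_inv.symm).eq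
      symm
      rw [h1.toES.mul_comm_iff hx (inv_mem ht) ht', ← k3, ← k2]; exact k1
    rcases h1.of_cen _ (mul_mem (inv_mem ht) ht') this with e | e
    · left; exact (inv_mul_eq_one.1 e).symm
    · right; rw [← e]; group
  -- `P = C_Q(b)` centralises `R` modulo `b`
  have hPR : ∀ p ∈ Q, b * p = p * b → ∀ w ∈ Q1, z * w * z⁻¹ = w →
      p * w * p⁻¹ = w ∨ p * w * p⁻¹ = w * b := by
    intro p hp hpb w hw hzw
    have m1 : w⁻¹ * (p * w * p⁻¹) ∈ Q1 := mul_mem (inv_mem hw) (h1.norm p hpb.symm w hw)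
    have m2 : w⁻¹ * (p * w * p⁻¹) ∈ Q := by
      have := mul_mem (h.norm w⁻¹ ((show Commute z w from comm_of_conj_eq hzw).symm.inv_left) p hp)
        (inv_mem hp)
      convert this using 1; group
    rcases hE _ m2 m1 with e | e
    · left; exact (inv_mul_eq_one.1 e).symm
    · right; rw [← e]; group
  have hPQ : ∀ p ∈ Q, b * p = p * b → ∀ x ∈ Q1, z * (x⁻¹ * (p * x * p⁻¹)) * z⁻¹
      = x⁻¹ * (p * x * p⁻¹) := by
    intro p hp hpb x hx
    have hx' := h1.norm p hpb.symm x hx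
    apply hR _ (mul_mem (inv_mem hx) hx')
    intro w hw hzw
    symm
    rw [h1.toES.mul_comm_iff hw (inv_mem hx) hx']
    have k3 : w * x⁻¹ = x⁻¹ * w ↔ w * x = x * w :=
      ⟨fun e => by simpa using ((show Commute w x⁻¹ from e).inv_right).eq,
        fun e => ((show Commute w x from e).inv_right).eq⟩
    have k4 : w * x = x * w ↔ (p * w * p⁻¹) * (p * x * p⁻¹) = (p * x * p⁻¹) * (p * w * p⁻¹) := by
      simp only [conj_mul, mul_left_inj, mul_right_inj]
    rw [k3, k4]
    rcases hPR p hp hpb w hw hzw with e | e <;> rw [e]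
    generalize p * x * p⁻¹ = u at hx'
    rw [mul_assoc, ← h1.cen _ hx', ← mul_assoc, ← mul_assoc, mul_left_inj]
  -- hence `z` acts trivially
  have hfin : ∀ x ∈ Q1, z * x = x * z := by
    intro x hx
    apply comm_of_conj_eq
    apply hW x hx
    have hx1 := h1.norm a e1.symm x hx
    have hx2 := h1.norm a' e2.symm x hx
    set t := x⁻¹ * (a * x * a⁻¹) with ht
    set t' := x⁻¹ * (a' * x * a'⁻¹) with ht'
    have mt : t ∈ Q1 := mul_mem (inv_mem hx) hx1
    have mt' : t' ∈ Q1 := mul_mem (inv_mem hx) hx2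
    have f1 : (a * a') * x * (a * a')⁻¹ = x * t * (a * t' * a⁻¹) := by rw [ht, ht']; group
    have f2 : (a' * a) * x * (a' * a)⁻¹ = x * t' * (a' * t * a'⁻¹) := by rw [ht, ht']; group
    have f3 : (a' * a) * (z * x * z⁻¹) * (a' * a)⁻¹ = (a * a') * x * (a * a')⁻¹ := by
      rw [h.toES.anti ha ha' e3]; group
    have hab : (a' * a) * b * (a' * a)⁻¹ = b :=
      conj_eq_of_comm (((show Commute b a' from e2).mul_right e1).symm)
    have f4 : (a * a') * x * (a * a')⁻¹ = (a' * a) * x * (a' * a)⁻¹ ∨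
        (a * a') * x * (a * a')⁻¹ = (a' * a) * x * (a' * a)⁻¹ * b := by
      rw [f1, f2]
      have bb : ∀ u : G, u * b * b = u := fun u => by rw [mul_assoc, h1.sq, mul_one]
      rcases hPR a ha e1 t' mt' (hPQ a' ha' e2 x hx) with g1 | g1 <;>
      rcases hPR a' ha' e2 t mt (hPQ a ha e1 x hx) with g2 | g2 <;>
      rcases h1.comm t mt t' mt' with g3 | g3 <;> rw [g1, g2] <;>
      (try simp only [← mul_assoc]) <;> rw [mul_assoc x t t', g3] <;>
      simp only [← mul_assoc, bb, true_or, or_true]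
    rw [← f3] at f4
    rcases f4 with e | e
    · left; simpa using e
    · right
      rw [← hab, conj_mul] at e
      simpa using e
  rcases h1.selfc z hfin with e | e
  · exact h.ne e
  · exact hne e.symm

theorem sym [Finite G] {g : G} (hb : g * z * g⁻¹ ∈ Q) (hc : 8 < Nat.card Q) : z ∈ cj g Q :=
  h.sym' hb (h.toES.exists_anti_cent hc hb)

end LS

end Cfsg.Lib.Known2
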