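import Cfsg.Agent.Lib.Known2.LE
import Cfsg.Agent.Lib.Known2.TCSym
import Cfsg.Agent.Lib.Coprime.Basic
import Cfsg.Agent.Lib.Invol.Classes

/-! A pair of orthogonal large extraspecial 2-subgroups. -/

set_option autoImplicit false

namespace Cfsg.Lib.Known2

open Subgroup Cfsg.Lib.Core Cfsg.Lib.Amalg
open scoped commutatorElement

variable {G : Type*} [Group G]

/-- two orthogonal conjugate large extraspecial subgroups -/
structure LP (Q Q1 : Subgroup G) (z b : G) : Prop where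
  l : LS Q z
  r : LS Q1 b
  bQ : b ∈ Q
  zQ : z ∈ Q1
  ne : b ≠ z
  cj_eq : ∀ k, k * z * k⁻¹ = b → cj k Q = Q1

theorem LS.lp [Finite G] {Q : Subgroup G} {z g : G} (h : LS Q z) (hb : g * z * g⁻¹ ∈ Q)
    (hne : g * z * g⁻¹ ≠ z) (hc : 8 < Nat.card Q) : LP Q (cj g Q) z (g * z * g⁻¹) :=
  ⟨h, h.conj g, hb, h.sym hb hc, hne, fun _ e => h.cj_eq e⟩

theorem mem_cent_closure_pair {z b g : G} :
    g ∈ 𝐂 (closure ({z, b} : Set G)) ↔ g * z = z * g ∧ g * b = b * g := by
  rw [centralizer_closure, mem_centralizer_iff]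
  simp only [Set.mem_insert_iff, Set.mem_singleton_iff, forall_eq_or_imp, forall_eq]
  rw [eq_comm, eq_comm (a := b * g)]

namespace LP
variable {Q Q1 : Subgroup G} {z b : G} (h : LP Q Q1 z b)
include h

theorem symm : LP Q1 Q b z :=
  ⟨h.r, h.l, h.zQ, h.bQ, h.ne.symm, fun k e => by
    rw [← h.cj_eq k⁻¹ (by rw [← e]; group), cj_cj_inv]⟩

theorem zb : z * b = b * z := (h.l.cen b h.bQ).symm

theorem mem_V {v : G} : v ∈ closure ({z, b} : Set G) ↔ v = 1 ∨ v = z ∨ v = b ∨ v = z * b :=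
  Invol.mem_closure_klein h.l.toES.orderOf_eq h.r.toES.orderOf_eq h.zb v

theorem V_symm : closure ({b, z} : Set G) = closure {z, b} := by rw [Set.pair_comm]

theorem exists_y : ∃ y ∈ Q, y * z * y⁻¹ = z ∧ y * b * y⁻¹ = z * b := by
  obtain ⟨y, hy, e⟩ := h.l.toES.exists_anti h.bQ h.r.ne h.ne
  exact ⟨y, hy, conj_eq_of_comm (h.l.cen y hy), by rw [h.l.toES.conj_anti hy h.bQ (Ne.symm e), h.zb]⟩

theorem zb_ne_z : z * b ≠ z := fun e => h.r.ne (by simpa using e)
theorem zb_ne_b : z * b ≠ b := fun e => h.l.ne (by simpa using e)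
theorem zb_ne_one : z * b ≠ 1 := fun e =>
  h.ne (by rw [← inv_eq_of_mul_eq_one_right e, h.l.toES.inv_z])
theorem zzb : z * (z * b) = b := by rw [← mul_assoc, h.l.sq, one_mul]
theorem zbb : z * b * b = z := by rw [mul_assoc, h.r.sq, mul_one]

theorem Q_le_norm : Q ≤ 𝐍 (closure ({z, b} : Set G)) := by
  apply le_normalizer_of_cj_le
  intro q hq
  rw [cj_le_iff']
  intro v hv
  have hvQ : v ∈ Q := (closure_le Q).2 (by
    rintro _ (rfl | rfl); exacts [h.l.mem, h.bQ]) hv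
  rcases h.l.toES.conj_eq hq hvQ with e | e <;> rw [e]
  · exact hv
  · exact mul_mem hv (subset_closure (by simp))

theorem X_le_norm : Q ⊔ Q1 ≤ 𝐍 (closure ({z, b} : Set G)) :=
  sup_le h.Q_le_norm (h.V_symm ▸ h.symm.Q_le_norm)

/-- an element of `C(z)` centralising `C_Q(b)` lies in `Q` -/
theorem mem_of_cent_P [Finite G] {r : G} (hr : r * z = z * r)
    (hP : ∀ p ∈ Q, b * p = p * b → r * p = p * r) : r ∈ Q := by
  apply h.l.mem_of_inner hr
  intro y hy
  by_cases e : b * y = y * b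
  · left; exact conj_eq_of_comm (hP y hy e)
  have hy' := h.l.norm r hr y hy
  have hc : y⁻¹ * (r * y * r⁻¹) ∈ Q := mul_mem (inv_mem hy) hy'
  have hsq : (r * y * r⁻¹) * (r * y * r⁻¹) = y * y := by
    rw [conj_mul]
    rcases h.l.sq_mem y hy with e' | e' <;> rw [e']
    · group
    · exact conj_eq_of_comm hr
  have hyb : y * b * (y * b) = y * y * z := by
    calc y * b * (y * b) = y * (b * y) * b := by group
      _ = y * y * (b * z * b) := by rw [h.l.toES.anti h.bQ hy e]; group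
      _ = _ := by rw [← h.zb, h.zbb]
  have hne : y * y * z ≠ y * y := fun e => h.l.ne (by simpa using e)
  rcases h.l.toES.double_perp h.bQ hc (fun p hp e' => by
    symm
    rw [h.l.toES.mul_comm_iff hp (inv_mem hy) hy']
    have k3 : p * y⁻¹ = y⁻¹ * p ↔ p * y = y * p :=
      ⟨fun e => by simpa using ((show Commute p y⁻¹ from e).inv_right).eq,
        fun e => ((show Commute p y from e).inv_right).eq⟩
    have k4 : p * y = y * p ↔ (r * p * r⁻¹) * (r * y * r⁻¹) = (r * y * r⁻¹) * (r * p * r⁻¹) := by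
      simp only [conj_mul, mul_left_inj, mul_right_inj]
    rw [k3, k4, conj_eq_of_comm (hP p hp e')]) with (e' | e') | (e' | e')
  · left; exact (inv_mul_eq_one.1 e').symm
  · right; rw [← e']; group
  · exfalso
    have : r * y * r⁻¹ = y * b := by rw [← e']; group
    rw [this, hyb] at hsq
    exact hne hsq
  · exfalso
    have : r * y * r⁻¹ = y * b * z := by rw [mul_assoc y, ← e']; group
    have hm : y * b ∈ Q := mul_mem hy h.bQ
    rw [this, mul_assoc, ← mul_assoc z, ← h.l.cen _ hm, mul_assoc (y * b), h.l.sq, mul_one,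
      hyb] at hsq
    exact hne hsq

/-- the radical `R` -/
def R (_ : LP Q Q1 z b) : Subgroup G := (Q1 ⊓ centralizer {z}) ⊔ (Q ⊓ centralizer {b})

theorem R_symm : h.symm.R = h.R := sup_comm _ _

theorem R_le_cent : h.R ≤ 𝐂 (closure ({z, b} : Set G)) := by
  refine sup_le (fun x hx => ?_) (fun x hx => ?_) <;> rw [mem_cent_closure_pair]
  · exact ⟨mem_cent_single.1 hx.2, h.r.cen x hx.1⟩
  · exact ⟨h.l.cen x hx.1, mem_cent_single.1 hx.2⟩

theorem R_le_X : h.R ≤ Q ⊔ Q1 :=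
  sup_le (inf_le_left.trans le_sup_right) (inf_le_left.trans le_sup_left)

theorem mem_R {p : G} (hp : p ∈ Q) (e : p * b = b * p) : p ∈ h.R :=
  mem_sup_right ⟨hp, mem_cent_single.2 e⟩

theorem comm_mem_P {q c : G} (hq : q ∈ Q) (hc : c ∈ 𝐂 (closure ({z, b} : Set G))) :
    q * c * q⁻¹ * c⁻¹ ∈ h.R := by
  have h1 : q * c * q⁻¹ ∈ 𝐂 (closure ({z, b} : Set G)) :=
    (mem_normalizer_iff.1 (normalizer_le_normalizer_centralizer _ (h.Q_le_norm hq)) c).1 hc
  have h2 := mem_cent_closure_pair.1 (mul_mem h1 (inv_mem hc))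
  refine h.mem_R ?_ h2.2
  have := mul_mem hq (h.l.norm c (mem_cent_closure_pair.1 hc).1 _ (inv_mem hq))
  simpa [mul_assoc] using this

theorem Q_le_norm_R : Q ≤ 𝐍 h.R := by
  apply le_normalizer_of_cj_le
  intro q hq
  rw [cj_le_iff']
  intro r hr
  have := mul_mem (h.comm_mem_P hq (h.R_le_cent hr)) hr
  simpa using this

theorem X_le_norm_R : Q ⊔ Q1 ≤ 𝐍 h.R := sup_le h.Q_le_norm_R (h.R_symm ▸ h.symm.Q_le_norm_R)

theorem comm_mem_R {x : G} (hx : x ∈ Q ⊔ Q1) :
    ∀ c ∈ 𝐂 (closure ({z, b} : Set G)), x * c * x⁻¹ * c⁻¹ ∈ h.R := by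
  rw [sup_eq_closure] at hx
  induction hx using closure_induction with
  | mem x hx =>
    rcases hx with hx | hx
    · exact fun c hc => h.comm_mem_P hx hc
    · exact fun c hc => h.R_symm ▸ h.symm.comm_mem_P hx (h.V_symm ▸ hc)
  | one => intro c _; simp
  | mul x y hx hy ihx ihy =>
    intro c hc
    rw [← sup_eq_closure] at hx
    have := mul_mem ((mem_normalizer_iff.1 (h.X_le_norm_R hx) _).1 (ihy c hc)) (ihx c hc)
    convert this using 1; group
  | inv x hx ih =>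
    intro c hc
    rw [← sup_eq_closure] at hx
    have := (mem_normalizer_iff.1 (h.X_le_norm_R (inv_mem hx)) _).1 (inv_mem (ih c hc))
    have h2 := (mem_normalizer_iff.1 (h.X_le_norm_R (inv_mem hx)) _).1 (ih c hc)
    convert this using 1; group

theorem P1_le_norm : Q1 ⊓ centralizer {z} ≤ 𝐍 (Q ⊓ centralizer {b} : Subgroup G) :=
  le_normalizer_inf (inf_le_right.trans h.l.cent_le_norm)
    ((inf_le_left.trans h.r.toES.le_cent).trans le_normalizer)

theorem isPGroup_R : IsPGroup 2 h.R :=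
  isPGroup_sup_of_le_normalizer (h.r.toES.isPGroup.to_inf_left) (h.l.toES.isPGroup.to_inf_left)
    h.P1_le_norm

theorem mem_or {y q : G} (hy : y ∈ Q) (e : y * b * y⁻¹ = z * b) (hq : q ∈ Q) :
    q ∈ h.R ∨ y⁻¹ * q ∈ h.R := by
  by_cases e1 : b * q = q * b
  · exact Or.inl (h.mem_R hq e1.symm)
  · right
    refine h.mem_R (mul_mem (inv_mem hy) hq) ?_
    symm
    rw [h.l.toES.mul_comm_iff h.bQ (inv_mem hy) hq]
    refine ⟨fun e2 => ?_, fun e2 => absurd e2 e1⟩
    exfalso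
    rw [conj_eq_of_comm (by simpa using ((show Commute b y⁻¹ from e2).inv_right).symm.eq)] at e
    exact h.zb_ne_b e.symm

theorem sq_mem_R {y : G} (hy : y ∈ Q) : y * y ∈ h.R := by
  rcases h.l.sq_mem y hy with e | e <;> rw [e]
  · exact one_mem _
  · exact h.mem_R h.l.mem h.zb

/-- the structure of `X / R` -/
theorem main : ∃ hn : (h.R.subgroupOf (Q ⊔ Q1)).Normal,
    Nonempty (↥(Q ⊔ Q1) ⧸ h.R.subgroupOf (Q ⊔ Q1) ≃* Equiv.Perm (Fin 3)) ∧
    (Q ⊔ Q1) ⊓ 𝐂 (closure ({z, b} : Set G)) = h.R ∧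
    ∀ n ∈ 𝐍 (closure ({z, b} : Set G)), ∃ w ∈ Q ⊔ Q1, w⁻¹ * n ∈ 𝐂 (closure ({z, b} : Set G)) := by
  have hn : (h.R.subgroupOf (Q ⊔ Q1)).Normal :=
    (normal_subgroupOf_iff_le_normalizer h.R_le_X).2 h.X_le_norm_R
  obtain ⟨y, hy, y1, y2⟩ := h.exists_y
  obtain ⟨x, hx, x1, x2⟩ := h.symm.exists_y
  rw [← h.zb] at x2
  have y3 : y * (z * b) * y⁻¹ = b := by rw [← conj_mul, y1, y2, h.zzb]
  have x3 : x * (z * b) * x⁻¹ = z := by rw [← conj_mul, x1, x2, h.zbb]
  obtain ⟨s1, s2⟩ := h.l.swap h.bQ h.r.sq hy (fun e => by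
    rw [conj_eq_of_comm e] at y2; exact h.zb_ne_b y2.symm) (comm_of_conj_eq x1) x2
  let π := QuotientGroup.mk' (h.R.subgroupOf (Q ⊔ Q1))
  let Y : ↥(Q ⊔ Q1) := ⟨y, mem_sup_left hy⟩
  let X : ↥(Q ⊔ Q1) := ⟨x, mem_sup_right hx⟩
  have hπ : ∀ w : ↥(Q ⊔ Q1), π w = 1 ↔ (w : G) ∈ h.R := fun w => QuotientGroup.eq_one_iff w
  have hY : π Y * π Y = 1 := by rw [← map_mul, hπ]; exact h.sq_mem_R hy
  have hX : π X * π X = 1 := by rw [← map_mul, hπ]; exact h.R_symm ▸ h.symm.sq_mem_R hx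
  have h3 : (π Y * π X) ^ 3 = 1 := by
    have m : (y * x * y) * y * (y * x * y)⁻¹ ∈ Q1 := h.cj_eq _ s1 ▸ conj_mem_cj _ hy
    have : π X⁻¹ * (π (Y * X * Y) * π Y * (π (Y * X * Y))⁻¹) = 1 := by
      rw [← map_inv, ← map_mul, ← map_mul, ← map_mul, hπ]
      rcases h.symm.mem_or hx (by rw [x2, h.zb]) m with e | e
      · exfalso
        have := (mem_cent_closure_pair.1 (h.symm.R_le_cent e)).2
        rw [← s2, conj_mul, conj_mul, mul_left_inj, mul_right_inj] at this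
        rw [conj_eq_of_comm this] at y2
        exact h.zb_ne_b y2.symm
      · exact h.R_symm ▸ e
    simp only [map_mul, map_inv, mul_inv_rev, inv_eq_of_mul_eq_one_right hX,
      inv_eq_of_mul_eq_one_right hY] at this
    have e2 : π X * (π Y * π X * π Y * π Y * (π Y * (π X * π Y)))
        = π Y * ((π Y * π X) ^ 3 * (π Y * π Y)) * π Y := by
      have : ∀ u, π Y * (π Y * u) = u := fun u => by rw [← mul_assoc, hY, one_mul]
      simp only [pow_succ, pow_zero, one_mul, mul_assoc, this]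
    rw [e2, hY, mul_one] at this
    calc (π Y * π X) ^ 3 = π Y * (π Y * (π Y * π X) ^ 3 * π Y) * π Y := by
          simp only [← mul_assoc, hY, one_mul]; rw [mul_assoc, hY, mul_one]
      _ = 1 := by rw [this, mul_one, hY]
  obtain ⟨φ, e1, e2⟩ := TC.exists_hom_perm3 hY hX h3
  have words : ∀ σ : Equiv.Perm (Fin 3), ∃ w : ↥(Q ⊔ Q1), φ σ = π w ∧
      ((w : G) ∈ 𝐂 (closure ({z, b} : Set G)) → σ = 1) := by
    intro σ
    have : σ = 1 ∨ σ = Equiv.swap 0 1 ∨ σ = Equiv.swap 1 2 ∨ σ = Equiv.swap 0 1 * Equiv.swap 1 2 ∨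
        σ = Equiv.swap 1 2 * Equiv.swap 0 1 ∨
        σ = Equiv.swap 0 1 * Equiv.swap 1 2 * Equiv.swap 0 1 := by revert σ; decide
    rcases this with rfl | rfl | rfl | rfl | rfl | rfl
    · exact ⟨1, by simp, fun _ => rfl⟩
    · refine ⟨Y, e1, fun e => absurd ?_ h.zb_ne_b⟩
      rw [← y2, conj_eq_of_comm (mem_cent_closure_pair.1 e).2]
    · refine ⟨X, e2, fun e => absurd ?_ h.zb_ne_z⟩
      rw [← x2, conj_eq_of_comm (mem_cent_closure_pair.1 e).1]
    · refine ⟨Y * X, by simp only [map_mul, e1, e2], fun e => absurd ?_ h.ne⟩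
      rw [← conj_eq_of_comm (mem_cent_closure_pair.1 e).1, ← y3, ← x2]
      simp [X, Y, mul_assoc]
    · refine ⟨X * Y, by simp only [map_mul, e1, e2], fun e => absurd ?_ h.ne⟩
      rw [← conj_eq_of_comm (mem_cent_closure_pair.1 e).2, ← x3, ← y2]
      simp [X, Y, mul_assoc]
    · refine ⟨Y * X * Y, by simp only [map_mul, e1, e2], fun e => absurd ?_ h.ne⟩
      rw [← conj_eq_of_comm (mem_cent_closure_pair.1 e).1, ← s1]
      rfl
  have hsurj : Function.Surjective φ := by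
    intro u
    obtain ⟨⟨w, hw⟩, rfl⟩ := QuotientGroup.mk'_surjective _ u
    change π ⟨w, hw⟩ ∈ φ.range
    have hw' := hw
    rw [sup_eq_closure] at hw'
    induction hw' using closure_induction with
    | mem q hq =>
      rcases hq with hq | hq
      · rcases h.mem_or hy y2 hq with e | e
        · rw [(hπ ⟨q, hw⟩).2 e]; exact one_mem _
        · have := (hπ (Y⁻¹ * ⟨q, hw⟩)).2 e
          rw [map_mul, map_inv, inv_mul_eq_one] at this
          exact ⟨_, e1.trans this⟩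
      · rcases h.symm.mem_or hx (by rw [x2, h.zb]) hq with e | e
        · rw [(hπ ⟨q, hw⟩).2 (h.R_symm ▸ e)]; exact one_mem _
        · have := (hπ (X⁻¹ * ⟨q, hw⟩)).2 (h.R_symm ▸ e)
          rw [map_mul, map_inv, inv_mul_eq_one] at this
          exact ⟨_, e2.trans this⟩
    | one => exact ⟨1, by rw [map_one]; exact (map_one π).symm⟩
    | mul a c ha hc iha ihc =>
      rw [← sup_eq_closure] at ha hc
      have := mul_mem (iha ha) (ihc hc)
      rwa [← map_mul] at this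
    | inv a ha ih =>
      rw [← sup_eq_closure] at ha
      have := inv_mem (ih ha)
      rwa [← map_inv] at this
  have hinj : Function.Injective φ := by
    refine (injective_iff_map_eq_one φ).2 fun σ hσ => ?_
    obtain ⟨w, k1, k2⟩ := words σ
    exact k2 (h.R_le_cent ((hπ w).1 (k1 ▸ hσ)))
  refine ⟨hn, ⟨(MulEquiv.ofBijective φ ⟨hinj, hsurj⟩).symm⟩, le_antisymm ?_
    (le_inf h.R_le_X h.R_le_cent), ?_⟩
  · rintro u ⟨hu1, hu2⟩
    obtain ⟨σ, hσ⟩ := hsurj (π ⟨u, hu1⟩)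
    obtain ⟨w, k1, k2⟩ := words σ
    have k3 : ((w⁻¹ * ⟨u, hu1⟩ : ↥(Q ⊔ Q1)) : G) ∈ h.R := by
      rw [← hπ, map_mul, map_inv, ← k1, hσ, inv_mul_cancel]
    have k4 : (w : G) ∈ 𝐂 (closure ({z, b} : Set G)) := by
      have hu2' : u ∈ 𝐂 (closure ({z, b} : Set G)) := hu2
      have := mul_mem hu2' (inv_mem (h.R_le_cent k3))
      simpa using this
    rw [k2 k4, map_one] at hσ
    exact (hπ _).1 hσ.symm
  · intro n hn'
    have key : ∀ w : G, w * z * w⁻¹ = n * z * n⁻¹ → w * b * w⁻¹ = n * b * n⁻¹ →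
        w⁻¹ * n ∈ 𝐂 (closure ({z, b} : Set G)) := by
      intro w k1 k2
      rw [mem_cent_closure_pair]
      constructor <;> apply comm_of_conj_eq
      · calc _ = w⁻¹ * (n * z * n⁻¹) * w := by group
          _ = z := by rw [← k1]; group
      · calc _ = w⁻¹ * (n * b * n⁻¹) * w := by group
          _ = b := by rw [← k2]; group
    have mz := h.mem_V.1 ((mem_normalizer_iff.1 hn' z).1 (subset_closure (by simp)))
    have mb := h.mem_V.1 ((mem_normalizer_iff.1 hn' b).1 (subset_closure (by simp)))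
    have nz : n * z * n⁻¹ ≠ 1 := by simpa using h.l.ne
    have nb : n * b * n⁻¹ ≠ 1 := by simpa using h.r.ne
    have nzb : n * b * n⁻¹ ≠ n * z * n⁻¹ := by simpa using h.ne
    have c2 : ∀ u v t : G, (u * v) * t * (u * v)⁻¹ = u * (v * t * v⁻¹) * u⁻¹ := fun u v t => by group
    rcases mz with e | e | e | e <;> rcases mb with e' | e' | e' | e' <;>
      first
      | exact absurd e nz
      | exact absurd e' nb
      | exact absurd (e'.trans e.symm) nzb
      | skip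
    · exact ⟨1, one_mem _, key _ (by simp [e]) (by simp [e'])⟩
    · exact ⟨y, Y.2, key _ (by rw [e, y1]) (by rw [e', y2])⟩
    · exact ⟨y * x * y, (Y * X * Y).2, key _ (by rw [e, s1]) (by rw [e', s2])⟩
    · exact ⟨y * x, (Y * X).2, key _ (by rw [e, c2, x2, y3]) (by rw [e', c2, x1, y2])⟩
    · exact ⟨x * y, (X * Y).2, key _ (by rw [e, c2, y1, x2]) (by rw [e', c2, y2, x3])⟩
    · exact ⟨x, X.2, key _ (by rw [e, x2]) (by rw [e', x1])⟩

theorem relIndex_six : (𝐂 (closure ({z, b} : Set G))).relIndex (𝐍 (closure ({z, b} : Set G))) = 6 := by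
  obtain ⟨hn, ⟨e⟩, h1, h2⟩ := h.main
  have hN : 𝐍 (closure ({z, b} : Set G)) = (Q ⊔ Q1) ⊔ 𝐂 (closure ({z, b} : Set G)) := by
    refine le_antisymm (fun n hn => ?_) (sup_le h.X_le_norm (cent_le_norm _))
    obtain ⟨w, hw, e⟩ := h2 n hn
    simpa using mul_mem_sup hw e
  rw [hN, sup_comm, Coprime.relIndex_sup_of_le_normalizer'
    (h.X_le_norm.trans (normalizer_le_normalizer_centralizer _)), ← inf_relIndex_right, inf_comm, h1]
  have := Nat.card_congr e.toEquiv
  rw [Nat.card_perm, Nat.card_eq_fintype_card (α := Fin 3), Fintype.card_fin] at this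
  exact this

end LP

end Cfsg.Lib.Known2
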