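import Cfsg.Agent.Lib.Known2.Ty
import Cfsg.Agent.Lib.Comp.Fi22.Act
import Cfsg.Agent.Lib.Comp.Fi23.Two
import Cfsg.Agent.Lib.Comp.Fi24.Main

/-! The Fischer groups are of type `M(22)`, `M(23)`, `M(24)`. -/

set_option autoImplicit false
set_option maxRecDepth 100000

namespace Cfsg.Lib.Known2

open Subgroup Cfsg.Lib.Comp Cfsg.Lib.Forms

variable {G K : Type*} [Group G] [Group K] {D : Set G}

theorem pf_of_action {f : G →* Equiv.Perm ℕ} {n : ℕ} (htr : TransOn f n) {d : G} (hc : centralizer {d} = stab f 0)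
    (hT : TT (conjugatesOf d)) {N : ℕ} {nets : List Net} (hN : NetsOK N nets) {L : List ℕ} {γ : ℕ → G} {LP : ℕ → ℕ}
    (hγ : ∀ x ∈ L, f (γ x) = gp nets x) (pt : ∀ x ∈ L, ∃ g, g * d * g⁻¹ = γ x ∧ f g 0 = LP x) :
    ∃ s, PF N nets L n LP (conjugatesOf d) γ s := by
  classical
  let s : ℕ → G := fun p => if h : ∃ g, f g 0 = p then h.choose * d * h.choose⁻¹ else d
  have a0 : ∀ a b, a * d * a⁻¹ = b * d * b⁻¹ ↔ f a 0 = f b 0 := fun a b => by
    have e : f a 0 = f b 0 ↔ f (b⁻¹ * a) 0 = 0 := by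
      rw [map_mul, map_inv, Equiv.Perm.mul_apply, Equiv.Perm.inv_eq_iff_eq]
    rw [e, ← mem_stab, ← hc, mem_centralizer_singleton_iff, ← mul_inv_eq_iff_eq_mul (c := d),
      show b⁻¹ * a * d * (b⁻¹ * a)⁻¹ = b⁻¹ * (a * d * a⁻¹) * b by group]
    exact ⟨fun h => by rw [h]; group, fun h => by conv_rhs => rw [← h]
                                                  group⟩
  have a1 : ∀ g, s (f g 0) = g * d * g⁻¹ := fun g => by
    have h : ∃ g', f g' 0 = f g 0 := ⟨g, rfl⟩
    simp only [s, dif_pos h]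
    exact (a0 _ _).2 h.choose_spec
  have a2 : ∀ g p, p < n → f g p < n ∧ g * s p * g⁻¹ = s (f g p) := fun g p hp => by
    obtain ⟨a, rfl⟩ := htr.2 p hp
    rw [← Equiv.Perm.mul_apply, ← map_mul, a1, a1]
    exact ⟨htr.1 _, by group⟩
  have m : ∀ g, g * d * g⁻¹ ∈ conjugatesOf d := fun g => isConj_iff.2 ⟨g, rfl⟩
  refine ⟨s, ⟨fun p => ?_, fun x hx p => ⟨fun h => ?_, fun h => hγ x hx ▸ (a2 _ p h).1⟩, fun x hx p hp =>
    hγ x hx ▸ (a2 _ p hp).2⟩, hN, fun x hx => ?_, hT, fun x hx => ?_, fun y hy => ?_, fun p hp q hq e => ?_⟩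
  · simp only [s]; split_ifs
    exacts [m _, mem_conjugatesOf_self]
  · simpa [hγ x hx] using (a2 (γ x)⁻¹ _ h).1
  · obtain ⟨g, h, -⟩ := pt x hx
    rw [← hγ x hx, ← map_inv, hT.inv (h ▸ m g)]
  · obtain ⟨g, h, e⟩ := pt x hx
    exact e ▸ ⟨htr.1 g, (a1 g).trans h⟩
  · obtain ⟨g, rfl⟩ := isConj_iff.1 hy
    exact ⟨_, htr.1 g, a1 g⟩
  · obtain ⟨a, rfl⟩ := htr.2 p hp
    obtain ⟨b, rfl⟩ := htr.2 q hq
    rwa [a1, a1, a0] at e

theorem not_solvable_of_simple [IsSimpleGroup G] (h : ¬ (Nat.card G).Prime) : ¬ Group.IsSolvable G := fun hs => by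
  obtain ⟨x, hx⟩ := exists_ne (1 : G)
  exact hx (mem_bot.1 (center_eq_bot h ▸ mem_center_iff.2 fun g => IsSimpleGroup.comm_iff_isSolvable.2 hs g x))

theorem prim_of_min [Finite G] (hD : IsThreeTranspositionClass D)
    (hm : ∀ M : Subgroup G, M.Normal → M ≠ ⊥ → _root_.commutator G ≤ M) (hn : ¬ Group.IsSolvable G) :
    Prim D ∧ center G = ⊥ := by
  have key : ∀ N : Subgroup G, N.Normal → Group.IsSolvable N → N = ⊥ := fun N hN hs => by
    by_contra h
    exact hn (Group.isSolvable_of_ker_le_range N.subtype Abelianization.of (by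
      rw [Abelianization.ker_of, range_subtype]; exact hm N hN h))
  refine ⟨prim_of_fischer hD key (le_antisymm (commutator_mono le_top le_top) (hm _ inferInstance fun e => hn ?_)),
    key _ inferInstance (Group.isSolvable_of_comm fun a b => Subtype.ext (mem_center_iff.1 b.2 a))⟩
  exact ⟨2, e⟩

theorem prim_conj [Finite G] [IsSimpleGroup G] (h : ¬ (Nat.card G).Prime) {d : G}
    (hd : IsThreeTranspositionSet (conjugatesOf d)) : Prim (conjugatesOf d) ∧ center G = ⊥ :=
  prim_of_min (class_conjugatesOf hd) (fun M hM h => ((IsSimpleGroup.eq_bot_or_eq_top_of_normal M hM).resolve_left h).ge.trans'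
    le_top) (not_solvable_of_simple h)

theorem red_up [Finite G] (h : Prim D) {d : G} (hd : d ∈ D) {H : Subgroup G} (hH : centralizer {d} = H) (ψ : H →* K)
    (hs : Function.Surjective ψ) (hc : Nat.card H = 2 * Nat.card K) {z a : H} (hz : z = d) (h1 : ψ z = 1)
    (ha : (a : G) ∈ D) (h2 : ψ a ≠ 1) : ∃ f, Red (Dd D d) f ∧ f '' Dd D d = conjugatesOf (ψ a) := by
  classical
  subst hH
  have hm : ∀ x ∈ Dd D d, x ∈ centralizer {d} := fun x hx => mem_centralizer_singleton_iff.2 hx.2.2.symm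
  have ha' : (a : G) ∈ Dd D d := ⟨ha, fun e => h2 (by rw [show a = z from Subtype.ext (e.trans hz.symm), h1]),
    (mem_centralizer_singleton_iff.1 a.2).symm⟩
  have k : ψ.ker = zpowers z := by
    have e := ψ.ker.card_mul_index
    rw [index_ker, MonoidHom.range_eq_top.2 hs, card_top, hc] at e
    have : Finite K := .of_surjective ψ hs
    refine (eq_of_le_of_card_ge (zpowers_le.2 h1) ?_).symm
    rw [Nat.eq_of_mul_eq_mul_right Nat.card_pos e, Nat.card_zpowers, ← orderOf_coe, hz, h.tt.set.1 d hd]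
  let f : G → K := fun g => if hg : g ∈ centralizer {d} then ψ ⟨g, hg⟩ else 1
  have hf : ∀ g : centralizer {d}, f g = ψ g := fun g => dif_pos g.2
  refine ⟨f, red_of_hom (h.tt.dd d).wt hm ψ (fun g hg x hx => ?_) hf, Set.ext fun y => ⟨?_, fun hy => ?_⟩⟩
  · obtain ⟨i, rfl⟩ := k.le hg
    exact (show Commute x z by rw [hz]; exact hx.2.2.symm).zpow_right i
  · rintro ⟨x, hx, rfl⟩
    obtain ⟨g, hg, rfl⟩ := h.trans_Dd hd ha' hx
    have hg' : g ∈ centralizer {d} := (closure_le _).2 hm hg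
    exact isConj_iff.2 ⟨ψ ⟨g, hg'⟩, by rw [← map_inv, ← map_mul, ← map_mul, ← hf]; rfl⟩
  · obtain ⟨k, rfl⟩ := isConj_iff.1 hy
    obtain ⟨g, rfl⟩ := hs k
    refine ⟨g * a * g⁻¹, ?_, by rw [← map_inv, ← map_mul, ← map_mul, ← hf]; rfl⟩
    have := conj_mem_Dd (fun e he => h.conj g he) ha'
    rwa [conj_eq_self_iff.2 (mem_centralizer_singleton_iff.1 g.2)] at this

theorem T22.p22 (h : T22 D) : P22 D := by
  obtain ⟨y, hy⟩ := h.1.ne
  exact ⟨y, h.1.toVW.nc_eq.ge hy, (h.2 y hy).vw.nc_eq.symm ▸ h.2 y hy⟩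

theorem T23.p23 (h : T23 D) : P23 D := by
  obtain ⟨y, hy⟩ := h.1.ne
  exact ⟨y, h.1.toVW.nc_eq.ge hy, (h.2 y hy).p22⟩

theorem exists_cm : ∃ (G : Type) (_ : Group G) (X : Set G) (t : ℕ → G), CM X t := by
  have := Fintype.ofFinite (GaloisField 2 2)
  obtain ⟨σ, h⟩ := isConj_of_card (F := GaloisField 2 2) (q := 2) (by
    rw [← Nat.card_eq_fintype_card, GaloisField.card 2 2 (by norm_num)])
  exact ⟨_, _, _, (u6_tP h).cm⟩

def TU : ℕ := (J 8192 (nat_lit 0xb75000000cff000c3bbe0000d15000000c36000d19bca000d39000000cbb000d95d86000cb2000000000000000000000000000000000000000000000000000d07d4f000000000000d5ec2ed20b56000000000000d40d7c000000cabd0bd8dd29000000000000cfdd6ebdcd91000000000000d94b65bc8c9a000000000000b77c35d0ec51000000000000000000000000000000000000000000000000000000c73000000bb0000c90cd4000ccf000000baf000b2dc23000000cdcbfc000bfe000000b93000b44c8e000b2a000000cda000cb5d47000d1a000000d25000daadb1000d6b000000bc1000000000000000000000000000000000000000000000000cf6d2cb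79c9dc9bd60d9cc96000000000000000000000000000000000000000000000000c38b5cd0cd84b69d04d05be7000000000000000000000000d3dd50cbfbcdd3eca4c48d3cbc2c2fd8ad69da8bd0bd6d23000000000000000000000000b3f000d5c000b7d000cd1000000d7d000b2e000c8f000d97000cd9000b78000d5a000c25d9b000b2c000bad000d83000000c45000cd7000c75000da4bb2000d57000d2b000c92000da5000b9a000cd3000c46000000000000000000000000000cd0d98000000d2eb40000000000000d81c24000000cd2d5b000000c79d2a000000d96ce3d5fcdf000000b97d85000000000000d74b23000000b25c55ba2ca8000000d4ac16000000c56b9e000000c11d75000000000000000000000000000000c94000000bdacf8000000bd7000ca1d44000000b59c2c000000da0c4d000000b73cb7000c41000000bbbb63000000daf000c98d37000000d0fd87000cfa000000d41cfb000000bd3d76000000d68bdd000000d1d000000000000000000000000b19b4ec88c5c000000000000000000000000c82beeb16ba7000000000000b81c87b4dc5dba8c5ab1ec81000000000000000000000000c89b88b84c05c5eba5b8fbf2000000000000c06c61bf5c8a000000000000000000000000000000000000b30000c7b000000d31000d580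00db3000d48bb7000c18000000cc2000ca5c1c000bb4000c03000ba4000000b5f000b7e000b62000b7bb49000b36000b3a000b3c000000cc0000ca6b3d000b3b000000dac000d49000d2f000d59000000000000c00c09000000000000d4dca9000000dadcb6ba9b4a000000000000d55c49cccb09000000cecb08000000000000d16cbe000000d18cbdcc9ce9000000ceecf0000000000000d53c4ac0bc7e000000000000da6cb9000000d4bcaab91ba6000000bf0000000b0a000bf8b20000000c29b51000c6b000000cc7000c64b28000cc3000000c5bcc6000000c6c000b52c2a000000b50c28000b03000000b37b01000000b17000c63b27000b38000000b02000c27b4f000000bf7b1f000b7f000000000)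
  (J 8192 (nat_lit 0xbef000000bf1d42000000bd9000c34d92000000c5fbf4000bd4000000d3fb18000000b82000b89b85000000d93c33000000000000000000000000000000000000000000000000000000000000000000000000000000000000000000000000000c93cb4b70bd8000000000000000000000000bbcb57c2bc42bd1da1c4ecf9000000000000000000000000b60d45ca2da9000000000000000000000000000000000000000000000000000000000000000000000000000000000000000000000000b0d000d9f000000c26000b76000c3d000b41d65000b12000b74000b96000000d9e000cdb000cd8000d63c77000c40000000000000000000000000000000000000000000000000000000000000000000000000000000000000000000000000000b94c4c000000000000ce5cba000000d6fc8ccafbac000000cb8b0e000000000000c4bc7a000000bfbcacbf9d71000000000000000000000000000000000000000000000000000000000000000000000000000000000000000000000000000000cf7000000c9e000d5dd99000000d03d01000d80000000c37c95000000c9c000b7cd2d000000b5ed0d000b6b000000be800000000000000000000000000000000000000000000000000000000000000000000000000000000000000000000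0000c07bb5b90c1ed22c44d73be2d78c54da3bc0bbac85c1ab4b000000000000000000000000000000000000000000000000000000000000000000000000000000000000000000000000000000000000000000000000000000000000000000000000c57000b34000bd2000c13000b9d000c31000c02000b83000000b9b000bcf000b33000bf6000b1d000c01000c32000c14000c30000c12000bed000c7d000c0c000c59000b9c000bd5000000000000000000000000000000000000000000000000b1bc6e000000bcccd5000000b98d8c000000c71b87000000000000b0fbcb000000c6dc62000000c58c72000000d90b46000000d8bb45000000b15b39000000b3eb1c000000b11bce000000000000000000000000000000000000000000000000b8d000000ceadab000000d21d6a000000d6cb32000000cf2000bc3bc5000000ccac86000000cefc7f000000c50cae000000c53cb1000000ccbb4c000000ce8b35000000bc6bc9000000000000000000000000000000000000000000000000000cced1fb6dc68000000000000c67d35d52c74000000000000000000000000c0fb6ad1bce4000000000000b42d51d34b9f000000000000daece0c69bdb000000000000d77c66c20d66000000000000000000000000000000000000000000000000b54000d33000000d9a000b5db6e000d09000000c9f000d79000d62000b5bd120)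
  (nat_lit 0xc22be6be4c8bd7fb2bcdec3cce2b71d27bfdb68bfac78b64c3fb10babd7bb29bdfbe3b43b67b99baeb66c8dd26b6fb0c000000000000000000000000000000000000000000000000000000000000000000000000000000000000000000000000d06000d28000d0a000d61000d1c000d8f000d70000d43000c2d000cad000d8e000d4e000d82000d00000be1000b55000000000000000000000000000000000000000000000000000000000000000000000000000000000000000000000000000b53b72000000b58d9d000000b6cd14000000c3eca0000000b5ad64000000d13d32000000d7ed02000000be5d08000000000000000000000000000000000000000000000000000000000000000000000000000000000000000000000000000000b0b000000b22c3a000000bbdc10000000b95db0000000beabbe000000c39ba0000000cddbe9000000db4c21000000b24000000000000000000000000000000000000000000000000000000000000000000000000000000000000000000000000b8bc84cc8ceb000000000000d67cb0c4fd6d000000000000d1ebc4bc7da7000000000000cf3cf1c80b31000000000000000000000000000000000000000000000000000000000000000000000000000000000000000000000000000000000000beb0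00b05000000cd6000c97c1f000d10000000b14000cf5c99000ce1000000b04000b86cf4000bf3000000d11000c76000000000000000000000000000000000000000000000000000000000000000000000000000000000000000000000000b13b8e000000000000b21d36c65d88000000000000becc0ed38c6a000000000000b8cb8ac0dc60000000000000d89b26000000000000000000000000000000000000000000000000000000000000000000000000000000000000000000000000c08000000c1d000c43d72000d7a000000bbf000c83c19000bde000000d24000b92bb6000b48000000bb9000da2c52000000000000000000000000000000000000000000000000000000000000000000000000000000000000000000000000000b80c6fce6cc5d3ac91c15cfe000000000000000000000000cfcba1bb1d3bcc4ce7c70b1a000000000000000000000000000000000000000000000000000000000000000000000000000000000000000000000000000000000000000000000000bff000b07000c47000d4c000000d17000cb3000b47000cedca7000d54000ccd000c0a000000b06000baa000db2000cbc000000000000000000000000000000000000000000000000000000000000000000000000000000000000000000000000b2fbb3000000ca3d30000000000000b61d46000000c17c04d56cc1000000c1bc7c000000000000ba3bb8000000db5b7a00000000000000000000000000000000)))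

noncomputable abbrev γ22 : ℕ → Spor.Fi22 := cval Spor.Fi22.edges Spor.Fi22.extra Fi22.D

instance finite22 : Finite Spor.Fi22 := Nat.finite_of_card_ne_zero (by rw [Fi22.main.2]; norm_num)

theorem fi22_t22 : Prim (conjugatesOf (γ22 1)) ∧ center Spor.Fi22 = ⊥ ∧ T22 (conjugatesOf (γ22 1)) := by
  obtain ⟨e, he⟩ := Fi22.equiv
  obtain ⟨f, hi, -, hf⟩ := faith_of_equiv e
  replace hf : ∀ x ∈ Fi22.L, f (γ22 x) = gp Fi22.nets x := fun x hx => (hf _).trans (he x hx)
  obtain ⟨h1, h2, h3⟩ := stab_of_idx (Fi22.U_idx.of_cons (cons_of_subset (R := Fi22.R) (by decide +kernel))) Fi22.ok.ivOK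
    (Fi22.ok.rels Fi22.hall) (Fi22.ok.top Fi22.hall) Fi22.nets_ok hf Fi22.U_act
  let γ := upd γ22 64 (ev γ22 (pw [1,2,3,4,5,8] 4))
  have hγ : ∀ x ∈ [1,2,3,4,5,6,7,8,9,64], f (γ x) = gp Fi22.nets x := fun x hx => by
    rcases (show x ∈ Fi22.L ∧ x ≠ 64 ∨ x = 64 by revert x; decide) with h | rfl
    · rw [← hf x h.1]; exact congrArg f (upd_ne _ _ h.2)
    · rw [← ev_single (gp Fi22.nets), ← eq_of_eqB (k := 12) (u := [1,2,3,4,5,8]) (e := 4) Fi22.nets_ok (by norm_num)
        (by decide +kernel), ← ev_pw]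
      exact map_ev_of_gen fun x hx => hf x (by revert x; decide +kernel)
  have eq : ∀ {u w : List ℕ} {e : ℕ}, _ → ev γ u ^ (e + 1) = ev γ w := eq_of_faith (k := 12) hi Fi22.nets_ok (by norm_num) hγ
  have hb := Fi22.simpleB
  rw [cnd_tt, cnd_tt, cnd_tt] at hb
  have hK : cl γ [1,3,4,5,6,7,8,9,64] = stab f 0 := by
    rw [← h2]
    have u : ∀ x ∈ [1,3,4,5,6,7,8,9], γ x = ev γ22 [x] := fun x hx =>
      (upd_ne _ _ (by revert x; decide)).trans (ev_single _ _).symm
    refine le_antisymm (cl_le.2 fun x hx => ?_) (clw_le.2 fun w hw => ?_)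
    · rcases (show x ∈ [1,3,4,5,6,7,8,9] ∨ x = 64 by revert x; decide) with h | rfl
      · rw [u x h]; exact mem_clw (by clear hx; revert x; decide +kernel)
      · exact mem_clw (by decide +kernel)
    · rcases (show (∃ x ∈ [1,3,4,5,6,7,8,9], w = [x]) ∨ w = pw [1,2,3,4,5,8] 4 by revert w; decide +kernel) with
        ⟨x, h, rfl⟩ | rfl
      · rw [← u x h]; exact mem_cl (by clear hw; revert x; decide)
      · exact mem_cl (γ := γ) (x := 64) (by decide)
  have tb := tbA_pt Fi22.nets_ok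
  have hd : orderOf (ev γ [1]) = 2 := orderOf_eq_prime (eq (w := []) (by decide +kernel))
    (ne_of_neP hγ tb (w := []) (p := 1) (by decide +kernel))
  obtain ⟨c1, c2, -⟩ := three_tr h1 hK (subsIn_of_subsB Fi22.nets_ok
    (map_cl_of_gen fun x hx => hγ x (by revert x; decide)) hb.2.2.2) (rs := [ev γ [2], ev γ [5,6,4,5,3,4,2,3,1,2]])
    (repsAt_cons (apply_of_wap hγ tb (by decide +kernel)) (repsAt_cons (apply_of_wap hγ tb (by decide +kernel)) trivial))
    (by decide +kernel) hd (cl_le.2 fun x hx => mem_centralizer_singleton_iff.2 (by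
      rw [← ev_cons, ← ev_single γ x, ← ev_append]
      exact (pow_one _).symm.trans (eq (by revert x; decide +kernel)))) (by
      have a1 := (pow_one _).symm.trans (eq (u := [2,2]) (w := []) (e := 0) (by decide +kernel))
      have a2 := (pow_one _).symm.trans (eq (u := [5,6,4,5,3,4,2,3,1,2,1]) (w := [6,5,6,4,5,3,4,2,3,1,2]) (e := 0)
        (by decide +kernel))
      rw [ev_cons, ← ev_single γ 2] at a1
      rw [ev_cons γ 6, ← ev_single γ 6, show [5,6,4,5,3,4,2,3,1,2,1] = [5,6,4,5,3,4,2,3,1,2] ++ [1] from rfl, ev_append,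
        ← mul_inv_eq_iff_eq_mul] at a2
      simp only [List.forall_mem_cons]
      rw [a2, inv_eq_of_mul_eq_one_right a1]
      simp only [← ev_append]
      exact ⟨⟨ne_of_neP hγ tb (p := 0) (by decide +kernel), Or.inr (eq (w := []) (by decide +kernel))⟩,
        ⟨ne_of_neP hγ tb (p := 1) (by decide +kernel), Or.inl (eq (w := []) (by decide +kernel))⟩, by simp⟩)
  rw [ev_single] at c1 c2
  have := Fi22.main.1
  obtain ⟨P, Z⟩ := prim_conj (by rw [Fi22.main.2]; norm_num) c2
  obtain ⟨s, H⟩ := pf_of_action h1 (c1.trans hK) P.tt Fi22.nets_ok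
    (LP := fun x => cnd (Nat.beq x 64) 2891 (nth 0 [0,0,1682,2943,2847,2818,2817,2872,2826,2828] x)) hγ fun x hx => by
      let w := cnd (Nat.beq x 64) [6,5,4,8,3,4,5,2,3,4,8,6,5,4,3,2] (nth [] [[],[],[1,2],[2,3,1,2],[3,4,2,3,1,2],
        [4,5,3,4,2,3,1,2],[5,6,4,5,3,4,2,3,1,2],[6,7,5,6,4,5,3,4,2,3,1,2],[4,8,3,4,2,3,1,2],[8,9,4,8,3,4,2,3,1,2]] x)
      refine ⟨ev γ w, ?_, apply_of_wap hγ tb (by revert x; decide +kernel)⟩
      rw [mul_inv_eq_iff_eq_mul, ← ev_single γ 1, ← ev_append, ← ev_cons, ← apd_eq]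
      exact (pow_one _).symm.trans (eq (by revert x; decide +kernel))
  obtain ⟨_, _, X, t, C⟩ := exists_cm
  have U := (H.corr C.cc (pt := look TU 12) (cd := fun x => cnd (Nat.beq x 64) 1008 (nth 0 [0,0,0,3,5,12,23,15,60,2016] x))
    (L' := [3,4,5,6,7,8,9,64]) (ops := [4,3,5,8,6,9,64,4,7,6,9,5,8,4,7,3,6,8,5,9,64,4,5,6,8,9]) (a := 3) (by decide +kernel)
    (Dd_subset _ (γ 1)) (H.exact_mv (P.tt.dd _) (k := 12) (A := [1]) (LF := [3,4,5,6,7,8,9,64]) (fun y hy => by simp [hy.2])
      (fun x hx => by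
        have hx' : x ∈ [1,2,3,4,5,6,7,8,9,64] := by revert x; decide
        obtain ⟨a, b⟩ := H.pt x hx'
        refine ⟨H.let_mem hx', fun e => ?_, b ▸ (H.comm_let (by decide) a).2 (by clear a b; revert x; decide +kernel)⟩
        have := H.inj _ a _ (H.pt 1 (by decide)).1 (b.trans (e.trans (H.pt 1 (by decide)).2.symm))
        clear a b e
        revert x; decide +kernel) (by decide +kernel))).symm.u6 C.u6
  exact ⟨P, Z, P.r3.t22 ⟨_, P.r3.toVW.nc_eq.ge mem_conjugatesOf_self, U.vw.nc_eq.symm ▸ U⟩⟩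

theorem fi23_t23 : Prim (conjugatesOf (Fi23.γ 1)) ∧ center Spor.Fi23 = ⊥ ∧ T23 (conjugatesOf (Fi23.γ 1)) := by
  obtain ⟨f, hi, -, hf⟩ := Fi23.faith
  obtain ⟨-, c1, c2, -⟩ := Fi23.three
  have := Fi23.main.1
  obtain ⟨P, Z⟩ := prim_conj (by rw [Fi23.main.2]; norm_num) c2
  have e : IsConj (ev Fi23.γ Fi23.dw) (Fi23.γ 1) := isConj_iff.2
    ⟨ev Fi23.γ [2,3,4,5,6,7,10,8,4,5,3,4,8,6,7,5,6,4,5,3,4,8,1,2,3,4,5,6,7,10], by
      rw [mul_inv_eq_iff_eq_mul, ← ev_append, ← ev_cons, ← apd_eq]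
      exact (pow_one _).symm.trans ((eq_of_base hi hf Fi23.base Fi23.tb0_ok (by decide +kernel)))⟩
  obtain ⟨ψ, h1, h2⟩ := Fi23.K_hom
  have h3 := h2 [1] (by decide)
  simp only [ev_single] at h3
  replace h3 : ψ ⟨_, mem_cl (x := 1) (by decide)⟩ = γ22 1 := h3
  obtain ⟨g, h4, h5⟩ := red_up P mem_conjugatesOf_self c1 ψ h1 (by rw [Fi23.K_card, Fi22.main.2]) rfl
    ((h2 Fi23.dw (by decide +kernel)).trans ((ev_pw _ _ _).trans (Fi22.ok.rels Fi22.hall (_, 8) (by decide +kernel))))
    (a := ⟨_, mem_cl (x := 1) (by decide)⟩) e (h3 ▸ fi22_t22.1.tt.ne_one mem_conjugatesOf_self)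
  rw [← e.conjugatesOf_eq]
  exact ⟨P, Z, P.r3.t23 ⟨_, P.r3.toVW.nc_eq.ge mem_conjugatesOf_self,
    h4.p22 (P.tt.dd _).wt (h5 ▸ h3 ▸ fi22_t22.2.2.p22)⟩⟩

theorem fi24_t24 : Prim (conjugatesOf (Fi24.γ 12)) ∧ center Spor.Fi24 = ⊥ ∧ T24 (conjugatesOf (Fi24.γ 12)) ∧
    (conjugatesOf (Fi24.γ 12)).ncard = 306936 := by
  obtain ⟨f, hi, -, hf⟩ := Fi24.faith
  obtain ⟨h1, h2, h3, h4⟩ := Fi24.action hf
  have hd : orderOf (ev Fi24.γ [12]) = 2 := orderOf_eq_prime (eq_of_base hi hf Fi24.base Fi24.tb_ok (w := []) (by decide +kernel))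
    (ne_of_neP hf Fi24.tb_ok (w := []) (p := 31672) (by decide +kernel))
  obtain ⟨c1, c2, c3⟩ := three_tr h1 h2 h4 (rs := [([10,7,6,5,4,3,2,1,11,12,8,4,5,6,7,10,3,4,8,5,6,4,5,3,4,8,7,6,5,4,3,2,1,11],
      [11,1,2,3,4,5,6,7,8,4,3,5,4,6,5,8,4,3,10,7,6,5,4,8,12,11,1,2,3,4,5,6,7,10], 2, 3512),
      ([11], [11], 3, 0)].map fun v : List ℕ × List ℕ × ℕ × ℕ => ev Fi24.γ v.1)
    (repsAt_cons (apply_of_wap hf Fi24.tb_ok (by decide +kernel))
      (repsAt_cons (apply_of_wap hf Fi24.tb_ok (by decide +kernel)) trivial)) (by norm_num) hd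
    (cen_of_cenP hi hf Fi24.base Fi24.tb_ok (by decide +kernel)) (tr_of_trP hi hf Fi24.base Fi24.tb_ok (by decide +kernel))
  rw [ev_single] at c1 c2 c3
  have R := Fi24.ok.rels Fi24.hall
  have br : ∀ x y, ([x], 1) ∈ Fi24.R ∧ ([y], 1) ∈ Fi24.R ∧ ([x, y], 2) ∈ Fi24.R → IsConj (Fi24.γ x) (Fi24.γ y) := fun x y h => by
    have a1 := R _ h.1
    have a2 := R _ h.2.1
    have a3 := R _ h.2.2
    rw [ev_single, _root_.sq] at a1 a2
    rw [ev_cons, ev_single] at a3
    refine isConj_iff.2 ⟨Fi24.γ x * Fi24.γ y, ?_⟩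
    rw [braid_of_cube a1 a2 a3, mul_inv_eq_iff_eq_mul, mul_assoc]
  have m11 := (br 11 12 (by decide +kernel)).symm
  have m1 := m11.trans (br 1 11 (by decide +kernel)).symm
  have m4 := ((m1.trans (br 1 2 (by decide +kernel))).trans (br 2 3 (by decide +kernel))).trans (br 3 4 (by decide +kernel))
  have m6 := (m4.trans (br 4 5 (by decide +kernel))).trans (br 5 6 (by decide +kernel))
  have m7 := m6.trans (br 6 7 (by decide +kernel))
  have m8 := m4.trans (br 4 8 (by decide +kernel))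
  obtain ⟨P, Z⟩ := prim_of_min ⟨c2, ⟨_, mem_conjugatesOf_self, rfl⟩, eq_top_iff.2 ((Fi24.ok.top Fi24.hall).ge.trans
    (cl_le.2 fun x hx => subset_closure (by
      revert x
      simp only [Fi24.L, List.forall_mem_cons]
      exact ⟨m1, m1.trans (br 1 2 (by decide +kernel)), m4.trans (br 3 4 (by decide +kernel)).symm, m4,
        m4.trans (br 4 5 (by decide +kernel)), m6, m7, m8, m8.trans (br 8 9 (by decide +kernel)),
        m7.trans (br 7 10 (by decide +kernel)), m11, IsConj.refl _, by simp⟩)))⟩ Fi24.comm_le fun _ =>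
      have := Fi24.simple'
      not_solvable_of_simple (G := Spor.Fi24') (by rw [Fi24.card24']; norm_num) inferInstance
  obtain ⟨φ, p1, -, p2⟩ := Fi24.hom23
  obtain ⟨e, he⟩ := Fi23.equiv
  let e1 := ((cl Fi24.γ Fi24.L1).equivMapOfInjective f hi).trans (MulEquiv.subgroupCongr h3)
  let e2 := (MulEquiv.subgroupCongr Fi24.cl23).trans e.symm
  let ψ := (e2.toMonoidHom.comp φ).comp e1.toMonoidHom
  have a : ∀ x (hx : x ∈ Fi24.L1), ψ ⟨_, mem_cl hx⟩ = e2 ⟨gp Fi23.nets x, mem_cl hx⟩ := fun x hx => by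
    rw [← p2 x hx]
    exact congrArg (fun y => e2 (φ y)) (Subtype.ext (hf x (by revert x; decide)))
  have a1 : ψ ⟨_, mem_cl (x := 1) (by decide)⟩ = Fi23.γ 1 :=
    (a 1 (by decide)).trans (e.symm_apply_eq.2 (Subtype.ext (he 1 (by decide)).symm))
  obtain ⟨g, h5, h6⟩ := red_up P mem_conjugatesOf_self c1 ψ ((e2.surjective.comp p1).comp e1.surjective)
    (by rw [Nat.card_congr e1.toEquiv, Fi24.H_card, Fi23.main.2]) rfl ((a 12 (by decide)).trans (map_one e2))
    (a := ⟨_, mem_cl (x := 1) (by decide)⟩) m1 (a1 ▸ fi23_t23.1.tt.ne_one mem_conjugatesOf_self)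
  exact ⟨P, Z, P.r3.t24 ⟨_, P.r3.toVW.nc_eq.ge mem_conjugatesOf_self,
    h5.p23 (P.tt.dd _).wt (h6 ▸ a1 ▸ fi23_t23.2.2.p23)⟩, c3⟩

theorem fi24_type : IsOfTypeM24 Spor.Fi24 (conjugatesOf (Fi24.γ 12)) :=
  fi24_t24.2.2.1.type fi24_t24.1.grp.2.2 fi24_t24.2.1 fi24_t24.2.2.2 Fi24.card24

theorem m24_iso [Finite G] (hD : IsThreeTranspositionGroup D) (hp : IsPrimitiveUnderConj D) (ht : IsOfTypeM24 G D) :
    ∃ e : G ≃* Spor.Fi24, e '' D = {x | IsConj (PresentedGroup.of Spor.Fi24.Gen.l) x} :=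
  m24_unique hD hp ht fi24_t24.1.grp fi24_t24.1.prim fi24_type

end Cfsg.Lib.Known2
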