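import Cfsg.Agent.Lib.Known2.F8

/-! Fischer's theorem, IX: the unitary representation in the case `V`. -/

set_option autoImplicit false

namespace Cfsg.Lib.Known2

open Subgroup Cfsg.Lib.Forms Module

variable {G : Type*} [Group G] {X Y : Set G} {F : Type*} [Field F] {σ : F →+* F}

structure UR (Y : Set G) (H : G → G → F) {s : IsConj σ 2} {n : ℕ} (D : Form s.kind (Fin n → F)) (v : G → Fin n → F) : Prop where
  g : HG σ Y H
  nd : D.Nondeg
  span : Submodule.span F (v '' Y) = ⊤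
  B : ∀ {x y}, x ∈ Y → y ∈ Y → D.B (v x) (v y) = H x y

namespace UR
variable {H : G → G → F} {s : IsConj σ 2} {n : ℕ} {D : Form s.kind (Fin n → F)} {v : G → Fin n → F} (R : UR Y H D v)
include R

theorem ext {u w : Fin n → F} (h : ∀ x ∈ Y, D.B (v x) u = D.B (v x) w) : u = w :=
  span_ext R.nd R.span (by rintro _ ⟨z, hz, rfl⟩; exact h z hz)

theorem Q {x : G} (hx : x ∈ Y) : D.Q (v x) = 0 := by rw [Q_eq, R.B hx hx, R.g.z (Commute.refl x)]

theorem comm {x y : G} (hx : x ∈ Y) (hy : y ∈ Y) : D.B (v x) (v y) = 0 ↔ Commute x y :=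
  ⟨fun e => by_contra fun c => R.g.ne hx hy c (R.B hx hy ▸ e), fun c => (R.B hx hy).trans (R.g.z c)⟩

theorem lin {x y : G} (hx : x ∈ Y) (hy : y ∈ Y) (c : ¬ Commute x y)
    (p : ∀ z ∈ Y, PP H x y z ∧ PP H y (x * y * x) z ∧ PP H x (x * y * x) z) :
    v (x * y * x) = H y (x * y * x) • (v y + H x y • v x) := R.ext fun z hz => by
  have hw := R.g.t.conj x hx y hy
  rw [D.B_smul_right, D.B_add_right, D.B_smul_right, R.B hz hw, R.B hz hy, R.B hz hx,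
    R.g.lin hx hy hz c (p z hz).1 (p z hz).2.1 (p z hz).2.2 (p _ hw).1]

theorem ag {x y z : G} (hx : x ∈ Y) (hy : y ∈ Y) (hz : z ∈ Y) (c : ¬ Commute x y) (p : PP H x y z) :
    D.B (v y + H x y • v x) (v z) = 0 ↔ Commute z (x * y * x) := by
  rw [D.eq_zero_comm, D.B_add_right, D.B_smul_right, R.B hz hy, R.B hz hx, R.g.ag hx hy hz c p]

variable (p : ∀ x ∈ Y, ∀ y ∈ Y, ∀ z ∈ Y, PP H x y z)
include p

theorem tv {x y : G} (hx : x ∈ Y) (hy : y ∈ Y) : ∃ κ : F, κ ≠ 0 ∧ v (x * y * x) = κ • tvF D (v x) (v y) := by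
  have hw := R.g.t.conj x hx y hy
  by_cases c : Commute x y
  · exact ⟨1, one_ne_zero, by simp [tvF, (R.comm hx hy).2 c, (R.g.t.conj_eq_iff hx).2 c]⟩
  · exact ⟨_, R.g.ne hy hw (R.g.t.not_commute_third' hx hy c), by
      rw [R.lin hx hy c fun z hz => ⟨p x hx y hy z hz, p y hy _ hw z hz, p x hx _ hw z hz⟩, tvF, R.B hx hy]⟩

theorem act {g : G} (hg : g ∈ closure Y) : ∃ φ : D.isom, ∀ x ∈ Y, ∃ κ : F, κ ≠ 0 ∧ v (g * x * g⁻¹) = κ • φ.1 (v x) := by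
  have t := R.g.t
  induction hg using closure_induction'' with
  | mem g hg => exact ⟨(tS D (v g)).1, fun x hx => by rw [t.inv hg, tS_apply (R.Q hg)]; exact R.tv p hg hx⟩
  | inv_mem g hg => exact ⟨(tS D (v g)).1, fun x hx => by rw [inv_inv, t.inv hg, tS_apply (R.Q hg)]; exact R.tv p hg hx⟩
  | one => exact ⟨1, fun x _ => ⟨1, by simp⟩⟩
  | mul g k hg hk a b =>
    obtain ⟨φ, hφ⟩ := a
    obtain ⟨ψ, hψ⟩ := b
    refine ⟨φ * ψ, fun x hx => ?_⟩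
    obtain ⟨a, a0, a1⟩ := hφ _ (t.conj_mem hk hx)
    obtain ⟨b, b0, b1⟩ := hψ x hx
    exact ⟨a * b, mul_ne_zero a0 b0, by rw [← conj_conj', a1, b1, map_smul, smul_smul]; rfl⟩

theorem um (h : VW Y) (h0 : ∀ x ∈ Y, ∀ y ∈ Dd Y x, ∀ c : F, ∃ z ∈ Y, ∃ κ : F, v y + c • v x = κ • v z) : ∃ τ, UM D Y τ := by
  have t := R.g.t
  have h2 := F4.two s
  let Φ : (Fin n → F) → Prop := fun u => ∃ z ∈ Y, ∃ κ : F, u = κ • v z
  have sm : ∀ (c : F) u, Φ u → Φ (c • u) := by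
    rintro c _ ⟨z, hz, κ, rfl⟩; exact ⟨z, hz, c * κ, smul_smul _ _ _⟩
  have iso : ∀ u, Φ u → D.B u u = 0 := by
    rintro _ ⟨z, hz, κ, rfl⟩; simp [(R.comm hz hz).2 (Commute.refl z)]
  have a1 : ∀ a b, Φ a → Φ b → Φ (b + D.B a b • a) := by
    rintro _ _ ⟨x, hx, c, rfl⟩ ⟨y, hy, e, rfl⟩
    by_cases c0 : c = 0
    · exact ⟨y, hy, e, by simp [c0]⟩
    obtain ⟨κ, k0, k1⟩ := R.tv p hx hy
    refine ⟨_, t.conj x hx y hy, e / κ, ?_⟩
    rw [k1, tvF, D.B_smul_left, D.B_smul_right, smul_smul, smul_smul, div_mul_cancel₀ _ k0, smul_add, smul_smul]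
    congr 2
    linear_combination e * D.B (v x) (v y) * F4.norm' s c0
  have a0 : ∀ a b, Φ a → Φ b → D.B a b = 0 → Φ (a + b) := by
    rintro _ _ ⟨x, hx, c, rfl⟩ ⟨y, hy, e, rfl⟩ q
    by_cases c0 : c = 0
    · exact ⟨y, hy, e, by simp [c0]⟩
    by_cases e0 : e = 0
    · exact ⟨x, hx, c, by simp [e0]⟩
    by_cases r : y = x
    · exact ⟨x, hx, c + e, by rw [r, add_smul]⟩
    obtain ⟨z, hz, κ, k⟩ := h0 x hx y ⟨hy, r, (R.comm hx hy).1 (by simpa [c0, e0] using q)⟩ (c / e)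
    exact ⟨z, hz, e * κ, by rw [← smul_smul, ← k, smul_add, smul_smul, mul_div_cancel₀ _ e0, add_comm]⟩
  have a2 : ∀ a b, Φ a → Φ b → D.B a b = 0 ∨ D.B a b = 1 → Φ (a + b) := fun a b ha hb q => q.elim (a0 a b ha hb) fun q => by
    simpa [q, add_comm] using a1 a b ha hb
  have om : ∀ a : F, ¬ (a = 0 ∨ a = 1) → a * a = a + 1 := fun a q => F4.om s (fun e => q (Or.inl e)) fun e => q (Or.inr e)
  have a3 : ∀ a b c, Φ a → Φ b → Φ c → ¬ (D.B a b = 0 ∨ D.B a b = 1) → D.B a c = D.B b a → ∃ x y, Φ x ∧ Φ y ∧ a + b + c = x + y :=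
    fun a b c ha hb hc q e => by
      have o := om _ q
      refine ⟨_, _, a1 a b ha hb, a2 _ c (sm (D.B b a) a ha) hc (Or.inr ?_), ?_⟩
      · rw [D.B_smul_left, e, B_symm D a b, s.kind.σσ, F4.σω s o]; grind
      · rw [B_symm D a b, F4.σω s o]; ext i; simp only [Pi.add_apply, Pi.smul_apply, smul_eq_mul]; grind
  have two : ∀ u, ∃ a b, Φ a ∧ Φ b ∧ u = a + b := fun u => by
    obtain ⟨d, hd⟩ := h.ne
    have z : Φ 0 := ⟨d, hd, 0, by simp⟩
    have st : ∀ c, Φ c → ∀ u, (∃ a b, Φ a ∧ Φ b ∧ u = a + b) → ∃ a b, Φ a ∧ Φ b ∧ u + c = a + b := by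
      rintro c hc _ ⟨a, b, ha, hb, rfl⟩
      by_cases q1 : D.B a b = 0 ∨ D.B a b = 1
      · exact ⟨_, c, a2 a b ha hb q1, hc, rfl⟩
      by_cases q2 : D.B a c = 0 ∨ D.B a c = 1
      · exact ⟨_, b, a2 a c ha hc q2, hb, add_right_comm _ _ _⟩
      by_cases q3 : D.B b c = 0 ∨ D.B b c = 1
      · exact ⟨a, _, ha, a2 b c hb hc q3, add_assoc _ _ _⟩
      have o1 := om _ q1
      have o2 := om _ q2
      have o3 := om _ q3
      by_cases q4 : D.B a c = D.B b a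
      · exact a3 a b c ha hb hc q1 q4
      by_cases q5 : D.B b c = D.B a b
      · rw [add_comm a]; exact a3 b a c hb ha hc (by rw [B_symm D a b, F4.σω s o1]; grind) q5
      · rw [add_right_comm, add_comm a]
        refine a3 c a b hc ha hb (by rw [B_symm D a c, F4.σω s o2]; grind) ?_
        rw [B_symm D a b, F4.σω s o1] at q4
        rw [B_symm D b c, F4.σω s o3]; grind
    have : ∀ w ∈ Submodule.span F (v '' Y), ∀ c : F, ∀ u, (∃ a b, Φ a ∧ Φ b ∧ u = a + b) → ∃ a b, Φ a ∧ Φ b ∧ u + c • w = a + b :=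
      fun w hw => by
        induction hw using Submodule.span_induction with
        | mem w hw => obtain ⟨x, hx, rfl⟩ := hw; exact fun c => st _ ⟨x, hx, c, rfl⟩
        | zero => simp
        | add x y _ _ hx hy => exact fun c u hu => by rw [smul_add, ← add_assoc]; exact hy c _ (hx c _ hu)
        | smul a x _ hx => exact fun c => smul_smul c a x ▸ hx (c * a)
    simpa using this u (R.span ▸ trivial) 1 0 ⟨0, 0, z, z, by simp⟩
  have all : ∀ u, Is D u → ∃ z ∈ Y, ∃ κ : F, κ ≠ 0 ∧ u = κ • v z := fun u hu => by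
    obtain ⟨a, b, ha, hb, rfl⟩ := two u
    have := hu.B
    rw [D.B_add_left, D.B_add_right, D.B_add_right, iso a ha, iso b hb, B_symm D a b, zero_add, add_zero, F4.add_zero_iff s] at this
    obtain ⟨z, hz, κ, e⟩ := a2 a b ha hb (F4.fixed s this.symm)
    exact ⟨z, hz, κ, fun k => hu.1 (by simp [e, k]), e⟩
  choose! τ hτ using all
  have inj : ∀ x ∈ Y, ∀ y ∈ Y, ∀ a b : F, a ≠ 0 → b ≠ 0 → a • v x = b • v y → x = y := fun x hx y hy a b a0 b0 e =>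
    h.rv x hx y hy fun z hz => by
      have := congrArg (D.B · (v z)) e
      simp only [D.B_smul_left] at this
      rw [← R.comm hx hz, ← R.comm hy hz, ← mul_eq_zero_iff_left ((map_ne_zero σ).2 a0), this,
        mul_eq_zero_iff_left ((map_ne_zero σ).2 b0)]
  refine ⟨τ, fun u hu => (hτ u hu).1, fun x hx => ?_, fun u hu => t.sq (hτ u hu).1, fun u hu => t.ne_one (hτ u hu).1,
    fun u w hu hw => ?_, fun u w hu hw => ?_⟩
  · obtain ⟨y, hy, c⟩ := h.nc x hx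
    have i : Is D (v x) := ⟨fun e => c ((R.comm hx hy).1 (by simp [e])), R.Q hx⟩
    obtain ⟨a, κ, k0, k1⟩ := hτ _ i
    exact ⟨_, i, inj _ a x hx κ 1 k0 one_ne_zero (by rw [← k1, one_smul])⟩
  · obtain ⟨a, α, a0, a1⟩ := hτ u hu
    obtain ⟨b, β, b0, b1⟩ := hτ w hw
    obtain ⟨c, γ, c0, c1⟩ := hτ _ (hu.tv hw)
    obtain ⟨κ, k0, k1⟩ := R.tv p a b
    refine inj _ (t.conj _ a _ b) _ c β (κ * γ) b0 (mul_ne_zero k0 c0) ?_
    rw [k1, ← smul_smul, ← c1, smul_comm, tvF, tvF]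
    generalize τ u = x at *
    generalize τ w = y at *
    rw [a1, b1, D.B_smul_left, D.B_smul_right]
    match_scalars
    · ring
    · linear_combination -κ * β * D.B (v x) (v y) * F4.norm' s a0
  · obtain ⟨a, α, a0, a1⟩ := hτ u hu
    obtain ⟨b, β, b0, b1⟩ := hτ w hw
    refine ⟨fun e => ⟨α / β, by rw [b1, smul_smul, div_mul_cancel₀ _ b0, ← e, ← a1]⟩, fun ⟨c, e⟩ =>
      inj _ a _ b α (c * β) a0 (mul_ne_zero (fun k => hu.1 (by simp [e, k])) b0) (by rw [← a1, ← smul_smul, ← b1, e])⟩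

end UR

namespace UD
variable [Finite G] {d : G} {ℓ : G → F} (U : UD σ Y d ℓ) {n : ℕ} {D : Form U.s.kind (Fin n → F)} {v : G → Fin n → F}
  (R : UR Y (hh σ Y d ℓ) D v)
include R

local notation "𝐗" => Dd Y d
local notation "H" => hh σ Y d ℓ

theorem linA {y z : G} (hy : y ∈ Y) (hz : z ∈ Y) (dy : Commute d y) (dz : ¬ Commute d z) (c : ¬ Commute y z) :
    v (y * z * y) = v z + H y z • v y := by
  have t := U.r.tt
  have hw := t.conj y hy z hz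
  rw [R.lin hy hz c fun w hw' => ⟨U.pnA hy hz hw' (Or.inl dy), U.pS hy hz hw' dy dz c, U.pnA hy hw hw' (Or.inl dy)⟩,
    hh_1 (t.not_commute_third' hy hz c) dz (t.not_commute_conj hy dy dz) ((t.third_third hz hy (c ·.symm)).symm ▸ dy), one_smul]

theorem lnD {m p : G} (hm : m ∈ 𝐗) (hp : p ∈ cl 𝐗 m) : v p = v m + (ℓ p + ℓ m) • v d := R.ext fun x hx => by
  rw [D.B_add_right, D.B_smul_right, R.B hx hp.1.1, R.B hx hm.1, R.B hx U.hd]
  by_cases a : Commute d x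
  · rw [hh_0 a.symm, mul_zero, add_zero]
    by_cases b : Commute x m
    · rw [hh_0 b, hh_0 ((R3.ln_of_rv hp.1 hp.2).2 x hx a b.symm).symm]
    have hx' := mem_Dd_of_nc hx b a.symm hm.2.2
    rw [hh_DD b a hm.2.2, hh_DD (fun c => b ((cl.comm hp hx').1 c.symm).symm) a hp.1.2.2, U.kk_cl hx' hp hm]
  · rw [U.hh_AD' hx hp.1.1 a hp.1.2.2, U.hh_AD' hx hm.1 a hm.2.2, U.hh_AD' hx U.hd a (Commute.refl d), gg_d, mul_one, U.gg_cl hm hp]

theorem lnA {m w z : G} (hm : m ∈ 𝐗) (hw : w ∈ Y) (dw : ¬ Commute d w) (c : Commute w m) (hz : z ∈ Ln Y m w) (ne : z ≠ m) :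
    ∃ a : F, (z ≠ w → a ≠ 0) ∧ v z = v w + a • v m := by
  by_cases e : z = w
  · exact ⟨0, fun q => (q e).elim, by simp [e]⟩
  have t := U.r.tt
  have wm := mem_Dd_of_nc hw (dw ·.symm) c hm.2.2.symm
  have dz : ¬ Commute d z := fun q => dw (U.r.ln_perp hm.1 wm (Ln.left hm.1) hz ne U.hd hm.2.2.symm q.symm).2.symm
  obtain ⟨p, -, -, e1, e2⟩ := t.theta hw hz.1 U.hd (Ln.comm hm.1 wm (Ln.right hw) hz) dw dz
  obtain ⟨l1, l2, l3⟩ := U.r.ln_op hm.1 wm hz ne (mem_Dd_comm U.hd hm)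
  rw [← e2] at l1 l2 l3
  have pd := l3 e dw
  have hp : p ∈ cl 𝐗 m := ⟨Ln.dd U.hd hm (Ln.left U.hd) (Ln.symm l1) pd, U.r.rv_of_ln U.hd hm (Ln.symm l1) pd⟩
  have g0 := (U.gg_zero hw dw hm.1 hm.2.2).2 c
  have a0 : ℓ p + ℓ m ≠ 0 := fun q => l2 ((U.bij m hm).injOn hp (cl.self hm) ((F4.add_zero_iff U.s).1 q))
  have pw : ¬ Commute p w := fun q => a0 (by simpa [U.gg_cl hm hp, g0] using (U.gg_zero hw dw hp.1.1 hp.1.2.2).2 q.symm)
  have n2 := t.not_commute_conj hp.1.1 hp.1.2.2 dw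
  refine ⟨σ (ℓ p + ℓ m), fun _ => (map_ne_zero σ).2 a0, ?_⟩
  rw [← e1, U.linA R U.hd (t.conj p hp.1.1 w hw) (Commute.refl d) n2 n2, U.linA R hp.1.1 hw hp.1.2.2 dw pw,
    hh_DA n2 (Commute.refl d) n2, gg_d, map_one, hh_DA pw hp.1.2.2 dw, U.gg_cl hm hp, g0, zero_add, U.lnD R hm hp, smul_add,
    smul_smul, F4.norm' U.s a0, add_assoc, add_assoc, vadd_self U.s, add_zero]

theorem sub {w w' p : G} (hw : w ∈ Y) (dw : ¬ Commute d w) (hw' : w' ∈ Dd Y w) (hp : p ∈ Ln Y w w') (ne : p ≠ w)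
    {u : Fin n → F} (h1 : D.B u (v w) = 0) (h2 : D.B u (v p) = 0) : D.B u (v w') = 0 := by
  obtain ⟨m, hm, c⟩ := U.r.one U.v hw hw' U.hd
  have mw : m ≠ w := fun e => dw (e ▸ c)
  have cm := Ln.comm hw hw' (Ln.left hw) hm
  have hm' := mem_Dd_comm hm.1 (mem_Dd_of_nc U.hd dw c cm.symm)
  have k : ∀ z ∈ Ln Y w w', z ≠ m → ∃ a : F, (z ≠ w → a ≠ 0) ∧ v z = v w + a • v m := fun z hz q =>
    U.lnA R hm' hw dw cm (U.r.ln_mem hw hw' hm (Ln.left hw) mw.symm hz) q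
  have h3 : D.B u (v m) = 0 := by
    by_cases e : p = m
    · exact e ▸ h2
    obtain ⟨a, a0, a1⟩ := k p hp e
    simpa [a1, h1, a0 ne] using h2
  by_cases e : w' = m
  · exact e ▸ h3
  obtain ⟨a, -, a1⟩ := k w' (Ln.right hw'.1) e
  simp [a1, h1, h3]

theorem pAll : ∀ x ∈ Y, ∀ z ∈ Y, ∀ w ∈ Y, PP H x z w := fun x hx z hz w hw n1 n2 n3 => by
  by_cases dx : Commute d x
  · exact U.pnA hx hz hw (Or.inl dx) n1 n2 n3
  by_cases dz : Commute d z
  · exact U.pnA hx hz hw (Or.inr (Or.inl dz)) n1 n2 n3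
  have t := U.r.tt
  have he := t.conj x hx z hz
  have c1 := t.not_commute_third hx n1
  have c2 := t.not_commute_third' hx hz n1
  have e1 : x * z * x * x * (x * z * x) = z := t.swap_third hx hz n1
  by_cases de : Commute d (x * z * x)
  · have := U.pS he hx hw de dx (c1 ·.symm)
    rw [e1] at this
    exact this n1 n2 n3
  have h2 := F4.two U.s
  have ag : ∀ y ∈ Y, Commute d y → (D.B (v z + H x z • v x) (v y) = 0 ↔ Commute y (x * z * x)) := fun y hy c =>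
    R.ag hx hz hy n1 (U.pnA hx hz hy (Or.inr (Or.inr c)))
  have b1 : D.B (v z + H x z • v x) (v (x * z * x)) = 0 := (R.ag hx hz he n1 fun _ _ _ => by
    have e2 := t.third_third hz hx (n1 ·.symm)
    obtain ⟨q, hq, q1, q2⟩ := U.sep' hx dx hz dz n1 de
    obtain ⟨s1, s2⟩ := U.ss_spec hx dx hz dz n1 de
    obtain ⟨s3, s4⟩ := U.ss_spec hz dz he de c2 (e2.symm ▸ dx)
    obtain ⟨s5, s6⟩ := U.ss_spec he de hx dx (c1 ·.symm) (e1.symm ▸ dz)
    rw [hh_AA n1 dx dz de, hh_AA c2 dz de (e2.symm ▸ dx), hh_AA (c1 ·.symm) de dx (e1.symm ▸ dz), ← map_mul, ← map_mul,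
      σ.injective.eq_iff' (map_one σ), iff_true_intro (Commute.refl _), iff_true]
    have a := s2 q hq
    have b := s4 q hq
    have c := s6 q hq
    rw [e2] at b
    rw [e1] at c
    rw [q1] at a b c
    grind).2 (Commute.refl _)
  have b2 : ∀ y ∈ Y, Commute y (x * z * x) → D.B (v z + H x z • v x) (v y) = 0 := fun y hy c => by
    by_cases q : y = x * z * x
    · exact q ▸ b1
    obtain ⟨m, hm, c'⟩ := U.r.one U.v he ⟨hy, q, c.symm⟩ U.hd
    exact U.sub R he de ⟨hy, q, c.symm⟩ hm (fun e => de (e ▸ c')) b1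
      ((ag m hm.1 c').2 (Ln.comm he ⟨hy, q, c.symm⟩ hm (Ln.left he)))
  have b3 : D.B (v z + H x z • v x) (v w) = 0 ↔ Commute w (x * z * x) := ⟨fun b => by_contra fun q => by
    have := U.r.conn U.v he (P := fun y => D.B (v z + H x z • v x) (v y) = 0) (fun y hy y' hy' a a' b => by
      obtain ⟨m, hm, c'⟩ := U.r.one U.v hy hy' he
      exact U.sub R hy (fun c => a ((ag y hy c).1 b).symm) hy' hm (fun e => a (e ▸ c')) b (b2 m hm.1 c'.symm)) hw hx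
      (q ·.symm) (c1 ·.symm) b
    simp only [D.B_add_left, D.B_smul_left, R.B hz hx, R.B hx hx, hh_0 (Commute.refl x), mul_zero, add_zero] at this
    exact U.hh_ne hz hx (n1 ·.symm) this, b2 w hw⟩
  rw [← b3, D.eq_zero_comm, D.B_add_right, D.B_smul_right, R.B hw hz, R.B hw hx, U.hg.sq hw hz]
  have := U.hg.cube hw hz (n2 ·.symm)
  grind

omit R in
theorem um : ∃ (n : ℕ) (D : Form U.s.kind (Fin n → F)) (τ : (Fin n → F) → G), D.Nondeg ∧ 4 ≤ n ∧ UM D Y τ := by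
  obtain ⟨n, D, v, h1, h2, h3⟩ := gramH U.s Y H fun _ hx _ hy => U.hh_symm hx hy
  have R : UR Y H D v := ⟨U.hg, h1, h2, fun hx hy => h3 _ hx _ hy⟩
  have p := U.pAll R
  obtain ⟨τ, T⟩ := R.um p U.r.toVW fun x hx y hy c => by
    obtain ⟨m, hm⟩ := U.r.dd d U.hd
    obtain ⟨k, hk, rfl, rfl⟩ := U.r.tr_dd U.hd hx hm hy
    obtain ⟨φ, hφ⟩ := R.act p hk
    obtain ⟨a, a0, a1⟩ := hφ d U.hd
    obtain ⟨b, b0, b1⟩ := hφ m hm.1
    obtain ⟨q, hq, e⟩ := U.lab hm (c * a / b)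
    obtain ⟨r, r0, r1⟩ := hφ q hq.1.1
    refine ⟨_, U.r.tt.conj_mem hk hq.1.1, b / r, ?_⟩
    rw [a1, b1, r1, U.lnD R hm hq, e, smul_smul, smul_smul, div_mul_cancel₀ _ r0, map_add, map_smul, smul_add, smul_smul,
      mul_div_cancel₀ _ b0]
  refine ⟨n, D, τ, h1, ?_, T⟩
  obtain ⟨m, hm⟩ := U.r.dd d U.hd
  obtain ⟨a, ha, rfl⟩ := T.surj d U.hd
  obtain ⟨b, hb, rfl⟩ := T.surj m hm.1
  obtain ⟨q1, q2⟩ := (T.mem_Dd ha hb).1 hm
  have li : LinearIndependent F ![a, b] := (LinearIndependent.pair_iff' ha.1).2 fun c e => q2 ⟨c, e.symm⟩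
  have k1 := finrank_span_eq_card li
  have k2 := h1.finrank_perp (Submodule.span _ (Set.range ![a, b]))
  have k3 : Submodule.span _ (Set.range ![a, b]) ≤ D.perp (Submodule.span _ (Set.range ![a, b])) := by
    refine Submodule.span_le.2 ?_
    rintro _ ⟨i, rfl⟩
    refine D.mem_perp_span.2 ?_
    rintro _ ⟨j, rfl⟩
    fin_cases i <;> fin_cases j <;> simp [ha.B, hb.B, q1, D.eq_zero_symm q1]
  have := Submodule.finrank_mono k3
  simp only [Fintype.card_fin, Module.finrank_fin_fun] at k1 k2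
  omega

end UD

/-- Unitary type of dimension `n`. -/
def TU' (Y : Set G) (n : ℕ) : Prop :=
  ∃ (F : Type) (_ : Field F) (σ : F →+* F) (h : IsConj σ 2) (τ : (Fin n → F) → G), UM (stdHerm h (Fin n)) Y τ

theorem UM.iso {h : IsConj σ 2} {V W : Type*} [AddCommGroup V] [Module F V] [AddCommGroup W] [Module F W] {D : Form h.kind V}
    {E : Form h.kind W} {τ : V → G} (T : UM D Y τ) (i : E.Iso D) : ∃ τ', UM E Y τ' := by
  obtain ⟨e, he⟩ := i
  have k : ∀ u, Is E u ↔ Is D (e u) := fun u => by simp [Is, he.Q_map]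
  refine ⟨fun u => τ (e u), fun u hu => T.mem _ ((k u).1 hu), fun x hx => ?_, fun u hu => T.sq _ ((k u).1 hu),
    fun u hu => T.ne_one _ ((k u).1 hu), fun u w hu hw => ?_, fun u w hu hw => ?_⟩
  · obtain ⟨u, hu, rfl⟩ := T.surj x hx; exact ⟨e.symm u, (k _).2 (by simpa), by simp⟩
  · rw [T.conj _ _ ((k u).1 hu) ((k w).1 hw)]; simp [tvF, he.B_map]
  · simp only [T.eq_iff _ _ ((k u).1 hu) ((k w).1 hw), ← map_smul, e.injective.eq_iff]

theorem R3.v_cases [Finite G] (h : R3 Y) {d y y' : G} (hd : d ∈ Y) (hy : y ∈ Dd Y d) (hy' : y' ∈ Dd Y d)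
    (hn : y ≠ y') (r : RV (Dd Y d) y y') : TSp Y ∨ ∃ n, 4 ≤ n ∧ TU' Y n := by
  have hV := h.vc_of_v hd hy hy' hn r
  by_cases h3 : ∀ a ∈ Y, ∀ b ∈ Dd Y a, ∀ z ∈ Ln Y a b, ∀ z' ∈ Ln Y a b, z ≠ a → z ≠ b → z' = a ∨ z' = b ∨ z' = z
  · exact Or.inl (h.tsp_of_v (h.symp_of_three hV h3) hd hy hy' hn r)
  push Not at h3
  obtain ⟨a, ha, b, hb, z, hz, z', hz', n1, n2, n3, n4, n5⟩ := h3
  have := Fintype.ofFinite (GaloisField 2 2)
  obtain ⟨σ, s⟩ := isConj_of_card (F := GaloisField 2 2) (q := 2) (by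
    rw [← Nat.card_eq_fintype_card, GaloisField.card 2 2 (by norm_num)])
  obtain ⟨ℓ, l1, l2⟩ := (h.tt.dd d).labels s (h.tdd d hd) (fun a ha => h.nc_dd hd ha) fun y hy => by
    obtain ⟨g, hg, rfl, rfl⟩ := h.tr_dd ha hd hb hy
    obtain ⟨e, he, e1, e2, e3, e4, e5⟩ := h.five hV hd hy (h.tt.ln_conj hg hz) (h.tt.ln_conj hg hz') (by simpa) (by simpa)
      (by simpa) (by simpa) (by simpa)
    have k : ∀ p ∈ Ln Y (g * a * g⁻¹) (g * b * g⁻¹), p ≠ g * a * g⁻¹ → p ∈ cl (Dd Y (g * a * g⁻¹)) (g * b * g⁻¹) :=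
      fun p hp q => ⟨Ln.dd hd hy (Ln.left hd) hp q, h.rv_of_ln hd hy hp q⟩
    refine Set.ncard_eq_four.2 ⟨g * b * g⁻¹, g * z * g⁻¹, g * z' * g⁻¹, e, by simpa using n2.symm, by simpa using n4.symm, e2.symm,
      by simpa using n5.symm, e3.symm, e4.symm, Set.ext fun p => ⟨fun hp => (e5 p (R3.ln_of_rv hp.1 hp.2)).resolve_left hp.1.2.1, ?_⟩⟩
    rintro (rfl | rfl | rfl | rfl)
    exacts [cl.self hy, k _ (h.tt.ln_conj hg hz) (by simpa), k _ (h.tt.ln_conj hg hz') (by simpa), k _ he e1]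
  obtain ⟨n, D, τ, h1, h2, T⟩ := UD.um ⟨s, h, hV, hd, l1, l2⟩
  exact Or.inr ⟨n, h2, _, _, σ, s, T.iso (Herm.iso_std h1 (by simp)).symm⟩

theorem UM.corr {K : Type*} [Group K] {Z : Set K} {h : IsConj σ 2} {V : Type*} [AddCommGroup V] [Module F V] {D : Form h.kind V}
    {τ : V → G} {τ' : V → K} (T : UM D Y τ) (T' : UM D Z τ') : ∃ ρ, Corr Y Z ρ :=
  ⟨_, Corr.of_param (P := Is D) T.tt T'.tt (fun x => ⟨T.surj x, fun ⟨u, a, e⟩ => e ▸ T.mem u a⟩)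
    (fun x => ⟨T'.surj x, fun ⟨u, a, e⟩ => e ▸ T'.mem u a⟩) (fun u w a b => (T.eq_iff u w a b).trans (T'.eq_iff u w a b).symm)
    fun u w a b => ⟨_, a.tv b, (T.conj u w a b).symm, (T'.conj u w a b).symm⟩⟩

theorem TU'.iso {n : ℕ} (T : TU' Y n) (hn : 4 ≤ n) (h1 : closure Y = ⊤) (h2 : center G = ⊥) :
    ∃ (F : Type) (_ : Field F) (_ : Fintype F), Fintype.card F = 4 ∧ ∃ e : G ≃* PSU n F 2, e '' Y =
      (QuotientGroup.mk : SU n F 2 → PSU n F 2) '' {g : SU n F 2 | ((g.1 : Matrix (Fin n) (Fin n) F) - 1).rank = 1} := by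
  obtain ⟨F, _, σ, h, τ, U⟩ := T
  have := h.finite
  have := Fintype.ofFinite F
  have hD := stdHerm_nondeg h (Fin n)
  have V := um_tP hD (by simp; omega)
  obtain ⟨ρ, C⟩ := U.corr V
  have hs := (Herm.normal_and_simple hD (by simp; omega) (by simp; omega)).2
  obtain ⟨a, ha⟩ := (V.vw hD (by simpa)).ne
  obtain ⟨b, hb, hn⟩ := (V.vw hD (by simpa)).nc a ha
  obtain ⟨e, he⟩ := C.iso h1 h2 (by
    have : (closure {x | ∃ v, Is (stdHerm h (Fin n)) v ∧ tP (stdHerm h (Fin n)) v = x}).Normal := by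
      refine normal_closure_of_conj ?_
      rintro g _ ⟨v, hv, rfl⟩
      obtain ⟨g, rfl⟩ := QuotientGroup.mk_surjective g
      exact ⟨g.1.1 v, ⟨by simpa using hv.1, by rw [Form.Q_isom, hv.2]⟩, by
        rw [tP, ← tS_conj g hv.2]; rfl⟩
    exact (hs.eq_bot_or_eq_top_of_normal _ this).resolve_left fun e =>
      V.tt.ne_one ha (mem_bot.1 (e ▸ subset_closure ha)))
    ((hs.eq_bot_or_eq_top_of_normal _ inferInstance).resolve_right fun e => hn (mem_center_iff.1 (e ▸ mem_top b) a))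
  refine ⟨F, _, _, by rw [← Nat.card_eq_fintype_card, h.card]; rfl, e.trans (psuEquiv h n).symm, ?_⟩
  have k : ∀ g : SU n F 2, ((g.1 : Matrix (Fin n) (Fin n) F) - 1).rank = 1 ↔
      ∃ v, Is (stdHerm h (Fin n)) v ∧ tS (stdHerm h (Fin n)) v = suEquiv h n g := fun g => by
    rw [rank_eq_supp (M := (g.1 : Matrix (Fin n) (Fin n) F)) (g := (suEquiv h n g).1.1) fun _ => rfl, supp_rk1 hD]
    refine ⟨fun ⟨p, c, hc, hp, c0, e⟩ => ?_, fun ⟨v, hv, e⟩ => ⟨v, 1, isRk1_one hv.2, hv.1, one_ne_zero, by simp [← e, tS, hv.2]⟩⟩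
    have d := Form.det_rk1 p c hc
    rw [e, (suEquiv h n g).2, Units.val_one, left_eq_add, mul_eq_zero, or_iff_right c0, ← Q_eq] at d
    have : c = 1 := (F4.fixed h ((F4.add_zero_iff h).1 (by simpa [Form.IsRk1, d] using hc)).symm).resolve_left c0
    exact ⟨p, ⟨hp, d⟩, Subtype.ext (by simp [← e, tS, d, this])⟩
  rw [MulEquiv.coe_trans, Set.image_comp, he]
  ext x
  constructor
  · rintro ⟨_, ⟨v, hv, rfl⟩, rfl⟩
    exact ⟨(suEquiv h n).symm (tS _ v), (k _).2 ⟨v, hv, by simp⟩, (psuEquiv h n).eq_symm_apply.2 (by simp [psuEquiv, tP])⟩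
  · rintro ⟨g, hg, rfl⟩
    obtain ⟨v, hv, e⟩ := (k g).1 hg
    exact ⟨_, ⟨v, hv, rfl⟩, (psuEquiv h n).symm_apply_eq.2 (by simp [psuEquiv, tP, e])⟩

end Cfsg.Lib.Known2
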