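import Cfsg.Agent.Lib.Known2.Fus

/-! From the centralizer of an involution to a class of 3-transpositions. -/

set_option autoImplicit false
set_option linter.unusedSectionVars false

namespace Cfsg.Lib.Known2

open Subgroup Cfsg.Lib.Comp Cd Cfsg.Lib.Fi

universe u

variable {G : Type u} [Group G] {D X Y E F : Set G} {r k : ℕ} {c : ℕ → ℕ}

theorem U6.cover (h : U6 X) (hE : Hyp X E) {v : G} (hv : v ∈ X) : ∃ z ∈ E, Commute z v := by
  obtain ⟨t, H, ex⟩ := h.exists_ex1 hE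
  obtain ⟨n, hn, rfl⟩ := H.surj hv
  have := allN_iff.1 ex1 n (iso_lt hn)
  simp only [exB, hn, Bool.or_eq_true, Bool.not_true, Bool.false_eq_true, false_or, List.any_eq_true, Bool.and_eq_true,
    beq_tt, badB] at this
  rcases this with a | ⟨u, hu, a, l, -, b, -⟩
  · exact ⟨_, (ex n hn).2 a, Commute.refl _⟩
  · have := (by decide +kernel : ∀ u ∈ EU1, iso u = true) u hu
    exact ⟨_, (ex u this).2 b.2.2.1, (H.comm_iff this hn).2 a⟩

theorem PF.cover {N : ℕ} {nets : List Net} {L : List ℕ} {n : ℕ} {LP : ℕ → ℕ} {γ s : ℕ → G} (H : PF N nets L n LP Y γ s)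
    (hF : TT F) {LF o1 o2 : List ℕ} {a b : ℕ} (h1 : ∀ x ∈ LF, γ x ∈ F) (ha : γ a ∈ F) (hb : Commute (γ a) (γ b))
    (h : (subB (a :: LF) L && subB o1 LF && (subB (b :: LF) L && subB o2 LF) && Nat.beq (Nat.land (ones n) (Nat.lor
      (orb nets o1 (Nat.shiftLeft 1 (LP a))) (orb nets o2 (Nat.shiftLeft 1 (LP b))))) (ones n)) = true) {v : G} (hv : v ∈ Y) :
    ∃ z ∈ F, Commute z v := by
  rw [Bool.and_eq_true, Bool.and_eq_true, beq_tt] at h
  obtain ⟨p, hp, rfl⟩ := H.surj v hv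
  have e := congrArg (fun a => Nat.testBit a p) h.2
  simp only [land_eq', lor_eq', Nat.testBit_and, Nat.testBit_or, testBit_ones, hp, decide_true, Bool.true_and,
    Bool.or_eq_true] at e
  have m : cl γ LF ≤ closure F := cl_le.2 fun x hx => subset_closure (h1 x hx)
  rcases e with e | e
  · obtain ⟨-, k, a, b⟩ := H.orb_conj h.1.1 e
    exact ⟨_, hF.conj_mem (m a) ha, b ▸ Commute.refl _⟩
  · obtain ⟨-, k, a, b⟩ := H.orb_conj h.1.2 e
    exact ⟨_, hF.conj_mem (m a) ha, b ▸ commute_conj_conj_iff.2 hb⟩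

theorem T22.cover [Finite G] (h : T22 Y) (hF : Hyp2 Y F) {v : G} (hv : v ∈ Y) : ∃ z ∈ F, Commute z v := by
  obtain ⟨γ, s, t, M⟩ := h.exists_fm
  obtain ⟨g, hg, c | c⟩ := M.hyp2 hF
  · exact (M.conj hg).pf.cover (hF.tt h.1.tt) c.1 (c.1 1 (by decide)) ((M.conj hg).cox.comm (y := 7) (by decide))
      (o1 := [2,3,4,5,6,8,9,1,2,3,4,5,8,3,4,5,6,8,9,2,3,4,5,6,8,2,3,4,5,1])
      (o2 := [6,5,4,8,9,3,4,5,6,8,2,3,4,5,6,8,9,1,2,3,4,5,6,8,9,2,3,4,5,6,8,9,1,2,3,4,5,6,8,9,1,2]) (by decide +kernel) hv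
  · exact (M.conj hg).pf.cover (hF.tt h.1.tt) c.1 (c.1 7 (by decide)) ((M.conj hg).cox.comm (y := 1) (by decide))
      (o1 := [6,7,5,6,4,5,8,9,3,4,5,6,8,2,3,4,5,6,7,8,9,3,4,5,6,8,9,2])
      (o2 := [2,3,4,5,6,7,8,9,4,5,6,8,3,4,5,6,7,8,9,2,3,4,5,6,7,8,9,2,3,4,5,6,7,8,9,2,3,4,5]) (by decide +kernel) hv

theorem R3.eq_of_sub (h : R3 X) {a b : G} (ha : a ∈ X) (hb : b ∈ X) (hs : ∀ e ∈ X, Commute a e → Commute b e) : a = b := by
  by_contra n
  have c := hs a ha (Commute.refl a)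
  obtain ⟨g, hg, e1, e2⟩ := h.tr_dd ha hb ⟨hb, Ne.symm n, c.symm⟩ ⟨ha, n, c⟩
  refine n (h.rv a ha b hb fun e he => ⟨hs e he, fun a => ?_⟩)
  rw [← e2, commute_conj_left_iff]
  exact hs _ (by simpa using h.tt.conj_mem (inv_mem hg) he) (commute_conj_left_iff.1 (e1 ▸ a))

theorem conj_conj' (g k x : G) : g * (k * x * k⁻¹) * g⁻¹ = g * k * x * (g * k)⁻¹ := by group

theorem TT.sq_mul' (h : TT D) {a b : G} (ha : a ∈ D) (hb : b ∈ D) (c : Commute a b) : a * b * (a * b) = 1 := by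
  rw [c.symm.mul_mul_mul_comm, h.sq ha, h.sq hb, mul_one]

theorem dih [Finite G] {a b : G} (ha : a * a = 1) (hb : b * b = 1) : (∃ m : ℕ, (a * b) ^ m * b * ((a * b) ^ m)⁻¹ = a) ∨
    ∃ m : ℕ, (a * b) ^ (m + 1) ≠ 1 ∧ (a * b) ^ (m + 1) * (a * b) ^ (m + 1) = 1 ∧ Commute a ((a * b) ^ (m + 1)) ∧
      Commute b ((a * b) ^ (m + 1)) ∧ a * (a * b) ^ (m + 1) = b * (a * b) ^ m := by
  rcases Nat.even_or_odd' (orderOf (a * b)) with ⟨_ | m, e | e⟩
  · exact absurd e (orderOf_pos _).ne'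
  · exact Or.inl (conj_of_odd_orderOf ha hb ⟨0, e⟩)
  · have := e ▸ pow_orderOf_eq_one (a * b)
    exact Or.inr ⟨m, pow_ne_one_of_lt_orderOf (by omega) (by omega), by rw [← pow_add, ← two_mul, this],
      commute_half_left ha hb _ this, commute_half_right ha hb _ this, by rw [pow_succ', ← mul_assoc, ← mul_assoc, ha, one_mul]⟩
  · exact Or.inl (conj_of_odd_orderOf ha hb ⟨_, e⟩)

theorem midpoint [Finite G] (sq : ∀ a ∈ D, a * a = 1) (cj : ∀ g, ∀ a ∈ D, g * a * g⁻¹ ∈ D)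
    (h : ∀ a ∈ D, ∀ b ∈ D, Commute a b → a = b) {e x y : G} (he : e * e = 1) (hx : ∀ s ∈ D, Commute e s → s = x)
    (hy : y ∈ D) : e * y * e⁻¹ = x * y * x⁻¹ := by
  have hz := cj e y hy
  have e1 : e * (e * y * e⁻¹) * e⁻¹ = y := by rw [← mul_assoc, ← mul_assoc, he, one_mul, mul_assoc, ← mul_inv_rev, he]; simp
  generalize e0 : e * y * e⁻¹ = z at *
  have p := orderOf_pos (y * z)
  have a := pow_orderOf_eq_one (y * z)
  have k : ∀ m, z * (y * z) ^ m = y * (y * z) ^ (m + 1) := fun m => by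
    rw [pow_succ', ← mul_assoc, ← mul_assoc, sq y hy, one_mul]
  rcases Nat.even_or_odd' (orderOf (y * z)) with ⟨m, e2 | e2⟩ <;> rw [e2] at a
  · obtain ⟨m, rfl⟩ : ∃ n, m = n + 1 := ⟨m - 1, by omega⟩
    exact absurd (left_eq_mul.1 (h y hy _ (k m ▸ palindrome_mem sq cj m y hy z hz) ((Commute.refl y).mul_right
      (commute_half_left (sq y hy) (sq z hz) _ a)))) (pow_ne_one_of_lt_orderOf (by omega) (by omega))
  have i : z * y = (y * z)⁻¹ := by rw [mul_inv_rev, inv_eq_of_mul_eq_one_right (sq y hy), inv_eq_of_mul_eq_one_right (sq z hz)]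
  have b : (z * y) ^ m = (y * z) ^ (m + 1) := by rw [i, inv_pow, inv_eq_iff_mul_eq_one, ← pow_add, ← a]; congr 1; omega
  rw [← hx _ (palindrome_mem sq cj m z hz y hy) (conj_eq_self_iff.1 (by
    rw [← conj_mul, ← conj_pow, ← conj_mul, e0, e1, k, b])), b]
  conv_rhs => lhs; rw [invol_mul_pow (sq y hy) (sq z hz), mul_assoc, sq y hy, mul_one]
  rw [← mul_inv_rev, mul_assoc, ← pow_add, show m + 1 + (m + 1) = 2 * m + 1 + 1 by omega, pow_succ, a, one_mul, ← mul_assoc,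
    sq y hy, one_mul, inv_eq_of_mul_eq_one_right (sq z hz)]

/-- The local hypotheses on a class of involutions. -/
structure LocG (D : Set G) : Prop where
  conj : ∀ g, ∀ a ∈ D, g * a * g⁻¹ ∈ D
  loc : ∀ a ∈ D, R3 (Dd D a)
  cen : ∀ a ∈ D, closure (Dd D a) = centralizer {a}
  ctr : ∀ a ∈ D, ∀ z, (∀ y ∈ Dd D a, Commute z y) → z = 1 ∨ z = a
  dia : ∀ x ∈ D, ∀ y ∈ D, ¬ Commute x y → (∃ w ∈ Dd D y, Commute x w) → ∀ v ∈ Dd D y, ∃ z ∈ Dd D y, Commute x z ∧ Commute z v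

/-- The component of the commuting graph. -/
def Cm (D : Set G) (a : G) : Set G := {b | b ∈ D ∧ ∃ w ∈ D, Commute a w ∧ Commute w b}

theorem mem_Dd_of_nc {a b w : G} (ha : a ∈ D) (n : ¬ Commute a b) (h1 : Commute a w) (h2 : Commute w b) : a ∈ Dd D w :=
  ⟨ha, fun e => n (e ▸ h2), h1.symm⟩

theorem Cm.self {a : G} (ha : a ∈ D) : a ∈ Cm D a := ⟨ha, a, ha, Commute.refl a, Commute.refl a⟩
theorem Cm.symm {a b : G} (ha : a ∈ D) (h : b ∈ Cm D a) : a ∈ Cm D b := ⟨ha, h.2.imp fun _ x => ⟨x.1, x.2.2.symm, x.2.1.symm⟩⟩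

namespace LocG

variable (h : LocG D) {a : G} (ha : a ∈ D)
include h

theorem step {b v : G} (ha : a ∈ D) (hb : b ∈ Cm D a) (hv : v ∈ D) (hc : Commute b v) : v ∈ Cm D a := by
  by_cases c : Commute a b
  · exact ⟨hv, b, hb.1, c, hc⟩
  by_cases e : v = b
  · exact e ▸ hb
  obtain ⟨w, a1, a2, a3⟩ := hb.2
  obtain ⟨z, b1, b2⟩ := h.dia a ha b hb.1 c ⟨w, ⟨a1, fun e => c (e ▸ a2), a3.symm⟩, a2⟩ v ⟨hv, e, hc⟩
  exact ⟨hv, z, b1.1, b2⟩

include ha

theorem eq {b : G} (hb : b ∈ Cm D a) : Cm D b = Cm D a :=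
  have k : ∀ {a b}, a ∈ D → b ∈ Cm D a → Cm D b ⊆ Cm D a := fun ha hb _ ⟨a1, _, a2, a3, a4⟩ =>
    h.step ha (h.step ha hb a2 a3) a1 a4
  (k ha hb).antisymm (k hb.1 (Cm.symm ha hb))

theorem dd {b : G} (hb : b ∈ Cm D a) : Dd (Cm D a) b = Dd D b :=
  Set.ext fun _ => ⟨fun x => ⟨x.1.1, x.2⟩, fun x => ⟨h.step ha hb x.1 x.2.2, x.2⟩⟩

theorem ord : orderOf a = 2 := by
  obtain ⟨w, hw⟩ := (h.loc a ha).ne
  exact (h.loc w hw.1).tt.set.1 a (mem_Dd_comm ha hw)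

theorem sq : a * a = 1 := by rw [← _root_.sq, ← h.ord ha, pow_orderOf_eq_one]

theorem tt : TT (Cm D a) := by
  have k : ∀ x ∈ Cm D a, ∀ y ∈ Cm D a, ¬ Commute x y → ∃ w ∈ Cm D a, x ∈ Dd D w ∧ y ∈ Dd D w := fun x hx y hy n => by
    obtain ⟨w, a1, a2, a3⟩ := (h.eq ha hx ▸ hy :).2
    exact ⟨w, h.step ha hx a1 a2, mem_Dd_of_nc hx.1 n a2 a3, mem_Dd_of_nc hy.1 (fun e => n e.symm) a3.symm a2.symm⟩
  refine ⟨⟨fun x hx => h.ord hx.1, fun x hx y hy => ?_⟩, fun x hx y hy => ?_⟩ <;> by_cases n : Commute x y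
  · left; rw [n.mul_pow, _root_.sq, _root_.sq, h.sq hx.1, h.sq hy.1, mul_one]
  · obtain ⟨w, a1, a2, a3⟩ := k x hx y hy n
    exact (h.loc w a1.1).tt.set.2 x a2 y a3
  · rwa [n.eq, mul_assoc, h.sq hx.1, mul_one]
  · obtain ⟨w, a1, a2, a3⟩ := k x hx y hy n
    exact (h.dd ha a1 ▸ (h.loc w a1.1).tt.conj x a2 y a3 :).1

theorem vw : VW (Cm D a) := by
  have dd : ∀ x ∈ Cm D a, ∃ w, w ∈ Dd (Cm D a) x := fun x hx => h.dd ha hx ▸ (h.loc x hx.1).ne
  refine ⟨h.tt ha, ⟨a, Cm.self ha⟩, fun x hx y hy e => ?_, fun x hx y hy e => ?_, fun x hx => ?_, dd⟩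
  · by_contra n
    obtain ⟨z, a1, a2⟩ := (h.loc x hx.1).nc y ⟨hy.1, Ne.symm n, e.commute hy⟩
    exact a2 ((e z (h.step ha hx a1.1 a1.2.2)).1 a1.2.2)
  · obtain ⟨w, hw⟩ := dd x hx
    refine (h.loc w hw.1.1).rw x (mem_Dd_comm hx.1 (h.dd ha hx ▸ hw)) y (mem_Dd_comm hy.1 (h.dd ha hy ▸ e.mem hw)) ?_
    rw [RW, ← h.dd ha hw.1, Dd_comm, Dd_comm (x := w), show Dd (Cm D a) x = _ from e]
  · obtain ⟨w, hw⟩ := dd x hx
    obtain ⟨z, a1, a2⟩ := (h.loc w hw.1.1).nc x (mem_Dd_comm hx.1 (h.dd ha hx ▸ hw))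
    exact ⟨z, h.step ha hw.1 a1.1 a1.2.2, a2⟩

theorem common {x y : G} (hx : x ∈ Cm D a) (hy : y ∈ Cm D a) (n : ¬ Commute x y) :
    ∃ w ∈ Cm D a, Commute x w ∧ Commute w y :=
  let ⟨w, a1, a2⟩ := (h.eq ha hx ▸ hy :).2; ⟨w, h.step ha hx a1 a2.1, a2⟩

theorem tr {x y : G} (hx : x ∈ Cm D a) (hy : y ∈ Cm D a) : ∃ g ∈ closure (Cm D a), g * x * g⁻¹ = y := by
  by_cases e : y = x
  · exact ⟨1, one_mem _, by simp [e]⟩
  obtain ⟨w, a1, a2, a3⟩ : ∃ w ∈ Cm D a, x ∈ Dd D w ∧ y ∈ Dd D w := by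
    by_cases n : Commute x y
    · obtain ⟨w, hw⟩ := (h.loc x hx.1).dd y ⟨hy.1, e, n⟩
      exact ⟨w, h.step ha hx hw.1.1 hw.1.2.2, mem_Dd_comm hx.1 hw.1, mem_Dd_comm hy.1 ⟨hw.1.1, hw.2⟩⟩
    · obtain ⟨w, a1, a2, a3⟩ := h.common ha hx hy n
      exact ⟨w, a1, mem_Dd_of_nc hx.1 n a2 a3, mem_Dd_of_nc hy.1 (fun e => n e.symm) a3.symm a2.symm⟩
  obtain ⟨g, b1, b2⟩ := (h.loc w a1.1).tr x a2 y a3
  exact ⟨g, closure_mono (h.dd ha a1 ▸ Dd_subset _ w) b1, b2⟩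

theorem r3 [Finite G] : R3 (Cm D a) := R3.of_vw (h.vw ha) (fun _ hx _ => h.tr ha hx) fun _ hx _ => h.common ha hx

theorem mem_of_conj {g : G} (hg : g * a * g⁻¹ ∈ Cm D a) : g ∈ closure (Cm D a) := by
  obtain ⟨x, a1, a2⟩ := h.tr ha (Cm.self ha) hg
  have : x⁻¹ * g ∈ closure (Dd D a) := by
    rw [h.cen a ha, mem_centralizer_singleton_iff]
    calc _ = x⁻¹ * (g * a * g⁻¹) * g := by group
      _ = _ := by rw [← a2]; group
  exact (mul_mem_cancel_left (inv_mem a1)).1 (closure_mono (h.dd ha (Cm.self ha) ▸ Dd_subset _ a) this)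

theorem center : center (closure (Cm D a)) = ⊥ := (eq_bot_iff_forall _).2 fun z hz => by
  have k : ∀ y ∈ Cm D a, Commute (z : G) y := fun y hy =>
    (congrArg Subtype.val (mem_center_iff.1 hz ⟨y, subset_closure hy⟩)).symm
  obtain ⟨y, a1, a2⟩ := (h.vw ha).nc a (Cm.self ha)
  exact Subtype.ext ((h.ctr a ha z fun y hy => k y (h.step ha (Cm.self ha) hy.1 hy.2.2)).resolve_right fun e => a2 (e ▸ k y a1))

theorem pair_unique {x y z : G} (hx : x ∈ Dd D a) (hy : y ∈ Cm D a) (hz : z ∈ Dd D y) (e : a * x = y * z) : y = a ∨ y = x := by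
  have T := h.tt ha
  have x1 := h.step ha (Cm.self ha) hx.1 hx.2.2
  have k1 := fun {e} he => T.commute_mul_iff (e := e) (Cm.self ha) x1 he hx.2.1.symm hx.2.2
  have c := (k1 hy).1 (e ▸ (Commute.refl y).mul_right hz.2.2)
  refine or_iff_not_imp_left.2 fun n => ((h.loc a ha).eq_of_sub hx ⟨hy.1, n, c.1.symm⟩ fun w hw b => ?_).symm
  have w1 := h.step ha (Cm.self ha) hw.1 hw.2.2
  exact ((T.commute_mul_iff hy (h.step ha hy hz.1 hz.2.2) w1 hz.2.1.symm hz.2.2).1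
    (e ▸ (k1 w1).2 ⟨hw.2.2.symm, b.symm⟩)).1.symm

end LocG

/-- Every involution lies in a base group. -/
def MBs (D : Set G) (r k : ℕ) (c : ℕ → ℕ) : Prop :=
  ∀ u ∈ closure D, u * u = 1 → ∃ b, BM D r k c b ∧ u ∈ closure (Bs b r)

theorem BM.comm_of_mem {b : ℕ → G} (B : BM D r k c b) {u : G} (hu : u ∈ closure (Bs b r)) {i : ℕ} (hi : i < r) :
    Commute (b i) u := B.le_cent hu _ ⟨i, hi, rfl⟩

/-- Elements of the base group which are not products of two members are separated by the base. -/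
noncomputable def glB (r k : ℕ) (c : ℕ → ℕ) (l : List ℕ) : Bool :=
  odB r c l && mapK c (List.range r) fun L => force (msk L) fun M => force (msk (L.flatMap fun x => L.map (Nat.xor x))) fun P =>
    allN (2 ^ k) fun m => cnd (bt M m) true (cnd (bt P m) true
      ((L.any fun x => bt P (Nat.xor m x)) && L.any fun x => !bt P (Nat.xor m x)))

namespace LocG

variable [Finite G] (h : LocG D) (hM : ∀ a ∈ D, MBs (Cm D a) r k c) {l : List ℕ} (hl : odB r c l = true) {a : G} (ha : a ∈ D)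
include h hM hl ha

theorem mem_of_fix {e : G} (he : e ∈ D) (hg : e * a * e⁻¹ ∈ Cm D a) : e ∈ Cm D a := by
  obtain ⟨b, B, m⟩ := hM a ha e (h.mem_of_conj ha hg) (h.sq he)
  obtain ⟨a1, -, a2⟩ := B.rel hl
  obtain _ | ⟨i, l⟩ := l
  · simp at a2
  exact h.step ha (B.mem i (a1 i List.mem_cons_self).2) he (B.comm_of_mem m (a1 i List.mem_cons_self).2)

theorem fix_of_comm {x g : G} (hx : x ∈ Dd D a) (hg : Commute g (a * x)) : g * a * g⁻¹ ∈ Cm D a := by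
  have x1 := h.step ha (Cm.self ha) hx.1 hx.2.2
  have ax : a * (a * x) = x := by rw [← mul_assoc, h.sq ha, one_mul]
  obtain ⟨b, B, m⟩ := hM a ha (a * x) (mul_mem (subset_closure (Cm.self ha)) (subset_closure x1))
    ((h.tt ha).sq_mul' (Cm.self ha) x1 hx.2.2)
  have o : orderOf (a * x) = 2 := orderOf_eq_prime ((_root_.sq _).trans ((h.tt ha).sq_mul' (Cm.self ha) x1 hx.2.2)) fun e =>
    hx.2.1 (by rw [← ax, e, mul_one])
  have c1 : Commute a (a * x) := (Commute.refl a).mul_right hx.2.2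
  generalize a * x = u at *
  have : ((zpowers u).subgroupOf (centralizer {u})).Normal := normal_subgroupOf_of_le_normalizer (by
    rw [← Core.centralizer_zpowers]; exact centralizer_le_normalizer _)
  have V := cov_mk o
  generalize QuotientGroup.mk' ((zpowers u).subgroupOf (centralizer {u})) = π at V
  set S : Set (centralizer {u}) := {y | (y : G) ∈ D ∧ y * u ∈ D}
  have u1 : u ≠ 1 := fun e => by simp [e] at o
  have dd : ∀ y ∈ S, y * u ∈ Dd D y := fun y hy =>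
    ⟨hy.2, by simpa using u1, (Commute.refl _).mul_right (mem_centralizer_singleton_iff.1 y.2)⟩
  have eq : ∀ y ∈ S, ∀ z : centralizer {u}, π z = π y → (z : G) ∈ Cm D y := fun y hy z e => by
    rcases V.eq_iff.1 e with rfl | rfl
    exacts [Cm.self hy.1, h.step hy.1 (Cm.self hy.1) hy.2 (dd y hy).2.2]
  have fx : ∀ y ∈ S, ∀ e : centralizer {u}, (e : G) ∈ D → Commute (π e) (π y) → (e : G) ∈ Cm D y := fun y hy e he c =>
    h.mem_of_fix hM hl hy.1 he (eq y hy (e * y * e⁻¹) (by simpa using conj_eq_self_iff.2 c))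
  have un : ∀ y ∈ S, ∀ z ∈ S, (z : G) ∈ Cm D y → π z = π y := fun y hy z hz m => V.eq_iff.2 ((h.pair_unique hy.1 (dd y hy) m
    (dd z hz) (by rw [← mul_assoc, ← mul_assoc, h.sq hy.1, h.sq hz.1])).imp Subtype.ext Subtype.ext)
  have cj : ∀ g, ∀ y ∈ S, g * y * g⁻¹ ∈ S := fun g y hy => ⟨h.conj g y hy.1, by
    convert h.conj g _ hy.2 using 1
    simp only [coe_mul, coe_inv, mul_assoc, mem_centralizer_singleton_iff.1 (inv_mem g.2)]⟩
  let a' : centralizer {u} := ⟨a, mem_centralizer_singleton_iff.2 c1⟩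
  have a1 : a' ∈ S := ⟨ha, ax ▸ hx.1⟩
  have y1 := cj ⟨g, mem_centralizer_singleton_iff.2 hg⟩ a' a1
  refine eq a' a1 (⟨g, mem_centralizer_singleton_iff.2 hg⟩ * a' * (⟨g, mem_centralizer_singleton_iff.2 hg⟩)⁻¹) ?_
  generalize (⟨g, mem_centralizer_singleton_iff.2 hg⟩ : centralizer {u}) * a' * _ = y at y1
  obtain ⟨l1, l2, l3⟩ := B.rel hl
  have k : ∀ L : List (centralizer {u}), (∀ e ∈ L, (e : G) ∈ Cm D a) → ∀ y ∈ S,
      π L.prod * π y * (π L.prod)⁻¹ = π a' ^ L.length * π y * (π a' ^ L.length)⁻¹ := fun L hL => by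
    induction L with
    | nil => simp
    | cons e L ih =>
      intro y hy
      have := midpoint (D := π '' S) (by rintro _ ⟨y, a, rfl⟩; rw [← map_mul, show y * y = 1 from Subtype.ext (h.sq a.1), map_one])
        (by rintro g _ ⟨y, a, rfl⟩; obtain ⟨g, rfl⟩ := V.surj g; exact ⟨_, cj g y a, by simp⟩)
        (by rintro _ ⟨y, a, rfl⟩ _ ⟨z, b, rfl⟩ c; exact un z b y a (fx z b y a.1 c)) (e := π e) (x := π a')
        (by rw [← map_mul, show e * e = 1 from Subtype.ext (h.sq (hL e List.mem_cons_self).1), map_one])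
        (by
          rintro _ ⟨s, b, rfl⟩ c
          exact un a' a1 s b (h.eq ha (hL e List.mem_cons_self) ▸ Cm.symm b.1 (fx s b e (hL e List.mem_cons_self).1 c)))
        ⟨_, cj (a' ^ L.length) y hy, rfl⟩
      rw [map_mul, map_mul, map_inv, map_pow] at this
      rw [List.prod_cons, map_mul, ← conj_conj', ih (fun e he => hL e (List.mem_cons_of_mem _ he)) y hy, this, List.length_cons,
        pow_succ', conj_conj']
  have l4 : ∀ x ∈ l.map b, x ∈ Cm D a ∧ x ∈ centralizer {u} := List.forall_mem_map.2 fun i hi =>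
    ⟨B.mem i (l1 i hi).2, mem_centralizer_singleton_iff.2 (B.comm_of_mem m (l1 i hi).2)⟩
  lift l.map b to List (centralizer {u}) using fun x hx => (l4 x hx).2 with L
  have := k L (fun e he => (l4 _ (List.mem_map_of_mem he)).1) y y1
  rw [show L.prod = 1 from Subtype.ext ((val_list_prod _ L).trans l2)] at this
  obtain ⟨n, e⟩ := List.length_map Subtype.val ▸ l3
  rw [e, pow_succ, pow_mul, _root_.sq, ← map_mul π a', show a' * a' = 1 from Subtype.ext (h.sq ha)] at this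
  exact un a' a1 y y1 (fx a' a1 y y1.1 (conj_eq_self_iff.1 (by simpa using this.symm)).symm)

theorem mem_of_comm {x e : G} (hx : x ∈ Dd D a) (he : e ∈ D) (hg : Commute e (a * x)) : e ∈ Cm D a :=
  h.mem_of_fix hM hl ha he (h.fix_of_comm hM hl ha hx hg)

theorem odd {e : G} (he : e ∈ D) (n : e ∉ Cm D a) : ∃ m : ℕ, (a * e) ^ m * e * ((a * e) ^ m)⁻¹ = a :=
  (dih (h.sq ha) (h.sq he)).resolve_right fun ⟨m, a1, _, a3, a4, a5⟩ => n (h.mem_of_comm hM hl ha (x := a * (a * e) ^ (m + 1))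
    ⟨a5 ▸ palindrome_mem (fun _ => h.sq) h.conj m a ha e he, by simpa using a1, (Commute.refl a).mul_right a3⟩ he
    (by rwa [← mul_assoc, h.sq ha, one_mul]))

omit hl in
theorem all (hl : glB r k c l = true) : Cm D a = D := by
  simp only [glB, Bool.and_eq_true, mapK_eq, force_eq, allN_iff] at hl
  refine Set.Subset.antisymm (fun _ x => x.1) fun w hw => by_contra fun n => ?_
  obtain ⟨x, hx⟩ := (h.loc a ha).ne
  have x1 := h.step ha (Cm.self ha) hx.1 hx.2.2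
  rcases dih (h.sq hw) ((h.tt ha).sq_mul' (Cm.self ha) x1 hx.2.2) with ⟨m, e⟩ | ⟨m, u1, u2, u3, u4, -⟩
  · have : a * x ∈ D := (conj_mem_iff h.conj).1 (e ▸ hw)
    exact (h.tt ha).ne_one (Cm.self ha) (right_eq_mul.1 ((h.loc a ha).eq_of_sub hx ⟨this,
      by simpa using (h.tt ha).ne_one x1, (Commute.refl a).mul_right hx.2.2⟩ fun e he c => he.2.2.mul_left c))
  generalize (w * (a * x)) ^ (m + 1) = u at *
  obtain ⟨b, B, m0⟩ := hM a ha u (h.mem_of_conj ha (h.fix_of_comm hM hl.1 ha hx u4.symm)) u2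
  have cm := fun i => B.comm_of_mem m0 (i := i)
  obtain ⟨m, m1, rfl⟩ := B.surj m0
  have k1 : ∀ m < 2 ^ k, bt (msk (((List.range r).map c).flatMap fun x => ((List.range r).map c).map (Nat.xor x))) m = true ↔
      ∃ p ∈ D, ∃ q ∈ D, Commute p q ∧ evb b k m = p * q := fun m hm => by
    simp only [bt_eq, testBit_msk, List.mem_flatMap, List.mem_map, List.mem_range, exists_exists_and_eq_and, xor_eq']
    refine ⟨fun ⟨i, hi, j, hj, e⟩ => ⟨_, (B.mem i hi).1, _, (B.mem j hj).1, B.comm i hi j hj, by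
      rw [← e, B.ea.xor, ← (B.co i hi).2, ← (B.co j hj).2]⟩, fun ⟨p, hp, q, hq, c, e⟩ => ?_⟩
    obtain ⟨l1, -, l2⟩ := B.rel hl.1
    obtain ⟨i, hi⟩ := List.exists_mem_of_length_pos (List.length_map b ▸ l2).pos
    by_cases e1 : q = p
    · exact ⟨i, (l1 i hi).2, i, (l1 i hi).2, by rw [B.inj m hm (by rw [e, e1, h.sq hp]), Nat.xor_self]⟩
    have c1 : ∀ i < r, Commute (b i) (p * q) := fun i hi => e ▸ B.comm_of_mem
      (evb_mem (fun j hj => subset_closure (by exact ⟨j, hj.trans_le B.kr.1, rfl⟩)) m) hi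
    have p1 : p ∈ Cm D a := h.eq ha (B.mem i (l1 i hi).2) ▸ Cm.symm hp
      (h.mem_of_comm hM hl.1 hp ⟨hq, e1, c⟩ (B.mem i (l1 i hi).2).1 (c1 i (l1 i hi).2))
    have q1 := h.step ha p1 hq c
    have c2 := fun i hi => ((h.tt ha).commute_mul_iff p1 q1 (B.mem i hi) (Ne.symm e1) c).1 (c1 i hi)
    obtain ⟨i, hi, rfl⟩ := B.max p p1 fun i hi => (c2 i hi).1
    obtain ⟨j, hj, rfl⟩ := B.max q q1 fun i hi => (c2 i hi).2
    exact ⟨i, hi, j, hj, B.ea.inj B.inj (Nat.xor_lt_two_pow (B.co i hi).1 (B.co j hj).1) hm (by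
      rw [e, B.ea.xor, ← (B.co i hi).2, ← (B.co j hj).2])⟩
  have k2 : ∀ i < r, ∃ g, Commute g (evb b k m) ∧ g * b i * g⁻¹ = w := fun i hi => by
    obtain ⟨j, e⟩ := h.odd hM hl.1 hw (B.mem i hi).1 fun a => n (h.eq ha (B.mem i hi) ▸ Cm.symm hw a)
    exact ⟨_, (u3.mul_left (cm i hi)).pow_left j, e⟩
  have := hl.2 m m1
  rw [cnd_eq, cnd_eq] at this
  split_ifs at this with t1 t2
  · obtain ⟨i, hi, rfl⟩ := List.mem_map.1 (testBit_msk.1 (bt_eq _ _ ▸ t1))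
    exact n (h.step ha (B.mem i (List.mem_range.1 hi)) hw ((B.co i (List.mem_range.1 hi)).2 ▸ u3.symm))
  · obtain ⟨p, hp, q, hq, c, e⟩ := (k1 m m1).1 t2
    have hq' : q ∈ Dd D p := ⟨hq, fun e1 => u1 (by rw [e, e1, h.sq hp]), c⟩
    obtain ⟨l1, -, l2⟩ := B.rel hl.1
    obtain ⟨i, hi⟩ := List.exists_mem_of_length_pos (List.length_map b ▸ l2).pos
    have := h.mem_of_comm hM hl.1 hp hq' (B.mem i (l1 i hi).2).1 (e ▸ cm i (l1 i hi).2)
    exact n (h.eq ha (B.mem i (l1 i hi).2) ▸ h.eq hp this ▸ h.mem_of_comm hM hl.1 hp hq' hw (e ▸ u3))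
  simp only [Bool.and_eq_true, List.any_eq_true, List.mem_map, List.mem_range, exists_exists_and_eq_and, Bool.not_eq_true',
    xor_eq'] at this
  obtain ⟨⟨i, hi, t3⟩, j, hj, t4⟩ := this
  obtain ⟨p, hp, q, hq, c, e⟩ := (k1 _ (Nat.xor_lt_two_pow m1 (B.co i hi).1)).1 t3
  obtain ⟨g, g1, g2⟩ := k2 i hi
  obtain ⟨f, f1, f2⟩ := k2 j hj
  refine absurd ((k1 _ (Nat.xor_lt_two_pow m1 (B.co j hj).1)).2 ⟨_, h.conj (f⁻¹ * g) p hp, _, h.conj (f⁻¹ * g) q hq,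
    commute_conj_conj_iff.2 c, ?_⟩) (by simpa using t4)
  rw [conj_mul, ← e, B.ea.xor, B.ea.xor, ← (B.co i hi).2, ← (B.co j hj).2, ← conj_mul, (f1.inv_left.mul_left g1).eq,
    mul_inv_cancel_right, ← conj_conj', g2, ← f2]
  group

end LocG

theorem BF.gl : glB 22 10 BF.c [2, 3, 4, 6, 8, 9, 12] = true := by decide +kernel
theorem BH.gl : glB 23 11 BH.c [1, 2, 4, 5, 9, 10, 15] = true := by decide +kernel

theorem corr_sub (h : TT D) : Corr D ((↑) ⁻¹' D : Set (closure D)) fun x y => x = y ∧ x ∈ D :=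
  ⟨h, h.sub _, fun _ _ a => ⟨a.2, (Set.mem_of_eq_of_mem a.1.symm a.2 :)⟩, fun x hx => ⟨⟨x, subset_closure hx⟩, rfl, hx⟩, fun y hy => ⟨y, rfl, hy⟩,
    fun _ _ _ _ a b => by rw [a.1, b.1, Subtype.ext_iff], fun x _ y _ a b => ⟨by rw [a.1, b.1]; rfl, h.conj x a.2 y b.2⟩⟩

theorem mbs_of [Finite G] (h : TT D) {b : ℕ → closure D} (J : JB ((↑) ⁻¹' D) r k c b)
    (hF : FAC ((↑) ⁻¹' D : Set (closure D))) : MBs D r k c := fun u hu u2 => by
  obtain ⟨Z, z1, z2, z3⟩ := hF ⟨u, hu⟩ (Subtype.ext u2)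
  obtain ⟨g, z4⟩ := J.two z1 z2
  have B := J.1.conj J.2.1 g
  generalize (fun i => g * b i * g⁻¹) = b at B z4
  have e := map_evb (closure D).subtype b k
  exact ⟨fun i => b i, ⟨h, B.mem, fun i hi j hj => commute_coe.2 (B.comm i hi j hj), fun y hy hc =>
    (B.max ⟨y, subset_closure hy⟩ hy fun i hi => commute_coe.1 (hc i hi)).imp fun i a => ⟨a.1, congrArg Subtype.val a.2⟩, B.kr,
    fun j hj => ⟨(B.co j hj).1, (congrArg Subtype.val (B.co j hj).2).trans (e _)⟩,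
    fun m hm a => B.inj m hm (Subtype.ext ((e m).trans a)), fun i hi j hj a => B.binj i hi j hj (Subtype.ext a)⟩,
    (map_Bs (closure D).subtype b r).le ⟨_, closure_mono z4 z3, rfl⟩⟩

theorem LocG.final [Finite G] (h : LocG D) {a : G} (ha : a ∈ D) (e : Cm D a = D) :
    R3 D ∧ closure D = ⊤ ∧ Subgroup.center G = ⊥ := by
  have t : closure D = ⊤ := eq_top_iff.2 fun g _ => e ▸ h.mem_of_conj ha (e.symm ▸ h.conj g a ha)
  obtain ⟨y, -, a2⟩ := (h.vw ha).nc a (Cm.self ha)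
  exact ⟨e ▸ h.r3 ha, t, (eq_bot_iff_forall _).2 fun z hz => (h.ctr a ha z fun y _ => (mem_center_iff.1 hz y).symm).resolve_right
    fun e => a2 (e ▸ (mem_center_iff.1 hz y).symm)⟩

theorem LocG.prim [Finite G] (h : LocG D) {a : G} (ha : a ∈ D) : Prim ((↑) ⁻¹' Cm D a : Set (closure (Cm D a))) :=
  prim_sub (h.vw ha) (fun _ hx _ => h.tr ha hx) fun _ hx _ => h.common ha hx

section

variable {C Q : Type*} [Group C] [Group Q] {π : C →* Q} {d : C} {Y : Set Q} {X : Set C} {ι : C →* G}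

theorem TT.map (h : TT X) (h1 : Function.Injective ι) : TT (ι '' X) := by
  refine ⟨⟨?_, ?_⟩, ?_⟩
  · rintro _ ⟨x, a, rfl⟩; rw [orderOf_injective ι h1, h.set.1 x a]
  · rintro _ ⟨x, a, rfl⟩ _ ⟨y, b, rfl⟩
    exact (h.set.2 x a y b).imp (fun e => by rw [← map_mul, ← map_pow, e, map_one]) fun e => by rw [← map_mul, ← map_pow, e, map_one]
  · rintro _ ⟨x, a, rfl⟩ _ ⟨y, b, rfl⟩; exact ⟨_, h.conj x a y b, by simp⟩

theorem loc_of (V : Cov π d) (L : Lf π X Y) (hp : _root_.commutator C = ⊤) (h1 : closure Y = ⊤) (h2 : center Q = ⊥)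
    (i1 : Function.Injective ι) (i2 : ι.range = centralizer {ι d}) (hX : ∀ x, ι x ∈ D ↔ x = d ∨ x ∈ X) :
    (∃ ρ, Corr Y (Dd D (ι d)) ρ) ∧ closure (Dd D (ι d)) = centralizer {ι d} ∧
      ∀ z, (∀ y ∈ Dd D (ι d), Commute z y) → z = 1 ∨ z = ι d := by
  have e : Dd D (ι d) = ι '' X := Set.ext fun y => ⟨fun a => by
    obtain ⟨x, rfl⟩ : y ∈ ι.range := i2 ▸ mem_centralizer_singleton_iff.2 a.2.2.symm
    exact ⟨x, ((hX x).1 a.1).resolve_left fun e => a.2.1 (congrArg ι e), rfl⟩, fun ⟨x, a, e⟩ => e ▸ ⟨(hX x).2 (Or.inr a),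
      fun e => L.tY.ne_one (L.map x a) (by rw [i1 e, V.map_d]), (V.comm x).symm.map ι⟩⟩
  have e2 : closure (Dd D (ι d)) = ι.range := by rw [e, MonoidHom.range_eq_map, ← L.top V hp h1, MonoidHom.map_closure]
  refine ⟨⟨fun y z => ∃ x ∈ X, π x = y ∧ ι x = z, L.tY, e ▸ L.tt.map i1, ?_, fun y hy => ?_, ?_, ?_, ?_⟩, e2.trans i2,
    fun z hz => ?_⟩
  · rintro _ _ ⟨x, a, rfl, rfl⟩; exact ⟨L.map x a, e ▸ ⟨x, a, rfl⟩⟩
  · obtain ⟨x, a, b⟩ := L.surj y hy; exact ⟨_, x, a, b, rfl⟩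
  · rw [e]; rintro _ ⟨x, a, rfl⟩; exact ⟨_, x, a, rfl, rfl⟩
  · rintro _ _ _ _ ⟨x, a, rfl, rfl⟩ ⟨y, b, rfl, rfl⟩
    exact ⟨fun e => congrArg ι (L.inj x a y b e), fun e => congrArg π (i1 e)⟩
  · rintro _ _ _ _ ⟨x, a, rfl, rfl⟩ ⟨y, b, rfl, rfl⟩
    exact ⟨_, L.tt.conj x a y b, by simp, by simp⟩
  have k : ∀ x, Commute z (ι x) := fun x => commute_of_mem_closure hz (e2 ▸ ⟨x, rfl⟩)
  obtain ⟨x, rfl⟩ : z ∈ ι.range := i2 ▸ mem_centralizer_singleton_iff.2 (k d)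
  exact (V.center h2 (mem_center_iff.2 fun g => i1 (by rw [map_mul, map_mul, (k g).eq]))).imp
    (fun e => by rw [e, map_one]) (congrArg ι)

end

variable [Finite G] {d : G} {Q : Type*} [Group Q] {π : centralizer {d} →* Q} {Z : Set Q} {W : Set (centralizer {d})}
  (V : Cov π ⟨d, mem_centralizer_singleton_iff.2 rfl⟩) (L : Lf π W Z) (hq : IsQuasisimple (centralizer {d}))
  (h1 : closure Z = ⊤) (h2 : center Q = ⊥)
  (hX : ∀ x : centralizer {d}, IsConj d x ↔ x = ⟨d, mem_centralizer_singleton_iff.2 rfl⟩ ∨ x ∈ W)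
include V L hq h1 h2 hX

theorem loc_all : ∀ a ∈ conjugatesOf d, (∃ ρ, Corr Z (Dd (conjugatesOf d) a) ρ) ∧
    closure (Dd (conjugatesOf d) a) = centralizer {a} ∧ ∀ z, (∀ y ∈ Dd (conjugatesOf d) a, Commute z y) → z = 1 ∨ z = a := by
  intro a ha
  obtain ⟨g, rfl⟩ := isConj_iff.1 ha
  refine loc_of (ι := (MulAut.conj g).toMonoidHom.comp (centralizer {d}).subtype) V L hq.1.commutator_eq_top h1 h2
    ((MulAut.conj g).injective.comp (subtype_injective _)) (Subgroup.ext fun y => ?_) fun x => Iff.trans ?_ (hX x)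
  · rw [mem_centralizer_singleton_iff]
    exact ⟨fun ⟨x, e⟩ => e ▸ commute_conj_conj_iff.2 (mem_centralizer_singleton_iff.1 x.2), fun a =>
      ⟨⟨g⁻¹ * y * g, mem_centralizer_singleton_iff.2 (commute_conj_left_iff.1 (Commute.symm a)).symm⟩, by simp [mul_assoc]⟩⟩
  · exact conj_mem_iff (D := conjugatesOf d) fun g x hx => hx.trans (isConj_iff.2 ⟨g, rfl⟩)

theorem rec22 (U : U6 Z) : T22 (conjugatesOf d) ∧ closure (conjugatesOf d) = ⊤ ∧ center G = ⊥ := by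
  have k := loc_all V L hq h1 h2 hX
  have u := fun a ha => (k a ha).1.choose_spec.u6 U
  have h : LocG (conjugatesOf d) := ⟨fun g x hx => hx.trans (isConj_iff.2 ⟨g, rfl⟩), fun a ha => (u a ha).r3,
    fun a ha => (k a ha).2.1, fun a ha => (k a ha).2.2, fun b hb a ha hn hw v hv => by
      obtain ⟨z, a1, a2⟩ := (u a ha).cover (E := {x | x ∈ Dd (conjugatesOf d) a ∧ Commute b x}) ⟨fun x hx => hx.1,
        fun x hx y hy => ⟨(u a ha).vw.tt.conj x hx.1 y hy.1, TT.commute_conj hx.2 hy.2⟩, hw, fun x hx y hy => by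
          rw [Dd_comm] at hy ⊢
          obtain ⟨y', h1, h2⟩ := (u x hx.1.1).mu_unique (mem_Dd_comm ha hx.1)
            ⟨hb, fun e => hn (e ▸ hx.1.2.2.symm), hx.2.symm⟩ (fun e => hn e.symm) hy
          exact ⟨y', ⟨h1.1, ⟨h1.1.1.1.1, h1.1.1.2⟩, h1.2⟩, fun z hz => h2 z ⟨hz.1, hz.2.2⟩⟩⟩ hv
      exact ⟨z, a1.1, a1.2, a2⟩⟩
  obtain ⟨a1, a2⟩ := h.final (IsConj.refl d) (h.all (fun a ha => by
    obtain ⟨S, e⟩ := s22 (h.prim ha).grp (h.prim ha).prim (((corr_sub (h.tt ha)).t22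
      ⟨h.r3 ha, fun y hy => h.dd ha hy ▸ u y hy.1⟩).type (h.center ha))
    exact mbs_of (h.tt ha) (e ▸ s22_jb S (e ▸ (h.prim ha).tt)) (e ▸ s22_fac S)) (IsConj.refl d) BF.gl)
  exact ⟨⟨a1, u⟩, a2⟩

theorem rec23 (U : T22 Z) : T23 (conjugatesOf d) ∧ closure (conjugatesOf d) = ⊤ ∧ center G = ⊥ := by
  have k := loc_all V L hq h1 h2 hX
  have u := fun a ha => (k a ha).1.choose_spec.t22 U
  have h : LocG (conjugatesOf d) := ⟨fun g x hx => hx.trans (isConj_iff.2 ⟨g, rfl⟩), fun a ha => (u a ha).1,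
    fun a ha => (k a ha).2.1, fun a ha => (k a ha).2.2, fun b hb a ha hn hw v hv => by
      obtain ⟨z, a1, a2⟩ := (u a ha).cover (F := {x | x ∈ Dd (conjugatesOf d) a ∧ Commute b x}) ⟨fun x hx => hx.1,
        fun x hx y hy => ⟨(u a ha).1.tt.conj x hx.1 y hy.1, TT.commute_conj hx.2 hy.2⟩, hw, fun x hx => by
          rw [mu_inter, Dd_comm]
          exact (u x hx.1.1).hyp (mem_Dd_comm ha hx.1) ⟨hb, fun e => hn (e ▸ hx.1.2.2.symm), hx.2.symm⟩ fun e => hn e.symm⟩ hv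
      exact ⟨z, a1.1, a1.2, a2⟩⟩
  obtain ⟨a1, a2⟩ := h.final (IsConj.refl d) (h.all (fun a ha => by
    obtain ⟨S, e⟩ := s23 (h.prim ha).grp (h.prim ha).prim (((corr_sub (h.tt ha)).t23
      ⟨h.r3 ha, fun y hy => h.dd ha hy ▸ u y hy.1⟩).type (h.center ha))
    exact mbs_of (h.tt ha) (e ▸ s23_jb S (e ▸ (h.prim ha).tt)) (e ▸ s23_fac S)) (IsConj.refl d) BH.gl)
  exact ⟨⟨a1, u⟩, a2⟩

omit V L h1 h2 hX

variable (hd : orderOf d = 2) [((zpowers d).subgroupOf (centralizer {d})).Normal]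
  (hn : ∃ g : G, g * d * g⁻¹ ∈ centralizer {d} ∧ g * d * g⁻¹ ≠ d)
include hd hn

theorem recog22 {K : Type} [Field K] [Fintype K] (hK : Fintype.card K = 4)
    (e : centralizer {d} ⧸ (zpowers d).subgroupOf (centralizer {d}) ≃* PSU 6 K 2) :
    T22 (conjugatesOf d) ∧ closure (conjugatesOf d) = ⊤ ∧ center G = ⊥ := by
  obtain ⟨Q, _, e', _, Y, b, U, P⟩ := qp6 hK
  have h := (cov_mk hd).comp (e.trans e')
  obtain ⟨X, L, hX⟩ := P.fuse' hd hq h BU.fus (fun X => U.ns P.top P.ctr h) hn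
  exact rec22 h L hq P.top P.ctr hX U

theorem recog23 {Y : Set (centralizer {d} ⧸ (zpowers d).subgroupOf (centralizer {d}))} (h1 : IsThreeTranspositionClass Y)
    (h2 : IsOfTypeM22 _ Y) : T23 (conjugatesOf d) ∧ closure (conjugatesOf d) = ⊤ ∧ center G = ⊥ := by
  have h := cov_mk hd
  have p := h.prim hq h1 h2
  obtain ⟨b, P⟩ := qp22 p h2
  obtain ⟨X, L, hX⟩ := P.fuse' hd hq h BF.fus (fun X => ns22 p h2 h) hn
  exact rec23 h L hq P.top P.ctr hX (t22_of_type p.grp p.prim h2)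

end Cfsg.Lib.Known2
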