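import Cfsg.Agent.Lib.Known2.LE

/-! Singular involutions for a large extraspecial `O₂(C(z))`. -/

set_option autoImplicit false

namespace Cfsg.Lib.Known2

open Subgroup Cfsg.Lib.Core Cfsg.Lib.Amalg

variable {G : Type*} [Group G]

theorem cj_Qc (g x : G) : cj g (pCoreOf 2 (centralizer {x})) = pCoreOf 2 (centralizer {g * x * g⁻¹}) := by
  rw [cj_op, cj_centralizer_singleton]

theorem ls_of_op [Finite G] {z : G} (hz : orderOf z = 2)
    (hE : IsExtraspecial 2 (pCoreOf 2 (centralizer ({z} : Set G))))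
    (hC : 𝐂 (pCoreOf 2 (centralizer ({z} : Set G))) ≤ pCoreOf 2 (centralizer ({z} : Set G))) :
    LS (pCoreOf 2 (centralizer ({z} : Set G))) z := by
  obtain ⟨w, -, h⟩ := exists_ES hE
  have hzc : ∀ x ∈ pCoreOf 2 (centralizer ({z} : Set G)), x * z = z * x :=
    fun x hx => mem_cent_single.1 (op_le _ hx)
  have : z = w := (h.of_cen z (hC (mem_centralizer_comm.2 hzc)) fun y hy => (hzc y hy).symm).resolve_left
    (ne_one_of_orderOf_two hz)
  subst this
  exact ⟨h, fun g hg => h.of_cen g (hC (mem_centralizer_comm.2 fun x hx => (hg x hx).symm)) hg,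
    fun g hg x hx => (mem_normalizer_iff.1 (le_norm_op _ (mem_cent_single.2 hg)) x).1 hx⟩

theorem ls_of_op_conj [Finite G] {z : G} (hz : orderOf z = 2)
    (hE : IsExtraspecial 2 (pCoreOf 2 (centralizer ({z} : Set G))))
    (hC : 𝐂 (pCoreOf 2 (centralizer ({z} : Set G))) ≤ pCoreOf 2 (centralizer ({z} : Set G)))
    {u : G} (hu : ∃ g, g * z * g⁻¹ = u) : LS (pCoreOf 2 (centralizer ({u} : Set G))) u := by
  obtain ⟨g, rfl⟩ := hu
  rw [← cj_Qc]
  exact (ls_of_op hz hE hC).conj g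

end Cfsg.Lib.Known2
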