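import Cfsg.Agent.Lib.Known2.BM

/-! Labelled classes of 3-transpositions: checks for bases and braid moves. -/

set_option autoImplicit false

namespace Cfsg.Lib.Known2

open Subgroup Cfsg.Lib.Comp Cd

variable {G : Type*} [Group G]

/-- Points `p` label the class, names `u` act on the points. -/
structure AI (Y : Set G) (t : ℕ → G) (ok : ℕ → Bool) (pt : ℕ → ℕ) (ap : ℕ → ℕ → ℕ) : Prop where
  tt : TT Y
  mem : ∀ p, ok p = true → t p ∈ Y
  surj : ∀ y ∈ Y, ∃ p, ok p = true ∧ t p = y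
  inj : ∀ p q, ok p = true → ok q = true → t p = t q → p = q
  act : ∀ u p, ok (pt u) = true → ok p = true → ok (ap u p) = true ∧ t (pt u) * t p * t (pt u) = t (ap u p)

noncomputable def apm (ap : ℕ → ℕ → ℕ) (Bn : List ℕ) (k m : ℕ) : ℕ → ℕ :=
  Nat.rec (motive := fun _ => ℕ → ℕ) (fun p => p) (fun i ih p => force (cnd (bt m i) (ap (nth 0 Bn i) p) p) ih) k

noncomputable def injT (ap : ℕ → ℕ → ℕ) (Bn Q : List ℕ) (k : ℕ) : List ℕ → Bool → Bool :=
  Nat.rec (motive := fun _ => List ℕ → Bool → Bool) (fun ps z => z || !(ps == Q))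
    (fun i ih ps z => cnd (ih ps z) (force (nth 0 Bn i) fun u => mapK (ap u) ps fun ps' => ih ps' false) false) k

noncomputable def bmB (ok : ℕ → Bool) (pt : ℕ → ℕ) (ap : ℕ → ℕ → ℕ) (Bn Bp : List ℕ) (r k : ℕ) (c : ℕ → ℕ)
    (Q Q' : List ℕ) : Bool :=
  cnd (allN r fun i => cnd (Nat.beq (pt (nth 0 Bn i)) (nth 0 Bp i)) (cnd (ok (nth 0 Bp i)) (allN r fun j =>
      cnd (Nat.beq (ap (nth 0 Bn i) (nth 0 Bp j)) (nth 0 Bp j)) (Nat.beq i j || !Nat.beq (nth 0 Bp i) (nth 0 Bp j)) false)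
      false) false)
    (cnd (Nat.ble k r && Nat.ble r 32) (cnd (allL Q ok && allL Q' ok) (cnd (allN r fun j => Nat.ble (Nat.succ (c j)) (2 ^ k) &&
      allL Q fun q => Nat.beq (apm ap Bn k (c j) q) (ap (nth 0 Bn j) q)) (injT ap Bn Q' k Q' true) false) false) false) false

noncomputable def codB (ok : ℕ → Bool) (pt : ℕ → ℕ) (ap : ℕ → ℕ → ℕ) (Bp : List ℕ) (r : ℕ) (x : ℕ × ℕ × ℕ) : Bool :=
  cnd (ok (pt x.1) && ok (pt x.2.1)) (cnd (Nat.beq (ap x.1 (pt x.2.1)) (pt x.2.1))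
    (cnd (allN r fun i => cnd (ok (nth 0 Bp i)) (Nat.ble (Nat.succ (look x.2.2 5 i)) r &&
      Nat.beq (ap x.1 (ap x.2.1 (nth 0 Bp i))) (nth 0 Bp (look x.2.2 5 i))) false)
      (Nat.beq (enc r (look x.2.2 5)) x.2.2) false) false) false

/-- The elements given by pairs of names. -/
def prs (t : ℕ → G) (pt : ℕ → ℕ) (T : List (ℕ × ℕ × ℕ)) : List (G × ℕ) :=
  T.map fun x => (t (pt x.1) * t (pt x.2.1), x.2.2)

theorem prs_snd (t : ℕ → G) (pt : ℕ → ℕ) (T : List (ℕ × ℕ × ℕ)) : (prs t pt T).map (·.2) = T.map (·.2.2) := by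
  simp [prs]

/-- Braid moves on a word of points. -/
noncomputable def hur (ok : ℕ → Bool) (pt : ℕ → ℕ) (ap : ℕ → ℕ → ℕ) (ns : List ℕ) (ops : List (ℕ × ℕ × ℕ)) :
    List ℕ → Bool :=
  List.rec (motive := fun _ => List ℕ → Bool)
    (fun w => cnd (ns.map pt == w) (allL ns fun u => allL w fun p => Nat.beq (ap u p) p) false)
    (fun o _ ih w => force (pt o.2.2) fun x => cnd (ok x) (cnd (Nat.beq o.2.1 0)
      (cnd ((w.drop o.1).take 2 == [x, x]) (ih (apd (w.take o.1) (w.drop (o.1 + 2)))) false)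
      (cnd (((w.drop o.1).drop o.2.1).take 1 == [x]) (mapK (ap o.2.2) ((w.drop o.1).take o.2.1) fun M =>
        ih (apd (w.take o.1) (x :: apd M ((w.drop o.1).drop (o.2.1 + 1))))) false)) false) ops

theorem pr_append (t : ℕ → G) (u v : List ℕ) : pr t (u ++ v) = pr t u * pr t v := by simp [pr]

namespace AI

variable {Y : Set G} {t : ℕ → G} {ok : ℕ → Bool} {pt : ℕ → ℕ} {ap : ℕ → ℕ → ℕ} (A : AI Y t ok pt ap)
include A

theorem act' {u p : ℕ} (hu : ok (pt u) = true) (hp : ok p = true) : t (pt u) * t p * (t (pt u))⁻¹ = t (ap u p) := by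
  rw [A.tt.inv (A.mem _ hu)]; exact (A.act u p hu hp).2

theorem comm {u p : ℕ} (hu : ok (pt u) = true) (hp : ok p = true) : Commute (t (pt u)) (t p) ↔ ap u p = p := by
  rw [← conj_eq_self_iff, A.act' hu hp]
  exact ⟨A.inj _ _ (A.act u p hu hp).1 hp, fun h => by rw [h]⟩

theorem apm_spec {Bn : List ℕ} {b : ℕ → G} {k : ℕ} (h : ∀ i < k, ok (pt (nth 0 Bn i)) = true ∧ t (pt (nth 0 Bn i)) = b i)
    (m : ℕ) {p : ℕ} (hp : ok p = true) :
    ok (apm ap Bn k m p) = true ∧ evb b k m * t p * (evb b k m)⁻¹ = t (apm ap Bn k m p) := by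
  induction k generalizing p with
  | zero => exact ⟨hp, by simp [evb, apm]⟩
  | succ k ih =>
    change ok (apm ap Bn k m (cnd _ _ _)) = true ∧ _ = t (apm ap Bn k m (cnd _ _ _))
    have h' := h k (by omega)
    rw [cnd_eq, bt_eq, evb]
    split_ifs
    · have := ih (fun i hi => h i (by omega)) (A.act _ p h'.1 hp).1
      exact ⟨this.1, by rw [← this.2, ← A.act' h'.1 hp, h'.2]; group⟩
    · simpa using ih (fun i hi => h i (by omega)) hp

theorem injT_spec {Bn Q : List ℕ} {b : ℕ → G} {k : ℕ}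
    (h : ∀ i < k, ok (pt (nth 0 Bn i)) = true ∧ t (pt (nth 0 Bn i)) = b i) {ps : List ℕ} {z : Bool}
    (hb : injT ap Bn Q k ps z = true) {g : G}
    (hg : List.Forall₂ (fun p q => ok p = true ∧ ok q = true ∧ g * t q * g⁻¹ = t p) ps Q) {m : ℕ}
    (e : evb b k m * g = 1) : z = true ∧ ∀ i < k, m.testBit i = false := by
  induction k generalizing ps z g with
  | zero =>
    obtain rfl : g = 1 := by simpa [evb] using e
    have : ps = Q := by
      rw [← List.forall₂_eq_eq_eq]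
      exact hg.imp fun p q a => A.inj _ _ a.1 a.2.1 (by simpa using a.2.2.symm)
    exact ⟨by simpa [injT, this] using hb, fun i hi => by omega⟩
  | succ k ih =>
    obtain ⟨b1, b2⟩ := cnd_tt.1 hb
    rw [force_eq, mapK_eq] at b2
    have h' := h k (by omega)
    rw [evb] at e
    split_ifs at e with hm
    · refine absurd (ih (fun i hi => h i (by omega)) b2 (g := b k * g) ?_ (by rwa [← mul_assoc])).1 Bool.false_ne_true
      rw [List.forall₂_map_left_iff]
      exact hg.imp fun p q a => ⟨(A.act _ p h'.1 a.1).1, a.2.1, by rw [← A.act' h'.1 a.1, ← a.2.2, h'.2]; group⟩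
    · obtain ⟨a1, a2⟩ := ih (fun i hi => h i (by omega)) b1 hg (by simpa using e)
      exact ⟨a1, fun i hi => (Nat.lt_succ_iff_lt_or_eq.1 hi).elim (a2 i) fun e => by simpa [e] using hm⟩

theorem bm {Bn Bp : List ℕ} {r k : ℕ} {c : ℕ → ℕ} {Q Q' : List ℕ} (h : bmB ok pt ap Bn Bp r k c Q Q' = true)
    (hQ : ∀ g, (∀ q ∈ Q, Commute g (t q)) → g = 1)
    (hm : ∀ p, ok p = true → (∀ i < r, Commute (t (nth 0 Bp i)) (t p)) → ∃ i < r, nth 0 Bp i = p) :
    BM Y r k c fun i => t (nth 0 Bp i) := by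
  simp only [bmB, cnd_tt, allN_iff, beq_tt, Bool.and_eq_true, Bool.or_eq_true, ble_tt, allL_iff, Bool.not_eq_true'] at h
  obtain ⟨h1, h2, ⟨h3, h4⟩, h5, h6⟩ := h
  have a : ∀ i < r, ok (pt (nth 0 Bn i)) = true ∧ t (pt (nth 0 Bn i)) = t (nth 0 Bp i) := fun i hi => by
    rw [(h1 i hi).1]; exact ⟨(h1 i hi).2.1, rfl⟩
  have a' := fun i (hi : i < k) => a i (hi.trans_le h2.1)
  refine ⟨A.tt, fun i hi => A.mem _ (h1 i hi).2.1, fun i hi j hj => ?_, fun y hy hc => ?_, h2, fun j hj =>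
    ⟨(h5 j hj).1, ?_⟩, fun m hm e => ?_, fun i hi j hj e => ?_⟩
  · rw [← (a i hi).2]
    exact (A.comm (a i hi).1 (h1 j hj).2.1).2 ((h1 i hi).2.2 j hj).1
  · obtain ⟨p, hp, rfl⟩ := A.surj y hy
    exact (hm p hp hc).imp fun i h => ⟨h.1, by rw [h.2]⟩
  · rw [← inv_mul_eq_one]
    refine hQ _ fun q hq => conj_eq_self_iff.1 ?_
    have := (A.apm_spec a' (c j) (h3 q hq)).2
    rw [(h5 j hj).2 q hq, ← A.act' (a j hj).1 (h3 q hq), (a j hj).2] at this
    generalize evb (fun i => t (nth 0 Bp i)) k (c j) = x at this ⊢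
    calc _ = (t (nth 0 Bp j))⁻¹ * (x * t q * x⁻¹) * t (nth 0 Bp j) := by group
      _ = _ := by rw [this]; group
  · have := (A.injT_spec a' h6 (g := 1) (List.forall₂_same.2 fun q hq => ⟨h4 q hq, h4 q hq, by simp⟩)
      (m := m) (by rw [mul_one, e])).2
    refine Nat.eq_of_testBit_eq fun i => ?_
    rw [Nat.zero_testBit]
    by_cases hi : i < k
    exacts [this i hi, Nat.testBit_lt_two_pow (hm.trans_le (Nat.pow_le_pow_right two_pos (not_lt.1 hi)))]
  · rcases ((h1 i hi).2.2 j hj).2 with e' | e'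
    · exact e'
    · rw [A.inj _ _ (h1 i hi).2.1 (h1 j hj).2.1 e, Nat.beq_refl] at e'
      exact Bool.noConfusion e'

theorem cod {Bp : List ℕ} {r : ℕ} {x : ℕ × ℕ × ℕ} (h : codB ok pt ap Bp r x = true) :
    ok (pt x.1) = true ∧ ok (pt x.2.1) = true ∧ t (pt x.1) * t (pt x.2.1) * (t (pt x.1) * t (pt x.2.1)) = 1 ∧
      Cod (fun i => t (nth 0 Bp i)) r (t (pt x.1) * t (pt x.2.1)) x.2.2 := by
  simp only [codB, cnd_tt, allN_iff, beq_tt, Bool.and_eq_true, ble_tt] at h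
  obtain ⟨⟨h1, h2⟩, h3, h4, h5⟩ := h
  refine ⟨h1, h2, ?_, fun i hi => ⟨(h4 i hi).2.1, ?_⟩, h5⟩
  · rw [← sq]; exact (commute_iff_sq_eq_one (A.tt.sq (A.mem _ h1)) (A.tt.sq (A.mem _ h2))).1 ((A.comm h1 h2).2 h3)
  · beta_reduce
    rw [← (h4 i hi).2.2, ← A.act' h1 (A.act _ _ h2 (h4 i hi).1).1, ← A.act' h2 (h4 i hi).1]; group

theorem cods {Bp : List ℕ} {r : ℕ} {T : List (ℕ × ℕ × ℕ)} (h : allL T (codB ok pt ap Bp r) = true) :
    ∀ x ∈ prs t pt T, x.1 * x.1 = 1 ∧ Cod (fun i => t (nth 0 Bp i)) r x.1 x.2 := fun x hx => by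
  obtain ⟨y, hy, rfl⟩ := List.mem_map.1 hx
  exact (A.cod (allL_iff.1 h y hy)).2.2

theorem pr_map {u : ℕ} (hu : ok (pt u) = true) {w : List ℕ} (hw : ∀ p ∈ w, ok p = true) :
    pr t w * t (pt u) = t (pt u) * pr t (w.map (ap u)) := by
  induction w with
  | nil => simp [pr]
  | cons p w ih =>
    have := ih fun q hq => hw q (List.mem_cons_of_mem _ hq)
    simp only [pr, List.map_cons, List.prod_cons] at this ⊢
    rw [mul_assoc, this, ← (A.act u p hu (hw p List.mem_cons_self)).2]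
    simp only [mul_assoc, A.tt.cancel (A.mem _ hu)]

theorem hur_spec {ns : List ℕ} {ops : List (ℕ × ℕ × ℕ)} {w : List ℕ} (h : hur ok pt ap ns ops w = true)
    (hw : ∀ p ∈ w, ok p = true) : ∃ l : List G, l.prod = pr t w ∧ l.length % 2 = w.length % 2 ∧ (∀ a ∈ l, a ∈ Y) ∧
      ∀ a ∈ l, ∀ b ∈ l, Commute a b := by
  induction ops generalizing w with
  | nil =>
    obtain ⟨h1, h2⟩ := cnd_tt.1 h
    obtain rfl := beq_iff_eq.1 h1
    refine ⟨_, rfl, by simp, fun a ha => ?_, fun a ha b hb => ?_⟩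
    · obtain ⟨p, hp, rfl⟩ := List.mem_map.1 ha
      exact A.mem p (hw p hp)
    · obtain ⟨p, hp, rfl⟩ := List.mem_map.1 ha
      obtain ⟨q, hq, rfl⟩ := List.mem_map.1 hb
      obtain ⟨u, hu, rfl⟩ := List.mem_map.1 hp
      exact (A.comm (hw _ hp) (hw q hq)).2 (beq_tt.1 (allL_iff.1 (allL_iff.1 h2 u hu) q hq))
  | cons o ops ih =>
    obtain ⟨h1, h2⟩ := cnd_tt.1 h
    rw [cnd_eq] at h2
    split_ifs at h2 with h0
    · obtain ⟨h3, h4⟩ := cnd_tt.1 h2
      have e : w = w.take o.1 ++ ([pt o.2.2, pt o.2.2] ++ w.drop (o.1 + 2)) := by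
        rw [← beq_iff_eq.1 h3, ← List.drop_drop, List.take_append_drop, List.take_append_drop]
      rw [apd_eq] at h4
      obtain ⟨l, l1, l2, l3⟩ := ih h4 fun p hp => hw p (by rw [e]; simp only [List.mem_append] at hp ⊢; tauto)
      refine ⟨l, ?_, ?_, l3⟩
      · rw [l1]; conv_rhs => rw [e]
        simp [pr, A.tt.cancel (A.mem _ h1)]
      · rw [l2]; conv_rhs => rw [e]
        simp only [List.length_append, List.length_cons, List.length_nil]; omega
    · obtain ⟨h3, h4⟩ := cnd_tt.1 h2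
      have e : w = w.take o.1 ++ ((w.drop o.1).take o.2.1 ++ ([pt o.2.2] ++ (w.drop o.1).drop (o.2.1 + 1))) := by
        rw [← beq_iff_eq.1 h3, ← List.drop_drop, List.take_append_drop, List.take_append_drop, List.take_append_drop]
      rw [mapK_eq, apd_eq, apd_eq] at h4
      have hM : ∀ p ∈ (w.drop o.1).take o.2.1, ok p = true := fun p hp =>
        hw p (List.mem_of_mem_drop (List.mem_of_mem_take hp))
      obtain ⟨l, l1, l2, l3⟩ := ih h4 fun p hp => by
        simp only [List.mem_append, List.mem_cons, List.mem_map] at hp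
        rcases hp with a | rfl | ⟨q, a, rfl⟩ | a
        exacts [hw p (List.mem_of_mem_take a), h1, (A.act _ q h1 (hM q a)).1,
          hw p (List.mem_of_mem_drop (List.mem_of_mem_drop a))]
      refine ⟨l, ?_, ?_, l3⟩
      · rw [l1]; conv_rhs => rw [e]
        rw [← List.singleton_append]
        simp only [pr_append, ← mul_assoc]
        have := A.pr_map h1 hM
        simp only [mul_assoc, show pr t [pt o.2.2] = t (pt o.2.2) by simp [pr]]
        rw [← mul_assoc (t _), ← this, mul_assoc]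
      · rw [l2]; conv_rhs => rw [e]
        simp only [List.length_append, List.length_cons, List.length_nil, List.length_map]; omega

end AI

end Cfsg.Lib.Known2
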