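import Cfsg.Agent.Lib.Known2.BD
import Cfsg.Agent.Lib.Known2.DS
import Cfsg.Agent.Lib.Transfer.ThompsonJ

/-! The Thompson subgroup of a Sylow 2-subgroup of `U₆(2)`, `Fi₂₂`, `Fi₂₃`. -/

set_option autoImplicit false

namespace Cfsg.Lib.Known2

open Subgroup Cfsg.Lib.Comp Cfsg.Lib.Fi Cfsg.Lib.Transfer

variable {G G' : Type*} [Group G] [Group G'] {Y : Set G} {r k : ℕ} {c : ℕ → ℕ} {b : ℕ → G}

/-- `E` is the only elementary abelian subgroup of `T` of order at least `2 ^ k`. -/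
def Uq (k : ℕ) (T E : Subgroup G) : Prop :=
  E ≤ T ∧ IsElementaryAbelian 2 E ∧ Nat.card E = 2 ^ k ∧
    ∀ A ≤ T, IsElementaryAbelian 2 A → 2 ^ k ≤ Nat.card A → A = E

theorem Uq.thompson [Finite G] {T E : Subgroup G} (h : Uq k T E) : thompsonSubgroupOf 2 T = E := by
  have : E ∈ maxEl 2 T := ⟨h.1, h.2.1, fun B a b => by
    by_contra n
    rw [h.2.2.2 B a b (by rw [← h.2.2.1]; omega)] at n
    exact n le_rfl⟩
  exact le_antisymm (thompsonOf_le_iff.2 fun A hA =>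
    (h.2.2.2 A hA.1 hA.2.1 (h.2.2.1 ▸ hA.2.2 E h.1 h.2.1)).le) (le_thompsonOf this)

theorem Uq.map {T E : Subgroup G} (h : Uq k T E) {f : G →* G'} (hf : Function.Injective f) :
    Uq k (T.map f) (E.map f) := by
  refine ⟨map_mono h.1, elAb_map h.2.1 f, (card_map_of_injective hf).trans h.2.2.1, fun A a b e => ?_⟩
  have e1 : (A.comap f).map f = A := map_comap_eq_self (a.trans (map_le_range f T))
  rw [← e1, h.2.2.2 (A.comap f) (by rw [← comap_map_eq_self_of_injective hf T]; exact comap_mono a)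
    (elAb_comap_of_injective b hf) (by rwa [← card_map_of_injective hf, e1])]

theorem Uq.mono {T S E : Subgroup G} (h : Uq k T E) (h1 : E ≤ S) (h2 : S ≤ T) : Uq k S E :=
  ⟨h1, h.2.1, h.2.2.1, fun A a => h.2.2.2 A (a.trans h2)⟩

theorem map_Bs (f : G →* G') (b : ℕ → G) (r : ℕ) : (closure (Bs b r)).map f = closure (Bs (fun i => f (b i)) r) := by
  rw [MonoidHom.map_closure]
  congr 1
  exact Set.ext fun x => ⟨fun ⟨_, ⟨i, a, e⟩, e'⟩ => ⟨i, a, e' ▸ congrArg f e⟩, fun ⟨i, a, e⟩ => ⟨_, ⟨i, a, rfl⟩, e⟩⟩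

theorem BM.conj (h : BM Y r k c b) (hY : ∀ g, ∀ y ∈ Y, g * y * g⁻¹ ∈ Y) (g : G) :
    BM Y r k c fun i => g * b i * g⁻¹ := by
  have e := map_evb (MulAut.conj g).toMonoidHom b k
  refine ⟨h.tt, fun i hi => hY g _ (h.mem i hi), fun i hi j hj => commute_conj_conj_iff.2 (h.comm i hi j hj),
    fun y hy hc => ?_, h.kr, fun j hj => ⟨(h.co j hj).1, ?_⟩, fun m hm e' => h.inj m hm ?_,
    fun i hi j hj e => h.binj i hi j hj (by simpa using e)⟩
  · obtain ⟨i, hi, e⟩ := h.max _ (by simpa using hY g⁻¹ y hy) fun i hi => commute_conj_left_iff.1 (hc i hi)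
    exact ⟨i, hi, by rw [e]; group⟩
  · exact (congrArg (fun x => g * x * g⁻¹) (h.co j hj).2).trans (e _)
  · exact (MulAut.conj g).injective ((e m).trans (e'.trans (map_one _).symm))

theorem TT.comm_of_two (h : TT Y) {P : Subgroup G} (hP : IsPGroup 2 P) {x y : G} (hx : x ∈ Y) (hy : y ∈ Y)
    (h1 : x ∈ P) (h2 : y ∈ P) : Commute x y := by
  by_contra n
  obtain ⟨j, e⟩ := hP ⟨_, mul_mem h1 h2⟩
  have := eq_one_of_pow_prime_pow (p := 2) (q := 3) (by norm_num) (h.cube hx hy n) (congrArg Subtype.val e)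
  rw [mul_eq_one_iff_eq_inv, h.inv hy] at this
  exact n (this ▸ Commute.refl _)

theorem BM.inter (h : BM Y r k c b) {P : Subgroup G} (hP : IsPGroup 2 P) (hE : closure (Bs b r) ≤ P) :
    {y | y ∈ Y ∧ y ∈ P} = Bs b r :=
  Set.ext fun y => ⟨fun a => h.max y a.1 fun i hi => h.tt.comm_of_two hP (h.mem i hi) a.1
    (hE (subset_closure ⟨i, hi, rfl⟩)) a.2, fun ⟨i, hi, e⟩ => e ▸ ⟨h.mem i hi, hE (subset_closure ⟨i, hi, rfl⟩)⟩⟩

/-- A base generating the Thompson subgroup of a Sylow 2-subgroup. -/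
def JB (Y : Set G) (r k : ℕ) (c : ℕ → ℕ) (b : ℕ → G) : Prop :=
  BM Y r k c b ∧ (∀ g, ∀ y ∈ Y, g * y * g⁻¹ ∈ Y) ∧ ∃ P : Sylow 2 G, Uq k P (closure (Bs b r))

theorem JB.all [Finite G] (h : JB Y r k c b) (T : Sylow 2 G) :
    ∃ g, Uq k T (closure (Bs (fun i => g * b i * g⁻¹) r)) := by
  obtain ⟨-, -, P, u⟩ := h
  obtain ⟨g, rfl⟩ := MulAction.exists_smul_eq G P T
  exact ⟨g, map_Bs (MulAut.conj g).toMonoidHom b r ▸ u.map (MulAut.conj g).injective⟩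

theorem JB.two [Finite G] (h : JB Y r k c b) {Z : Set G} (h1 : Z ⊆ Y) (h2 : ∀ a ∈ Z, ∀ b ∈ Z, Commute a b) :
    ∃ g, Z ⊆ Bs (fun i => g * b i * g⁻¹) r := by
  obtain ⟨T, hT⟩ := (two_group_closure (fun a ha => h.1.tt.sq (h1 ha)) h2).exists_le_sylow
  obtain ⟨g, u⟩ := h.all T
  exact ⟨g, fun z hz => (h.1.conj h.2.1 g).inter T.isPGroup' u.1 ▸ ⟨h1 hz, hT (subset_closure hz)⟩⟩

theorem JB.thompson [Finite G] (h : JB Y r k c b) (T : Sylow 2 G) :
    closure {x | x ∈ Y ∧ x ∈ (T : Subgroup G)} = thompsonSubgroupOf 2 (T : Subgroup G) := by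
  obtain ⟨g, u⟩ := h.all T
  rw [u.thompson, (h.1.conj h.2.1 g).inter T.isPGroup' u.1]

/-! ### The models -/

theorem md_ai {P : Par} (M : Md G P) (hT : TT M.D) : AI M.D M.τ (okM P) (pt P) (apM P) :=
  ⟨hT, fun _ hp => M.τ_mem (ble_tt.1 hp), fun _ ⟨p, hp, e⟩ => ⟨p, ble_tt.2 hp, e⟩,
    fun p q hp hq => M.inj p (ble_tt.1 hp) q (ble_tt.1 hq), fun u p hu hp => by
      rw [apM, M.ap_eq, M.v_pt]
      exact ⟨ble_tt.2 (M.lt _ (ble_tt.1 hp)), by
        rw [← M.conj _ _ (ble_tt.1 hp), hT.inv (M.τ_mem (ble_tt.1 hu))]⟩⟩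

theorem md_conj {P : Par} (M : Md G P) (g : G) : ∀ y ∈ M.D, g * y * g⁻¹ ∈ M.D := fun _ ⟨p, hp, e⟩ =>
  e ▸ (M.conj g p hp).symm ▸ M.τ_mem (M.lt g hp)

theorem md_bm {P : Par} (M : Md G P) (hT : TT M.D) {Bn Bp Q' : List ℕ}
    (h : bmB (okM P) (pt P) (apM P) Bn Bp r k c P.B Q' = true) (hl : Bn.length = r)
    (mx : Nat.beq (candS P (Bn.map fun u => (u, 0)) []) 0 = true) : BM M.D r k c fun i => M.τ (nth 0 Bp i) := by
  have h' := h
  simp only [bmB, cnd_tt, allN_iff, beq_tt, Bool.and_eq_true, allL_iff] at h'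
  refine (md_ai M hT).bm h (fun g hg => M.base g fun q hq => (M.comm_iff g (ble_tt.1 (h'.2.2.1.1 q hq))).1 (hg q hq))
    fun p hp hc => ?_
  by_contra n
  push Not at n
  have := (M.candS_iff (C := Bn.map fun u => (u, 0)) (N := []) (by simp [Fi.ptsB, allL_iff, apd_eq]) (ble_tt.1 hp)).2
    ⟨fun e he => ?_, by simp⟩
  · rw [beq_tt.1 mx] at this; simp at this
  · obtain ⟨u, hu, rfl⟩ := List.mem_map.1 he
    obtain ⟨i, hi, rfl⟩ := List.getElem_of_mem hu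
    have e : pt P Bn[i] = nth 0 Bp i := by rw [← (h'.1 i (hl ▸ hi)).1]; simp [nth_eq, hi]
    rw [M.v_pt, e]
    exact ⟨hc i (hl ▸ hi), fun e' => n i (hl ▸ hi) (M.inj _ (ble_tt.1 hp) _ (ble_tt.1 (h'.1 i (hl ▸ hi)).2.1) e').symm⟩

theorem CM.ai {X : Set G} {t : ℕ → G} (H : CM X t) : AI X t okU (fun u => u) opU :=
  ⟨H.tt, H.cc.mem, H.cc.surj, H.cc.inj, H.cc.conj⟩

theorem CM.faith {X : Set G} {t : ℕ → G} (H : CM X t) (h1 : closure X = ⊤) (h2 : center G = ⊥) (g : G)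
    (hg : ∀ q ∈ [109, 3, 69, 12, 40, 127, 1263, 275].map Cd.nrm, Commute g (t q)) : g = 1 := by
  refine eq_one_of_commute h1 h2 fun y hy => commute_of_mem_closure ?_
    (H.subset_cl (γ := fun x => t (LC x)) (fun _ _ => rfl) hy)
  rintro _ ⟨x, hx, rfl⟩
  have a : ∀ x ∈ L8, Cd.iso (LC x) = true ∧ LC x ∈ [109, 3, 69, 12, 40, 127, 1263, 275] := by decide +kernel
  obtain ⟨-, -, a1, a2⟩ := Cd.nrm_spec (Cd.iso_lt (a x hx).1)
  have := hg _ (List.mem_map_of_mem (a x hx).2)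
  rwa [(H.eq_iff (a2.trans (a x hx).1) (a x hx).1).2 a1] at this

theorem CM.bm {X : Set G} {t : ℕ → G} (H : CM X t) (h1 : closure X = ⊤) (h2 : center G = ⊥) :
    BM X 21 9 BU.c fun i => t (nth 0 BU.Bp i) := by
  refine H.ai.bm BU.bm (fun g hg => H.faith h1 h2 g (by convert hg using 3; decide +kernel)) fun p hp hc => ?_
  have := allN_iff.1 BU.mx p (H.cc.lt p hp)
  simp only [hp, Bool.not_true, Bool.false_or, Bool.or_eq_true, List.elem_iff, List.any_eq_true, Bool.not_eq_true'] at this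
  have k : ∀ u ∈ BU.Bp, ∃ i < 21, nth 0 BU.Bp i = u := fun u hu => by
    obtain ⟨i, hi, rfl⟩ := List.getElem_of_mem hu
    exact ⟨i, hi, by simp [nth_eq, hi]⟩
  rcases this with a | ⟨u, hu, a⟩
  · exact k p a
  · obtain ⟨i, hi, rfl⟩ := k u hu
    have o : ∀ i < 21, okU (nth 0 BU.Bp i) = true := by decide +kernel
    rw [(H.ai.comm (o i hi) hp).1 (hc i hi), Nat.beq_refl] at a
    exact Bool.noConfusion a

theorem s22_bm (S : S22 G) (hT : TT S.M.D) : BM S.M.D 22 10 BF.c fun i => S.M.τ (nth 0 BF.Bp i) :=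
  md_bm S.M hT BF.bm rfl BF.mx

variable [Finite G]

theorem s22_jb (S : S22 G) (hT : TT S.M.D) : JB S.M.D 22 10 BF.c fun i => S.M.τ (nth 0 BF.Bp i) := by
  have h := s22_bm S hT
  obtain ⟨P, -, -, h1, h2⟩ := h.sylow ((md_ai S.M hT).cods BF.cT) (m := 7) (o := 492567075) (by rw [prs_snd]; exact BF.sy)
    S.card (by decide)
  exact ⟨h, md_conj S.M, P, h1, h.elemAb, h.card, h2⟩

theorem s23_jb (S : S23 G) (hT : TT S.M.D) : JB S.M.D 23 11 BH.c fun i => S.M.τ (nth 0 BH.Bp i) := by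
  have h : BM S.M.D 23 11 BH.c fun i => S.M.τ (nth 0 BH.Bp i) := md_bm S.M hT BH.bm rfl BH.mx
  obtain ⟨P, -, -, h1, h2⟩ := h.sylow ((md_ai S.M hT).cods BH.cT) (m := 7) (o := 15600091832325)
    (by rw [prs_snd]; exact BH.sy) S.card (by decide)
  exact ⟨h, md_conj S.M, P, h1, h.elemAb, h.card, h2⟩

end Cfsg.Lib.Known2
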