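import Cfsg.Agent.Lib.Known2.PF
import Cfsg.Agent.Lib.Comp.TVec

/-! Bases (maximal commuting sets of 3-transpositions) in coordinates; the Thompson subgroup. -/

set_option autoImplicit false

namespace Cfsg.Lib.Known2

open Subgroup Cfsg.Lib.Comp Cd

variable {G G' : Type*} [Group G] [Group G']

/-- Product of the letters in the mask `m`. -/
def evb (e : ℕ → G) : ℕ → ℕ → G
  | 0, _ => 1
  | i + 1, m => evb e i m * if m.testBit i then e i else 1

/-- Commuting involutions. -/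
structure EA (e : ℕ → G) (k : ℕ) : Prop where
  sq : ∀ i < k, e i * e i = 1
  comm : ∀ i < k, ∀ j < k, Commute (e i) (e j)

noncomputable def lin (col : ℕ → ℕ) (k m : ℕ) : ℕ :=
  Nat.rec (motive := fun _ => ℕ) 0 (fun i ih => force ih fun a => cnd (bt m i) (Nat.xor a (col i)) a) k

theorem lin_succ (col : ℕ → ℕ) (k m : ℕ) : lin col (k + 1) m = lin col k m ^^^ if m.testBit k then col k else 0 := by
  change cnd (bt m k) _ _ = _
  rw [cnd_eq, bt_eq]
  split_ifs
  · rfl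
  · exact (Nat.xor_zero _).symm

theorem lin_xor (col : ℕ → ℕ) (k m n : ℕ) : lin col k (m ^^^ n) = lin col k m ^^^ lin col k n := by
  induction k with
  | zero => exact (Nat.xor_self 0).symm
  | succ k ih =>
    simp only [lin_succ, ih, Nat.testBit_xor]
    refine Nat.eq_of_testBit_eq fun i => ?_
    cases m.testBit k <;> cases n.testBit k <;> simp [Bool.xor_comm, Bool.xor_left_comm]

theorem lin_lt {col : ℕ → ℕ} {k n : ℕ} (h : ∀ i < k, col i < 2 ^ n) (m : ℕ) : lin col k m < 2 ^ n := by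
  induction k with
  | zero => exact Nat.two_pow_pos n
  | succ k ih =>
    rw [lin_succ]
    refine Nat.xor_lt_two_pow (ih fun i hi => h i (by omega)) ?_
    split_ifs
    exacts [h k (by omega), Nat.two_pow_pos n]

theorem lin_congr {col : ℕ → ℕ} {k m n : ℕ} (h : ∀ i < k, m.testBit i = n.testBit i) : lin col k m = lin col k n := by
  induction k with
  | zero => rfl
  | succ k ih => rw [lin_succ, lin_succ, ih fun i hi => h i (by omega), h k (by omega)]

theorem evb_congr {e : ℕ → G} {k m n : ℕ} (h : ∀ i < k, m.testBit i = n.testBit i) : evb e k m = evb e k n := by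
  induction k with
  | zero => rfl
  | succ k ih => rw [evb, evb, ih fun i hi => h i (by omega), h k (by omega)]

theorem evb_congr' {e e' : ℕ → G} {k : ℕ} (h : ∀ i < k, e i = e' i) (m : ℕ) : evb e k m = evb e' k m := by
  induction k with
  | zero => rfl
  | succ k ih => rw [evb, evb, ih fun i hi => h i (by omega), h k (by omega)]

theorem evb_zero (e : ℕ → G) (k : ℕ) : evb e k 0 = 1 := by
  induction k with
  | zero => rfl
  | succ k ih => simp [evb, ih]

theorem evb_mem {e : ℕ → G} {k : ℕ} {H : Subgroup G} (h : ∀ i < k, e i ∈ H) (m : ℕ) : evb e k m ∈ H := by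
  induction k with
  | zero => exact one_mem _
  | succ k ih =>
    refine mul_mem (ih fun i hi => h i (by omega)) ?_
    split_ifs
    exacts [h k (by omega), one_mem _]

theorem evb_comm {e : ℕ → G} {k : ℕ} {x : G} (h : ∀ i < k, Commute x (e i)) (m : ℕ) : Commute x (evb e k m) :=
  (mem_centralizer_singleton_iff.1 (evb_mem (H := centralizer {x})
    (fun i hi => mem_centralizer_singleton_iff.2 (h i hi).symm) m) : Commute _ _).symm

theorem evb_pow (e : ℕ → G) {k i : ℕ} (hi : i < k) : evb e k (2 ^ i) = e i := by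
  induction k with
  | zero => omega
  | succ k ih =>
    rw [evb, Nat.testBit_two_pow]
    rcases Nat.lt_succ_iff_lt_or_eq.1 hi with h | rfl
    · simp [ih h, h.ne]
    · rw [evb_congr (n := 0) fun j hj => by simp [Nat.testBit_two_pow, hj.ne'], evb_zero]; simp

theorem map_evb (f : G →* G') (e : ℕ → G) (k m : ℕ) : f (evb e k m) = evb (fun i => f (e i)) k m := by
  induction k with
  | zero => exact map_one f
  | succ k ih => rw [evb, evb, map_mul, ih]; split_ifs <;> simp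

namespace EA

variable {e : ℕ → G} {k : ℕ} (h : EA e k)
include h

theorem mono {j : ℕ} (hj : j ≤ k) : EA e j :=
  ⟨fun i hi => h.sq i (by omega), fun i hi l hl => h.comm i (by omega) l (by omega)⟩

theorem xor (m n : ℕ) : evb e k (m ^^^ n) = evb e k m * evb e k n := by
  induction k with
  | zero => exact (mul_one _).symm
  | succ k ih =>
    have c : ∀ x, e k * evb e k n * x = evb e k n * (e k * x) := fun x => by
      rw [(evb_comm (fun i hi => h.comm k (by omega) i (by omega)) n).eq, mul_assoc]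
    simp only [evb, ih (h.mono (by omega)), Nat.testBit_xor]
    cases m.testBit k <;> cases n.testBit k <;> simp [mul_assoc]
    · simpa using (c 1).symm
    · rw [← mul_assoc, c, h.sq k (by omega), mul_one]

theorem evb_sq (m : ℕ) : evb e k m * evb e k m = 1 := by rw [← h.xor, Nat.xor_self, evb_zero]

theorem surj {S : Set G} (hS : ∀ x ∈ S, ∃ m < 2 ^ k, evb e k m = x) {x : G} (hx : x ∈ closure S) :
    ∃ m < 2 ^ k, evb e k m = x := by
  induction hx using closure_induction with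
  | mem x hx => exact hS x hx
  | one => exact ⟨0, Nat.two_pow_pos k, evb_zero e k⟩
  | mul x y _ _ a b =>
    obtain ⟨m, a, rfl⟩ := a
    obtain ⟨n, b, rfl⟩ := b
    exact ⟨_, Nat.xor_lt_two_pow a b, h.xor m n⟩
  | inv x _ a =>
    obtain ⟨m, a, rfl⟩ := a
    exact ⟨m, a, eq_inv_of_mul_eq_one_left (h.evb_sq m)⟩

theorem lin {e' : ℕ → G} {j : ℕ} {col : ℕ → ℕ} (hc : ∀ i < j, e' i = evb e k (col i)) (m : ℕ) :
    evb e' j m = evb e k (lin col j m) := by
  induction j with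
  | zero => exact (evb_zero e k).symm
  | succ j ih =>
    rw [evb, lin_succ, h.xor, ih fun i hi => hc i (by omega)]
    split_ifs
    exacts [by rw [hc j (by omega)], by rw [evb_zero]]

theorem conj {g : G} {col : ℕ → ℕ} (hc : ∀ i < k, g * e i * g⁻¹ = evb e k (col i)) (m : ℕ) :
    g * evb e k m * g⁻¹ = evb e k (Known2.lin col k m) :=
  (map_evb (MulAut.conj g).toMonoidHom e k m).trans (h.lin hc m)

theorem inj (hi : ∀ m < 2 ^ k, evb e k m = 1 → m = 0) {m n : ℕ} (hm : m < 2 ^ k) (hn : n < 2 ^ k)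
    (e1 : evb e k m = evb e k n) : m = n :=
  Nat.eq_of_xor_eq_zero (hi _ (Nat.xor_lt_two_pow hm hn) (by rw [h.xor, e1, h.evb_sq]))

theorem ncard (hi : ∀ m < 2 ^ k, evb e k m = 1 → m = 0) {S : Set G} (hS : ∀ x ∈ S, ∃ m < 2 ^ k, evb e k m = x) :
    S.ncard = {m | m < 2 ^ k ∧ evb e k m ∈ S}.ncard := by
  rw [← Set.InjOn.ncard_image (f := evb e k) fun m a n b c => h.inj hi a.1 b.1 c]
  congr 1
  exact Set.ext fun x => ⟨fun hx => let ⟨m, a, b⟩ := hS x hx; ⟨m, ⟨a, b ▸ hx⟩, b⟩, fun ⟨m, a, b⟩ => b ▸ a.2⟩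

theorem card (hi : ∀ m < 2 ^ k, evb e k m = 1 → m = 0) {E : Subgroup G} (h1 : ∀ i < k, e i ∈ E)
    (h2 : ∀ x ∈ E, ∃ m < 2 ^ k, evb e k m = x) : Nat.card E = 2 ^ k := by
  rw [← SetLike.coe_sort_coe, Nat.card_coe_set_eq, h.ncard hi h2,
    show {m | m < 2 ^ k ∧ evb e k m ∈ (E : Set G)} = Set.Iio (2 ^ k) from
      Set.ext fun m => ⟨fun a => a.1, fun a => ⟨a, evb_mem h1 m⟩⟩, Set.ncard_Iio_nat]

end EA

/-- The masks `m < 2 ^ k` with `lin col k m = δ`. -/
noncomputable def fx (col : ℕ → ℕ) (k : ℕ) : ℕ → ℕ :=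
  Nat.rec (motive := fun _ => ℕ → ℕ) (fun δ => cnd (Nat.beq δ 0) 1 0) (fun i ih δ =>
    force (ih δ) fun a => force (Nat.xor δ (col i)) fun δ' => force (ih δ') fun b =>
      Nat.lor a (Nat.shiftLeft b (Nat.shiftLeft 1 i))) k

theorem fx_spec (col : ℕ → ℕ) {k m : ℕ} (hm : m < 2 ^ k) : (fx col k (lin col k m)).testBit m = true := by
  induction k generalizing m with
  | zero =>
    obtain rfl : m = 0 := by omega
    exact (by decide : Nat.testBit 1 0 = true)
  | succ k ih =>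
    change ((fx col k _) ||| (fx col k (_ ^^^ col k)) <<< (1 <<< k)).testBit m = true
    rw [Nat.testBit_or, Nat.one_shiftLeft, Nat.testBit_shiftLeft, lin_succ, Bool.or_eq_true]
    by_cases h : m < 2 ^ k
    · rw [Nat.testBit_lt_two_pow h]; exact Or.inl (by simpa using ih h)
    · have h1 : m - 2 ^ k < 2 ^ k := by rw [pow_succ] at hm; omega
      have h2 : m = 2 ^ k + (m - 2 ^ k) := by omega
      have h3 : m.testBit k = true := by rw [h2, Nat.testBit_two_pow_add_eq, Nat.testBit_lt_two_pow h1]; rfl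
      have h4 : lin col k m = lin col k (m - 2 ^ k) := lin_congr fun i hi => by
        conv_lhs => rw [h2, Nat.testBit_two_pow_add_gt hi]
      right
      rw [h3, if_pos rfl, Nat.xor_xor_cancel_right, h4, ih h1]; simp; omega

theorem lin_add (a b : ℕ → ℕ) (k m : ℕ) : lin (fun i => Nat.xor (a i) (b i)) k m = lin a k m ^^^ lin b k m := by
  induction k with
  | zero => exact (Nat.xor_self 0).symm
  | succ k ih =>
    rw [lin_succ, lin_succ, lin_succ, ih, xor_eq']
    refine Nat.eq_of_testBit_eq fun i => ?_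
    cases m.testBit k <;> simp [Bool.xor_comm, Bool.xor_left_comm]

theorem lin_id {k m : ℕ} (hm : m < 2 ^ k) : lin (Nat.shiftLeft 1) k m = m := by
  have : ∀ j, ∀ i, (lin (Nat.shiftLeft 1) j m).testBit i = (decide (i < j) && m.testBit i) := fun j i => by
    induction j with
    | zero => simp [lin]
    | succ j ih =>
      rw [lin_succ, Nat.testBit_xor, ih, shl_eq, Nat.one_shiftLeft]
      by_cases e : j = i
      · subst e; cases h : m.testBit j <;> simp [h]
      · have : decide (i < j + 1) = decide (i < j) := by simp; omega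
        rw [this]
        split_ifs <;> simp [Nat.testBit_two_pow, e]
  refine Nat.eq_of_testBit_eq fun i => ?_
  rw [this]
  by_cases h : i < k
  · simp [h]
  · rw [Nat.testBit_lt_two_pow (hm.trans_le (Nat.pow_le_pow_right two_pos (not_lt.1 h)))]; simp

/-- The fixed masks. -/
noncomputable def fxM (col : ℕ → ℕ) (k : ℕ) : ℕ := fx (fun i => Nat.xor (col i) (Nat.shiftLeft 1 i)) k 0

theorem fxM_spec {col : ℕ → ℕ} {k m : ℕ} (hm : m < 2 ^ k) (h : lin col k m = m) : (fxM col k).testBit m = true := by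
  have := fx_spec (fun i => Nat.xor (col i) (Nat.shiftLeft 1 i)) hm
  rwa [lin_add, h, lin_id hm, Nat.xor_self] at this

/-! ### Codes of permutations -/

noncomputable def enc (r : ℕ) (f : ℕ → ℕ) : ℕ :=
  Nat.rec (motive := fun _ => ℕ) 0 (fun i ih => force ih fun a => Nat.add a (Nat.shiftLeft (f i) (Nat.mul 5 i))) r

theorem enc_eq (r : ℕ) (f : ℕ → ℕ) : enc r f = ∑ j ∈ Finset.range r, f j * 2 ^ (5 * j) := by
  induction r with
  | zero => rfl
  | succ r ih => rw [Finset.sum_range_succ, ← ih, ← Nat.shiftLeft_eq]; rfl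

theorem enc_congr {r : ℕ} {f g : ℕ → ℕ} (h : ∀ i < r, f i = g i) : enc r f = enc r g := by
  rw [enc_eq, enc_eq]
  exact Finset.sum_congr rfl fun i hi => by rw [h i (Finset.mem_range.1 hi)]

theorem look_enc {r : ℕ} {f : ℕ → ℕ} (hf : ∀ i < r, f i < 32) {i : ℕ} (hi : i < r) : look (enc r f) 5 i = f i := by
  rw [enc_congr (g := fun i => if i < r then f i else 0) fun i hi => by simp [hi], enc_eq,
    look_dsum (fun j => by split_ifs with h; exacts [hf j h, by norm_num]) hi, if_pos hi]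

noncomputable def cmp (r π σ : ℕ) : ℕ := enc r fun i => look π 5 (look σ 5 i)
noncomputable def idc (r : ℕ) : ℕ := enc r fun i => i

/-- A base in coordinates. -/
structure BM (Y : Set G) (r k : ℕ) (c : ℕ → ℕ) (b : ℕ → G) : Prop where
  tt : TT Y
  mem : ∀ i < r, b i ∈ Y
  comm : ∀ i < r, ∀ j < r, Commute (b i) (b j)
  max : ∀ y ∈ Y, (∀ i < r, Commute (b i) y) → ∃ i < r, b i = y
  kr : k ≤ r ∧ r ≤ 32
  co : ∀ j < r, c j < 2 ^ k ∧ b j = evb b k (c j)
  inj : ∀ m < 2 ^ k, evb b k m = 1 → m = 0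
  binj : ∀ i < r, ∀ j < r, b i = b j → i = j

def Bs (b : ℕ → G) (r : ℕ) : Set G := {x | ∃ i < r, b i = x}

/-- `g` permutes the base according to the code `π`. -/
def Cod (b : ℕ → G) (r : ℕ) (g : G) (π : ℕ) : Prop :=
  (∀ i < r, look π 5 i < r ∧ g * b i * g⁻¹ = b (look π 5 i)) ∧ enc r (look π 5) = π

noncomputable def dbl (r : ℕ) (l : List ℕ) : List ℕ :=
  List.rec (motive := fun _ => List ℕ) [idc r] (fun π _ ih => apd ih (ih.map (cmp r π))) l

noncomputable def mapK {α : Type} (f : ℕ → ℕ) (l : List ℕ) : (List ℕ → α) → α :=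
  List.rec (motive := fun _ => (List ℕ → α) → α) (fun k => k []) (fun x _ ih k => force (f x) fun y => ih fun t => k (y :: t)) l

theorem mapK_eq {α : Type} (f : ℕ → ℕ) (l : List ℕ) (k : List ℕ → α) : mapK f l k = k (l.map f) := by
  induction l generalizing k with
  | nil => rfl
  | cons x l ih => exact ih _

noncomputable def syB (r k m : ℕ) (c : ℕ → ℕ) (Gs L Iv : List ℕ) : Bool :=
  cnd (dbl r Gs == L) (cnd (decide L.Nodup && Nat.beq L.length (2 ^ m)) (cnd (allL Gs fun π => allL L fun σ =>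
    force (cmp r π σ) L.elem) (force (idc r) fun o => cnd (allL L fun σ => Nat.beq σ o || (!Nat.beq (cmp r σ σ) o || Iv.elem σ))
    (cnd (Nat.ble (Iv.countP fun x => Nat.ble 31 (Iv.countP fun y => Nat.beq (cmp r x y) (cmp r y x))) 30)
      (cnd (Nat.ble 5 k) (mapK (fun σ => fxM (fun i => c (look σ 5 i)) k) Iv fun Fs => allN Iv.length fun i =>
        cnd (Nat.ble (cnt (nth 0 Fs i) (2 ^ k) 0) (2 ^ (k - 4))) (allN Iv.length fun j =>
          Nat.beq i j || Nat.ble (Nat.succ (cnt (Nat.land (nth 0 Fs i) (nth 0 Fs j)) (2 ^ k) 0)) (2 ^ (k - 4))) false)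
        false) false) false) false) false) false

theorem ncard_le_countP {l : List ℕ} {p : ℕ → Bool} {S : Set ℕ} (h : ∀ x ∈ S, x ∈ l ∧ p x = true) :
    S.ncard ≤ l.countP p := by
  classical
  rw [List.countP_eq_length_filter]
  refine le_trans ?_ (List.toFinset_card_le _)
  rw [← Set.ncard_coe_finset]
  exact Set.ncard_le_ncard (fun x hx => by simpa using h x hx) (Finset.finite_toSet _)

theorem two_pow_card [Finite G] {A : Subgroup G} (h : ∀ a ∈ A, a * a = 1) : ∃ n, Nat.card A = 2 ^ n :=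
  IsPGroup.iff_card.1 fun a => ⟨1, Subtype.ext (by simpa [sq] using h a a.2)⟩

theorem card_inf_mul (K A : Subgroup G) : Nat.card ↥(A ⊓ K) * K.relIndex A = Nat.card A := by
  rw [← (K.subgroupOf A).card_mul_index, ← inf_subgroupOf_left,
    Nat.card_congr (subgroupOfEquivOfLe inf_le_left).toEquiv, inf_subgroupOf_left]; rfl

namespace BM

variable {Y : Set G} {r k : ℕ} {c : ℕ → ℕ} {b : ℕ → G} (h : BM Y r k c b)
include h

theorem ea : EA b k :=
  ⟨fun i hi => h.tt.sq (h.mem i (by have := h.kr; omega)),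
    fun i hi j hj => h.comm i (by have := h.kr; omega) j (by have := h.kr; omega)⟩

theorem surj {x : G} (hx : x ∈ closure (Bs b r)) : ∃ m < 2 ^ k, evb b k m = x :=
  h.ea.surj (S := Bs b r) (fun _ ⟨i, hi, e⟩ => ⟨c i, (h.co i hi).1, e ▸ (h.co i hi).2.symm⟩) hx

theorem card : Nat.card (closure (Bs b r)) = 2 ^ k :=
  h.ea.card h.inj (fun i hi => subset_closure ⟨i, by have := h.kr; omega, rfl⟩) fun _ => h.surj

theorem le_cent : closure (Bs b r) ≤ centralizer (Bs b r) :=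
  (closure_le _).2 fun _ ⟨i, hi, e⟩ => mem_centralizer_iff.2 fun _ ⟨j, hj, e'⟩ => e ▸ e' ▸ h.comm j hj i hi

theorem elemAb : IsElementaryAbelian 2 (closure (Bs b r)) := by
  refine ⟨IsMulCommutative.of_comm fun x y => Subtype.ext ?_, fun a ha => ?_⟩
  · exact (closure_le (centralizer {(y : G)})).2 (fun s hs => mem_centralizer_singleton_iff.2 (h.le_cent y.2 s hs)) x.2
      _ rfl |>.symm
  · obtain ⟨m, -, rfl⟩ := h.surj ha
    rw [sq, h.ea.evb_sq]

theorem cod_unique {g : G} {π σ : ℕ} (a : Cod b r g π) (a' : Cod b r g σ) : π = σ := by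
  rw [← a.2, ← a'.2]
  exact enc_congr fun i hi => h.binj _ (a.1 i hi).1 _ (a'.1 i hi).1 ((a.1 i hi).2.symm.trans (a'.1 i hi).2)

theorem cod_enc {g : G} {f : ℕ → ℕ} (hf : ∀ i < r, f i < r ∧ g * b i * g⁻¹ = b (f i)) : Cod b r g (enc r f) :=
  have e : ∀ i < r, look (enc r f) 5 i = f i := fun _ hi => look_enc (fun j hj => (hf j hj).1.trans_le h.kr.2) hi
  ⟨fun i hi => by rw [e i hi]; exact hf i hi, enc_congr e⟩

theorem cod_mul {g g' : G} {π σ : ℕ} (a : Cod b r g π) (a' : Cod b r g' σ) : Cod b r (g * g') (cmp r π σ) :=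
  h.cod_enc fun i hi => ⟨(a.1 _ (a'.1 i hi).1).1, by rw [← (a.1 _ (a'.1 i hi).1).2, ← (a'.1 i hi).2]; group⟩

theorem cod_id {g : G} : Cod b r g (idc r) ↔ g ∈ centralizer (Bs b r) := by
  refine ⟨fun a _ ⟨i, hi, e⟩ => ?_, fun a => h.cod_enc fun i hi => ⟨hi, by rw [← a _ ⟨i, hi, rfl⟩]; group⟩⟩
  have := (a.1 i hi).2
  rw [idc, look_enc (fun j hj => hj.trans_le h.kr.2) hi, e, mul_inv_eq_iff_eq_mul] at this
  exact this.symm

theorem cod_iff {g g' : G} {π σ : ℕ} (a : Cod b r g π) (a' : Cod b r g' σ) :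
    g⁻¹ * g' ∈ centralizer (Bs b r) ↔ π = σ := by
  refine ⟨fun e => h.cod_unique ⟨fun i hi => ⟨(a.1 i hi).1, ?_⟩, a.2⟩ a', fun e _ ⟨i, hi, e'⟩ => ?_⟩
  · have := e _ ⟨i, hi, rfl⟩
    rw [← (a.1 i hi).2]
    calc g' * b i * g'⁻¹ = g * (g⁻¹ * g' * b i) * g'⁻¹ := by group
      _ = _ := by rw [← this]; group
  · have := (a.1 i hi).2.trans (e ▸ (a'.1 i hi).2.symm)
    rw [← e']
    calc b i * (g⁻¹ * g') = g⁻¹ * (g * b i * g⁻¹) * g' := by group
      _ = _ := by rw [this]; group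

theorem relIndex {A : Subgroup G} (hA : ∀ a ∈ A, ∃ π, Cod b r a π) :
    (centralizer (Bs b r)).relIndex A = {π | ∃ a ∈ A, Cod b r a π}.ncard := by
  choose f hf using fun a : A => hA a a.2
  have e : QuotientGroup.leftRel ((centralizer (Bs b r)).subgroupOf A) = Setoid.ker f := by
    ext x y
    rw [QuotientGroup.leftRel_apply, Setoid.ker_def, ← h.cod_iff (hf x) (hf y)]; rfl
  have e2 : Set.range f = {π | ∃ a ∈ A, Cod b r a π} :=
    Set.ext fun π => ⟨fun ⟨a, e⟩ => ⟨a, a.2, e ▸ hf a⟩, fun ⟨a, ha, e⟩ => ⟨⟨a, ha⟩, h.cod_unique (hf _) e⟩⟩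
  rw [← e2, ← Nat.card_coe_set_eq, ← Nat.card_congr (Setoid.quotientKerEquivRange f), ← e]; rfl

theorem dbl_mem {T : List (G × ℕ)} (hT : ∀ x ∈ T, Cod b r x.1 x.2) {H : Subgroup G} (hH : ∀ x ∈ T, x.1 ∈ H) :
    ∀ π ∈ dbl r (T.map (·.2)), ∃ g ∈ H, Cod b r g π := by
  induction T with
  | nil => exact fun π hπ => ⟨1, one_mem _, List.mem_singleton.1 hπ ▸ h.cod_id.2 (one_mem _)⟩
  | cons x T ih =>
    intro π hπ
    have ih := ih (fun y hy => hT y (List.mem_cons_of_mem _ hy)) fun y hy => hH y (List.mem_cons_of_mem _ hy)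
    rcases List.mem_append.1 (apd_eq _ _ ▸ hπ : π ∈ dbl r (T.map (·.2)) ++ (dbl r (T.map (·.2))).map (cmp r x.2)) with a | a
    · exact ih π a
    · obtain ⟨σ, a', rfl⟩ := List.mem_map.1 a
      obtain ⟨g, g1, g2⟩ := ih σ a'
      exact ⟨_, mul_mem (hH x List.mem_cons_self) g1, h.cod_mul (hT x List.mem_cons_self) g2⟩

theorem fix_le {A : Subgroup G} (hA : IsMulCommutative A) {a a' : G} (ha : a ∈ A) (ha' : a' ∈ A) {π π' : ℕ}
    (h1 : Cod b r a π) (h2 : Cod b r a' π') :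
    Nat.card ↥(A ⊓ closure (Bs b r)) ≤
      cnt (Nat.land (fxM (fun i => c (look π 5 i)) k) (fxM (fun i => c (look π' 5 i)) k)) (2 ^ k) 0 := by
  rw [cnt_eq, zero_add, ← SetLike.coe_sort_coe, Nat.card_coe_set_eq, h.ea.ncard h.inj fun x hx => h.surj hx.2]
  have key : ∀ a ∈ A, ∀ π, Cod b r a π → ∀ m < 2 ^ k, evb b k m ∈ A →
      (fxM (fun i => c (look π 5 i)) k).testBit m = true := fun a ha π h1 m hm hx => by
    have hl := fun i (hi : i < k) => h1.1 i (hi.trans_le h.kr.1)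
    refine fxM_spec hm (h.ea.inj h.inj (lin_lt (fun i hi => (h.co _ (hl i hi).1).1) m) hm ?_)
    rw [← h.ea.conj fun i hi => (hl i hi).2.trans (h.co _ (hl i hi).1).2, mul_inv_eq_iff_eq_mul]
    exact congrArg Subtype.val (hA.is_comm.comm ⟨a, ha⟩ ⟨_, hx⟩)
  refine Set.ncard_le_ncard (fun m hm => ⟨hm.1, ?_⟩) ((Set.finite_lt_nat _).subset fun _ h => h.1)
  rw [land_eq', Nat.testBit_and, key a ha π h1 m hm.1 hm.2.1, key a' ha' π' h2 m hm.1 hm.2.1]; rfl

theorem sylow [Finite G] {T : List (G × ℕ)} (hT : ∀ x ∈ T, x.1 * x.1 = 1 ∧ Cod b r x.1 x.2) {m o : ℕ} {L Iv : List ℕ}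
    (hb : syB r k m c (T.map (·.2)) L Iv = true) (hc : Nat.card G = 2 ^ (k + m) * o) (ho : Odd o) :
    ∃ P : Sylow 2 G, Nat.card P = 2 ^ (k + m) ∧ (P : Subgroup G) ≤ closure (Bs b r ∪ {g | ∃ x ∈ T, x.1 = g}) ∧
      closure (Bs b r) ≤ P ∧ ∀ A ≤ (P : Subgroup G), IsElementaryAbelian 2 A → 2 ^ k ≤ Nat.card A → A = closure (Bs b r) := by
  simp only [syB, cnd_tt, force_eq, mapK_eq, beq_iff_eq, Bool.and_eq_true, decide_eq_true_eq, beq_tt, allL_iff,
    List.elem_iff, Bool.or_eq_true, Bool.not_eq_true', ble_tt, allN_iff] at hb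
  obtain ⟨b1, ⟨b2, b3⟩, b4, b5, b6, b7, b8⟩ := hb
  set H := closure (Bs b r ∪ {g | ∃ x ∈ T, x.1 = g})
  set K := centralizer (Bs b r)
  set E := closure (Bs b r)
  have hE : E ≤ H := closure_mono Set.subset_union_left
  have i0 : idc r ∈ L := by
    rw [← b1]
    induction T.map (·.2) with
    | nil => exact List.mem_singleton_self _
    | cons x l ih => change _ ∈ apd (dbl r l) _; rw [apd_eq]; exact List.mem_append_left _ ih
  have h1 : ∀ g ∈ H, ∃ π ∈ L, Cod b r g π := fun g hg => by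
    have st : ∀ x ∈ Bs b r ∪ {g | ∃ x ∈ T, x.1 = g}, x⁻¹ = x ∧ ∀ y, (∃ π ∈ L, Cod b r y π) → ∃ π ∈ L, Cod b r (x * y) π := by
      rintro _ (⟨i, hi, rfl⟩ | ⟨x, hx, rfl⟩)
      · refine ⟨h.tt.inv (h.mem i hi), fun y ⟨π, a, a'⟩ => ⟨π, a, fun j hj => ⟨(a'.1 j hj).1, ?_⟩, a'.2⟩⟩
        have := (h.comm i hi _ (a'.1 j hj).1).eq
        rw [← (a'.1 j hj).2] at this ⊢
        calc _ = b i * (y * b j * y⁻¹) * (b i)⁻¹ := by group
          _ = _ := by rw [this]; group
      · exact ⟨inv_eq_of_mul_eq_one_left (hT x hx).1, fun y ⟨π, a, a'⟩ =>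
          ⟨_, b4 _ (List.mem_map_of_mem hx) π a, h.cod_mul (hT x hx).2 a'⟩⟩
    induction hg using closure_induction_left with
    | one => exact ⟨_, i0, h.cod_id.2 (one_mem _)⟩
    | mul_left x hx y _ ih => exact (st x hx).2 y ih
    | inv_mul_cancel x hx y _ ih => rw [(st x hx).1]; exact (st x hx).2 y ih
  have h2 : K.relIndex H = 2 ^ m := by
    classical
    rw [h.relIndex fun a ha => (h1 a ha).imp fun _ a => a.2, ← b3, ← List.toFinset_card_of_nodup b2, ← Set.ncard_coe_finset]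
    congr 1
    refine Set.ext fun π => ⟨fun ⟨a, ha, e⟩ => ?_, fun a => h.dbl_mem (fun x hx => (hT x hx).2)
      (fun x hx => subset_closure (Or.inr ⟨x, hx, rfl⟩)) π (by simpa [b1] using a)⟩
    obtain ⟨σ, a1, a2⟩ := h1 a ha
    simpa [h.cod_unique e a2] using a1
  have pE : IsPGroup 2 E := IsPGroup.of_card h.card
  obtain ⟨P', hP'⟩ := (pE.comap_subtype (K := H)).exists_le_sylow
  set P := (P' : Subgroup H).map H.subtype
  have hPH : P ≤ H := map_subtype_le _
  have hEP : E ≤ P := fun x hx => ⟨⟨x, hE hx⟩, hP' hx, rfl⟩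
  have h3 : 2 ^ m ∣ K.relIndex P := by
    have a1 := relIndex_mul_relIndex (P ⊓ K) P H inf_le_left hPH
    have a2 := relIndex_mul_relIndex (P ⊓ K) (H ⊓ K) H (inf_le_inf_right _ hPH) inf_le_left
    rw [inf_relIndex_left, h2, ← a1, inf_relIndex_left] at a2
    have a3 : P.relIndex H = (P' : Subgroup H).index := by
      rw [Subgroup.relIndex, subgroupOf, comap_map_eq_self_of_injective H.subtype_injective]
    exact (Nat.Coprime.pow_left m ((Nat.Prime.coprime_iff_not_dvd Nat.prime_two).2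
      (a3 ▸ P'.not_dvd_index))).dvd_of_dvd_mul_right (a2 ▸ Dvd.intro_left _ rfl)
  have pP : IsPGroup 2 P := P'.isPGroup'.map _
  obtain ⟨n, hn⟩ := IsPGroup.iff_card.1 pP
  have h4 : n ≤ k + m := (Nat.pow_dvd_pow_iff_le_right one_lt_two).1
    ((Nat.Coprime.pow_left n (Nat.coprime_two_left.2 ho)).dvd_of_dvd_mul_right (hn ▸ hc ▸ P.card_subgroup_dvd_card))
  have h5 := card_inf_mul K P
  have h6 : 2 ^ k ≤ Nat.card ↥(P ⊓ K) := h.card ▸ card_le_of_le (le_inf hEP h.le_cent)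
  have h7 : 2 ^ m ≤ K.relIndex P := Nat.le_of_dvd (Nat.pos_of_ne_zero (index_ne_zero_of_finite)) h3
  have h8 : 2 ^ n ≤ 2 ^ k * 2 ^ m := by rw [← pow_add]; exact Nat.pow_le_pow_right two_pos h4
  have h9 : P ⊓ K = E := (eq_of_le_of_card_ge (le_inf hEP h.le_cent) (by
    rw [h.card]; have := Nat.two_pow_pos m; nlinarith)).symm
  have h10 : Nat.card P = 2 ^ (k + m) := by rw [pow_add]; nlinarith
  have h11 : ¬ 2 ∣ P.index := by
    have := P.card_mul_index
    rw [h10, hc] at this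
    rw [Nat.eq_of_mul_eq_mul_left (Nat.two_pow_pos _) this]
    exact ho.not_two_dvd_nat
  refine ⟨pP.toSylow h11, h10, hPH, hEP, fun A (hA : A ≤ P) hA' hA2 => ?_⟩
  have sq : ∀ a ∈ A, a * a = 1 := fun a ha => by rw [← sq, hA'.2 a ha]
  have cm : ∀ a ∈ A, ∀ a' ∈ A, a * a' = a' * a := fun a ha a' ha' =>
    congrArg Subtype.val (hA'.1.is_comm.comm ⟨a, ha⟩ ⟨_, ha'⟩)
  have e1 : A ⊓ K = A ⊓ E := by rw [← h9, ← inf_assoc, inf_eq_left.2 hA]
  have e2 := card_inf_mul K A
  rw [e1, h.relIndex fun a ha => (h1 a (hPH (hA ha))).imp fun _ a => a.2] at e2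
  set S := {π | ∃ a ∈ A, Cod b r a π}
  have s1 : ∀ π ∈ S \ {idc r}, π ∈ Iv := fun π ⟨⟨a, ha, e⟩, hπ⟩ => by
    obtain ⟨σ, a1, a2⟩ := h1 a (hPH (hA ha))
    rcases b5 π (h.cod_unique e a2 ▸ a1) with a3 | a3 | a3
    · exact absurd a3 hπ
    · rw [h.cod_unique (h.cod_mul e e) (by rw [sq a ha]; exact h.cod_id.2 (one_mem _)), Nat.beq_refl] at a3
      exact Bool.noConfusion a3
    · exact a3
  have fS : S.Finite := (Iv.finite_toSet.insert (idc r)).subset fun π hπ => by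
    by_cases e : π = idc r
    exacts [Or.inl e, Or.inr (s1 π ⟨hπ, e⟩)]
  have s0 : idc r ∈ S := ⟨1, one_mem _, h.cod_id.2 (one_mem _)⟩
  have s2 := Set.ncard_sdiff_singleton_add_one s0 fS
  obtain ⟨u, hu⟩ := two_pow_card sq
  obtain ⟨v, -, hv⟩ := (Nat.dvd_prime_pow Nat.prime_two).1 (hu ▸ Dvd.intro_left _ e2)
  obtain ⟨w, -, hw⟩ := (Nat.dvd_prime_pow Nat.prime_two).1 (hu ▸ Dvd.intro _ e2)
  have s3 : v ≤ 4 := by
    by_contra hn
    have : 2 ^ 5 ≤ 2 ^ v := Nat.pow_le_pow_right two_pos (by omega)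
    have := ncard_le_countP (S := S \ {idc r}) (p := fun x => Nat.ble 31 (Iv.countP fun y =>
      Nat.beq (cmp r x y) (cmp r y x))) fun x hx => ⟨s1 x hx, ble_tt.2 (le_trans (by omega)
        (ncard_le_countP (S := S \ {idc r}) fun y hy => ⟨s1 y hy, by
          obtain ⟨a, ha, e⟩ := hx.1
          obtain ⟨a', ha', e'⟩ := hy.1
          exact beq_tt.2 (h.cod_unique (h.cod_mul e e') (cm a ha a' ha' ▸ h.cod_mul e' e))⟩))⟩
    omega
  have ix : ∀ π ∈ Iv, ∃ i < Iv.length, nth 0 Iv i = π ∧ nth 0 (Iv.map fun σ => fxM (fun i => c (look σ 5 i)) k) i =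
      fxM (fun i => c (look π 5 i)) k := fun π hπ => by
    obtain ⟨i, hi, rfl⟩ := List.getElem_of_mem hπ
    exact ⟨i, hi, by simp [nth_eq, hi], by simp [nth_eq, hi]⟩
  obtain ⟨k', rfl⟩ : ∃ k', k = k' + 5 := ⟨k - 5, by omega⟩
  rw [show k' + 5 - 4 = k' + 1 by omega] at b8
  rw [← e2, hv, hw, ← pow_add, Nat.pow_le_pow_iff_right one_lt_two] at hA2
  by_cases s4 : v = 0
  · rw [hv, s4, pow_zero, mul_one] at e2
    have : A ≤ E := inf_eq_left.1 (eq_of_le_of_card_ge inf_le_left e2.ge)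
    exact eq_of_le_of_card_ge this (by rw [h.card, ← e2, hw]; exact Nat.pow_le_pow_right two_pos (by omega))
  exfalso
  have : 2 ^ 1 ≤ 2 ^ v := Nat.pow_le_pow_right two_pos (by omega)
  obtain ⟨π, hπ⟩ := Set.nonempty_of_ncard_ne_zero (s := S \ {idc r}) (by omega)
  obtain ⟨i, i1, i2, i3⟩ := ix π (s1 π hπ)
  obtain ⟨a, ha, e⟩ := hπ.1
  by_cases s5 : v = 1
  · have := h.fix_le hA'.1 ha ha e e
    rw [land_eq', Nat.and_self, hw, ← i3] at this
    have := (Nat.pow_le_pow_iff_right one_lt_two).1 (this.trans (b8 i i1).1)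
    omega
  have : 2 ^ 2 ≤ 2 ^ v := Nat.pow_le_pow_right two_pos (by omega)
  obtain ⟨σ, hσ, n1⟩ := Set.exists_ne_of_one_lt_ncard (s := S \ {idc r}) (by omega) π
  obtain ⟨j, j1, j2, j3⟩ := ix σ (s1 σ hσ)
  obtain ⟨a', ha', e'⟩ := hσ.1
  have := h.fix_le hA'.1 ha ha' e e'
  rw [hw, ← i3, ← j3] at this
  rcases (b8 i i1).2 j j1 with s6 | s6
  · exact n1 (by rw [← i2, ← j2, s6])
  · have := (Nat.pow_lt_pow_iff_right one_lt_two).1 (this.trans_lt s6)
    omega

end BM

end Cfsg.Lib.Known2
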