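import Cfsg.Agent.Lib.Known2.U6
import Cfsg.Agent.Lib.Comp.Label

/-! Vectors of the 6-dimensional unitary space over `F₄` coded by natural numbers `< 4096`. -/

set_option autoImplicit false

namespace Cfsg.Lib.Known2

open Subgroup Cfsg.Lib.Forms Module Cfsg.Lib.Comp

namespace Cd

def par (x : ℕ) : ℕ := Nat.land (Nat.shiftRight 0x6996966996696996 (Nat.land x 63)) 1
def hc (u v : ℕ) : ℕ :=
  Nat.lor (par (Nat.xor (Nat.land (Nat.xor u (Nat.shiftRight u 6)) v) (Nat.land (Nat.shiftRight u 6) (Nat.shiftRight v 6))))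
    (Nat.shiftLeft (par (Nat.xor (Nat.land u (Nat.shiftRight v 6)) (Nat.land (Nat.shiftRight u 6) v))) 1)
def mw (v : ℕ) : ℕ := Nat.lor (Nat.shiftRight v 6) (Nat.shiftLeft (Nat.xor (Nat.land v 63) (Nat.shiftRight v 6)) 6)
def sc (c v : ℕ) : ℕ := Nat.xor (Nat.mul (Nat.land c 1) v) (Nat.mul (Nat.shiftRight c 1) (mw v))
def tv (u v : ℕ) : ℕ := Nat.xor v (sc (hc u v) u)
def iso (n : ℕ) : Bool := Nat.ble 1 n && (Nat.ble n 4095 && Nat.beq (hc n n) 0)
def pe (u v : ℕ) : Bool := Nat.beq u v || (Nat.beq u (mw v) || Nat.beq u (mw (mw v)))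
def nrm (v : ℕ) : ℕ := min v (min (mw v) (mw (mw v)))
/-- multiply the first two coordinates by `ω` -/
def dl (v : ℕ) : ℕ := Nat.xor (Nat.land v 3900) (Nat.land (mw v) 195)
/-- action of a word of transvections -/
noncomputable def act (w : List ℕ) (n : ℕ) : ℕ := List.rec (motive := fun _ => ℕ) n (fun u _ ih => force ih (tv u)) w

theorem act_cons (u : ℕ) (w : List ℕ) (n : ℕ) : act (u :: w) n = tv u (act w n) := rfl

theorem par_aux : ∀ x < 64, Nat.land (Nat.shiftRight 0x6996966996696996 x) 1 < 2 ∧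
    (Nat.land (Nat.shiftRight 0x6996966996696996 x) 1).testBit 0 =
      (x.testBit 0 ^^ (x.testBit 1 ^^ (x.testBit 2 ^^ (x.testBit 3 ^^ (x.testBit 4 ^^ x.testBit 5))))) := by
  decide +kernel

theorem bit63 (x : ℕ) {i : ℕ} (hi : i < 6) : (Nat.land x 63).testBit i = x.testBit i := by
  rw [land_eq', Nat.testBit_and, show 63 = 2 ^ 6 - 1 from rfl, Nat.testBit_two_pow_sub_one]; simp [hi]

theorem par_lt (x : ℕ) : par x < 2 := (par_aux _ (land63_lt' x)).1
where land63_lt' (a : ℕ) : Nat.land a 63 < 64 := Nat.lt_succ_of_le Nat.and_le_right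

theorem par_bit (x : ℕ) : (par x).testBit 0 =
    (x.testBit 0 ^^ (x.testBit 1 ^^ (x.testBit 2 ^^ (x.testBit 3 ^^ (x.testBit 4 ^^ x.testBit 5))))) := by
  rw [par, (par_aux _ (par_lt.land63_lt' x)).2]
  simp only [bit63, Nat.ofNat_pos, Nat.one_lt_ofNat, Nat.reduceLT]

theorem lor_aux : ∀ a < 2, ∀ b < 2, Nat.lor a (Nat.shiftLeft b 1) < 4 ∧ (Nat.lor a (Nat.shiftLeft b 1)).testBit 0 = a.testBit 0 ∧
    (Nat.lor a (Nat.shiftLeft b 1)).testBit 1 = b.testBit 0 := by decide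

theorem hc_lt (u v : ℕ) : hc u v < 4 := (lor_aux _ (par_lt _) _ (par_lt _)).1

theorem mw_aux : allN 4096 (fun v => Nat.ble (mw v) 4095 && (Nat.ble (dl v) 4095 && allN 6 fun i =>
    ((mw v).testBit i == v.testBit (6 + i)) && (((mw v).testBit (6 + i) == (v.testBit i ^^ v.testBit (6 + i))) &&
      (((dl v).testBit i == (if i < 2 then mw v else v).testBit i) &&
        ((dl v).testBit (6 + i) == (if i < 2 then mw v else v).testBit (6 + i)))))) = true := by
  decide +kernel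

theorem mw_lt {v : ℕ} (hv : v < 4096) : mw v < 4096 := by
  have := allN_iff.1 mw_aux v hv
  simp only [Bool.and_eq_true, ble_tt] at this
  omega

theorem dl_lt {v : ℕ} (hv : v < 4096) : dl v < 4096 := by
  have := allN_iff.1 mw_aux v hv
  simp only [Bool.and_eq_true, ble_tt] at this
  omega

theorem mw_bit {v : ℕ} (hv : v < 4096) {i : ℕ} (hi : i < 6) : (mw v).testBit i = v.testBit (6 + i) ∧
    (mw v).testBit (6 + i) = (v.testBit i ^^ v.testBit (6 + i)) ∧
    (dl v).testBit i = (if i < 2 then mw v else v).testBit i ∧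
    (dl v).testBit (6 + i) = (if i < 2 then mw v else v).testBit (6 + i) := by
  have := allN_iff.1 mw_aux v hv
  simp only [Bool.and_eq_true, allN_iff, beq_iff_eq] at this
  exact this.2.2 i hi

theorem xor_lt {u v : ℕ} (hu : u < 4096) (hv : v < 4096) : Nat.xor u v < 4096 :=
  Nat.xor_lt_two_pow (n := 12) hu hv

theorem sc_lt {c v : ℕ} (hc : c < 4) (hv : v < 4096) : sc c v < 4096 := by
  have := mw_lt hv
  refine xor_lt ?_ ?_ <;> interval_cases c <;> simp [land_eq', shr_eq] <;> omega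

theorem tv_lt {u v : ℕ} (hu : u < 4096) (hv : v < 4096) : tv u v < 4096 := xor_lt hv (sc_lt (hc_lt _ _) hu)

theorem iso_iff {n : ℕ} : iso n = true ↔ n ≠ 0 ∧ n < 4096 ∧ hc n n = 0 := by
  simp only [iso, Bool.and_eq_true, ble_tt, beq_tt]; omega

theorem iso_lt {n : ℕ} (h : iso n = true) : n < 4096 := (iso_iff.1 h).2.1

theorem nrm_aux : allN 4096 (fun v => Nat.beq (nrm (mw v)) (nrm v) && (Nat.beq (nrm (nrm v)) (nrm v) &&
    (pe (nrm v) v && (iso (nrm v) == iso v)))) = true := by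
  decide +kernel

theorem nrm_spec {v : ℕ} (hv : v < 4096) : nrm (mw v) = nrm v ∧ nrm (nrm v) = nrm v ∧ pe (nrm v) v = true ∧
    iso (nrm v) = iso v := by
  simpa only [Bool.and_eq_true, beq_tt, beq_iff_eq] using allN_iff.1 nrm_aux v hv

theorem nrm_of_pe {u v : ℕ} (hv : v < 4096) (h : pe u v = true) : nrm u = nrm v := by
  simp only [pe, Bool.or_eq_true, beq_tt] at h
  rcases h with rfl | rfl | rfl
  · rfl
  · exact (nrm_spec hv).1
  · rw [(nrm_spec (mw_lt hv)).1, (nrm_spec hv).1]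

theorem tb11 : Nat.testBit 1 1 = false := by decide
theorem tb21 : Nat.testBit 2 1 = true := by decide
theorem tb31 : Nat.testBit 3 1 = true := by decide

section Field
variable {F : Type*} [Field F]

def β (b : Bool) : F := if b then 1 else 0
def fe (ω : F) (c : ℕ) : F := β (c.testBit 0) + β (c.testBit 1) * ω
def dec (ω : F) (n : ℕ) : Fin 6 → F := fun i => β (n.testBit i) + β (n.testBit (6 + i)) * ω

variable {σ : F →+* F} (h : IsConj σ 2) {ω : F} (hω : ω * ω = ω + 1)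

include h in
theorem β_xor (a b : Bool) : (β (a ^^ b) : F) = β a + β b := by
  have := F4.two h
  cases a <;> cases b <;> simp [β]; grind

include h in
theorem dec_xor (u v : ℕ) : dec ω (Nat.xor u v) = dec ω u + dec ω v := by
  funext i
  simp only [dec, xor_eq', Nat.testBit_xor, β_xor h, Pi.add_apply]; ring

theorem dec_zero : dec ω 0 = 0 := by funext i; simp [dec, β]

include h hω

theorem dec_mw {v : ℕ} (hv : v < 4096) : dec ω (mw v) = ω • dec ω v := by
  funext i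
  have h2 := F4.two h
  obtain ⟨a, b, -⟩ := mw_bit hv i.2
  simp only [dec, a, b, β_xor h, Pi.smul_apply, smul_eq_mul]
  grind

theorem dec_sc {c v : ℕ} (hc : c < 4) (hv : v < 4096) : dec ω (sc c v) = fe ω c • dec ω v := by
  rw [sc, dec_xor h]
  interval_cases c <;> simp [land_eq', shr_eq, fe, β, dec_zero, dec_mw h hω hv, add_smul, tb11, tb21, tb31]

theorem coord (a b c d : Bool) : σ (β a + β b * ω) * (β c + β d * ω) =
    β (((a ^^ b) && c) ^^ (b && d)) + β ((a && d) ^^ (b && c)) * ω := by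
  have h2 := F4.two h
  have := F4.σω h hω
  cases a <;> cases b <;> cases c <;> cases d <;> simp [β, this] <;> grind

theorem B_dec (u v : ℕ) : (stdHerm h (Fin 6)).B (dec ω u) (dec ω v) = fe ω (hc u v) := by
  rw [stdHerm_B, Fin.sum_univ_six, fe, hc, (lor_aux _ (par_lt _) _ (par_lt _)).2.1, (lor_aux _ (par_lt _) _ (par_lt _)).2.2,
    par_bit, par_bit]
  simp only [dec, coord h hω, β_xor h, xor_eq', land_eq', shr_eq, Nat.testBit_xor, Nat.testBit_and, Nat.testBit_shiftRight,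
    Fin.val_zero, Fin.val_one, Fin.coe_ofNat_eq_mod, Nat.reduceMod, Nat.reduceAdd]
  ring

theorem dec_tv {u v : ℕ} (hu : u < 4096) : dec ω (tv u v) = tvF (stdHerm h (Fin 6)) (dec ω u) (dec ω v) := by
  rw [tv, dec_xor h, dec_sc h hω (hc_lt _ _) hu, tvF, B_dec h hω]

theorem β_inj {a b c d : Bool} (e : (β a + β b * ω : F) = β c + β d * ω) : a = c ∧ b = d := by
  have h2 := F4.two h
  have h0 := F4.ω_ne hω
  have h1 := F4.ω1_ne hω
  cases a <;> cases b <;> cases c <;> cases d <;> simp [β] at e ⊢ <;> grind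

theorem fe_eq_zero {c : ℕ} (hc : c < 4) : fe ω c = 0 ↔ c = 0 := by
  refine ⟨fun e => ?_, fun e => by simp [e, fe, β]⟩
  have := β_inj h hω (c := false) (d := false) (e.trans (by simp [β]))
  interval_cases c <;> simp_all [tb11, tb21, tb31]

theorem dec_inj {u v : ℕ} (hu : u < 4096) (hv : v < 4096) (e : dec ω u = dec ω v) : u = v := by
  refine eq_of_bits (k := 12) hu hv fun j hj => ?_
  by_cases h6 : j < 6
  · exact (β_inj h hω (congrFun e ⟨j, h6⟩)).1
  · have := (β_inj h hω (congrFun e ⟨j - 6, by omega⟩)).2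
    rwa [show 6 + (j - 6) = j by omega] at this

theorem dec_surj (x : Fin 6 → F) : ∃ n < 4096, dec ω n = x := by
  have := h.finite
  have : Function.Bijective fun n : Fin 4096 => dec ω n :=
    (Nat.bijective_iff_injective_and_card _).2 ⟨fun a b e => Fin.ext (dec_inj h hω a.2 b.2 e), by
      rw [Nat.card_fun, h.card]; simp⟩
  obtain ⟨n, hn⟩ := this.2 x
  exact ⟨n, n.2, hn⟩

theorem is_dec {n : ℕ} (hn : n < 4096) : Is (stdHerm h (Fin 6)) (dec ω n) ↔ iso n = true := by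
  rw [iso_iff, Is, Q_eq, B_dec h hω, fe_eq_zero h hω (hc_lt _ _), ← dec_zero (ω := ω)]
  exact ⟨fun a => ⟨fun e => a.1 (e ▸ rfl), hn, a.2⟩, fun a => ⟨fun e => a.1 (dec_inj h hω hn (by norm_num) e), a.2.2⟩⟩

theorem is_dec' {n : ℕ} (hn : iso n = true) : Is (stdHerm h (Fin 6)) (dec ω n) := (is_dec h hω (iso_lt hn)).2 hn

theorem pe_iff {u v : ℕ} (hu : iso u = true) (hv : v < 4096) : (∃ c : F, dec ω u = c • dec ω v) ↔ pe u v = true := by
  simp only [pe, Bool.or_eq_true, beq_tt]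
  have e2 : dec ω (mw (mw v)) = (ω + 1) • dec ω v := by rw [dec_mw h hω (mw_lt hv), dec_mw h hω hv, smul_smul, hω]
  constructor
  · rintro ⟨c, hc⟩
    rcases F4.cases h hω c with rfl | rfl | rfl | rfl
    · exact absurd (hc.trans (zero_smul _ _)) (is_dec' h hω hu).1
    · exact Or.inl (dec_inj h hω (iso_lt hu) hv (by simpa using hc))
    · exact Or.inr (Or.inl (dec_inj h hω (iso_lt hu) (mw_lt hv) (by rw [dec_mw h hω hv, hc])))
    · exact Or.inr (Or.inr (dec_inj h hω (iso_lt hu) (mw_lt (mw_lt hv)) (by rw [e2, hc])))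
  · rintro (rfl | rfl | rfl)
    · exact ⟨1, (one_smul _ _).symm⟩
    · exact ⟨_, dec_mw h hω hv⟩
    · exact ⟨_, e2⟩

theorem exists_fe (l : F) : ∃ c < 4, fe ω c = l := by
  rcases F4.cases h hω l with rfl | rfl | rfl | rfl
  · exact ⟨0, by norm_num, by simp [fe, β]⟩
  · exact ⟨1, by norm_num, by simp [fe, β, tb11]⟩
  · exact ⟨2, by norm_num, by simp [fe, β, tb21]⟩
  · exact ⟨3, by norm_num, by simp [fe, β, add_comm, tb31]⟩

omit h in
/-- `diag(ω, ω, 1, 1, 1, 1)`. -/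
def dlE : (Fin 6 → F) ≃ (Fin 6 → F) where
  toFun x i := if (i : ℕ) < 2 then ω * x i else x i
  invFun x i := if (i : ℕ) < 2 then ω⁻¹ * x i else x i
  left_inv x := by funext i; by_cases hi : (i : ℕ) < 2 <;> simp [hi, F4.ω_ne hω]
  right_inv x := by funext i; by_cases hi : (i : ℕ) < 2 <;> simp [hi, F4.ω_ne hω]

theorem dec_dl {v : ℕ} (hv : v < 4096) : dec ω (dl v) = dlE hω (dec ω v) := by
  funext i
  obtain ⟨-, -, a, b⟩ := mw_bit hv i.2
  have := congrFun (dec_mw h hω hv) i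
  by_cases hi : (i : ℕ) < 2
  · simp only [hi, if_true] at a b
    simp only [dlE, Equiv.coe_fn_mk, hi, if_true]
    rw [← smul_eq_mul, ← Pi.smul_apply, ← this, dec, dec, a, b]
  · simp only [hi, if_false] at a b
    simp only [dlE, Equiv.coe_fn_mk, hi, if_false]
    rw [dec, dec, a, b]

end Field

end Cd

open Cd

variable {G : Type*} [Group G] {X E : Set G} {t : ℕ → G}

/-- Coded version of `UM`. -/
def CM (X : Set G) (t : ℕ → G) : Prop :=
  ∃ (F : Type) (_ : Field F) (σ : F →+* F) (h : IsConj σ 2) (ω : F) (τ : (Fin 6 → F) → G),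
    ω * ω = ω + 1 ∧ UM (stdHerm h (Fin 6)) X τ ∧ ∀ n < 4096, t n = τ (dec ω n)

theorem U6.cm (h : U6 X) : ∃ t, CM X t := by
  obtain ⟨F, _, σ, h, τ, H⟩ := h
  obtain ⟨ω, hω⟩ := F4.exists_omega h
  exact ⟨fun n => τ (dec ω n), F, _, σ, h, ω, τ, hω, H, fun _ _ => rfl⟩

/-- The product of the transpositions of a word. -/
def pr (t : ℕ → G) (w : List ℕ) : G := (w.map t).prod

namespace CM

variable (H : CM X t)
include H

theorem u6 : U6 X := by
  obtain ⟨F, _, σ, h, ω, τ, hω, U, e⟩ := H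
  exact ⟨F, _, σ, h, τ, U⟩

theorem tt : TT X := H.u6.vw.tt

theorem mem {n : ℕ} (hn : iso n = true) : t n ∈ X := by
  obtain ⟨F, _, σ, h, ω, τ, hω, U, e⟩ := H
  rw [e n (iso_lt hn)]; exact U.mem _ (is_dec' h hω hn)

theorem surj {x : G} (hx : x ∈ X) : ∃ n, iso n = true ∧ t n = x := by
  obtain ⟨F, _, σ, h, ω, τ, hω, U, e⟩ := H
  obtain ⟨v, hv, rfl⟩ := U.surj x hx
  obtain ⟨n, hn, rfl⟩ := dec_surj h hω v
  exact ⟨n, (is_dec h hω hn).1 hv, e n hn⟩

theorem iso_tv {u v : ℕ} (hu : iso u = true) (hv : iso v = true) : iso (tv u v) = true := by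
  obtain ⟨F, _, σ, h, ω, τ, hω, U, e⟩ := H
  rw [← is_dec h hω (tv_lt (iso_lt hu) (iso_lt hv)), dec_tv h hω (iso_lt hu)]
  exact (is_dec' h hω hu).tv (is_dec' h hω hv)

theorem conj {u v : ℕ} (hu : iso u = true) (hv : iso v = true) : t u * t v * t u = t (tv u v) := by
  obtain ⟨F, _, σ, h, ω, τ, hω, U, e⟩ := H
  rw [e u (iso_lt hu), e v (iso_lt hv), e _ (tv_lt (iso_lt hu) (iso_lt hv)), dec_tv h hω (iso_lt hu),
    U.conj _ _ (is_dec' h hω hu) (is_dec' h hω hv)]

theorem eq_iff {u v : ℕ} (hu : iso u = true) (hv : iso v = true) : t u = t v ↔ pe u v = true := by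
  obtain ⟨F, _, σ, h, ω, τ, hω, U, e⟩ := H
  rw [e u (iso_lt hu), e v (iso_lt hv), U.eq_iff _ _ (is_dec' h hω hu) (is_dec' h hω hv), pe_iff h hω hu (iso_lt hv)]

theorem comm_iff {u v : ℕ} (hu : iso u = true) (hv : iso v = true) : Commute (t u) (t v) ↔ hc u v = 0 := by
  obtain ⟨F, _, σ, h, ω, τ, hω, U, e⟩ := H
  rw [e u (iso_lt hu), e v (iso_lt hv), U.comm_iff (is_dec' h hω hu) (is_dec' h hω hv), B_dec h hω,
    fe_eq_zero h hω (hc_lt _ _)]

theorem mem_Dd {u v : ℕ} (hu : iso u = true) (hv : iso v = true) : t v ∈ Dd X (t u) ↔ hc u v = 0 ∧ pe v u = false := by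
  rw [← H.comm_iff hu hv, ← Bool.not_eq_true, ← H.eq_iff hv hu]
  exact ⟨fun a => ⟨a.2.2, a.2.1⟩, fun a => ⟨H.mem hv, a.2, a.1⟩⟩

theorem rv_iff {u v : ℕ} (hu : iso u = true) (hv : iso v = true) (h1 : t v ∈ Dd X (t u)) {y : G} (hy : y ∈ Dd X (t u)) :
    RV (Dd X (t u)) (t v) y ↔ ∃ l < 4, y = t (Nat.xor v (sc l u)) := by
  obtain ⟨F, _, σ, h, ω, τ, hω, U, e⟩ := H
  obtain ⟨v', hv', rfl⟩ := U.surj y hy.1
  have e2 : ∀ l < 4, t (Nat.xor v (sc l u)) = τ (dec ω v + fe ω l • dec ω u) := fun l hl => by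
    rw [e _ (xor_lt (iso_lt hv) (sc_lt hl (iso_lt hu))), dec_xor h, dec_sc h hω hl (iso_lt hu)]
  rw [e u (iso_lt hu), e v (iso_lt hv)] at *
  rw [U.rv_iff (stdHerm_nondeg h _) (is_dec' h hω hu) (is_dec' h hω hv) hv' h1 hy]
  constructor
  · rintro ⟨l, hl⟩
    obtain ⟨c, hc, rfl⟩ := exists_fe h hω l
    exact ⟨c, hc, by rw [e2 c hc, hl]⟩
  · rintro ⟨l, hl, e⟩
    exact ⟨_, by rw [← e2 l hl, e]⟩

theorem conj_by {g : G} (hg : g ∈ closure X) : CM X fun n => g * t n * g⁻¹ := by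
  obtain ⟨F, _, σ, h, ω, τ, hω, U, e⟩ := H
  exact ⟨F, _, σ, h, ω, _, hω, U.conj_by hg, fun n hn => by simp only [e n hn]⟩

theorem delta : CM X fun n => t (dl n) := by
  obtain ⟨F, _, σ, h, ω, τ, hω, U, e⟩ := H
  refine ⟨F, _, σ, h, ω, _, hω, U.comp (ρ := RingEquiv.refl F) (g := dlE hω) (fun u v => ?_) (fun c v => ?_) fun u v => ?_,
    fun n hn => by simp only [e _ (dl_lt hn), dec_dl h hω hn]⟩
  · funext i; by_cases hi : (i : ℕ) ≤ 1 <;> simp [dlE, hi, mul_add, Nat.lt_succ_iff]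
  · funext i; by_cases hi : (i : ℕ) ≤ 1 <;> simp [dlE, hi, mul_left_comm, Nat.lt_succ_iff]
  · rw [stdHerm_B, stdHerm_B, RingEquiv.refl_apply]
    refine Finset.sum_congr rfl fun i _ => ?_
    by_cases hi : (i : ℕ) < 2
    · simp only [dlE, Equiv.coe_fn_mk, hi, if_true, map_mul]
      rw [mul_mul_mul_comm, F4.norm' h (F4.ω_ne hω), one_mul]
    · simp only [dlE, Equiv.coe_fn_mk, hi, if_false]

theorem act_spec {w : List ℕ} (hw : allL w iso = true) {n : ℕ} (hn : iso n = true) :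
    pr t w ∈ closure X ∧ iso (act w n) = true ∧ pr t w * t n * (pr t w)⁻¹ = t (act w n) := by
  rw [allL_iff] at hw
  induction w with
  | nil => exact ⟨one_mem _, hn, by simp [pr]; rfl⟩
  | cons u w ih =>
    obtain ⟨a, b, c⟩ := ih fun x hx => hw x (List.mem_cons_of_mem _ hx)
    have hu := hw u List.mem_cons_self
    have e : pr t (u :: w) = t u * pr t w := by simp [pr]
    refine ⟨e ▸ mul_mem (subset_closure (H.mem hu)) a, H.iso_tv hu b, ?_⟩
    rw [act_cons, ← H.conj hu b, ← c, e, mul_inv_rev, H.tt.inv (H.mem hu)]; group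

theorem tr {a b : G} (ha : a ∈ X) (hb : b ∈ X) : ∃ g ∈ closure X, g * a * g⁻¹ = b := by
  have t := H.tt
  obtain ⟨F, _, σ, h, ω, τ, hω, U, e⟩ := H
  obtain ⟨u, hu, rfl⟩ := U.surj a ha
  obtain ⟨v, hv, rfl⟩ := U.surj b hb
  obtain ⟨w, hw, h1, h2⟩ := (stdHerm_nondeg h (Fin 6)).exists_B_ne_zero (Herm.rich _ 3) hu.2 hu.1 hv.2 hv.1
  have hw' : Is (stdHerm h (Fin 6)) w := ⟨fun e => h1 (by rw [e, Form.B_zero_left]), hw⟩
  have hm := U.mem w hw'
  have key : ∀ x ∈ X, ¬ Commute (τ w) x → (x * τ w) * x * (x * τ w)⁻¹ = τ w := fun x hx hn => by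
    rw [mul_inv_rev, t.inv hx, t.inv hm, ← t.braid hm hx hn, ← mul_assoc, t.cancel' hm, t.cancel' hx]
  refine ⟨(τ v * τ w)⁻¹ * (τ u * τ w), mul_mem (inv_mem (mul_mem (subset_closure hb) (subset_closure hm)))
    (mul_mem (subset_closure ha) (subset_closure hm)), ?_⟩
  have a1 := key _ ha fun c => h1 ((U.comm_iff hw' hu).1 c)
  have a2 := key _ hb fun c => h2 ((U.comm_iff hw' hv).1 c)
  calc _ = (τ v * τ w)⁻¹ * ((τ u * τ w) * τ u * (τ u * τ w)⁻¹) * (τ v * τ w) := by group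
    _ = τ v := by rw [a1]; conv_lhs => { enter [1, 2]; rw [← a2] }
                  group

theorem exists_at {n : ℕ} (hn : iso n = true) {x : G} (hx : x ∈ X) : ∃ g ∈ closure X, g * t n * g⁻¹ = x :=
  H.tr (H.mem hn) hx

theorem ncard {S : Set G} (hS : S ⊆ X) {P : ℕ → Bool} (hP : ∀ n, iso n = true → (t n ∈ S ↔ P n = true)) :
    S.ncard = ((List.range 4096).filter fun n => iso n && (Nat.beq (nrm n) n && P n)).length := by
  classical
  set l := (List.range 4096).filter fun n => iso n && (Nat.beq (nrm n) n && P n) with hl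
  have hm : ∀ n, n ∈ l ↔ iso n = true ∧ nrm n = n ∧ P n = true := fun n => by
    simp only [hl, List.mem_filter, List.mem_range, Bool.and_eq_true, beq_tt]
    exact ⟨fun a => a.2, fun a => ⟨iso_lt a.1, a⟩⟩
  have hn : l.Nodup := List.nodup_range.filter _
  have : S = t '' (l.toFinset : Set ℕ) := by
    ext x
    simp only [List.coe_toFinset, Set.mem_image, Set.mem_ofPred_eq, hm]
    constructor
    · intro hx
      obtain ⟨n, hn, rfl⟩ := H.surj (hS hx)
      obtain ⟨-, a, b, c⟩ := nrm_spec (iso_lt hn)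
      have e := (H.eq_iff (c.trans hn) hn).2 b
      exact ⟨nrm n, ⟨c.trans hn, a, (hP _ (c.trans hn)).1 (e ▸ hx)⟩, e⟩
    · rintro ⟨n, ⟨a, -, c⟩, rfl⟩; exact (hP n a).2 c
  rw [this, Set.InjOn.ncard_image, Set.ncard_coe_finset, List.toFinset_card_of_nodup hn]
  intro u hu v hv e
  simp only [List.coe_toFinset, Set.mem_ofPred_eq, hm] at hu hv
  rw [← hu.2.1, ← hv.2.1]
  exact nrm_of_pe (iso_lt hv.1) ((H.eq_iff hu.1 hv.1).1 e)

end CM

end Cfsg.Lib.Known2
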