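import Cfsg.Agent.Lib.Known2.Glob
import Cfsg.Agent.Lib.Known2.TT6

/-! Fischer's theorem, I: word problems, counting modulo 3, the local trichotomy and the case `W`. -/

set_option autoImplicit false

namespace Cfsg.Lib.Known2

open Subgroup

namespace TC
def d4_st0 : List ℕ := [8, 524296, 1048584, 1572872, 524304, 1048592, 1572880, 24, 1048600, 272105481, 1572888, 272629769, 32, 1572896, 273154057, 40, 48, 136314929, 1048624, 272105489, 1572912, 272629777, 56, 136839225, 1572920, 273154065, 64, 137363521, 1048648, 1572936, 80, 1572944, 272629793, 273154073, 88, 524384, 1572960, 104, 524400, 1048688, 1048696, 272105545, 1572984, 272629833, 128, 1572992, 272629817, 273154097, 136, 524432, 137887889, 1573008, 273154145, 152, 524448, 138412193, 1048736, 138936481, 168, 136839337, 1573032, 273154121, 176, 137363633, 524472, 270532689, 1573048, 192, 524488, 270532697, 1048776, 1573072, 272629857, 216, 137363673, 524512, 1048800, 271057001, 1048808, 272105585, 248, 136839417,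 1573112, 272629929, 273154169, 256, 137363713, 524552, 270532737, 1573128, 272, 524568, 270532745, 1048856, 1573152, 272629905, 273154257, 296, 137363753, 524592, 1048880, 271057049, 1048888, 272105633, 138936633, 524616, 137888073, 1573192, 273154233, 336, 524632, 138412377, 1048920, 138936665, 1573216, 272629945, 360, 137363817, 524656, 270532801, 1048944, 271057089, 1048952, 272105673, 392, 524688, 138412433, 1048976, 138936721, 1048984, 272105697, 424, 524720, 270532857, 137888177, 1573296, 273154313, 440, 524736, 270532865, 138412481, 1049024, 138936769, 1573320, 272630025, 464, 137363921, 524760, 270532881, 1049048, 271057169, 1049056, 272105753, 496, 524792, 138412537, 1049080, 271057193, 138936825, 1049088, 272105777, 528, 1573400, 272630089, 273154401, 544, 137364001, 524840, 1049128, 271057233, 1049136, 272105817, 138936881, 576, 137364033, 524872, 138412617, 1049160, 138936905, 1049168, 272105841, 608, 136839777, 524904, 270533001, 1049192, 1049200, 272105873,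 138936945, 640, 136315521, 1573512, 1573520, 272630193, 273154505, 664, 137364121, 524960, 270533049, 1049248]
def d4_st1 : List ℕ := [271057337, 1049256, 272105921, 138937001, 696, 137364153, 524992, 138412737, 1049280, 138937025, 1049288, 272105945, 728, 136839897, 525024, 270533105, 1049312, 271057393, 1049320, 272105977, 138937065, 760, 136315641, 1573632, 271581713, 776, 525072, 138412817, 1049360, 271057441, 138937105, 1049368, 272106025, 808, 525104, 270533185, 138412849, 1049392, 138937137, 1049400, 272106057, 138937145, 840, 136315721, 136840009, 1573712, 273154697, 1049432, 272106089, 872, 1573744, 272630409, 896, 137364353, 525192, 138412937, 1049480, 271057561, 138937225, 1049488, 272106145, 928, 136840097, 525224, 270533305, 138412969, 1049512, 138937257, 1049520, 272106177, 138937265, 960, 136315841, 136840129, 1573832, 273154817, 1049552, 272106209, 992, 136315873, 1573864, 272630529, 525304, 270533385, 1049592, 271057673, 1049600, 272106257, 138937345,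 1040, 136315921, 1573912, 271581993, 1049632, 272106289, 138937377, 1072, 1573944, 272630609, 273154929, 1096, 136840265, 1573968, 271582057, 525408, 270533505, 138413153, 1049696, 271057793, 138937441, 1049704, 272106377, 138937449, 1144, 136316025, 136840313, 1574016, 271582113, 273155097, 1049736, 272106409, 138937481, 1176, 1574048, 272630729, 273155049, 1200, 136316081, 136840369, 1574072, 271582177, 272630865, 1049800, 272106489, 1240, 136316121, 1574112, 272630809, 1264, 136840433, 1574136, 271582257, 1574152, 273155153, 1049880, 272106593, 138937625, 1320, 136316201, 1574192, 272630913, 273155297, 1344, 136840513, 1574216, 271582361, 1574232, 272631049, 273155257, 1384, 136316265, 136840553, 1574256, 271582425, 272631033, 1574272, 271582449, 273155321, 1432, 136316313, 136840601, 1574304, 271582505, 272631113, 1574320, 271582529, 273155401, 1574344, 272631169, 273155441, 1574368, 271582617, 272631217, 273155489]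
def d4_steps : List ℕ := d4_st0 ++ d4_st1
def d4_rels : List (List ℕ) := [[0, 0], [1, 1], [2, 2], [3, 3], [0, 1, 0, 1, 0, 1], [0, 2, 0, 2, 0, 2], [0, 3, 0, 3, 0, 3], [1, 2, 1, 2], [1, 3, 1, 3], [2, 3, 2, 3]]
def d4_subs : List (List ℕ) := []
def d4_al : ℕ := 0xc000bf00be00bd00bc00bb00ba00b900b800b700b600b500b400b300b200b100b000af00ae00ad00ac00ab00aa00a900a800a700a600a500a400a300a200a100a0009f009e009d009c009b009a0099009800970096009500940093009200910090008f008e008d008c008b008a0089008800870086008500840083008200810080007f007e007d007c007b007a0079007800770076007500740073007200710070006f006e006d006c006b006a0069006800670066006500640063006200610060005f005e005d005c005b005a0059005800570056005500540053005200510050004f004e004d004c004b004a0049004800470046004500440043004200410040003f003e003d003c003b003a0039003800370036003500340033003200310030002f002e002d002c002b002a0029002800270026002500240023002200210020001f001e001d001c001b001a0019001800170016001500140013001200110010000f000e000d000c000b000a000900080007000600050004000300020001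
def d4_ft : ℕ := 0xbb00bc00bd00be00b800b900ba00bf00b500b600bf00b700b300bf00b600b400bf00b300b500b200af00b000be00b100ad00be00b000ae00be00ad00af00ac00aa00ab00b100bd00a800bd00bc00a900bd00a800bb00a700a500ae00a600bc00bc00bb00a800a400ac00a200a300bb00a000a100b700ba009e00ba00b9009f00ba009e00b8009d009b00b4009c00b900b900b8009e009a00b20098009900b8009600b700a1009700b7009600a0009500930097009400b600b600b500b3009200950090009100b5008f009c00b4009400b4009b008f008e008e008c008d00b30099008b00b20091009800b2008b008c008900b100ab008a00b1008900aa00880086008a008700b000b000af00ad008500880083008400af008200a600ae008700ae00a5008200810081007f008000ad00a3007e00ac008400a200ac007e007f007c00a9007d00ab00ab00aa0089007b00a70079007a00aa0078007d00a900a600a9007c0078007700770075007600a8007a007400a700a3007900a70074007500a6008200a5007300a40071007200a50072007000a40076007100a4007000a2007e00a300a2006f006d009f006e00a100a100a00096006c009d006a006b00a00069006e009f009c009f006d00690068006800660067009e006b0065009d009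9006a009d00650066009c008f009b0064009a00620063009b00630061009a00670062009a00610098008b009900980060005f00940097006e00970093005f005e005e005c005d00960091005b0095006b00900095005b005c0094005f0093005a0092005800590093005900570092008d0058009200570090005b009100900056005a00540055008f008d0053008e0055008c008e005300620053008d008c0052005100560052008b00500087008a007d008a00860050004f004f004d004e00890084004c0088007a00830088004c004d008700500086004b00850049004a0086004a0048008500800049008500480083004c008400830047004b0045004600820080004400810046007f00810044007100440080007f0043004200470043007e007d0078007c0041007b003f0040007c0040003e007b004e003f007b003e00790074007a0079003d0073003b003c00780076003a0077003c00750077003a003f003a0076007500390038006f00390074003c003700730072003b007300370045007000720071003600350039006f0070006f003800350042006e0069006d0034006c00320033006d00330031006c005d0032006c0031006a0065006b006a00300064002e002f00690067002d0068002f00660068002d0032002d00670066002c002b0060002c0065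002f002a00640063002e0064002a005400610063006200290028002c006000610060002b00280051003400260027005f005d0025005e0027005c005e002500580025005d005c0024002300300024005b00550022005a00590054005a00220026005700590058002100200052005600570056005100200023002200550054001f001e001f00290053005200200051001e0041001c001d0050004e001b004f001d004d004f001b0049001b004e004d001a0019003d001a004c00460018004b004a0045004b0018001c0048004a0049001700160043004700480047004200160019001800460045001500140015003600440043001600420014001d001300410040001c00410013003b003e0040003f00120011001a003d003e003d0019001100380037003c003b0010000f00100012003a003900350038000f000e0036001500370036000e001400350027000d0034003300260034000d002e003100330032000c000b00240030003100300023000b002b002a002f002e000a0009000a000c002d002c0028002b000900080029001f002a00290008001e0028000d00270026000700060007002100250024000b0023000600050021000700220021000500060020001f001e000800050013001d001c0004000300040017001b001a0011001900030002001700040018001700020003001600150014000e0002000100120010001300120001000f00110010000f0001000e0000000c000a000d000c00000009000b000a00090000000800070006000500000004000300020001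
theorem d4_check : check 4 id d4_rels [] d4_steps 192 (get d4_al) (tab 4 d4_ft) = true := by decide +kernel

def weq (k F : ℕ) (u w : List ℕ) : Bool := (u ++ w).all (· < k) && tr (tab k F) (u ++ w.reverse) 0 == 0

theorem weq_sound {G : Type*} [Group G] {k m al F : ℕ} {rels : List (List ℕ)} {steps : List ℕ}
    (hc : check k id rels [] steps m (get al) (tab k F) = true) (hm : 0 < m) {g : ℕ → G} (hg : ∀ s, g s * g s = 1)
    (hr : ∀ r ∈ rels, ev g r = 1) (u w : List ℕ) (h : weq k F u w = true) : ev g u = ev g w := by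
  simp only [weq, Bool.and_eq_true, List.all_eq_true, decide_eq_true_eq, beq_iff_eq] at h
  have := word_eq_one hc hm g (fun s _ => eq_inv_of_mul_eq_one_left (hg s)) hr (u ++ w.reverse)
    (fun s hs => h.1 s (by simpa using hs)) h.2
  rwa [ev_append, ev_reverse hg, mul_inv_eq_one] at this

end TC

variable {G : Type*} [Group G] {D X Y : Set G}

theorem sq_getD {l : List G} (h : ∀ x ∈ l, x * x = 1) (s : ℕ) : l.getD s 1 * l.getD s 1 = 1 := by
  rw [List.getD_eq_getElem?_getD]
  cases e : l[s]? with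
  | none => simp
  | some x => exact h x (List.mem_of_getElem? e)

namespace TT

variable (h : TT D)
include h

theorem s4w {a b c : G} (ha : a ∈ D) (hb : b ∈ D) (hc : c ∈ D) (h1 : ¬ Commute a b) (h2 : Commute a c) (h3 : ¬ Commute b c)
    (u w : List ℕ) (e : TC.weq 3 TC.s4_ft u w = true) :
    TC.ev (fun s => [a, b, c].getD s 1) u = TC.ev (fun s => [a, b, c].getD s 1) w :=
  TC.weq_sound TC.s4_check (by norm_num) (sq_getD (by simp [h.sq, *])) (by
    have := h.cube ha hb h1; have := h.cube hb hc h3; have := h.sq_mul ha hc h2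
    simp only [pow_succ, pow_zero, one_mul, mul_assoc] at *
    simp [TC.s4_rels, h.sq, *]) u w e

theorem s5w {a b c d : G} (ha : a ∈ D) (hb : b ∈ D) (hc : c ∈ D) (hd : d ∈ D) (h1 : ¬ Commute a b) (h2 : Commute a c)
    (h3 : Commute a d) (h4 : ¬ Commute b c) (h5 : Commute b d) (h6 : ¬ Commute c d)
    (u w : List ℕ) (e : TC.weq 4 TC.s5_ft u w = true) :
    TC.ev (fun s => [a, b, c, d].getD s 1) u = TC.ev (fun s => [a, b, c, d].getD s 1) w :=
  TC.weq_sound TC.s5_check (by norm_num) (sq_getD (by simp [h.sq, *])) (by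
    have := h.cube ha hb h1; have := h.cube hb hc h4; have := h.cube hc hd h6
    have := h.sq_mul ha hc h2; have := h.sq_mul ha hd h3; have := h.sq_mul hb hd h5
    simp only [pow_succ, pow_zero, one_mul, mul_assoc] at *
    simp [TC.s5_rels, h.sq, *]) u w e

theorem d4w {c a b e : G} (hc : c ∈ D) (ha : a ∈ D) (hb : b ∈ D) (he : e ∈ D) (h1 : ¬ Commute c a) (h2 : ¬ Commute c b)
    (h3 : ¬ Commute c e) (h4 : Commute a b) (h5 : Commute a e) (h6 : Commute b e)
    (u w : List ℕ) (q : TC.weq 4 TC.d4_ft u w = true) :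
    TC.ev (fun s => [c, a, b, e].getD s 1) u = TC.ev (fun s => [c, a, b, e].getD s 1) w :=
  TC.weq_sound TC.d4_check (by norm_num) (sq_getD (by simp [h.sq, *])) (by
    have := h.cube hc ha h1; have := h.cube hc hb h2; have := h.cube hc he h3
    have := h.sq_mul ha hb h4; have := h.sq_mul ha he h5; have := h.sq_mul hb he h6
    simp only [pow_succ, pow_zero, one_mul, mul_assoc] at *
    simp [TC.d4_rels, h.sq, *]) u w q

/-- The triple `a, b, x` generates `S₄` (or a line); symmetry. -/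
theorem s4_swap {a b x : G} (ha : a ∈ D) (hb : b ∈ D) (hx : x ∈ D) (h1 : ¬ Commute a b) (h2 : ¬ Commute x b) :
    Commute x (a * b * a) ↔ Commute a (x * b * x) := by
  rw [h.braid ha hb h1, h.braid hx hb h2, ← h.commute_conj_iff' hb, ← h.commute_conj_iff' hb,
    ← h.commute_conj_iff hb (x := b * a * b), h.conj_conj hb]
  exact Commute.symm_iff

theorem fix3 {y d a : G} (hy : y ∈ D) (hd : d ∈ D) (ha : a ∈ D) (hn : ¬ Commute d a) (hc : Commute (d * a) y) :
    Commute d y ∧ Commute a y := by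
  have k : Commute d y ↔ Commute a y := ⟨fun c => by simpa [h.cancel hd] using c.mul_left hc,
    fun c => by simpa [h.cancel' ha] using hc.mul_left c⟩
  by_contra c
  have e : y * d * y * (y * a * y) = d * a := by
    rw [mul_assoc, mul_assoc, ← mul_assoc y (y * a), ← mul_assoc y y, h.sq hy, one_mul, ← mul_assoc d, hc.eq, h.cancel hy]
  rw [h.braid hy hd (fun q => c ⟨q.symm, k.1 q.symm⟩), h.braid hy ha fun q => c ⟨k.2 q.symm, q.symm⟩, mul_assoc, mul_assoc,
    mul_right_inj, ← mul_assoc d, ← mul_assoc y, mul_eq_right, ← mul_assoc d, hc.eq, h.cancel hy] at e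
  exact hn (by rw [eq_inv_of_mul_eq_one_left e]; exact (Commute.refl a).inv_left)

end TT

theorem ncard_mod3 [Finite G] {P : Subgroup G} (hP : IsPGroup 3 P) {S : Set G} (hS : ∀ g ∈ P, ∀ s ∈ S, g * s * g⁻¹ ∈ S) :
    S.ncard % 3 = {s | s ∈ S ∧ ∀ g ∈ P, Commute g s}.ncard % 3 := by
  let : MulAction P S :=
    { smul := fun g s => ⟨g * s * (g : G)⁻¹, hS _ g.2 _ s.2⟩
      one_smul := fun s => Subtype.ext (show (1 : G) * s * 1⁻¹ = s by group)
      mul_smul := fun a b s => Subtype.ext (show (a * b : G) * s * (a * b : G)⁻¹ = a * (b * s * (b : G)⁻¹) * (a : G)⁻¹ by group) }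
  have : Fact (Nat.Prime 3) := ⟨Nat.prime_three⟩
  have h := hP.card_modEq_card_fixedPoints S
  rw [← Set.ncard_image_of_injective _ Subtype.val_injective |>.trans (Nat.card_coe_set_eq _).symm] at h
  rw [← Nat.card_coe_set_eq S, h]
  congr 2
  ext s
  constructor
  · rintro ⟨s, hs, rfl⟩
    exact ⟨s.2, fun g hg => conj_eq_self_iff.1 (congrArg Subtype.val (hs ⟨g, hg⟩))⟩
  · exact fun hs => ⟨⟨s, hs.1⟩, fun g => Subtype.ext (conj_eq_self_iff.2 (hs.2 g g.2)), rfl⟩

/-- Counting modulo 3 with the rotation of a line. -/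
theorem TT.mod3 [Finite G] (h : TT D) {a b : G} (ha : a ∈ D) (hb : b ∈ D) (hn : ¬ Commute a b) {S : Set G} (hS : S ⊆ D)
    (h1 : ∀ s ∈ S, a * s * a ∈ S) (h2 : ∀ s ∈ S, b * s * b ∈ S) :
    S.ncard % 3 = {s | s ∈ S ∧ Commute a s ∧ Commute b s}.ncard % 3 := by
  have hp : IsPGroup 3 (zpowers (a * b)) := IsPGroup.of_card (n := 1) (by
    rw [Nat.card_zpowers, tt_orderOf_mul h.1 ha hb hn, pow_one])
  rw [ncard_mod3 hp (S := S) fun g hg => by
    have : zpowers (a * b) ≤ closure {a, b} := zpowers_le.2 (mul_mem (subset_closure (by simp)) (subset_closure (by simp)))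
    refine closure_induction'' (p := fun g _ => ∀ s ∈ S, g * s * g⁻¹ ∈ S) ?_ ?_ (by simp) ?_ (this hg)
    · rintro x (rfl | rfl) <;> simpa [h.inv, *]
    · rintro x (rfl | rfl) <;> simpa [h.inv, *]
    · intro x y _ _ hx hy s hs; rw [← conj_conj']; exact hx _ (hy s hs)]
  congr 2
  exact Set.ext fun s => and_congr_right fun hs => ⟨fun c => h.fix3 (hS hs) ha hb hn (c _ (mem_zpowers _)),
    by rintro c _ ⟨n, rfl⟩; exact (c.1.mul_left c.2).zpow_left n⟩

/-- No affine planes. -/
def Symp (Y : Set G) : Prop :=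
  ∀ a ∈ Y, ∀ b ∈ Y, ∀ x ∈ Y, ¬ Commute a b → ¬ Commute x a → ¬ Commute x b → Commute x (a * b * a)

theorem TT.diam (h : TT Y) (tr : ∀ a ∈ Y, ∀ b ∈ Y, ∃ g ∈ closure Y, g * a * g⁻¹ = b) {a b : G} (ha : a ∈ Y) (hb : b ∈ Y)
    (hn : a ≠ b) (hc : Commute a b) : ∃ c ∈ Y, ¬ Commute c a ∧ ¬ Commute c b := by
  obtain ⟨g, hg, rfl⟩ := tr a ha b hb
  have := h.invariant_of_commute (P := {x | x ∈ Y ∧ (x = a ∨ ¬ Commute a x ∨ ∃ c ∈ Y, ¬ Commute c a ∧ ¬ Commute c x)})
    (fun _ a => a.1) (fun x hx y hy n => ?_) hg a ⟨ha, Or.inl rfl⟩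
  · exact (this.2.resolve_left hn.symm).resolve_left (not_not.2 hc)
  simp only [Set.mem_ofPred_eq, hy, true_and, not_or, not_not, not_exists, not_and] at n
  by_contra q
  have k : ¬ Commute a x → False := fun c => q (n.2.2 x hx.1 fun c' => c c'.symm)
  rcases hx.2 with rfl | c | ⟨c, hc, c1, c2⟩
  · exact q n.2.1
  · exact k c
  · refine h.not_commute_conj hc (n.2.2 c hc c1).symm (fun c => q c.symm) (n.2.2 _ (h.conj c hc x hx.1) fun c' => ?_).symm
    rw [h.braid hc hx.1 c2] at c'
    exact h.not_commute_conj hx.1 (not_not.1 k) (fun c => c1 c.symm) c'.symm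

theorem TT.dd2_conj (h : TT Y) {g : G} (hg : g ∈ closure Y) {a b x : G} :
    g * x * g⁻¹ ∈ Dd (Dd Y (g * a * g⁻¹)) (g * b * g⁻¹) ↔ x ∈ Dd (Dd Y a) b :=
  and_congr (h.conj_Dd_iff hg) (and_congr (by simp) commute_conj_conj_iff)

theorem TT.rw_dd (h : TT Y) {g : G} (hg : g ∈ closure Y) {e a b : G} (r : RW (Dd Y e) a b) :
    RW (Dd Y (g * e * g⁻¹)) (g * a * g⁻¹) (g * b * g⁻¹) := Set.ext fun x => by
  obtain ⟨x, rfl⟩ := (MulAut.conj g).surjective x
  simp only [MulAut.conj_apply, h.dd2_conj hg]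
  rw [r]

theorem TT.rv_dd (h : TT Y) {g : G} (hg : g ∈ closure Y) {e a b : G} (r : RV (Dd Y e) a b) :
    RV (Dd Y (g * e * g⁻¹)) (g * a * g⁻¹) (g * b * g⁻¹) := fun x hx => by
  obtain ⟨x, rfl⟩ := (MulAut.conj g).surjective x
  simp only [MulAut.conj_apply, h.conj_Dd_iff hg, commute_conj_conj_iff] at hx ⊢
  exact r x hx

namespace R3

variable (h : R3 Y)
include h

theorem nc2 {a b : G} (ha : a ∈ Y) (hb : b ∈ Y) (hn : a ≠ b) (hc : Commute a b) : ∃ c ∈ Y, ¬ Commute c a ∧ ¬ Commute c b :=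
  h.tt.diam h.tr ha hb hn hc

theorem nc_dd {d a : G} (hd : d ∈ Y) (ha : a ∈ Dd Y d) : ∃ b ∈ Dd Y d, ¬ Commute a b := by
  by_contra n
  push Not at n
  refine ha.2.1 (h.eq_of_sub hd ha.1 fun e he c => ?_).symm
  by_cases q : e = d
  exacts [q ▸ ha.2.2.symm, n e ⟨he, q, c⟩]

theorem mu_ne {d c : G} (hd : d ∈ Y) (hc : c ∈ Y) (hn : ¬ Commute d c) : ∃ x ∈ Dd Y d, Commute c x := by
  obtain ⟨a, ha⟩ := h.dd d hd
  obtain ⟨b, hb, hab⟩ := h.nc_dd hd ha
  obtain ⟨g, hg, e1, e2⟩ := h.tr_nc ha.1 hd hb.1 hc hab hn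
  refine ⟨g * d * g⁻¹, ?_, ?_⟩
  · have := (h.tt.conj_Dd_iff hg).2 (mem_Dd_comm hd ha)
    rwa [e1] at this
  · rw [← e2, commute_conj_conj_iff]; exact hb.2.2.symm

theorem ncard_lam {a b a' b' : G} (ha : a ∈ Y) (ha' : a' ∈ Y) (hb : b ∈ Dd Y a) (hb' : b' ∈ Dd Y a') :
    (Dd (Dd Y a) b).ncard = (Dd (Dd Y a') b').ncard := by
  obtain ⟨g, hg, rfl, rfl⟩ := h.tr_dd ha ha' hb hb'
  exact ncard_conj_eq g fun x => (h.tt.dd2_conj hg).symm

theorem ncard_dd {a b : G} (ha : a ∈ Y) (hb : b ∈ Y) : (Dd Y a).ncard = (Dd Y b).ncard := by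
  obtain ⟨g, hg, rfl⟩ := h.tr a ha b hb
  exact ncard_conj_eq g fun x => (h.tt.conj_Dd_iff hg).symm

variable [Finite G]

theorem rw_of_sub {a b : G} (ha : a ∈ Y) (hb : b ∈ Y) (s : Dd Y a ⊆ Dd Y b) : a = b :=
  h.rw a ha b hb (Set.eq_of_subset_of_ncard_le s (h.ncard_dd ha hb).ge)

theorem tri {d : G} (hd : d ∈ Y) : (∃ y ∈ Dd Y d, ∃ y' ∈ Dd Y d, y ≠ y' ∧ RW (Dd Y d) y y') ∨
    (∃ y ∈ Dd Y d, ∃ y' ∈ Dd Y d, y ≠ y' ∧ RV (Dd Y d) y y') ∨ R3 (Dd Y d) := by
  by_contra n
  push Not at n
  obtain ⟨n1, n2, n3⟩ := n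
  have t := h.tt.dd d
  have k : ∀ a ∈ Dd Y d, ∃ b, b ∈ Dd (Dd Y d) a := fun a ha => by
    by_contra q
    obtain ⟨b, hb, c⟩ := h.nc_dd hd ha
    have e : Dd (Dd Y d) a = ∅ := Set.eq_empty_iff_forall_notMem.2 fun x hx => q ⟨x, hx⟩
    refine n1 a ha b hb (fun e => c (e ▸ Commute.refl a)) (e.trans ((Set.ncard_eq_zero (Set.toFinite _)).1 ?_).symm)
    rw [h.ncard_lam hd hd hb ha, e, Set.ncard_empty]
  have v : VW (Dd Y d) := ⟨t, h.dd d hd, fun a ha b hb r => by_contra fun e => n2 a ha b hb e r,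
    fun a ha b hb r => by_contra fun e => n1 a ha b hb e r, fun a ha => h.nc_dd hd ha, k⟩
  refine n3 (R3.of_vw v (h.tdd d hd) fun a ha b hb hab => ?_)
  obtain ⟨w, hw⟩ := k a ha
  have : ¬ RV (Dd Y d) a w := n2 a ha w hw.1 hw.2.1.symm
  simp only [RV, not_forall] at this
  obtain ⟨e, he, q⟩ := this
  by_cases c : Commute a e
  · exact h.common hd hw.1 he (fun c' => q ⟨fun _ => c', fun _ => c⟩) ha hw.2.2.symm c.symm ha hb hab
  · exact h.common hd ha he c hw.1 hw.2.2 (by_contra fun c' => q ⟨fun a => absurd a c, fun a => absurd a.symm c'⟩) ha hb hab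

omit [Finite G] in
theorem w_sub {d e f d' z : G} (hd : d ∈ Y) (he : e ∈ Dd Y d) (hf : f ∈ Dd (Dd Y d) e) (hd' : d' ∈ Dd Y e) (hn : d ≠ d')
    (r : RW (Dd Y e) d d') (hz : z ∈ Dd (Dd Y d) f) : Commute d' z := by
  have t := h.tt
  have m : ∀ x ∈ Dd (Dd Y d) e, Commute d' x := fun x hx => (r.mem (Dd_comm Y ▸ hx)).2.2
  by_contra n
  have n1 : ¬ Commute e z := fun c => by
    by_cases q : z = e
    exacts [n (q ▸ hd'.2.2.symm), n (m z ⟨hz.1, q, c⟩)]
  have n2 : ¬ Commute d' d := fun c => hn (r.eq_of_commute hd' c.symm)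
  have w := t.s5w he.1 hz.1.1 hd'.1 hd n1 hd'.2.2 he.2.2.symm (fun c => n c.symm) hz.1.2.2.symm n2
  have mp := t.conj z hz.1.1 d' hd'.1
  have mr := t.conj _ (t.conj d hd _ mp) e he.1
  have hg := mul_mem (Subgroup.subset_closure mp) (Subgroup.subset_closure mr)
  set g := z * d' * z * (d * (z * d' * z) * d * e * (d * (z * d' * z) * d)) with eg
  have g1 : g * e * g⁻¹ = d := by
    rw [mul_inv_eq_iff_eq_mul]
    simpa [eg, mul_assoc] using w [1,2,1,3,1,2,1,3,0,3,1,2,1,3,0] [3,1,2,1,3,1,2,1,3,0,3,1,2,1,3] (by decide +kernel)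
  have g2 : g * d * g⁻¹ = e := by
    rw [mul_inv_eq_iff_eq_mul]
    simpa [eg, mul_assoc] using w [1,2,1,3,1,2,1,3,0,3,1,2,1,3,3] [0,1,2,1,3,1,2,1,3,0,3,1,2,1,3] (by decide +kernel)
  have g3 : g * d' * g⁻¹ = z := by
    rw [mul_inv_eq_iff_eq_mul]
    simpa [eg, mul_assoc] using w [1,2,1,3,1,2,1,3,0,3,1,2,1,3,2] [1,1,2,1,3,1,2,1,3,0,3,1,2,1,3] (by decide +kernel)
  have cg : ∀ x, Commute x e → Commute x z → Commute x d' → Commute x d → g * x * g⁻¹ = x := fun x a b c d =>
    conj_eq_of_commute ((TT.commute_conj b c).mul_right (TT.commute_conj (TT.commute_conj d (TT.commute_conj b c)) a))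
  have r1 := t.rw_dd hg r
  rw [g1, g2, g3] at r1
  obtain ⟨k, hk, e1⟩ := h.tdd d hd e he f hf.1
  have hk' := closure_mono (Dd_subset Y d) hk
  have e2 := conj_eq_of_commute (commute_of_mem_closure (fun y hy => hy.2.2) hk)
  have r2 := t.rw_dd hk' r1
  have r3 := t.rw_dd hk' r
  have m1 := (t.dd d).conj_mem hk hz.1
  have m2 := (t.conj_Dd_iff hk').2 hd'
  rw [e1, e2] at r2 r3
  rw [e1] at m2
  have c1 := r2.mem (mem_Dd_comm he hf)
  have c2 := r2.mem hz
  have r4 := t.rw_dd hg r2
  rw [g2, cg f hf.2.2.symm hz.2.2 (m f hf).symm hf.1.2.2.symm, cg _ c1.2.2 c2.2.2 (m _ (mem_Dd_comm m1 c1)).symm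
    m1.2.2.symm] at r4
  have c3 := r3.mem (y := e) ⟨mem_Dd_comm he.1 ⟨hf.1.1, hf.2⟩, he.2⟩
  have := r4.mem (y := k * d' * k⁻¹) ⟨mem_Dd_comm m2.1 ⟨he.1, c3.2⟩, m2.2⟩
  exact n (commute_conj_conj_iff.1 this.2.2).symm

/-- Width two. -/
def _root_.Cfsg.Lib.Known2.W2 (Y : Set G) : Prop := ∀ a ∈ Y, ∀ b ∈ Dd Y a, ∀ c ∈ Dd Y a, Commute b c → b = c

theorem w2_of_w {d y y' : G} (hd : d ∈ Y) (hy : y ∈ Dd Y d) (hy' : y' ∈ Dd Y d) (hn : y ≠ y') (r : RW (Dd Y d) y y') :
    W2 Y := by
  intro a ha b hb c hc hbc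
  by_contra n
  have t := h.tt
  obtain ⟨g, hg, e1, e2⟩ := h.tr_dd hd hb.1 hy (mem_Dd_comm ha hb)
  have r1 := t.rw_dd hg r
  have m := (t.conj_Dd_iff hg).2 hy'
  have n1 : g * y * g⁻¹ ≠ g * y' * g⁻¹ := by simpa using hn
  rw [e1, e2] at r1
  rw [e1] at m
  rw [e2] at n1
  set a' := g * y' * g⁻¹
  have hcb : c ∈ Dd (Dd Y a) b := ⟨hc, Ne.symm n, hbc⟩
  have n2 : ¬ Commute a a' := fun q => n1 (r1.eq_of_commute m q)
  have ne : ∀ x ∈ Dd Y a, x ≠ a' := fun x hx q => n2 (q ▸ hx.2.2)
  have k : ∀ u ∈ Dd Y a, a' ∈ Dd Y u → RW (Dd Y u) a a' → ∀ v ∈ Dd (Dd Y a) u, a' ∈ Dd Y v ∧ RW (Dd Y v) a a' := by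
    intro u hu mu ru v hv
    have q := (ru.mem (Dd_comm Y ▸ hv))
    have mv : a' ∈ Dd Y v := ⟨mu.1, q.2.1.symm, q.2.2.symm⟩
    refine ⟨mv, Set.eq_of_subset_of_ncard_le (fun z hz => ?_) (h.ncard_lam hv.1.1 hv.1.1 mv (mem_Dd_comm ha hv.1)).le⟩
    have hz' : z ∈ Dd (Dd Y a) v := Dd_comm Y ▸ hz
    exact ⟨hz.1, ne z hz'.1, h.w_sub ha hu hv mu n1 ru hz'⟩
  obtain ⟨s, hs, hs'⟩ := h.nc_dd hd hy
  have cm : ∀ x ∈ Dd Y a, ∀ z ∈ Dd Y a, ¬ Commute x z → ∃ w ∈ Dd Y a, Commute x w ∧ Commute w z := by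
    have k1 := k b hb m r1 c hcb
    obtain ⟨g', hg', e3, e4⟩ := h.tr_dd hb.1 ha (mem_Dd_comm ha hb) hb
    have := t.dd2_conj hg' (a := b) (b := a) (x := c)
    have r2 := t.rw_dd hg' r1
    have m2 := (t.conj_Dd_iff hg').2 m
    rw [e3, e4] at this r2
    rw [e3] at m2
    have q := this.2 (Dd_comm Y ▸ hcb)
    exact fun x hx z hz => h.common ha hb m2 (fun c => n2 (commute_conj_conj_iff.1 (e4 ▸ c))) q.1 q.2.2 (r2.mem q).2.2 hx hz
  refine n1 (h.rw_of_sub ha m.1 fun x hx => mem_Dd_comm hx.1 ?_)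
  have st : ∀ u ∈ Dd Y a, a' ∈ Dd Y u ∧ RW (Dd Y u) a a' → ∀ v ∈ Dd Y a, Commute u v → a' ∈ Dd Y v ∧ RW (Dd Y v) a a' :=
    fun u hu q v hv c => (em (v = u)).elim (fun e => e ▸ q) fun e => k u hu q.1 q.2 v ⟨hv, e, c⟩
  by_cases q : Commute b x
  · exact (st b hb ⟨m, r1⟩ x hx q).1
  obtain ⟨w, hw, c1, c2⟩ := cm b hb x hx q
  exact (st w hw (st b hb ⟨m, r1⟩ w hw c1) x hx c2).1

theorem mu_one (w : W2 Y) {d c x y : G} (hd : d ∈ Y) (hc : c ∈ Y) (hn : ¬ Commute d c) (hx : x ∈ Dd Y d) (hy : y ∈ Dd Y d)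
    (h1 : Commute c x) (h2 : Commute c y) : x = y := by
  by_contra n
  have t := h.tt
  have nc : ¬ Commute x y := fun q => n (w d hd x hx y hy q)
  have sb : ∀ e ∈ Dd Y d, ∀ s ∈ {s | s ∈ Y ∧ ¬ Commute d s}, e * s * e ∈ {s | s ∈ Y ∧ ¬ Commute d s} := fun e he s hs =>
    ⟨t.conj e he.1 s hs.1, t.not_commute_conj he.1 he.2.2 hs.2⟩
  have a1 := ncard_mod3 ((t.dd d).isPGroup_three (w d hd)) (S := {s | s ∈ Y ∧ ¬ Commute d s}) fun g hg s hs => by
    have : g ∈ closure (Dd Y d) := (closure_le _).2 (by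
      rintro _ ⟨a, ha, b, hb, rfl⟩; exact mul_mem (Subgroup.subset_closure ha) (Subgroup.subset_closure hb)) hg
    refine ⟨t.conj_mem (closure_mono (Dd_subset Y d) this) hs.1, ?_⟩
    rw [← conj_eq_of_commute (commute_of_mem_closure (fun y hy => hy.2.2) this), commute_conj_conj_iff]; exact hs.2
  rw [(Set.eq_empty_iff_forall_notMem (s := {s | s ∈ {s | s ∈ Y ∧ _} ∧ _})).2 (fun s hs => ?_), Set.ncard_empty,
    t.mod3 hx.1 hy.1 nc (fun _ a => a.1) (sb x hx) (sb y hy)] at a1
  · have a2 := t.mod3 hd hc hn (S := {s | s ∈ Y ∧ Commute x s ∧ Commute y s}) (fun _ a => a.1)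
      (fun s hs => ⟨t.conj d hd s hs.1, TT.commute_conj hx.2.2.symm hs.2.1, TT.commute_conj hy.2.2.symm hs.2.2⟩)
      fun s hs => ⟨t.conj c hc s hs.1, TT.commute_conj h1.symm hs.2.1, TT.commute_conj h2.symm hs.2.2⟩
    have k : ∀ s ∈ Y, Commute x s → Commute y s → Commute d s → s = d := fun s hs a b c => by_contra fun q =>
      nc (w d hd x hx s ⟨hs, q, c⟩ a ▸ b.symm)
    rw [(Set.eq_empty_iff_forall_notMem (s := {s | s ∈ {s | s ∈ Y ∧ Commute x s ∧ Commute y s} ∧ Commute d s ∧ Commute c s})).2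
      (fun s hs => hn
      (k s hs.1.1 hs.1.2.1 hs.1.2.2 hs.2.1 ▸ hs.2.2.symm)), Set.ncard_empty, show {s | s ∈ Y ∧ Commute x s ∧ Commute y s} =
      insert d {s | s ∈ {s | s ∈ Y ∧ ¬ Commute d s} ∧ Commute x s ∧ Commute y s} from Set.ext fun s => ⟨fun hs =>
        (em _).imp (k s hs.1 hs.2.1 hs.2.2) fun q => ⟨⟨hs.1, q⟩, hs.2⟩, by
        rintro (rfl | hs)
        exacts [⟨hd, hx.2.2.symm, hy.2.2.symm⟩, ⟨hs.1.1, hs.2⟩]⟩,
      Set.ncard_insert_of_notMem (fun q => q.1.2 (Commute.refl d))] at a2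
    omega
  · refine hs.1.2 (h.rw_of_sub hd hs.1.1 (fun e he => ?_) ▸ Commute.refl d)
    obtain ⟨e', he', q⟩ := h.nc_dd hd he
    exact ⟨he.1, fun q => hs.1.2 (q ▸ he.2.2), (t.fix3 hs.1.1 he.1 he'.1 q
      (hs.2 _ (Subgroup.subset_closure ⟨e, he, e', he', rfl⟩))).1.symm⟩

theorem line_of_w2 (w : W2 Y) {d e y z : G} (hd : d ∈ Y) (he : e ∈ Dd Y d) (hy : y ∈ Dd Y d) (hz : z ∈ Dd Y d) (h1 : y ≠ e) :
    z = e ∨ z = y ∨ z = e * y * e := by
  by_contra n
  push Not at n
  obtain ⟨a, ha, q⟩ := h.nc_dd he.1 (mem_Dd_comm hd he)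
  obtain ⟨a', h2, h3⟩ := h.tt.su3 (h.tt.dd d) (Dd_subset Y d) (w d hd) he hy hz h1 n.1 n.2.1 n.2.2 ha fun s hs ne c =>
    ne (h.mu_one w hd ha.1 q hs he c ha.2.2.symm)
  exact h3.2.1 (w e he.1 _ h2 a ha h3.2.2.symm)

theorem symp_of_w2 (w : W2 Y) : Symp Y := by
  intro a ha b hb x hx h1 h2 h3
  obtain ⟨m, hm, c⟩ := h.mu_ne ha hb h1
  have ma := mem_Dd_comm ha hm
  have mb : b ∈ Dd Y m := ⟨hb, fun e => h1 (e ▸ hm.2.2), c.symm⟩
  have L := fun z hz => h.line_of_w2 w hm.1 ma mb (z := z) hz fun e => h1 (e ▸ Commute.refl b)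
  have k : ∀ z ∈ Dd Y m, Commute x z → Commute x (a * b * a) := fun z hz q => by
    rcases L z hz with rfl | rfl | rfl
    exacts [absurd q h2, absurd q h3, q]
  by_cases q : Commute m x
  · exact k x ⟨hx, fun e => h2 (e ▸ hm.2.2.symm), q⟩ (Commute.refl x)
  obtain ⟨z, hz, c⟩ := h.mu_ne hm.1 hx q
  exact k z hz c

theorem two_of_w2 (w : W2 Y) : Two Y := by
  intro d hd c hc c' hc' h1 h2 h3
  obtain ⟨m, hm, q⟩ := h.mu_ne hd hc h1
  have := h.line_of_w2 w hm.1 (mem_Dd_comm hd hm) (y := c) (z := c') ⟨hc, fun e => h1 (e ▸ hm.2.2), q.symm⟩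
    ⟨hc', fun e => h2 (e ▸ hm.2.2), (h3 m hm q).symm⟩ fun e => h1 (e ▸ Commute.refl c)
  exact this.resolve_left fun e => h2 (e ▸ Commute.refl d)

end R3

end Cfsg.Lib.Known2
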