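import Cfsg.Agent.Lib.Known2.F9

/-! Fischer's theorem, X: chains of type `A₄`. -/

set_option autoImplicit false

namespace Cfsg.Lib.Known2

open Subgroup Cfsg.Lib.Forms Module
open scoped commutatorElement

universe u
variable {G : Type*} [Group G] {X Y : Set G}

def A4 (X : Set G) : Prop := ∃ a ∈ X, ∃ b ∈ X, ∃ c ∈ X, ∃ d ∈ X, ¬ Commute a b ∧ Commute a c ∧ Commute a d ∧ ¬ Commute b c ∧
  Commute b d ∧ ¬ Commute c d

theorem A4.not_solvable (h : A4 X) (t : TT X) : ¬ Group.IsSolvable (closure X) := by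
  obtain ⟨a, ha, b, hb, c, hc, d, hd, h1, h2, h3, h4, h5, h6⟩ := h
  let x : closure X := ⟨a * b, TT.mul_mem2 ha hb⟩
  let y : closure X := ⟨c * b * (d * c), mul_mem (TT.mul_mem2 hc hb) (TT.mul_mem2 hd hc)⟩
  let z : closure X := ⟨c, subset_closure hc⟩
  have key : x = z * ⁅x, y * x * y⁻¹⁆ * z⁻¹ := Subtype.ext (by
    simp only [x, y, z, commutatorElement_def, coe_mul, InvMemClass.coe_inv, mul_inv_rev, inv_inv, t.inv ha, t.inv hb, t.inv hc,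
      t.inv hd]
    simpa only [TC.ev_cons, TC.ev_nil, List.getD_cons_zero, List.getD_cons_succ, mul_assoc, mul_one] using
      t.s5w ha hb hc hd h1 h2 h3 h4 h5 h6 [0, 1]
      [2, 0, 1, 2, 1, 3, 2, 0, 1, 2, 3, 1, 2, 1, 0, 2, 1, 3, 2, 1, 0, 2, 3, 1, 2, 2] (by decide +kernel))
  refine not_isSolvable_of_mem_derivedSeries (g := x) (fun e => h1 ?_) fun n => ?_
  · rw [eq_inv_of_mul_eq_one_left (congrArg Subtype.val e)]; exact (Commute.refl b).inv_left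
  induction n with
  | zero => exact mem_top x
  | succ n ih =>
    rw [key, (derivedSeries_normal _ _).mem_comm_iff, inv_mul_cancel_left]
    exact commutator_mem_commutator ih ((derivedSeries_normal _ _).conj_mem _ ih _)

theorem hyp3 {F : Type*} [Field F] {σ : F →+* F} {K : Kind σ} {V : Type u} [AddCommGroup V] [Module F V] [FiniteDimensional F V]
    (ex : ∀ (W : Type u) [AddCommGroup W] [Module F W] [FiniteDimensional F W] (E : Form K W), E.Nondeg → 2 ≤ finrank F W →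
      ∃ e f, E.IsHyp e f) {D : Form K V} (hD : D.Nondeg) (hn : 6 ≤ finrank F V) {e f : V} (h : D.IsHyp e f) :
    ∃ a ∈ D.hp e f, ∃ b ∈ D.hp e f, ∃ c ∈ D.hp e f, ∃ d ∈ D.hp e f, D.IsHyp a b ∧ D.IsHyp c d ∧ c ∈ D.hp a b ∧ d ∈ D.hp a b := by
  have n1 := h.finrank_hp
  obtain ⟨a, b, h1⟩ := ex _ _ (h.nondeg_hp hD) (by omega)
  have n2 := h1.finrank_hp
  obtain ⟨c, d, h2⟩ := ex _ _ (h1.nondeg_hp (h.nondeg_hp hD)) (by omega)
  exact ⟨a, a.2, b, b.2, c, c.1.2, d, d.1.2, ⟨h1.1, h1.2, h1.3⟩, ⟨h2.1, h2.2, h2.3⟩, D.mem_hp.2 ((D.restrict _).mem_hp.1 c.2),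
    D.mem_hp.2 ((D.restrict _).mem_hp.1 d.2)⟩

theorem SN.a4 {ι : Type*} {s : ι → ι → G} (S : SN Y s) {L : Set G} (f : Fin 5 → ι) (hf : Function.Injective f)
    (h : ∀ i j, i ≠ j → s (f i) (f j) ∈ L) : A4 L :=
  ⟨_, h 0 1 (by decide), _, h 1 2 (by decide), _, h 2 3 (by decide), _, h 3 4 (by decide),
    S.nc (hf.ne (by decide)) (hf.ne (by decide)) (hf.ne (by decide)),
    S.comm (hf.ne (by decide)) (hf.ne (by decide)) (hf.ne (by decide)) (hf.ne (by decide)) (hf.ne (by decide)) (hf.ne (by decide)),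
    S.comm (hf.ne (by decide)) (hf.ne (by decide)) (hf.ne (by decide)) (hf.ne (by decide)) (hf.ne (by decide)) (hf.ne (by decide)),
    S.nc (hf.ne (by decide)) (hf.ne (by decide)) (hf.ne (by decide)),
    S.comm (hf.ne (by decide)) (hf.ne (by decide)) (hf.ne (by decide)) (hf.ne (by decide)) (hf.ne (by decide)) (hf.ne (by decide)),
    S.nc (hf.ne (by decide)) (hf.ne (by decide)) (hf.ne (by decide))⟩

theorem exists_inj_notMem {m k : ℕ} (s : Finset (Fin m)) (h : s.card + k ≤ m) :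
    ∃ f : Fin k → Fin m, Function.Injective f ∧ ∀ i, f i ∉ s := by
  have : k ≤ sᶜ.card := by rw [Finset.card_compl, Fintype.card_fin]; omega
  exact ⟨sᶜ.orderEmbOfCardLe this, (sᶜ.orderEmbOfCardLe this).injective, fun i =>
    Finset.mem_compl.1 (Finset.orderEmbOfCardLe_mem _ this i)⟩

theorem TSn.a4 {m : ℕ} (T : TSn Y m) (hm : 7 ≤ m) {x : G} (hx : x ∈ Y) : A4 (Dd Y x) := by
  obtain ⟨s, S⟩ := T
  obtain ⟨i, j, a, rfl⟩ := S.surj x hx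
  obtain ⟨f, hf, k⟩ := exists_inj_notMem (k := 5) {i, j} (by rw [Finset.card_pair a]; omega)
  simp only [Finset.mem_insert, Finset.mem_singleton, not_or] at k
  exact S.a4 f hf fun p q n => ⟨S.mem (hf.ne n), fun e => by
    simpa [k] using (S.eq_iff (by simp; omega) (hf.ne n) a).1 e,
    S.comm a (hf.ne n) (Ne.symm (k p).1) (Ne.symm (k q).1) (Ne.symm (k p).2) (Ne.symm (k q).2)⟩

theorem SR.a4 {n : ℕ} {D : Form (altKind (ZMod 2)) (V2 n)} {v : G → V2 n} (S : SR Y D v) (hv : ∀ u ≠ 0, u ∈ v '' Y) (hn : 6 ≤ n)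
    {e f : V2 n} (h : D.IsHyp e f) : A4 {y | y ∈ Y ∧ v y ∈ D.hp e f} := by
  obtain ⟨a, ha, b, hb, c, hc, d, hd, h1, h2, h3, h4⟩ := hyp3 (fun _ _ _ _ _ a b => Symp.exists_isHyp a (by omega)) S.nd (by simpa) h
  rw [Form.mem_hp] at h3 h4
  obtain ⟨c', hc', e3⟩ := hv (a + c) fun e => by simpa [h1.B_ef, h3.2, alt2_symm D b a] using congrArg (D.B b) e
  obtain ⟨a, ha', rfl⟩ := hv a h1.e_ne_zero
  obtain ⟨b, hb', rfl⟩ := hv b h1.f_ne_zero
  obtain ⟨d, hd', rfl⟩ := hv d h2.f_ne_zero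
  exact ⟨a, ⟨ha', ha⟩, b, ⟨hb', hb⟩, c', ⟨hc', e3 ▸ Submodule.add_mem _ ha hc⟩, d, ⟨hd', hd⟩, S.nc ha' hb' h1.B_ef,
    (S.comm ha' hc').1 (by simp [e3, h3.1, Symp.B_self]), (S.comm ha' hd').1 h4.1,
    S.nc hb' hc' (by simp [e3, h3.2, alt2_symm D (v b) (v a), h1.B_ef]), (S.comm hb' hd').1 h4.2,
    S.nc hc' hd' (by simp [e3, h4.1, h2.B_ef])⟩

theorem A4.mono (h : A4 X) (s : X ⊆ Y) : A4 Y :=
  let ⟨a, ha, b, hb, c, hc, d, hd, k⟩ := h; ⟨a, s ha, b, s hb, c, s hc, d, s hd, k⟩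

theorem UM.a4 {F : Type*} [Field F] {σ : F →+* F} {h : IsConj σ 2} {V : Type*} [AddCommGroup V] [Module F V] [FiniteDimensional F V]
    {D : Form h.kind V} {τ : V → G} (T : UM D Y τ) (hD : D.Nondeg) (hn : 6 ≤ finrank F V) {e f : V} (hh : D.IsHyp e f) :
    A4 {y | ∃ u, Is D u ∧ u ∈ D.hp e f ∧ τ u = y} := by
  obtain ⟨a, ha, b, hb, c, hc, d, hd, h1, h2, h3, h4⟩ := hyp3 (fun _ _ _ _ _ a b => Herm.exists_isHyp a b) hD hn hh
  rw [Form.mem_hp] at h3 h4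
  have ia : Is D a := ⟨h1.e_ne_zero, h1.Q_e⟩
  have ib : Is D b := ⟨h1.f_ne_zero, h1.Q_f⟩
  have id : Is D d := ⟨h2.f_ne_zero, h2.Q_f⟩
  have ba : D.B b a = 1 := h1.B_fe
  have ic : Is D (a + c) := ⟨fun e => by simpa [ba, h3.2] using congrArg (D.B b) e, by rw [D.Q_add_of_B h3.1, h1.Q_e, h2.Q_e, add_zero]⟩
  exact ⟨_, ⟨a, ia, ha, rfl⟩, _, ⟨b, ib, hb, rfl⟩, _, ⟨_, ic, add_mem ha hc, rfl⟩, _, ⟨d, id, hd, rfl⟩,
    by simp [T.comm_iff ia ib, h1.B_ef], by simp [T.comm_iff ia ic, h3.1, ia.B], by simp [T.comm_iff ia id, h4.1],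
    by simp [T.comm_iff ib ic, ba, h3.2], by simp [T.comm_iff ib id, h4.2], by simp [T.comm_iff ic id, h4.1, h2.B_ef]⟩

theorem TU'.a4 {n : ℕ} (T : TU' Y n) (hn : 6 ≤ n) {x : G} (hx : x ∈ Y) : A4 (Dd Y x) := by
  obtain ⟨F, _, σ, h, τ, U⟩ := T
  obtain ⟨e, he, rfl⟩ := U.surj x hx
  obtain ⟨f, hf⟩ := (stdHerm_nondeg h (Fin n)).exists_isHyp he.2 he.1
  refine (U.a4 (stdHerm_nondeg h (Fin n)) (by simpa) hf).mono ?_
  rintro _ ⟨u, hu, m, rfl⟩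
  rw [Form.mem_hp] at m
  refine (U.mem_Dd he hu).2 ⟨m.1, ?_⟩
  rintro ⟨c, rfl⟩
  exact hu.1 (by simpa [hf.B_fe, he.1] using m.2)

theorem TSp.small [Finite G] (T : TSp Y) (h : R3 Y) {x : G} (hx : x ∈ Y) : A4 (Dd Y x) ∨ TSn Y 5 ∨ TSn Y 6 := by
  obtain ⟨n, D, v, S, hv⟩ := T
  by_cases c : Claw Y
  · obtain ⟨a, ha, b, hb, e, he, c, hc, n1, n2, n3⟩ := c
    obtain ⟨f, hf⟩ := Symp.exists_isHyp' S.nd (S.ne0 h hx)
    refine Or.inl ((S.a4 hv (S.dim6 h ha hb he fun q => ?_) hf).mono fun y hy => ?_)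
    · exact absurd (by simpa [S.B1 hc ha n1, S.B1 hc hb.1 n2, S.B1 hc he.1.1 n3] using (congrArg (D.B (v c)) q).trans (map_zero _))
        (by decide : (1 + 1 + 1 : ZMod 2) ≠ 0)
    · have := D.mem_hp.1 hy.2
      exact ⟨hy.1, fun e => by simp [e, alt2_symm D f, hf.B_ef] at this, (S.comm hx hy.1).1 this.1⟩
  obtain ⟨m, hm, T⟩ := S.sn h c
  by_cases q : 7 ≤ m
  · exact Or.inl (TSn.a4 T q hx)
  obtain rfl | rfl : m = 5 ∨ m = 6 := by omega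
  exacts [Or.inr (Or.inl T), Or.inr (Or.inr T)]

end Cfsg.Lib.Known2
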