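import Cfsg.Agent.Lib.Known2.F10

/-! Fischer's theorem, XI: the two-graph condition. -/

set_option autoImplicit false

namespace Cfsg.Lib.Known2

open Subgroup

variable {G : Type*} [Group G] {X Y : Set G}

/-- Every point commutes with a point of every `S₄`. -/
def TG (Y : Set G) : Prop := ∀ a ∈ Y, ∀ b ∈ Dd Y a, ∀ e ∈ Y, ¬ Commute e a → ¬ Commute e b → ∀ x ∈ Y,
  Commute x a ∨ Commute x b ∨ Commute x e ∨ Commute x (a * e * a) ∨ Commute x (b * e * b) ∨ Commute x (a * (b * e * b) * a)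

def S4 (x y z : G) : Prop := Commute z (x * y * x) ∧ z ≠ x * y * x

namespace TT
variable (t : TT Y) {x y z w : G} (hx : x ∈ Y) (hy : y ∈ Y)
include t hx hy

theorem s4_rev (a : ¬ Commute x y) : S4 x y z ↔ S4 y x z := by rw [S4, S4, t.braid hx hy a]

theorem s4_cyc (hz : z ∈ Y) (a : ¬ Commute x y) (b : ¬ Commute y z) : S4 x y z ↔ S4 y z x := by
  rw [S4, S4, t.braid hx hy a]
  exact and_congr (Commute.symm_iff.trans (t.commute_conj_iff' hy))
    (not_congr ⟨fun e => by rw [e, t.conj_conj hy], fun e => by rw [e, t.conj_conj hy]⟩)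

theorem s4_sw (hz : z ∈ Y) (a : ¬ Commute x y) (b : ¬ Commute x z) : S4 x y z ↔ S4 x z y :=
  (t.s4_rev hx hy a).trans (t.s4_cyc hy hx hz (a ·.symm) b)

theorem s4_three (hz : z ∈ Y) (hw : w ∈ Y) (a : ¬ Commute x y) (b : ¬ Commute x z) (c : ¬ Commute x w) (e : ¬ Commute z w)
    (f : ¬ Commute y z) (h1 : S4 x y z) (h2 : S4 x y w) (h3 : S4 z w x) : S4 y z w := by
  refine ⟨?_, fun q => c (q ▸ ((t.s4_cyc hx hy hz a f).1 h1).1)⟩
  have := t.s5w (t.conj x hx y hy) hx hz (t.conj z hz w hw) (t.not_commute_third hx a ·.symm) h1.1.symm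
    (TT.commute_conj h1.1.symm h2.1.symm) b h3.1 (t.not_commute_third hz e)
    [2, 3, 2, 1, 0, 1, 2, 1, 0, 1] [1, 0, 1, 2, 1, 0, 1, 2, 3, 2] (by decide +kernel)
  simpa [mul_assoc, t.cancel hx, t.cancel hz, t.sq hx, t.sq hz, Commute, SemiconjBy] using this

theorem s4_one (g : TG Y) (hz : z ∈ Y) (hw : w ∈ Y) (a : ¬ Commute x y) (b : ¬ Commute x z) (c : ¬ Commute x w)
    (d : ¬ Commute y z) (e : ¬ Commute y w) (f : ¬ Commute z w) (h1 : S4 x y z) : S4 x y w ∨ S4 x z w ∨ S4 y z w := by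
  have h2 := (t.s4_cyc hx hy hz a d).1 h1
  have h3 := (t.s4_cyc hy hz hx d (b ·.symm)).1 h2
  rcases g z hz _ ⟨t.conj x hx y hy, h1.2.symm, h1.1⟩ x hx b (t.not_commute_third hx a) w hw with q | q | q | q | q | q
  · exact (f q.symm).elim
  · exact Or.inl ⟨q, fun r => f (r ▸ h1.1)⟩
  · exact (c q.symm).elim
  · exact Or.inr (Or.inl ((t.s4_rev hz hx (b ·.symm)).1 ⟨q, fun r => e (r ▸ h3.1)⟩))
  · rw [t.swap_third hx hy a] at q; exact (e q.symm).elim
  · rw [t.swap_third hx hy a, ← t.braid hy hz d] at q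
    exact Or.inr (Or.inr ⟨q, fun r => c (r ▸ h2.1)⟩)

end TT

open Classical in
noncomputable def s3 (x y z : G) : ZMod 3 := if S4 x y z then 1 else -1

theorem s3_sq (x y z : G) : s3 x y z * s3 x y z = 1 := by unfold s3; split_ifs <;> simp
theorem s3_one {x y z : G} : s3 x y z = 1 ↔ S4 x y z := by unfold s3; split_ifs with h <;> simp [h]; decide
theorem s3_neg {x y z : G} (h : ¬ S4 x y z) : s3 x y z = -1 := if_neg h

theorem s3_ne (x y z : G) : s3 x y z ≠ 0 := fun e => by simpa [e] using s3_sq x y z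
theorem s3_congr {x y z x' y' z' : G} (h : S4 x y z ↔ S4 x' y' z') : s3 x y z = s3 x' y' z' := by unfold s3; rw [h]

theorem TT.s3_conj (t : TT Y) {g x y z : G} (hg : g ∈ Y) : s3 (g * x * g) (g * y * g) (g * z * g) = s3 x y z := by
  refine s3_congr ?_
  rw [S4, S4, show g * x * g * (g * y * g) * (g * x * g) = g * (x * y * x) * g by simp [mul_assoc, t.cancel hg],
    t.commute_conj_iff hg]
  exact and_congr_right fun _ => not_congr ⟨t.conj_inj hg, fun e => by rw [e]⟩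

theorem TT.cocycle (t : TT Y) (g : TG Y) {x y z w : G} (hx : x ∈ Y) (hy : y ∈ Y) (hz : z ∈ Y) (hw : w ∈ Y) (a : ¬ Commute x y)
    (b : ¬ Commute x z) (c : ¬ Commute x w) (d : ¬ Commute y z) (e : ¬ Commute y w) (f : ¬ Commute z w) :
    s3 x y z * s3 x z w * s3 x y w = s3 y z w := by
  have a' : ¬ Commute y x := (a ·.symm)
  have b' : ¬ Commute z x := (b ·.symm)
  have d' : ¬ Commute z y := (d ·.symm)
  have f' : ¬ Commute w z := (f ·.symm)
  have o1 := t.s4_one hx hy g hz hw a b c d e f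
  have o2 := t.s4_one hx hy g hw hz a c b e d f'
  have o3 := t.s4_one hx hz g hw hy b c a f d' (e ·.symm)
  have o4 := t.s4_one hy hz g hw hx d e a' f b' (c ·.symm)
  have t1 := t.s4_three hx hy hz hw a b c f d
  have t2 := t.s4_three hy hx hz hw a' d e f b
  have t3 := t.s4_three hz hx hy hw b' d' f e a
  have t4 := t.s4_three hw hx hy hz (c ·.symm) (e ·.symm) f' d a
  rw [← t.s4_sw hx hz hw b c, ← t.s4_sw hy hz hw d e] at o2
  rw [← t.s4_sw hx hy hz a b, ← t.s4_sw hx hy hw a c, ← t.s4_cyc hy hz hw d f] at o3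
  rw [← t.s4_cyc hx hy hz a d, ← t.s4_cyc hx hy hw a e, ← t.s4_cyc hx hz hw b f] at o4
  rw [← t.s4_cyc hx hz hw b f] at t1
  rw [← t.s4_rev hx hy a, ← t.s4_rev hx hy a, ← t.s4_cyc hy hz hw d f] at t2
  rw [t.s4_cyc hz hx hy b' a, ← t.s4_rev hx hz b, t.s4_sw hy hw hz e d] at t3
  rw [t.s4_cyc hw hx hy (c ·.symm) a, t.s4_cyc hw hx hz (c ·.symm) b] at t4
  unfold s3
  revert o1 o2 o3 o4 t1 t2 t3 t4
  by_cases h1 : S4 x y z <;> by_cases h2 : S4 x z w <;> by_cases h3 : S4 x y w <;> by_cases h4 : S4 y z w <;>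
    simp [h1, h2, h3, h4]

namespace TT
variable (t : TT Y) (g : TG Y) {c d : G} (hc : c ∈ Y) (hd : d ∈ Y) (n : ¬ Commute d c)
include t g hc hd n

/-- `u` lies in a plane on the line `cd`. -/
def _root_.Cfsg.Lib.Known2.Pl (Y : Set G) (d c u : G) : Prop :=
  u ∈ Y ∧ ¬ Commute u d ∧ ¬ Commute u c ∧ ¬ Commute u (d * c * d)

theorem kl {a b θ u : G} (ha : a ∈ Dd Y d) (hb : b ∈ Dd Y d) (hθ : θ ∈ Dd Y d) (ab : a ≠ b) (c1 : Commute a b)
    (n1 : ¬ Commute c a) (n2 : ¬ Commute c b) (n3 : ¬ Commute c θ) (e : a * (b * c * b) * a = θ * (d * c * d) * θ)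
    (hu : Pl Y d c u) (h1 : Commute u a) (h2 : Commute u b) : Commute u θ := by
  have k : ∀ x y, Commute x a → Commute x b → ¬ Commute x y → ¬ Commute x (a * (b * y * b) * a) := fun x y p q r =>
    t.not_commute_conj ha.1 p (t.not_commute_conj hb.1 q r)
  have e1 : a * (b * c * b) * a * d * (a * (b * c * b) * a) = a * (b * (d * c * d) * b) * a := by
    rw [← t.braid hd (t.conj a ha.1 _ (t.conj b hb.1 c hc)) (k d c ha.2.2 hb.2.2 n)]
    simp only [mul_assoc, ha.2.2.left_comm, hb.2.2.left_comm, ha.2.2.eq, hb.2.2.eq]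
  have e2 : c * (a * (b * c * b) * a * d * (a * (b * c * b) * a)) * c = θ := by
    rw [← t.braid hd (t.conj a ha.1 _ (t.conj b hb.1 c hc)) (k d c ha.2.2 hb.2.2 n), e,
      show d * (θ * (d * c * d) * θ) * d = θ * c * θ by
        simp only [mul_assoc, hθ.2.2.left_comm, t.cancel hd, ← hθ.2.2.eq], t.third_third hc hθ.1 n3]
  have := g c hc _ ⟨t.conj a ha.1 _ (t.conj b hb.1 c hc), fun q => ab (t.third_inj hc ha.1 hb.1 n1 n2 (by
    rw [← t.conj_conj ha.1 (b * c * b), q])), t.s4b ha.1 hc hb.1 c1 n1 n2⟩ d hd n (k d c ha.2.2 hb.2.2 n) u hu.1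
  rw [e2, e1, t.braid hc hd (n ·.symm)] at this
  have := k u c h1 h2 hu.2.2.1
  have := k u _ h1 h2 hu.2.2.2
  have := hu.2
  tauto

omit g in
theorem th {p : G} (hp : p ∈ Dd Y c) (np : ¬ Commute d p) : c * (p * d * p) * c ∈ Dd Y d ∧ ¬ Commute c (c * (p * d * p) * c) :=
  ⟨⟨t.conj c hc _ (t.conj p hp.1 d hd), fun q => hp.2.1 (t.third_inj hd hp.1 hc np n (by rw [← t.conj_conj hc (p * d * p), q])),
    t.s4b hc hd hp.1 hp.2.2 n np⟩, t.not_commute_third hc (t.not_commute_conj hp.1 hp.2.2 (n ·.symm))⟩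

omit g n hd in
theorem th' {a b : G} (ha : a ∈ Y) (hb : b ∈ Y) (ab : a ≠ b) (c1 : Commute a b) (n1 : ¬ Commute c a) (n2 : ¬ Commute c b) :
    a * (b * c * b) * a ∈ Dd Y c := ⟨t.conj a ha _ (t.conj b hb c hc), fun q => ab (t.third_inj hc ha hb n1 n2 (by
    rw [← t.conj_conj ha (b * c * b), q])), t.s4b ha hc hb c1 n1 n2⟩

theorem fr {a b u : G} (ha : a ∈ Dd Y d) (hb : b ∈ Dd Y d) (ab : a ≠ b) (c1 : Commute a b)
    (n1 : ¬ Commute c a) (n2 : ¬ Commute c b) {p : G} (hp : p = a * (b * c * b) * a) (hu : Pl Y d c u) :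
    (Commute u a → Commute u b → Commute u (c * (p * d * p) * c)) ∧
    (Commute u a → Commute u (c * (p * d * p) * c) → Commute u b) ∧
    (Commute u b → Commute u (c * (p * d * p) * c) → Commute u a) := by
  have w := t.d4w hc ha.1 hb.1 hd n1 n2 (n ·.symm) c1 ha.2.2.symm hb.2.2.symm
  obtain ⟨m, nc⟩ := t.th hc hd n (hp ▸ t.th' hc ha.1 hb.1 ab c1 n1 n2)
    (hp ▸ t.not_commute_conj ha.1 ha.2.2 (t.not_commute_conj hb.1 hb.2.2 n))
  have e1 : a * (c * (p * d * p) * c * c * (c * (p * d * p) * c)) * a = b * (d * c * d) * b := by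
    simpa [hp, mul_assoc] using w [1,0,1,2,0,2,1,3,1,2,0,2,1,0,0,0,1,2,0,2,1,3,1,2,0,2,1,0,1] [2,3,0,3,2] (by decide +kernel)
  have e2 : b * (c * (p * d * p) * c * c * (c * (p * d * p) * c)) * b = a * (d * c * d) * a := by
    simpa [hp, mul_assoc] using w [2,0,1,2,0,2,1,3,1,2,0,2,1,0,0,0,1,2,0,2,1,3,1,2,0,2,1,0,2] [1,3,0,3,1] (by decide +kernel)
  refine ⟨t.kl g hc hd n ha hb m ab c1 n1 n2 nc ?_ hu, t.kl g hc hd n ha m hb (fun q => hb.2.1 ?_) ?_ n1 nc n2 e1 hu,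
    t.kl g hc hd n hb m ha (fun q => ha.2.1 ?_) ?_ n2 nc n1 e2 hu⟩
  · simpa [hp, mul_assoc] using w [1,2,0,2,1] [0,1,2,0,2,1,3,1,2,0,2,1,0,3,0,3,0,1,2,0,2,1,3,1,2,0,2,1,0] (by decide +kernel)
  · rw [← q, t.conj_conj ha.1] at e1
    exact t.third_inj hc hb.1 hd n2 (n ·.symm) (by rw [← t.conj_conj hb.1 (d * c * d), ← e1])
  · simpa [hp, mul_assoc, Commute, SemiconjBy] using w [1,0,1,2,0,2,1,3,1,2,0,2,1,0] [0,1,2,0,2,1,3,1,2,0,2,1,0,1] (by decide +kernel)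
  · rw [← q, t.conj_conj hb.1] at e2
    exact t.third_inj hc ha.1 hd n1 (n ·.symm) (by rw [← t.conj_conj ha.1 (d * c * d), ← e2])
  · simpa [hp, mul_assoc, Commute, SemiconjBy] using w [2,0,1,2,0,2,1,3,1,2,0,2,1,0] [0,1,2,0,2,1,3,1,2,0,2,1,0,2] (by decide +kernel)

theorem p1 {f u : G} (hf : f ∈ Dd Y d) (n1 : ¬ Commute c f) (hu : Pl Y d c u) :
    Commute u f ∨ Commute (c * u * c) f ∨ Commute (d * c * d * u * (d * c * d)) f := by
  by_cases q : Commute u f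
  · exact Or.inl q
  have := g f hf.1 d (mem_Dd_comm hd hf) c hc n1 (n ·.symm) u hu.1
  rw [t.s4_swap hf.1 hc hu.1 (n1 ·.symm) hu.2.2.1, t.s4_swap hf.1 (t.conj d hd c hc) hu.1
    (t.not_commute_conj hd hf.2.2.symm (n1 ·.symm)) hu.2.2.2, t.braid hu.1 hc hu.2.2.1,
    t.braid hu.1 (t.conj d hd c hc) hu.2.2.2] at this
  have := hu.2
  simp only [Commute.symm_iff (a := f)] at *
  tauto

omit g in
theorem pl_conj {u : G} (hu : Pl Y d c u) : Pl Y d c (c * u * c) ∧ Pl Y d c (d * c * d * u * (d * c * d)) := by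
  have k := t.conj d hd c hc
  refine ⟨⟨t.conj c hc u hu.1, ?_, (t.not_commute_third hc (hu.2.2.1 ·.symm) ·.symm), ?_⟩,
    t.conj _ k u hu.1, ?_, ?_, (t.not_commute_third k (hu.2.2.2 ·.symm) ·.symm)⟩
  · rw [t.commute_conj_iff' hc, ← t.braid hd hc n]; exact hu.2.2.2
  · rw [t.braid hd hc n, t.commute_conj_iff hc]; exact hu.2.1
  · rw [t.commute_conj_iff' k, t.swap_third hd hc n]; exact hu.2.2.1
  · rw [t.commute_conj_iff' k, t.braid hd hc n, t.swap_third hc hd (n ·.symm)]; exact hu.2.1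

end TT

def Cl3 (A B C : Prop) : Prop := (A → B → C) ∧ (A → C → B) ∧ (B → C → A)

theorem fano {ι : Type*} (A B C : ι → Prop) (a b c d p q r : ι) (h : ∀ x ∈ [a, b, c, d, p, q, r], (A x ∨ B x ∨ C x) ∧ ¬ (A x ∧ B x) ∧ ¬ (A x ∧ C x) ∧ ¬ (B x ∧ C x))
    (l : ∀ K ∈ [A, B, C], Cl3 (K a) (K b) (K p) ∧ Cl3 (K c) (K d) (K p) ∧ Cl3 (K a) (K c) (K q) ∧ Cl3 (K b) (K d) (K q) ∧
      Cl3 (K a) (K d) (K r) ∧ Cl3 (K b) (K c) (K r)) : ∃ K ∈ [A, B, C], ∀ x ∈ [a, b, c, d, p, q, r], K x := by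
  simp only [List.mem_cons, List.not_mem_nil, or_false, forall_eq_or_imp, forall_eq, exists_eq_or_imp, exists_eq_left, Cl3] at *
  rcases h.1.1 with h1 | h1 | h1 <;> rcases h.2.1.1 with h2 | h2 | h2 <;> rcases h.2.2.1.1 with h3 | h3 | h3 <;>
    rcases h.2.2.2.1.1 with h4 | h4 | h4 <;> grind

section
variable (t : TT Y) (g : TG Y) {y d p q r : G} (hd : d ∈ Y) (hy : y ∈ Dd Y d) (hp : p ∈ Y) (hq : q ∈ Y) (hr : r ∈ Y)
  (pq : p ≠ q) (pr : p ≠ r) (qr : q ≠ r) (c1 : Commute p q) (c2 : Commute p r) (c3 : Commute q r)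
  (n1 : ¬ Commute y p) (n2 : ¬ Commute y q) (n3 : ¬ Commute y r) (m1 : ¬ Commute d p) (m2 : ¬ Commute d q) (m3 : ¬ Commute d r)
include t g hd hy hp hq hr pq c1 c2 c3 n1 n2 n3 m1 m2 m3

theorem TT.e3a (h : p * (q * y * q) * p ∈ Dd Y d) : p * (r * y * r) * p ∈ Dd Y d ∨ q * (r * y * r) * q ∈ Dd Y d := by
  by_contra! k
  have he := t.conj r hr y hy.1
  have a1 : ¬ Commute (r * y * r) p := (t.not_commute_conj hr c2 (n1 ·.symm) ·.symm)
  have a2 : ¬ Commute (r * y * r) q := (t.not_commute_conj hr c3 (n2 ·.symm) ·.symm)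
  have a3 := t.s4a hp he hq c1 a1 a2
  have a4 := t.s4_ne hp he hq pq a1 a2
  have b1 : ¬ Commute d (p * (r * y * r) * p) := fun c => k.1 ⟨t.conj p hp _ he, fun e => k.2 ⟨t.conj q hq _ he,
    e ▸ a4.symm, e ▸ a3⟩, c⟩
  have b2 : ¬ Commute d (q * (r * y * r) * q) := fun c => k.2 ⟨t.conj q hq _ he, fun e => k.1 ⟨t.conj p hp _ he,
    e ▸ a4, e ▸ a3.symm⟩, c⟩
  have := g p hp q ⟨hq, pq.symm, c1⟩ _ (t.conj p hp _ he) (t.not_commute_third hp (a1 ·.symm) ·.symm)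
    (t.not_commute_conj hp c1.symm (a2 ·.symm) ·.symm) d hd
  have e : q * (p * (r * y * r) * p) * q = p * (q * (r * y * r) * q) * p := by
    simp only [mul_assoc, c1.left_comm, c1.eq]
  have b3 : ¬ Commute d (p * (q * (r * y * r) * q) * p) := by
    rw [show p * (q * (r * y * r) * q) * p = r * (p * (q * y * q) * p) * r by
      simp only [mul_assoc, c2.left_comm, c3.left_comm, c2.eq, c3.eq],
      t.braid hr h.1 (t.not_commute_conj hp c2.symm (t.not_commute_conj hq c3.symm (n3 ·.symm)))]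
    exact t.not_commute_conj h.1 h.2.2 m3
  rw [t.conj_conj hp, e, t.conj_conj hp, ← t.braid hy.1 hr n3] at this
  have := t.not_commute_conj hy.1 hy.2.2 m3
  rw [← t.braid hy.1 hr n3] at b1 b2 b3
  tauto

include pr qr in
theorem TT.e3b {u : G} (hu : Pl Y d p u) (h1 : p * (q * y * q) * p ∈ Dd Y d) (h2 : p * (r * y * r) * p ∈ Dd Y d)
    (h3 : q * (r * y * r) * q ∈ Dd Y d) : False := by
  have w := t.d4w hy.1 hp hq hr n1 n2 n3 c1 c2 c3
  have w' := t.d4w hd hp hq hr m1 m2 m3 c1 c2 c3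
  have k1 := t.th' hy.1 hp hq pq c1 n1 n2
  have k2 := t.th' hy.1 hp hr pr c2 n1 n3
  have k3 := t.th' hy.1 hq hr qr c3 n2 n3
  have x0 : ¬ Commute p y := (n1 ·.symm)
  have x1 := t.not_commute_third hp (t.not_commute_conj hq c1 x0)
  have x2 := t.not_commute_third hp (t.not_commute_conj hr c2 x0)
  have x3 := t.not_commute_conj hq c1 (t.not_commute_conj hr c2 x0)
  have y12 : Commute (p * (q * y * q) * p) (p * (r * y * r) * p) := (t.commute_conj_iff hp).2 (t.s4a hq hy.1 hr c3 n2 n3)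
  have z12 : p * (q * y * q) * p ≠ p * (r * y * r) * p := fun e => t.s4_ne hq hy.1 hr qr n2 n3 (t.conj_inj hp e)
  have y13 : Commute (p * (q * y * q) * p) (q * (r * y * r) * q) := by
    simpa [mul_assoc, Commute, SemiconjBy] using w [1,2,0,2,1,2,3,0,3,2] [2,3,0,3,2,1,2,0,2,1] (by decide +kernel)
  have z13 : p * (q * y * q) * p ≠ q * (r * y * r) * q := fun e => t.s4_ne hp hy.1 hr pr n1 n3 (t.conj_inj hq (by
    rw [← e]; simp only [mul_assoc, c1.left_comm, c1.eq]))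
  have y23 : Commute (p * (r * y * r) * p) (q * (r * y * r) * q) := by
    simpa [mul_assoc, Commute, SemiconjBy] using w [1,3,0,3,1,2,3,0,3,2] [2,3,0,3,2,1,3,0,3,1] (by decide +kernel)
  have z23 : p * (r * y * r) * p ≠ q * (r * y * r) * q := fun e => t.s4_ne hp hy.1 hq pq n1 n2 (t.conj_inj hr (by
    simpa only [mul_assoc, c2.left_comm, c2.eq, c3.left_comm, c3.eq] using e))
  obtain ⟨s, hs⟩ : ∃ s, s = y * (q * (r * y * r) * q * p * (q * (r * y * r) * q)) * y := ⟨_, rfl⟩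
  have s1 : s ∈ Dd Y p := hs ▸ t.th' hp hy.1 k3.1 k3.2.1.symm k3.2.2 x0 x3
  have s2 : ¬ Commute d s := hs ▸ t.not_commute_conj hy.1 hy.2.2 (t.not_commute_conj h3.1 h3.2.2 m1)
  have j1 := t.th hp hd m1 ⟨hq, pq.symm, c1⟩ m2
  have j2 := t.th hp hd m1 ⟨hr, pr.symm, c2⟩ m3
  have j3 := t.th hp hd m1 s1 s2
  obtain ⟨hu2, hu3⟩ := t.pl_conj hp hd m1 hu
  obtain ⟨K, hK, hx⟩ := fano (Commute u) (Commute (p * u * p)) (Commute (d * p * d * u * (d * p * d))) y (p * (q * y * q) * p)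
    (p * (r * y * r) * p) (q * (r * y * r) * q) (p * (q * d * q) * p) (p * (r * d * r) * p) (p * (s * d * s) * p) (fun x hx => by
      have : x ∈ Dd Y d ∧ ¬ Commute p x := by
        simp only [List.mem_cons, List.not_mem_nil, or_false] at hx
        rcases hx with rfl | rfl | rfl | rfl | rfl | rfl | rfl
        exacts [⟨hy, x0⟩, ⟨h1, x1⟩, ⟨h2, x2⟩, ⟨h3, x3⟩, j1, j2, j3]
      have k : ¬ (Commute u x ∧ Commute (p * u * p) x) := fun c =>
        this.2 (t.comm_third hp hu.1 (hu.2.2.1 ·.symm) c.1.symm c.2.symm).symm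
      refine ⟨t.p1 g hp hd m1 this.1 this.2 hu, k, fun c => this.2 (t.comm_third' hd this.1.2.2.symm
          (t.comm_third (t.conj d hd p hp) hu.1 (hu.2.2.2 ·.symm) c.1.symm c.2.symm)).symm,
          fun c => k ⟨(t.comm_third' hd this.1.2.2.symm ?_).symm, c.1⟩⟩
      have e : d * u * d = p * u * p * (d * p * d * u * (d * p * d)) * (p * u * p) := by
        simpa [mul_assoc] using t.plw hu.1 hd hp hu.2.1 hu.2.2.1 m1 hu.2.2.2 [1,0,1] [2,0,2,1,2,1,0,1,2,1,2,0,2] (by decide +kernel)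
      exact e ▸ TT.commute_conj c.1.symm c.2.symm) (fun K hK => by
      obtain ⟨v, hv, rfl⟩ : ∃ v, Pl Y d p v ∧ K = Commute v := by
        simp only [List.mem_cons, List.not_mem_nil, or_false] at hK
        rcases hK with rfl | rfl | rfl
        exacts [⟨_, hu, rfl⟩, ⟨_, hu2, rfl⟩, ⟨_, hu3, rfl⟩]
      refine ⟨t.fr g hp hd m1 hy h1 k1.2.1.symm k1.2.2 x0 x1 ?_ hv, t.fr g hp hd m1 h2 h3 z23 y23 x2 x3 ?_ hv,
        t.fr g hp hd m1 hy h2 k2.2.1.symm k2.2.2 x0 x2 ?_ hv, t.fr g hp hd m1 h1 h3 z13 y13 x1 x3 ?_ hv,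
        t.fr g hp hd m1 hy h3 k3.2.1.symm k3.2.2 x0 x3 hs hv, t.fr g hp hd m1 h1 h2 z12 y12 x1 x2 ?_ hv⟩
      · simpa [mul_assoc] using w [2] [0,1,2,0,2,1,1,1,2,0,2,1,0] (by decide +kernel)
      · simpa [mul_assoc] using w [2] [1,3,0,3,1,2,3,0,3,2,1,2,3,0,3,2,1,3,0,3,1] (by decide +kernel)
      · simpa [mul_assoc] using w [3] [0,1,3,0,3,1,1,1,3,0,3,1,0] (by decide +kernel)
      · simpa [mul_assoc] using w [3] [1,2,0,2,1,2,3,0,3,2,1,2,3,0,3,2,1,2,0,2,1] (by decide +kernel)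
      · simpa [hs, mul_assoc] using w [0,2,3,0,3,2,1,2,3,0,3,2,0] [1,2,0,2,1,1,3,0,3,1,1,1,3,0,3,1,1,2,0,2,1] (by decide +kernel))
  obtain ⟨v, hv, rfl⟩ : ∃ v, Pl Y d p v ∧ K = Commute v := by
    simp only [List.mem_cons, List.not_mem_nil, or_false] at hK
    rcases hK with rfl | rfl | rfl
    exacts [⟨_, hu, rfl⟩, ⟨_, hu2, rfl⟩, ⟨_, hu3, rfl⟩]
  simp only [List.mem_cons, List.not_mem_nil, or_false, forall_eq_or_imp, forall_eq] at hx
  obtain ⟨v1, v2, v3, v4, v5, v6, v7⟩ := hx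
  have e1 : y * (p * (q * y * q) * p) * (p * (r * y * r) * p) * (q * (r * y * r) * q) = p * q * r * s := by
    simpa [hs, mul_assoc] using w [0,1,2,0,2,1,1,3,0,3,1,2,3,0,3,2] [1,2,3,0,2,3,0,3,2,1,2,3,0,3,2,0] (by decide +kernel)
  have e2 : s * d * s = r * q * p * d * p * q * r := by
    have := (e1 ▸ ((hy.2.2.mul_right h1.2.2).mul_right h2.2.2).mul_right h3.2.2).eq
    rw [show r * q * p * d * p * q * r = r * q * p * (d * (p * q * r * s)) * s by simp [mul_assoc, t.sq s1.1], this]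
    simp [mul_assoc, t.cancel hp, t.cancel hq, t.cancel hr]
  have e3 : d * (p * (q * d * q) * p) * (p * (r * d * r) * p) * (p * (s * d * s) * p) = p * q * r * s := by
    conv_rhs => rw [← t.third_third hd s1.1 s2]
    simpa [e2, mul_assoc] using w' [0,1,2,0,2,1,1,3,0,3,1,1,3,2,1,0,1,2,3,1] [1,2,3,0,3,2,1,0,1,2,3,0] (by decide +kernel)
  have := ((((e1.trans e3.symm ▸ ((v1.mul_right v2).mul_right v3).mul_right v4).mul_right v7).mul_right v6).mul_right v5)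
  rw [t.cancel' j3.1.1, t.cancel' j2.1.1, t.cancel' j1.1.1] at this
  exact hv.2.1 this

end

end Cfsg.Lib.Known2
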