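import Cfsg.Agent.Lib.Known2.F11

/-! Fischer's theorem, XII: the representation over `𝔽₃`. -/

set_option autoImplicit false

namespace Cfsg.Lib.Known2

open Subgroup Cfsg.Lib.Forms

variable {G : Type*} [Group G] {X Y : Set G}

open Classical in
noncomputable def b0 (d x y : G) : ZMod 3 := if x = y then 2 else if Commute x y then 0 else if x = d ∨ y = d then 1 else s3 d x y
noncomputable def psi (d y a b : G) : ZMod 3 := b0 d (y * a * y) b - b0 d a b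
def Nn (Y : Set G) (d y : G) : Set G := {x | x ∈ Y ∧ ¬ Commute d x ∧ ¬ Commute y x}

theorem b0_self (d x : G) : b0 d x x = 2 := if_pos rfl
theorem b0_comm {d x y : G} (n : x ≠ y) (c : Commute x y) : b0 d x y = 0 := by simp [b0, n, c]
theorem b0_nc {d x y : G} (a : ¬ Commute d x) (b : ¬ Commute d y) (c : ¬ Commute x y) : b0 d x y = s3 d x y := by
  rw [b0, if_neg fun e => c (by rw [e]), if_neg c, if_neg (by rintro (rfl | rfl); exacts [a rfl, b rfl])]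
theorem b0_base {d x : G} (a : ¬ Commute d x) : b0 d d x = 1 := by
  rw [b0, if_neg fun e => a (by rw [e]), if_neg a, if_pos (Or.inl rfl)]
theorem b0_eq_zero {d x y : G} : b0 d x y = 0 ↔ x ≠ y ∧ Commute x y := by
  unfold b0; split_ifs <;> simp [*, s3_ne]; decide

theorem TT.b0_symm (t : TT Y) {d x y : G} (hd : d ∈ Y) (hx : x ∈ Y) (hy : y ∈ Y) (a : x = d ∨ ¬ Commute d x)
    (b : y = d ∨ ¬ Commute d y) : b0 d y x = b0 d x y := by
  classical
  unfold b0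
  refine if_congr eq_comm rfl (if_congr Commute.symm_iff rfl ?_)
  by_cases h : x = d ∨ y = d
  · rw [if_pos h, if_pos h.symm]
  · rw [if_neg h, if_neg (h ·.symm)]
    exact s3_congr (t.s4_sw hd hy hx (b.resolve_left fun e => h (Or.inr e)) (a.resolve_left fun e => h (Or.inl e)))

namespace TT
variable (t : TT Y) {d y : G} (hd : d ∈ Y) (hy : y ∈ Dd Y d)
include t hy

theorem b0_conj (a b : G) : b0 d (y * a * y) (y * b * y) = b0 d a b := by
  have e : y * d * y = d := (t.conj_eq_iff hy.1).2 hy.2.2.symm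
  have k : ∀ a b, y * a * y = y * b * y ↔ a = b := fun a b => ⟨t.conj_inj hy.1, fun e => by rw [e]⟩
  have k' : ∀ a, y * a * y = d ↔ a = d := fun a => by rw [← k a d, e]
  classical
  unfold b0
  exact if_congr (k a b) rfl (if_congr (t.commute_conj_iff hy.1) rfl (if_congr (or_congr (k' a) (k' b)) rfl
    (by rw [← t.s3_conj hy.1 (x := d) (y := a), e])))

theorem psi1 (a b : G) : psi d y (y * a * y) b = -psi d y a b := by rw [psi, psi, t.conj_conj hy.1, neg_sub]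
theorem psi2 (a b : G) : psi d y a (y * b * y) = -psi d y a b := by
  rw [psi, psi, t.b0_conj hy, neg_sub, ← t.b0_conj hy a (y * b * y), t.conj_conj hy.1]
theorem psi0 (a : G) {b : G} (h : Commute y b) : psi d y a b = 0 := by
  have := t.psi2 hy a b
  rw [(t.conj_eq_iff hy.1).2 h] at this
  revert this; generalize psi d y a b = u; revert u; decide

theorem nn_conj {a : G} (ha : a ∈ Nn Y d y) : y * a * y ∈ Nn Y d y :=
  ⟨t.conj y hy.1 a ha.1, t.not_commute_conj hy.1 hy.2.2 ha.2.1, t.not_commute_third hy.1 ha.2.2⟩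

include hd
theorem s3_line {a : G} (ha : a ∈ Nn Y d y) : s3 d a (y * a * y) = 1 :=
  s3_one.2 ⟨t.s4a hy.1 ha.1 hd hy.2.2.symm (ha.2.2 ·.symm) (ha.2.1 ·.symm),
    t.s4_ne hy.1 ha.1 hd hy.2.1 (ha.2.2 ·.symm) (ha.2.1 ·.symm)⟩

theorem psi_self {a : G} (ha : a ∈ Nn Y d y) : psi d y a a = -1 := by
  have k := t.nn_conj hy ha
  rw [psi, b0_self, t.b0_symm hd ha.1 k.1 (Or.inr ha.2.1) (Or.inr k.2.1), b0_nc ha.2.1 k.2.1 (t.not_commute_third' hy.1 ha.1 ha.2.2),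
    t.s3_line hd hy ha]; decide

theorem psi_perp {a b : G} (ha : a ∈ Nn Y d y) (hb : b ∈ Nn Y d y) (n : a ≠ b) (c : Commute a b) :
    (psi d y a b = 1 ∧ a * (b * y * b) * a ∈ Dd Y d) ∨ (psi d y a b = -1 ∧ a * (b * y * b) * a ∉ Dd Y d) := by
  have k := t.nn_conj hy ha
  have n1 : ¬ Commute (y * a * y) b := by
    rw [t.braid hy.1 ha.1 ha.2.2]; exact (t.not_commute_conj ha.1 c.symm (hb.2.2 ·.symm) ·.symm)
  have e : y * a * y * b * (y * a * y) = a * (b * y * b) * a := by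
    simpa [mul_assoc] using t.s4w ha.1 hy.1 hb.1 (ha.2.2 ·.symm) c hb.2.2 [1,0,1,2,1,0,1] [0,2,1,2,0] (by decide +kernel)
  rw [psi, b0_comm n c, sub_zero, b0_nc k.2.1 hb.2.1 n1, s3_congr (t.s4_cyc hd k.1 hb.1 k.2.1 n1)]
  by_cases h : S4 (y * a * y) b d
  · exact Or.inl ⟨s3_one.2 h, e ▸ ⟨t.conj _ k.1 b hb.1, h.2.symm, h.1⟩⟩
  · exact Or.inr ⟨s3_neg h, fun q => h ⟨e ▸ q.2.2, e ▸ q.2.1.symm⟩⟩

variable (g : TG Y)
include g

theorem psi_nc {a b : G} (ha : a ∈ Nn Y d y) (hb : b ∈ Nn Y d y) (n : ¬ Commute a b) :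
    psi d y a b = -(s3 y a b * s3 d a b) := by
  have k := t.nn_conj hy ha
  rw [psi, b0_nc ha.2.1 hb.2.1 n]
  by_cases e : y * a * y = b
  · rw [e, b0_self, s3_neg (fun q : S4 y a b => q.2 e.symm), ← e, t.s3_line hd hy ha]; decide
  by_cases c : Commute (y * a * y) b
  · rw [b0_comm e c, s3_one.2 (⟨c.symm, Ne.symm e⟩ : S4 y a b)]; ring
  have := t.cocycle g hd ha.1 k.1 hb.1 ha.2.1 k.2.1 hb.2.1 (t.not_commute_third' hy.1 ha.1 ha.2.2) n c
  rw [t.s3_line hd hy ha, s3_neg (fun q : S4 a (y * a * y) b => hb.2.2 (t.third_third ha.1 hy.1 (ha.2.2 ·.symm) ▸ q.1).symm)] at this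
  rw [b0_nc k.2.1 hb.2.1 c, s3_neg (fun q : S4 y a b => c q.1.symm)]
  revert this; generalize s3 d (y * a * y) b = u; generalize s3 d a b = v; revert u v; decide

theorem psi_symm {a b : G} (ha : a ∈ Nn Y d y) (hb : b ∈ Nn Y d y) : psi d y b a = psi d y a b := by
  have k : ∀ {a b}, a ∈ Nn Y d y → b ∈ Nn Y d y → ¬ Commute a b → psi d y b a = psi d y a b := fun ha hb n => by
    rw [t.psi_nc hd hy g ha hb n, t.psi_nc hd hy g hb ha (n ·.symm), s3_congr (t.s4_sw hy.1 ha.1 hb.1 ha.2.2 hb.2.2),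
      s3_congr (t.s4_sw hd ha.1 hb.1 ha.2.1 hb.2.1)]
  by_cases c : Commute a b
  · have := k (t.nn_conj hy ha) hb (by
      rw [t.braid hy.1 ha.1 ha.2.2]; exact (t.not_commute_conj ha.1 c.symm (hb.2.2 ·.symm) ·.symm))
    rwa [t.psi1 hy, t.psi2 hy, neg_inj] at this
  · exact k ha hb c

theorem psi_sq {a b : G} (ha : a ∈ Nn Y d y) (hb : b ∈ Nn Y d y) : psi d y a b * psi d y a b = 1 := by
  by_cases e : a = b
  · rw [e, t.psi_self hd hy hb]; decide
  by_cases c : Commute a b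
  · rcases t.psi_perp hd hy ha hb e c with h | h <;> rw [h.1] <;> decide
  · rw [t.psi_nc hd hy g ha hb c]; linear_combination s3 d a b * s3 d a b * s3_sq y a b + s3_sq d a b

theorem psi_tri (pl : ∀ p ∈ Y, ¬ Commute d p → ∃ u, Pl Y d p u) {a b c : G} (ha : a ∈ Nn Y d y) (hb : b ∈ Nn Y d y)
    (hc : c ∈ Nn Y d y) : psi d y a b * psi d y b c * psi d y a c = -1 := by
  let T := fun a b c => psi d y a b * psi d y b c * psi d y a c = -1
  let P := fun a b : G => a ≠ b ∧ Commute a b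
  have Ps : ∀ {a b}, P a b → P b a := fun h => ⟨h.1.symm, h.2.symm⟩
  have fl : ∀ {a b}, a ∈ Nn Y d y → b ∈ Nn Y d y → P a b → ¬ P (y * a * y) b := fun ha hb h q => by
    rw [t.braid hy.1 ha.1 ha.2.2] at q; exact t.not_commute_conj ha.1 h.2.symm (hb.2.2 ·.symm) q.2.symm
  have fa : ∀ {a b c}, T (y * a * y) b c → T a b c := fun h => by simpa only [T, t.psi1 hy, neg_mul, mul_neg, neg_neg] using h
  have fb : ∀ {a b c}, T a (y * b * y) c → T a b c := fun h => by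
    simpa only [T, t.psi1 hy, t.psi2 hy, neg_mul, mul_neg, neg_neg] using h
  have Tn : ∀ {a b c}, a ∈ Nn Y d y → b ∈ Nn Y d y → c ∈ Nn Y d y → ¬ P a b → ¬ P b c → ¬ P a c → T a b c :=
      fun {a b c} ha hb hc h1 h2 h3 => by
    simp only [T]
    by_cases e1 : a = b
    · rw [e1, t.psi_self hd hy hb, mul_assoc, t.psi_sq hd hy g hb hc, mul_one]
    by_cases e2 : b = c
    · rw [e2, t.psi_self hd hy hc, mul_right_comm, t.psi_sq hd hy g ha hc, one_mul]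
    by_cases e3 : a = c
    · rw [e3, t.psi_self hd hy hc, t.psi_symm hd hy g hb hc, t.psi_sq hd hy g hb hc, one_mul]
    have n1 : ¬ Commute a b := fun q => h1 ⟨e1, q⟩
    have n2 : ¬ Commute b c := fun q => h2 ⟨e2, q⟩
    have n3 : ¬ Commute a c := fun q => h3 ⟨e3, q⟩
    rw [t.psi_nc hd hy g ha hb n1, t.psi_nc hd hy g hb hc n2, t.psi_nc hd hy g ha hc n3]
    linear_combination (-(s3 d a b * s3 d b c * s3 d a c)) * t.cocycle g hy.1 ha.1 hb.1 hc.1 ha.2.2 hb.2.2 hc.2.2 n1 n3 n2 -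
      s3 a b c * t.cocycle g hd ha.1 hb.1 hc.1 ha.2.1 hb.2.1 hc.2.1 n1 n3 n2 - s3_sq a b c
  have Ta : ∀ {a b c}, a ∈ Nn Y d y → b ∈ Nn Y d y → c ∈ Nn Y d y → P a b → P b c → P a c → T a b c :=
      fun {a b c} ha hb hc h1 h2 h3 => by
    have sw : ∀ {a b}, P a b → b * (a * y * a) * b = a * (b * y * b) * a := fun h => by
      simp only [mul_assoc, h.2.left_comm, h.2.eq]
    have k1 := t.e3a g hd hy ha.1 hb.1 hc.1 h1.1 h1.2 h3.2 h2.2 ha.2.2 hb.2.2 hc.2.2 ha.2.1 hb.2.1 hc.2.1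
    have k2 := t.e3a g hd hy ha.1 hc.1 hb.1 h3.1 h3.2 h1.2 h2.2.symm ha.2.2 hc.2.2 hb.2.2 ha.2.1 hc.2.1 hb.2.1
    have k3 := t.e3a g hd hy hb.1 hc.1 ha.1 h2.1 h2.2 h1.2.symm h3.2.symm hb.2.2 hc.2.2 ha.2.2 hb.2.1 hc.2.1 ha.2.1
    have k4 := t.e3b g hd hy ha.1 hb.1 hc.1 h1.1 h3.1 h2.1 h1.2 h3.2 h2.2 ha.2.2 hb.2.2 hc.2.2 ha.2.1 hb.2.1 hc.2.1
      (pl a ha.1 ha.2.1).choose_spec
    rw [sw h2] at k2
    rw [sw h1, sw h3] at k3
    simp only [T]
    rcases t.psi_perp hd hy ha hb h1.1 h1.2 with ⟨e1, m1⟩ | ⟨e1, m1⟩ <;>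
      rcases t.psi_perp hd hy hb hc h2.1 h2.2 with ⟨e2, m2⟩ | ⟨e2, m2⟩ <;>
      rcases t.psi_perp hd hy ha hc h3.1 h3.2 with ⟨e3, m3⟩ | ⟨e3, m3⟩ <;> rw [e1, e2, e3] <;>
      first | decide | simp [m1, m2, m3] at k1 k2 k3 k4
  have one : ∀ {a b c}, a ∈ Nn Y d y → b ∈ Nn Y d y → c ∈ Nn Y d y → P a b → T a b c := fun {a b c} ha hb hc h1 => by
    have ha' := t.nn_conj hy ha
    have hb' := t.nn_conj hy hb
    have u1 := fl ha hb h1
    have u2 : ¬ P a (y * b * y) := fun q => fl hb ha (Ps h1) (Ps q)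
    by_cases h2 : P b c <;> by_cases h3 : P a c
    · exact Ta ha hb hc h1 h2 h3
    · exact fb (Tn ha hb' hc u2 (fl hb hc h2) h3)
    · exact fa (Tn ha' hb hc u1 h2 (fl ha hc h3))
    by_cases h4 : P (y * a * y) c
    · by_cases h5 : P (y * b * y) c
      · exact fa (fb (Ta ha' hb' hc ⟨fun e => h1.1 (t.conj_inj hy.1 e), (t.commute_conj_iff hy.1).2 h1.2⟩ h5 h4))
      · exact fb (Tn ha hb' hc u2 h5 h3)
    · exact fa (Tn ha' hb hc u1 h2 h4)
  by_cases h1 : P a b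
  · exact one ha hb hc h1
  by_cases h2 : P b c
  · have := one hb hc ha h2
    simp only [T] at this
    rw [t.psi_symm hd hy g ha hc, t.psi_symm hd hy g ha hb] at this; linear_combination this
  by_cases h3 : P a c
  · have := one ha hc hb h3
    simp only [T] at this
    rw [t.psi_symm hd hy g hb hc] at this; linear_combination this
  exact Tn ha hb hc h1 h2 h3

end TT

abbrev V3 (n : ℕ) := Fin n → ZMod 3

structure OR (Y : Set G) {n : ℕ} (D : Form (quadKind (ZMod 3)) (V3 n)) (v : G → V3 n) : Prop where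
  tt : TT Y
  nd : D.Nondeg
  span : Submodule.span (ZMod 3) (v '' Y) = ⊤
  self : ∀ x ∈ Y, D.B (v x) (v x) = 2
  zero : ∀ x ∈ Y, ∀ y ∈ Y, D.B (v x) (v y) = 0 ↔ x ≠ y ∧ Commute x y
  lin : ∀ x ∈ Y, ∀ y ∈ Y, ∃ ε : ZMod 3, ε * ε = 1 ∧ v (x * y * x) = ε • (v y - D.B (v x) (v y) • v x)

theorem z3_sq {a : ZMod 3} (h : a ≠ 0) : a * a = 1 := by revert a; decide

set_option synthInstance.maxSize 100000 in
set_option synthInstance.maxHeartbeats 400000 in
theorem OR.of_tri {n : ℕ} {D : Form (quadKind (ZMod 3)) (V3 n)} {v : G → V3 n} (t : TT Y) (nd : D.Nondeg)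
    (sp : Submodule.span (ZMod 3) (v '' Y) = ⊤) (sf : ∀ x ∈ Y, D.B (v x) (v x) = 2)
    (ze : ∀ x ∈ Y, ∀ y ∈ Y, D.B (v x) (v y) = 0 ↔ x ≠ y ∧ Commute x y)
    (tr : ∀ a ∈ Y, ∀ b ∈ Y, ∀ c ∈ Y, ¬ Commute a b → ¬ Commute b c → ¬ Commute a c →
      D.B (v a) (v b) * D.B (v b) (v c) * D.B (v c) (v a) = s3 a b c) : OR Y D v := by
  refine ⟨t, nd, sp, sf, ze, fun z hz x hx => ?_⟩
  by_cases c : Commute z x
  · rw [(t.conj_eq_iff hz).2 c]
    by_cases e : z = x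
    · exact ⟨-1, by decide, by rw [e, sf x hx]; module⟩
    · exact ⟨1, rfl, by simp [(ze z hz x hx).2 ⟨e, c⟩]⟩
  have hy := t.conj z hz x hx
  have c1 := t.not_commute_third hz c
  have c2 := t.not_commute_third' hz hx c
  have e1 := t.third_third hx hz (c ·.symm)
  have e2 := t.conj_conj hz x
  generalize e0 : z * x * z = y at *
  have nz : ∀ a ∈ Y, ∀ b ∈ Y, ¬ Commute a b → D.B (v a) (v b) ≠ 0 := fun a ha b hb n e => n ((ze a ha b hb).1 e).2
  have k0 := tr z hz x hx y hy c c2 c1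
  rw [s3_neg fun q : S4 z x y => q.2 e0.symm] at k0
  have k1 := nz x hx y hy c2
  have k2 := nz z hz x hx c
  refine ⟨D.B (v x) (v y), z3_sq k1, span_ext nd sp ?_⟩
  rintro _ ⟨w, hw, rfl⟩
  rw [D.B_smul_right, D.B_sub_right, D.B_smul_right]
  have T : ∀ a ∈ Y, ∀ b ∈ Y, ¬ Commute a b → D.B (v w) (v a) ≠ 0 → D.B (v w) (v b) ≠ 0 →
      (D.B (v a) (v b) * D.B (v w) (v b) * D.B (v w) (v a) = 1 ↔ D.B (v w) (v (a * b * a)) = 0) := fun a ha b hb n p q => by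
    rw [ze w hw _ (t.conj a ha b hb)]
    by_cases e1 : w = a
    · rw [e1, sf a ha, z3_sq (nz a ha b hb n)]
      exact iff_of_false (by decide) fun r => t.not_commute_third ha n r.2
    by_cases e2 : w = b
    · rw [e2, sf b hb, quad_symm D (v b), mul_right_comm, z3_sq (nz a ha b hb n)]
      exact iff_of_false (by decide) fun r => t.not_commute_third' ha hb n r.2
    rw [quad_symm D (v w) (v b), tr a ha b hb w hw n (fun r => q ((ze w hw b hb).2 ⟨e2, r.symm⟩))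
      (fun r => p ((ze w hw a ha).2 ⟨e1, r.symm⟩)), s3_one, S4, and_comm]
  have Z : ∀ a ∈ Y, ∀ b ∈ Y, ¬ Commute a b → D.B (v w) (v a) = 0 → D.B (v w) (v b) = 0 → D.B (v w) (v (a * b * a)) = 0 :=
    fun a ha b hb n p q => (ze w hw _ (t.conj a ha b hb)).2 ⟨fun r => t.not_commute_third ha n (r ▸ ((ze w hw a ha).1 p).2.symm),
      TT.commute_conj ((ze w hw a ha).1 p).2 ((ze w hw b hb).1 q).2⟩
  have T1 := T z hz x hx c
  have T2 := T x hx y hy c2
  have T3 := T z hz y hy c1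
  have Z1 := Z z hz x hx c
  have Z2 := Z x hx y hy c2
  have Z3 := Z z hz y hy c1
  rw [e0] at T1 Z1
  rw [e1] at T2 Z2
  rw [e2] at T3 Z3
  rw [quad_symm D (v y) (v z)] at k0
  revert k0 k1 k2 T1 T2 T3 Z1 Z2 Z3
  generalize D.B (v z) (v x) = a1; generalize D.B (v x) (v y) = a2; generalize D.B (v z) (v y) = a3
  generalize D.B (v w) (v x) = a4; generalize D.B (v w) (v y) = a5; generalize D.B (v w) (v z) = a6
  revert a1 a2 a3 a4 a5 a6; decide +kernel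

theorem R3.pl (h : R3 Y) (ns : ¬ Symp Y) {d p : G} (hd : d ∈ Y) (hp : p ∈ Y) (n : ¬ Commute d p) : ∃ u, Pl Y d p u := by
  simp only [Symp, not_forall] at ns
  obtain ⟨a, ha, b, hb, x, hx, n1, n2, n3, n4⟩ := ns
  obtain ⟨k, hk, rfl, rfl⟩ := h.tr_nc ha hd hb hp n1 n
  refine ⟨_, h.tt.conj_mem hk hx, by rwa [commute_conj_conj_iff], by rwa [commute_conj_conj_iff], ?_⟩
  rwa [show k * a * k⁻¹ * (k * b * k⁻¹) * (k * a * k⁻¹) = k * (a * b * a) * k⁻¹ by group, commute_conj_conj_iff]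

theorem R3.or3 [Finite G] (h : R3 Y) (g : TG Y) (ns : ¬ Symp Y) : ∃ n D v, OR Y (n := n) D v := by
  classical
  have t := h.tt
  obtain ⟨d, hd⟩ := h.ne
  let A := {x | x ∈ Y ∧ (x = d ∨ ¬ Commute d x)}
  obtain ⟨n, D, v, nd, sp, hB⟩ := gramQ3 A (b0 d) fun x hx y hy => t.b0_symm hd hx.1 hy.1 hx.2 hy.2
  have hc : ∀ y ∈ Dd Y d, ∃ c, c ∈ Nn Y d y := fun y hy =>
    (h.nc2 hd hy.1 hy.2.1.symm hy.2.2).imp fun c a => ⟨a.1, (a.2.1 ·.symm), (a.2.2 ·.symm)⟩
  choose! c hc using hc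
  let w := fun y => if y ∈ A then v y else v (y * c y * y) - v (c y)
  have NA : ∀ {y x}, x ∈ Nn Y d y → x ∈ A := fun a => ⟨a.1, Or.inr a.2.1⟩
  have AD : ∀ y ∈ Y, y ∈ A ∨ y ∈ Dd Y d := fun y hy => by
    by_cases e : y = d ∨ ¬ Commute d y
    exacts [Or.inl ⟨hy, e⟩, Or.inr ⟨hy, fun a => e (Or.inl a), not_not.1 fun a => e (Or.inr a)⟩]
  have wA : ∀ y ∈ A, w y = v y := fun y hy => if_pos hy
  have wD : ∀ y ∈ Dd Y d, w y = v (y * c y * y) - v (c y) := fun y hy => if_neg fun a => a.2.elim hy.2.1 (· hy.2.2)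
  have cA : ∀ y ∈ Dd Y d, ∀ x ∈ A, y * x * y ∈ A := fun y hy x hx => ⟨t.conj y hy.1 x hx.1,
    hx.2.imp (fun e => by rw [e, (t.conj_eq_iff hy.1).2 hy.2.2.symm]) (t.not_commute_conj hy.1 hy.2.2)⟩
  have AN : ∀ y ∈ Dd Y d, ∀ x ∈ A, ¬ Commute y x → x ∈ Nn Y d y := fun y hy x hx n =>
    ⟨hx.1, hx.2.resolve_left fun e => n (e ▸ hy.2.2.symm), n⟩
  have pr : ∀ y ∈ Dd Y d, ∀ x ∈ A, D.B (w y) (v x) = psi d y (c y) x := fun y hy x hx => by
    rw [wD y hy, D.B_sub_left, hB _ (cA y hy _ (NA (hc y hy))) x hx, hB _ (NA (hc y hy)) x hx, psi]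
  have L1 : ∀ y ∈ Dd Y d, ∀ x ∈ A, v (y * x * y) = v x - D.B (w y) (v x) • w y := fun y hy x hx => span_ext nd sp (by
    rintro _ ⟨z, hz, rfl⟩
    rw [D.B_sub_right, D.B_smul_right, quad_symm D (v z) (w y), pr y hy x hx, pr y hy z hz, quad_symm D (v z), quad_symm D (v z),
      hB _ (cA y hy x hx) z hz, hB x hx z hz]
    by_cases c1 : Commute y x
    · rw [t.psi0 hy _ c1, (t.conj_eq_iff hy.1).2 c1]; simp
    by_cases c2 : Commute y z
    · have := t.psi0 hy x c2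
      rw [t.psi0 hy _ c2]; rw [psi] at this; linear_combination this
    have := t.psi_tri hd hy g (fun p hp => h.pl ns hd hp) (hc y hy) (AN y hy x hx c1) (AN y hy z hz c2)
    have k1 := t.psi_sq hd hy g (hc y hy) (AN y hy x hx c1)
    have k2 := t.psi_sq hd hy g (hc y hy) (AN y hy z hz c2)
    have k3 : psi d y x z = b0 d (y * x * y) z - b0 d x z := rfl
    linear_combination (-1 : ZMod 3) * k3 + psi d y (c y) x * psi d y (c y) z * this -
      psi d y x z * psi d y (c y) z * psi d y (c y) z * k1 - psi d y x z * k2)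
  have zD : ∀ y ∈ Dd Y d, ∀ x ∈ A, D.B (w y) (v x) = 0 ↔ Commute y x := fun y hy x hx => by
    rw [pr y hy x hx]
    exact ⟨fun e => by_contra fun n => by simpa [e] using t.psi_sq hd hy g (hc y hy) (AN y hy x hx n), t.psi0 hy _⟩
  have sD : ∀ y ∈ Dd Y d, D.B (w y) (w y) = 2 := fun y hy => by
    conv_lhs => rw [show D.B (w y) (w y) = D.B (w y) (v (y * c y * y) - v (c y)) by rw [← wD y hy]]
    rw [D.B_sub_right, pr y hy _ (cA y hy _ (NA (hc y hy))), pr y hy _ (NA (hc y hy)), t.psi2 hy, t.psi_self hd hy (hc y hy)]; decide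
  have L2 : ∀ y ∈ Dd Y d, ∀ x ∈ Y, ∃ ε : ZMod 3, ε * ε = 1 ∧ w (y * x * y) = ε • (w x - D.B (w y) (w x) • w y) :=
      fun y hy x hx => by
    rcases AD x hx with hx | hx
    · exact ⟨1, rfl, by rw [wA _ (cA y hy x hx), wA x hx, L1 y hy x hx, one_smul]⟩
    have k := (t.dd d).conj y hy x hx
    have k1 := cA y hy _ (NA (hc x hx))
    have k2 := z3_sq ((zD _ k _ k1).not.2 ((t.commute_conj_iff hy.1).not.2 (hc x hx).2.2))
    have k3 := L1 _ k _ k1
    rw [show y * x * y * (y * c x * y) * (y * x * y) = y * (x * c x * x) * y by simp [mul_assoc, t.cancel hy.1],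
      L1 y hy _ (cA x hx _ (NA (hc x hx))), L1 y hy _ (NA (hc x hx))] at k3
    rw [← L1 y hy _ (NA (hc x hx))] at k3
    refine ⟨-D.B (w (y * x * y)) (v (y * c x * y)), by rw [neg_mul_neg, k2], ?_⟩
    have k4 := L1 y hy _ (NA (hc x hx))
    rw [wD x hx, D.B_sub_right]
    linear_combination (norm := module) D.B (w (y * x * y)) (v (y * c x * y)) • (k3 + k4) - k2 • w (y * x * y)
  have sf : ∀ x ∈ Y, D.B (w x) (w x) = 2 := fun x hx =>
    (AD x hx).elim (fun a => by rw [wA x a, hB x a x a, b0_self]) (sD x)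
  have ze : ∀ x ∈ Y, ∀ y ∈ Y, D.B (w x) (w y) = 0 ↔ x ≠ y ∧ Commute x y := fun x hx y hy => by
    have ne : ∀ a ∈ Dd Y d, ∀ b ∈ A, a ≠ b := fun a ha b hb e => hb.2.elim (e ▸ ha.2.1) (e ▸ (· ha.2.2))
    rcases AD x hx with hx | hx <;> rcases AD y hy with hy | hy
    · rw [wA x hx, wA y hy, hB x hx y hy, b0_eq_zero]
    · rw [wA x hx, quad_symm, zD y hy x hx, and_iff_right (ne y hy x hx).symm, Commute.symm_iff]
    · rw [wA y hy, zD x hx y hy, and_iff_right (ne x hx y hy)]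
    obtain ⟨ε, e1, e2⟩ := L2 x hx y hy.1
    have sep : ∀ a ∈ Dd Y d, ∀ b ∈ Dd Y d, ∀ κ : ZMod 3, w b = κ • w a → ∀ z ∈ Dd Y a, ¬ Commute d z → Commute b z :=
      fun a ha b hb κ e z hz n => (zD b hb z ⟨hz.1, Or.inr n⟩).1 (by
        rw [e, D.B_smul_left, (zD a ha z ⟨hz.1, Or.inr n⟩).2 hz.2.2, mul_zero])
    refine ⟨fun e => ?_, fun c => by_contra fun e => ?_⟩
    · have ne : x ≠ y := fun q => by rw [q, sD y hy] at e; exact absurd e (by decide)
      refine ⟨ne, by_contra fun n => ne (h.rw_of_sub hy.1 hx.1 fun z hz => ?_).symm⟩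
      rw [e, zero_smul, sub_zero] at e2
      have k : ∀ z ∈ Dd Y y, ¬ Commute d z → Commute z x := fun z hz m => t.comm_third hx.1 hy.1 n hz.2.2.symm
        (sep y hy _ ((t.dd d).conj x hx y hy) ε e2 z hz m).symm
      have hd' := mem_Dd_comm hd hy
      refine ⟨hz.1, fun q => n (q ▸ hz.2.2.symm), Commute.symm ?_⟩
      by_cases m : Commute d z
      swap
      · exact k z hz m
      by_cases q : d = z
      · exact q ▸ hx.2.2
      obtain ⟨u, hu, u1, u2⟩ := (t.dd y).diam (h.tdd y hy.1) hd' hz q m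
      exact t.comm_third hz.1 hu.1 (u2 ·.symm) (k u hu (u1 ·.symm)).symm
        (k _ ((t.dd y).conj z hz u hu) (t.not_commute_conj hz.1 m (u1 ·.symm))).symm |>.symm
    · rw [(t.conj_eq_iff hx.1).2 c.2] at e2
      obtain ⟨u, hu, u1, u2⟩ := (t.dd x).diam (h.tdd x hx.1) (mem_Dd_comm hd hx) ⟨hy.1, c.1.symm, c.2⟩ hy.2.1.symm hy.2.2
      rcases (by decide : ∀ ε : ZMod 3, ε * ε = 1 → ε = 1 ∨ ε = -1) ε e1 with rfl | rfl
      · have := congrArg (D.B (w x)) e2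
        rw [one_smul, D.B_sub_right, D.B_smul_right, sD x hx] at this
        exact e (by revert this; generalize D.B (w x) (w y) = a; revert a; decide)
      · refine u2 (sep x hx y hy (-D.B (w x) (w y)) ?_ u hu (u1 ·.symm)).symm
        have h3 : (3 : ZMod 3) • w y = 0 := by rw [show (3 : ZMod 3) = 0 from rfl, zero_smul]
        linear_combination (norm := module) (-1 : ZMod 3) • e2 + h3
  refine ⟨n, D, w, OR.of_tri t nd (top_unique (sp ▸ Submodule.span_mono ?_)) sf ze fun a ha b hb e he n1 n2 n3 => ?_⟩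
  · rintro _ ⟨x, hx, rfl⟩; exact ⟨x, hx.1, wA x hx⟩
  have T : ∀ a ∈ Y, ∀ b ∈ Y, ∀ e ∈ Y, ¬ Commute a b → ¬ Commute b e → ¬ Commute a e → a ∈ Dd Y d ∨ a = d →
      D.B (w a) (w b) * D.B (w b) (w e) * D.B (w e) (w a) = s3 a b e := fun a ha b hb e he n1 n2 n3 q => by
    rcases q with q | rfl
    · obtain ⟨ε, e1, e2⟩ := L2 a q b hb
      have k := ze e he _ (t.conj a ha b hb)
      have k1 := (ze a ha b hb).not.2 fun r => n1 r.2
      have k2 := (ze b hb e he).not.2 fun r => n2 r.2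
      have k3 := (ze e he a ha).not.2 fun r => n3 r.2.symm
      rw [e2, D.B_smul_right, D.B_sub_right, D.B_smul_right, and_comm, ← S4, ← s3_one, quad_symm D (w e) (w b)] at k
      have k4 := s3_ne a b e
      revert k k1 k2 k3 k4 e1
      generalize D.B (w a) (w b) = a1; generalize D.B (w b) (w e) = a2; generalize D.B (w e) (w a) = a3; generalize s3 a b e = a4
      revert a1 a2 a3 a4; generalize ε = ε; revert ε; decide +kernel
    · have a0 : a ∈ A := ⟨ha, Or.inl rfl⟩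
      have a1 : b ∈ A := ⟨hb, Or.inr n1⟩
      have a2 : e ∈ A := ⟨he, Or.inr n3⟩
      rw [wA a a0, wA b a1, wA e a2, quad_symm D (v e), hB a a0 b a1, hB b a1 e a2, hB a a0 e a2, b0_base n1, b0_base n3,
        b0_nc n1 n3 n2]; ring
  have dd : ∀ a ∈ Y, (a ∈ Dd Y d ∨ a = d) ∨ ¬ Commute d a := fun a ha => by
    by_cases c : Commute d a
    · exact Or.inl (or_iff_not_imp_right.2 fun q => ⟨ha, q, c⟩)
    · exact Or.inr c
  rcases dd a ha with a1 | a1
  · exact T a ha b hb e he n1 n2 n3 a1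
  rcases dd b hb with a2 | a2
  · rw [s3_congr (t.s4_cyc ha hb he n1 n2), ← T b hb e he a ha n2 (n3 ·.symm) (n1 ·.symm) a2]; ring
  rcases dd e he with a3 | a3
  · rw [← s3_congr (t.s4_cyc he ha hb (n3 ·.symm) n1), ← T e he a ha b hb (n3 ·.symm) n1 (n2 ·.symm) a3]; ring
  rw [wA a ⟨ha, Or.inr a1⟩, wA b ⟨hb, Or.inr a2⟩, wA e ⟨he, Or.inr a3⟩, quad_symm D (v e), hB a ⟨ha, Or.inr a1⟩ b ⟨hb, Or.inr a2⟩,
    hB b ⟨hb, Or.inr a2⟩ e ⟨he, Or.inr a3⟩, hB a ⟨ha, Or.inr a1⟩ e ⟨he, Or.inr a3⟩, b0_nc a1 a2 n1, b0_nc a2 a3 n2, b0_nc a1 a3 n3,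
    t.cocycle g hd ha hb he a1 a2 a3 n1 n3 n2]

end Cfsg.Lib.Known2
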