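import Cfsg.Agent.Lib.Known2.F12

/-! Fischer's theorem, XIII: the orthogonal groups over `𝔽₃`. -/

set_option autoImplicit false

namespace Cfsg.Lib.Known2

open Subgroup Cfsg.Lib.Forms Module

section
variable {V : Type*} [AddCommGroup V] [Module (ZMod 3) V]

structure Rt (D : Form (quadKind (ZMod 3)) V) (P : V → Prop) : Prop where
  sf : ∀ {u}, P u → D.B u u = 2
  neg : ∀ {u}, P u → P (-u)
  rf : ∀ {u w}, P u → P w → P (w - D.B u w • u)
  sp : ∀ {c}, P c → ∀ r, (∀ x, P x → D.B x c ≠ 0 → D.B x r = 0) → r = 0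
  dm : ∀ {a b c}, P a → P b → P c → D.B a b = 0 → D.B c a = 0 → D.B c b = 0 → ∃ t, P t ∧ D.B t c = 0 ∧ D.B t a ≠ 0 ∧ D.B t b ≠ 0
  pl : ∀ {a r}, P a → P (a + r) → D.B a r = 0 → r ≠ 0 → ∃ s, P (a + s) ∧ D.B a s = 0 ∧ D.B s r = 0 ∧ ∀ l : ZMod 3, s + l • r ≠ 0
  gen : Submodule.span (ZMod 3) {u | P u} = ⊤

theorem z3_cases (a : ZMod 3) : a = 0 ∨ a = 1 ∨ a = 2 := by revert a; decide

namespace Rt
variable {D : Form (quadKind (ZMod 3)) V} {P : V → Prop} (R : Rt D P)
include R

theorem add {x y : V} (hx : P x) (hy : P y) (h : D.B x y = 2) : P (x + y) := by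
  have := R.rf hx hy; rw [h] at this; convert this using 1; match_scalars <;> decide
theorem sub {x y : V} (hx : P x) (hy : P y) (h : D.B x y = 1) : P (y - x) := by simpa [h] using R.rf hx hy
theorem rr {a r : V} (ha : P a) (hr : P (a + r)) (h : D.B a r = 0) : D.B r r = 0 := by
  have := R.sf hr
  rw [D.B_add_left, D.B_add_right, D.B_add_right, R.sf ha, h, quad_symm D r a, h] at this; simpa using this
theorem line {a r : V} (ha : P a) (hr : P (a + r)) (h : D.B a r = 0) (l : ZMod 3) : P (a + l • r) := by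
  rcases z3_cases l with rfl | rfl | rfl
  · simpa using ha
  · simpa using hr
  · convert R.neg (R.add ha hr (by rw [D.B_add_right, h, R.sf ha, add_zero])) using 1; match_scalars <;> decide

theorem k0 {a r c : V} (ha : P a) (hr : P (a + r)) (h : D.B a r = 0) (hc : P c) (h1 : D.B c r = 0) (h2 : D.B c a ≠ 0) :
    P (c + r) := by
  have k : ∀ {r c}, P (a + r) → D.B a r = 0 → P c → D.B c r = 0 → D.B c a = 2 → P (c + r) := fun {r c} hr h hc h1 h2 => by
    convert R.neg (R.add (R.line ha hr h 2) (R.neg (R.add hc ha h2)) (by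
      simp only [D.B_neg_right, D.B_add_right, D.B_add_left, D.B_smul_left, quad_symm D a c, quad_symm D r c, quad_symm D r a, h, h1, h2,
        R.sf ha]; decide)) using 1
    match_scalars <;> decide
  rcases z3_cases (D.B c a) with e | e | e
  · exact (h2 e).elim
  · convert R.neg (k (r := (2 : ZMod 3) • r) (R.line ha hr h 2) (by simp [h]) (R.neg hc) (by simp [D.B_neg_left, h1])
      (by rw [D.B_neg_left, e]; decide)) using 1
    match_scalars <;> decide
  · exact k hr h hc h1 e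

theorem k1 {a r c : V} (ha : P a) (hr : P (a + r)) (h : D.B a r = 0) (hc : P c) (h1 : D.B c r = 0) : P (c + r) := by
  by_contra n
  have r0 : r ≠ 0 := fun e => n (by simpa [e] using hc)
  obtain ⟨s, hs, s1, s2, s3⟩ := R.pl ha hr h r0
  have rr := R.rr ha hr h
  have ss := R.rr ha hs s1
  have as : D.B (a + s) r = 0 := by rw [D.B_add_left, h, s2, add_zero]
  have pt : ∀ l : ZMod 3, P (a + s + l • r) := R.line hs (R.k0 ha hr h hs as (by
    rw [D.B_add_left, R.sf ha, quad_symm D s a, s1]; decide)) as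
  have z : ∀ x, P x → D.B x r = 0 → ¬ P (x + r) → D.B x a = 0 ∧ D.B x s = 0 := fun x hx e m => by
    have k1 : D.B x a = 0 := by_contra fun q => m (R.k0 ha hr h hx e q)
    have k2 : D.B x (a + s) = 0 := by_contra fun q => m (R.k0 hs (by simpa using pt 1) as hx e q)
    exact ⟨k1, by rwa [D.B_add_right, k1, zero_add] at k2⟩
  have z2 : ∀ x, P x → D.B x c ≠ 0 → D.B x r ≠ 0 → ∃ l : ZMod 3, D.B x (s + l • r) = 0 ∧ P (c + (s + l • r)) := fun x hx e m => by
    have k1 : D.B x (s + (-(D.B x s * D.B x r)) • r) = 0 := by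
      rw [D.B_add_right, D.B_smul_right]; linear_combination -D.B x s * z3_sq m
    refine ⟨_, k1, ?_⟩
    generalize -(D.B x s * D.B x r) = l at k1
    have k2 : P (x + (s + l • r)) := by
      by_cases q : D.B x a = 0
      · refine R.k0 hr (by convert pt (l + 1) using 1; module) ?_ hx k1 (by rwa [D.B_add_right, q, zero_add])
        simp [D.B_add_left, s1, h, rr, quad_symm D r s, s2]
      · exact R.k0 ha (add_assoc a s _ ▸ pt l) (by simp [s1, h]) hx k1 q
    exact R.k0 hx k2 k1 hc (by simp [h1, (z c hc h1 n).2]) (by rwa [quad_symm])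
  have z1 : ∀ x, P x → D.B x c ≠ 0 → D.B x r = 0 → D.B x s = 0 := fun x hx e m =>
    (z x hx m fun q => n (R.k0 hx q m hc h1 (by rwa [quad_symm]))).2
  obtain ⟨x0, h0, h01, h02⟩ : ∃ x, P x ∧ D.B x c ≠ 0 ∧ D.B x r ≠ 0 := by
    by_contra! q; exact r0 (R.sp hc r q)
  obtain ⟨l, -, hl⟩ := z2 x0 h0 h01 h02
  refine s3 l (R.sp hc _ fun x hx e => ?_)
  by_cases m : D.B x r = 0
  · simp [m, z1 x hx e m]
  obtain ⟨l', e', hl'⟩ := z2 x hx e m
  by_contra q
  have ne : l' - l ≠ 0 := fun k => q (sub_eq_zero.1 k ▸ e')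
  have cs := (z c hc h1 n).2
  have k := R.neg (R.add (R.line hc hl (by simp [h1, cs]) 2) hl' (by
    simp [D.B_add_left, D.B_smul_left, h1, cs, R.sf hc, quad_symm D s c, quad_symm D r c, quad_symm D r s, s2, ss, rr]))
  have := R.line hc (r := (l - l') • r) (by convert k using 1; match_scalars <;> grind) (by simp [h1]) (l - l')
  rw [smul_smul, ← neg_mul_neg, neg_sub, z3_sq ne, one_smul] at this
  exact n this

theorem full {u : V} (hu : D.Q u = 1) : P u := by
  let S := fun r => ∃ t, P t ∧ P (t + r) ∧ D.B t r = 0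
  let W := fun u => P u ∨ S u ∨ ∃ a b, P a ∧ P b ∧ D.B a b = 0 ∧ u = a + b
  have s1 : ∀ {a b}, P a → P b → D.B a b = 1 → S (a + b) := fun {a b} ha hb e =>
    ⟨-a, R.neg ha, by simpa using hb, by rw [D.B_neg_left, D.B_add_right, e, R.sf ha]; decide⟩
  have w1 : ∀ {a b}, P a → P b → W (a + b) := fun {a b} ha hb => by
    rcases z3_cases (D.B a b) with e | e | e
    exacts [Or.inr (Or.inr ⟨a, b, ha, hb, e, rfl⟩), Or.inr (Or.inl (s1 ha hb e)), Or.inl (R.add ha hb e)]
  have w2 : ∀ {r c}, S r → P c → W (r + c) := fun {r c} ⟨t, ht, hr, e⟩ hc => by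
    by_cases m : D.B c r = 0
    · exact Or.inl (add_comm c r ▸ R.k1 ht hr e hc m)
    have k : D.B c (t + (-((D.B c t + 1) * D.B c r)) • r) = 2 := by
      rw [D.B_add_right, D.B_smul_right]; revert m; generalize D.B c t = x; generalize D.B c r = y; revert x y; decide
    generalize -((D.B c t + 1) * D.B c r) = l at k
    convert w1 (R.add hc (R.line ht hr e l) k) (R.neg (R.line ht hr e (l - 1))) using 1; module
  have w3 : ∀ {a b c}, P a → P b → D.B a b = 0 → P c → D.B c a ≠ 0 → W (a + b + c) := fun {a b c} ha hb e hc m => by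
    rw [add_right_comm, add_comm a c]
    rcases z3_cases (D.B c a) with q | q | q
    exacts [(m q).elim, w2 (s1 hc ha q) hb, w1 (R.add hc ha q) hb]
  have w4 : ∀ c, P c → ∀ u, W u → W (u + c) := by
    rintro c hc u (hu | hu | ⟨a, b, ha, hb, e, rfl⟩)
    · exact w1 hu hc
    · exact w2 hu hc
    by_cases m1 : D.B c a = 0
    swap
    · exact w3 ha hb e hc m1
    by_cases m2 : D.B c b = 0
    swap
    · exact add_comm b a ▸ w3 hb ha (D.eq_zero_symm e) hc m2
    have k : ∀ t, P t → D.B t c = 0 → D.B t a = 2 → D.B t b = 1 → S (a + b + c) := fun t ht t1 t2 t3 => by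
      obtain ⟨x, hx, x1, x2⟩ := s1 (R.add ht ha t2) hb (by rw [D.B_add_left, t3, e, add_zero])
      refine ⟨t, ht, ?_, by simp [t1, t2, t3]; decide⟩
      convert R.k1 hx x1 x2 hc (by simp [m1, m2, quad_symm D c t, t1]) using 1; abel
    have k' : ∀ t, P t → D.B t c = 0 → D.B t a = 2 → D.B t b ≠ 0 → S (a + b + c) := fun t ht t1 t2 t3 => by
      rcases z3_cases (D.B t b) with q | q | q
      · exact (t3 q).elim
      · exact k t ht t1 t2 q
      · exact k _ (R.neg (R.add ht ha t2)) (by simp [D.B_neg_left, D.B_add_left, t1, quad_symm D a c, m1])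
          (by rw [D.B_neg_left, D.B_add_left, t2, R.sf ha]; decide) (by rw [D.B_neg_left, D.B_add_left, q, e]; decide)
    obtain ⟨t, ht, t1, t2, t3⟩ := R.dm ha hb hc e m1 m2
    refine Or.inr (Or.inl ?_)
    rcases z3_cases (D.B t a) with q | q | q
    · exact (t2 q).elim
    · exact k' _ (R.neg ht) (by simp [D.B_neg_left, t1]) (by rw [D.B_neg_left, q]; decide) (by simpa [D.B_neg_left] using t3)
    · exact k' t ht t1 q t3
  have w5 : ∀ x ∈ Submodule.span (ZMod 3) {u | P u}, ∀ u, W u → W (u + x) := fun x hx => by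
    induction hx using Submodule.span_induction with
    | mem x hx => exact w4 x hx
    | zero => simp
    | add x y _ _ a b => exact fun u hu => add_assoc u x y ▸ b _ (a u hu)
    | smul l x _ a =>
      rcases z3_cases l with rfl | rfl | rfl
      · simp
      · simpa using a
      · exact fun u hu => by rw [two_smul, ← add_assoc]; exact a _ (a u hu)
  obtain ⟨c, hc⟩ : ∃ c, P c := by
    by_contra! q
    have : u ∈ Submodule.span (ZMod 3) {u | P u} := R.gen ▸ Submodule.mem_top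
    rw [Set.eq_empty_of_forall_notMem (s := {u | P u}) q, Submodule.span_empty, Submodule.mem_bot] at this
    simp [this] at hu
  have hu' : D.B u u = 2 := by rw [quad_B_self, hu, mul_one]
  rcases w5 (u - c) (R.gen ▸ Submodule.mem_top) c (Or.inl hc) with q | ⟨t, ht, q, e⟩ | ⟨a, b, ha, hb, e, q⟩
  · simpa using q
  · rw [add_sub_cancel] at q e
    exact absurd (hu'.symm.trans (R.rr ht q e)) (by decide)
  · rw [add_sub_cancel] at q
    rw [q, D.B_add_left, D.B_add_right, D.B_add_right, R.sf ha, R.sf hb, e, D.eq_zero_symm e] at hu'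
    exact absurd hu' (by decide)

theorem dim [FiniteDimensional (ZMod 3) V] (hD : D.Nondeg) {a b : V} (ha : P a) (hb : P b) (e : D.B a b = 2) (n : a ≠ b) :
    5 ≤ finrank (ZMod 3) V := by
  obtain ⟨r, rfl⟩ : ∃ r, b = a + r := ⟨b - a, by abel⟩
  have h : D.B a r = 0 := by rw [D.B_add_right, R.sf ha] at e; simpa using e
  have r0 : r ≠ 0 := fun q => n (by simp [q])
  obtain ⟨s, hs, s1, s2, s3⟩ := R.pl ha hb h r0
  have rr := R.rr ha hb h
  have ss := R.rr ha hs s1
  have k : LinearIndependent (ZMod 3) ![r, s, a] := by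
    rw [Fintype.linearIndependent_iff]
    intro g hg
    simp only [Fin.sum_univ_three, Matrix.cons_val] at hg
    have g2 : g 2 = 0 := by
      have := congrArg (D.B a) hg
      simp [h, s1, R.sf ha] at this
      exact this.resolve_right (by decide)
    have g1 : g 1 = 0 := by_contra fun q => s3 (g 1 * g 0) (by
      rw [g2] at hg; linear_combination (norm := module) g 1 • hg - z3_sq q • s)
    have g0 : g 0 = 0 := by simpa [g1, g2, r0] using hg
    intro i; fin_cases i; exacts [g0, g1, g2]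
  have h1 := finrank_span_eq_card k
  have h3 := hD.finrank_perp (Submodule.span (ZMod 3) (Set.range ![r, s, a]))
  have h4 : Submodule.span (ZMod 3) (Set.range ![r, s]) ≤ D.perp (Submodule.span (ZMod 3) (Set.range ![r, s, a])) := by
    rw [Submodule.span_le]
    rintro _ ⟨i, rfl⟩
    refine D.mem_perp_span.2 ?_
    rintro _ ⟨j, rfl⟩
    fin_cases i <;> fin_cases j <;> simp [rr, ss, s2, h, s1, quad_symm D r s]
  have h5 := Submodule.finrank_mono h4
  rw [finrank_span_eq_card (by convert k.comp ![0, 1] (by decide) using 1; ext i; fin_cases i <;> rfl)] at h5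
  simp at h1 h5
  omega

end Rt

variable {G : Type*} [Group G] {X Y : Set G}

structure OM (Y : Set G) (D : Form (quadKind (ZMod 3)) V) (τ : V → G) : Prop where
  tt : TT Y
  nd : D.Nondeg
  mem : ∀ {u}, D.Q u = 1 → τ u ∈ Y
  surj : ∀ x ∈ Y, ∃ u, D.Q u = 1 ∧ τ u = x
  eq_iff : ∀ {u w}, D.Q u = 1 → D.Q w = 1 → (τ u = τ w ↔ u = w ∨ u = -w)
  conj : ∀ {u w}, D.Q u = 1 → D.Q w = 1 → τ u * τ w * τ u = τ (w - D.B u w • u)

theorem OM.corr [FiniteDimensional (ZMod 3) V] {D : Form (quadKind (ZMod 3)) V} {τ : V → G} (O : OM Y D τ) :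
    ∃ ρ, Corr Y (RX D 1) ρ :=
  ⟨_, Corr.of_param (P := fun u => D.Q u = 1) (s := τ) (t := D.refl) O.tt (tt_RX O.nd one_ne_zero)
    (fun x => ⟨O.surj x, by rintro ⟨u, hu, rfl⟩; exact O.mem hu⟩) (fun _ => exists_congr fun _ => and_congr_right fun _ => eq_comm)
    (fun u w hu hw => (O.eq_iff hu hw).trans (refl_eq_iff O.nd (by simp [hu]) (by simp [hw])).symm) fun u w hu hw =>
    ⟨(D.refl u).1 w, by rw [Form.Q_isom, hw], by rw [O.conj hu hw, Form.refl_apply, hu, inv_one, one_mul], (refl_conj u w).symm⟩⟩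

end

variable {G : Type*} [Group G] {X Y : Set G}

def TO3 (Y : Set G) : Prop := ∃ n D τ, 5 ≤ n ∧ OM Y (V := V3 n) D τ

theorem R3.to3 [Finite G] (h : R3 Y) (g : TG Y) (ns : ¬ Symp Y) : TO3 Y := by
  obtain ⟨n, D, v, S⟩ := h.or3 g ns
  have t := h.tt
  let P := fun u => ∃ y ∈ Y, ∃ ε : ZMod 3, ε * ε = 1 ∧ u = ε • v y
  have nz : ∀ {ε : ZMod 3}, ε * ε = 1 → ε ≠ 0 := by decide
  have zz : ∀ {x y} {ε δ : ZMod 3}, x ∈ Y → y ∈ Y → ε * ε = 1 → δ * δ = 1 →
      (D.B (ε • v x) (δ • v y) = 0 ↔ x ≠ y ∧ Commute x y) := fun hx hy a b => by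
    simp [D.B_smul_left, nz a, nz b, S.zero _ hx _ hy]
  have inj : ∀ {x y} {ε δ : ZMod 3}, x ∈ Y → y ∈ Y → ε * ε = 1 → δ * δ = 1 → ε • v x = δ • v y → x = y :=
    fun {x y ε δ} hx hy a b e => h.rw x hx y hy (Set.ext fun z => and_congr_right fun hz => by
      rw [ne_comm, ← zz hx hz a (one_mul 1), e, zz hy hz b (one_mul 1), ne_comm])
  have rf : ∀ {x y} {ε δ : ZMod 3}, x ∈ Y → y ∈ Y → ε * ε = 1 → δ * δ = 1 → ∃ κ : ZMod 3, κ * κ = 1 ∧
      δ • v y - D.B (ε • v x) (δ • v y) • ε • v x = κ • v (x * y * x) := fun {x y ε δ} hx hy a b => by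
    obtain ⟨κ, k1, k2⟩ := S.lin x hx y hy
    refine ⟨κ * δ, by linear_combination δ * δ * k1 + b, ?_⟩
    rw [k2, D.B_smul_left, D.B_smul_right]
    simp only [RingHom.id_apply]
    linear_combination (norm := module) -k1 • (δ • (v y - D.B (v x) (v y) • v x)) - a • (δ * D.B (v x) (v y)) • v x
  have p1 : ∀ y ∈ Y, P (v y) := fun y hy => ⟨y, hy, 1, rfl, (one_smul _ _).symm⟩
  have R : Rt D P := by
    refine ⟨?_, ?_, ?_, ?_, ?_, ?_, top_unique (S.span ▸ Submodule.span_mono ?_)⟩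
    · rintro _ ⟨y, hy, ε, e, rfl⟩
      rw [D.B_smul_left, D.B_smul_right, S.self y hy, ← mul_assoc, RingHom.id_apply, e, one_mul]
    · rintro _ ⟨y, hy, ε, e, rfl⟩; exact ⟨y, hy, -ε, by simpa using e, by simp⟩
    · rintro _ _ ⟨x, hx, ε, e, rfl⟩ ⟨y, hy, δ, e', rfl⟩; exact ⟨_, t.conj x hx y hy, rf hx hy e e'⟩
    · rintro _ ⟨y, hy, ε, e, rfl⟩ r hr
      have k : ∀ x ∈ Y, ¬ Commute x y → D.B (v x) r = 0 := fun x hx n =>
        hr _ (p1 x hx) fun q => n ((zz hx hy (one_mul 1) e).1 (by rwa [one_smul])).2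
      refine span_ext S.nd S.span ?_
      rintro _ ⟨z, hz, rfl⟩
      rw [D.B_zero_right]
      by_contra q
      have := (zz hz hy (one_mul 1) e).1 (by rw [one_smul]; exact by_contra fun m => q (hr _ (p1 z hz) m))
      obtain ⟨x, hx, x1, x2⟩ := h.nc2 hz hy this.1 this.2
      obtain ⟨κ, -, k2⟩ := S.lin x hx _ (t.conj z hz x hx)
      rw [t.third_third hx hz x1] at k2
      exact q (by rw [k2, D.B_smul_left, D.B_sub_left, D.B_smul_left, k x hx x2,
        k _ (t.conj z hz x hx) (t.not_commute_conj hz this.2.symm (x2 ·.symm) ·.symm)]; simp)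
    · rintro _ _ _ ⟨x, hx, ε, e, rfl⟩ ⟨y, hy, δ, e', rfl⟩ ⟨z, hz, κ, e'', rfl⟩ h1 h2 h3
      rw [zz (by assumption) (by assumption) (by assumption) (by assumption)] at h1 h2 h3
      obtain ⟨u, hu, u1, u2⟩ := (t.dd z).diam (h.tdd z hz) ⟨hx, h2.1.symm, h2.2⟩ ⟨hy, h3.1.symm, h3.2⟩ h1.1 h1.2
      refine ⟨(1 : ZMod 3) • v u, ⟨u, hu.1, 1, rfl, rfl⟩, (zz hu.1 hz rfl e'').2 ⟨hu.2.1, hu.2.2.symm⟩,
        fun q => u1 ((zz hu.1 hx rfl e).1 q).2, fun q => u2 ((zz hu.1 hy rfl e').1 q).2⟩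
    · rintro _ r ⟨x, hx, ε, e, rfl⟩ ⟨y, hy, δ, e', q⟩ h1 r0
      have a2 : D.B (ε • v x) (ε • v x) = 2 := by
        rw [D.B_smul_left, D.B_smul_right, S.self x hx, ← mul_assoc, RingHom.id_apply, e, one_mul]
      have b2 : D.B (ε • v x) (δ • v y) = 2 := by rw [← q, D.B_add_right, a2, h1, add_zero]
      have ne : x ≠ y := by
        rintro rfl
        have : δ = ε := by
          rw [D.B_smul_left, D.B_smul_right, S.self x hx] at b2
          revert b2 e; simp only [RingHom.id_apply]; generalize δ = a; generalize ε = b; revert a b; decide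
        exact r0 (by simpa [this] using q)
      have n : ¬ Commute x y := fun c => absurd (b2.symm.trans ((zz hx hy e e').2 ⟨ne, c⟩)) (by decide)
      obtain ⟨u, hu, u1, u2, u3⟩ := h.pl ns hx hy n
      obtain ⟨κ, k1, k2⟩ := rf hx hy e e'
      have m1 := (zz hu hx (one_mul 1) e).not.2 fun q => u1 q.2
      obtain ⟨μ, μ1, μ2⟩ : ∃ μ : ZMod 3, μ * μ = 1 ∧ D.B (μ • v u) (ε • v x) = 2 :=
        ⟨-D.B ((1 : ZMod 3) • v u) (ε • v x), by rw [neg_mul_neg, z3_sq m1], by
          rw [D.B_smul_left, RingHom.id_apply, one_smul, neg_mul, z3_sq (by simpa using m1)]; decide⟩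
      have m2 := (zz hu hy μ1 e').not.2 fun q => u2 q.2
      have m3 := (zz hu (t.conj x hx y hy) μ1 k1).not.2 fun q => u3 q.2
      rw [← k2, b2, ← q, D.B_sub_right, D.B_smul_right, D.B_add_right, μ2] at m3
      rw [← q, D.B_add_right, μ2] at m2
      refine ⟨μ • v u - ε • v x, ⟨u, hu, μ, μ1, by simp⟩, by rw [D.B_sub_right, a2, quad_symm, μ2, sub_self], ?_, fun l q' => ?_⟩
      · rw [D.B_sub_left, h1, sub_zero]; revert m2 m3; generalize D.B (μ • v u) r = a; revert a; decide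
      rcases z3_cases l with rfl | rfl | rfl
      · exact u1 (inj hu hx μ1 e (by simpa [sub_eq_zero] using q') ▸ Commute.refl u)
      · refine u3 (inj hu (t.conj x hx y hy) μ1 (δ := -κ) (by simpa using k1) ?_ ▸ Commute.refl u)
        rw [neg_smul, ← k2, b2, ← q]; linear_combination (norm := module) q'
      · refine u2 (inj hu hy μ1 e' ?_ ▸ Commute.refl u)
        have h3 : (3 : ZMod 3) • r = 0 := by rw [show (3 : ZMod 3) = 0 from rfl, zero_smul]
        rw [← q]; linear_combination (norm := module) q' - h3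
    · rintro _ ⟨y, hy, rfl⟩; exact p1 y hy
  have := fun u (hu : D.Q u = 1) => R.full hu
  choose! τ h1 ε h2 h3 using this
  have qv : ∀ {u}, P u → D.Q u = 1 := fun hu => by
    have := R.sf hu; rw [quad_B_self] at this; revert this; generalize D.Q _ = a; revert a; decide
  refine ⟨n, D, τ, ?_, t, S.nd, fun hu => h1 _ hu, fun x hx => ⟨v x, qv (p1 x hx), ?_⟩, fun {u w} hu hw => ⟨fun e => ?_, fun e => ?_⟩,
    fun {u w} hu hw => ?_⟩
  · obtain ⟨a, ha⟩ := h.ne
    obtain ⟨b, hb, c⟩ := h.nc a ha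
    have k := (S.zero a ha b hb).not.2 fun q => c q.2
    simpa using R.dim S.nd (p1 a ha) (b := -D.B (v a) (v b) • v b) ⟨b, hb, _, by rw [neg_mul_neg, z3_sq k], rfl⟩
      (by rw [D.B_smul_right, neg_mul, z3_sq k]; decide) fun e => c (inj ha hb (one_mul 1)
        (by rw [neg_mul_neg, z3_sq k]) ((one_smul _ _).trans e) ▸ Commute.refl a)
  · exact inj (h1 _ (qv (p1 x hx))) hx (h2 _ (qv (p1 x hx))) (one_mul 1) ((h3 _ (qv (p1 x hx))).symm.trans (one_smul _ _).symm)
  · have k1 := h3 u hu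
    have k2 := h3 w hw
    rw [e] at k1
    rcases (by decide : ∀ a b : ZMod 3, a * a = 1 → b * b = 1 → a = b ∨ a = -b) _ _ (h2 u hu) (h2 w hw) with q | q
    · exact Or.inl (by rw [k1, q, ← k2])
    · exact Or.inr (by rw [k1, q, neg_smul, ← k2])
  · rcases e with rfl | rfl
    · rfl
    · exact inj (h1 _ hu) (h1 _ hw) (h2 _ hu) (δ := -ε w) (by simpa using h2 w hw) (by rw [← h3 _ hu, neg_smul, ← h3 w hw])
  · obtain ⟨κ, k1, k2⟩ := rf (h1 u hu) (h1 w hw) (h2 u hu) (h2 w hw)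
    rw [← h3 u hu, ← h3 w hw] at k2
    have k3 := qv ⟨_, t.conj _ (h1 u hu) _ (h1 w hw), κ, k1, k2⟩
    exact inj (t.conj _ (h1 u hu) _ (h1 w hw)) (h1 _ k3) k1 (h2 _ k3) (k2.symm.trans (h3 _ k3))

end Cfsg.Lib.Known2
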