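import Cfsg.Agent.Lib.Known2.F13

/-! Fischer's theorem, XIV: locally symplectic classes. -/

set_option autoImplicit false

namespace Cfsg.Lib.Known2

open Subgroup Cfsg.Lib.Forms Module

universe u

section
variable {F : Type*} [Field F] {σ : F →+* F} {K : Kind σ} {V : Type u} [AddCommGroup V] [Module F V] [FiniteDimensional F V]
  {D : Form K V} (hD : D.Nondeg)
include hD

theorem ti_dim {k : ℕ} {v : Fin k → V} (h : LinearIndependent F v) (h0 : ∀ i j, D.B (v i) (v j) = 0) : 2 * k ≤ finrank F V := by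
  have h1 := finrank_span_eq_card h
  have h3 := hD.finrank_perp (Submodule.span F (Set.range v))
  have h5 := Submodule.finrank_mono (show Submodule.span F (Set.range v) ≤ D.perp (Submodule.span F (Set.range v)) from
    Submodule.span_le.2 (by rintro _ ⟨i, rfl⟩; exact D.mem_perp_span.2 (by rintro _ ⟨j, rfl⟩; exact h0 j i)))
  simp at h1; omega

variable (ex : ∀ (W : Type u) [AddCommGroup W] [Module F W] [FiniteDimensional F W] (E : Form K W), E.Nondeg → 3 ≤ finrank F W →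
      ∃ e f, E.IsHyp e f) (htr : ∃ a, K.tr a ≠ 0) {e f : V} (h : D.IsHyp e f)
include ex htr h

theorem hyp5 (hn : 5 ≤ finrank F V) : ∃ a ∈ D.hp e f, ∃ b ∈ D.hp e f, ∃ w ∈ D.hp e f, D.IsHyp a b ∧ w ∈ D.hp a b ∧ D.Q w ≠ 0 := by
  have n1 := h.finrank_hp
  obtain ⟨a, b, h1⟩ := ex _ _ (h.nondeg_hp hD) (by omega)
  have n2 := h1.finrank_hp
  have : Nontrivial ((D.restrict (D.hp e f)).hp a b) := Module.nontrivial_of_finrank_pos (R := F) (by omega)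
  obtain ⟨w, hw⟩ := (h1.nondeg_hp (h.nondeg_hp hD)).exists_Q_ne_zero htr
  exact ⟨a, a.2, b, b.2, w, w.1.2, ⟨h1.1, h1.2, h1.3⟩, D.mem_hp.2 ((D.restrict _).mem_hp.1 w.2), hw⟩

theorem hyp7 (hn : 7 ≤ finrank F V) : ∃ a ∈ D.hp e f, ∃ b ∈ D.hp e f, ∃ c ∈ D.hp e f, ∃ d ∈ D.hp e f, ∃ w ∈ D.hp e f,
    D.IsHyp a b ∧ D.IsHyp c d ∧ c ∈ D.hp a b ∧ d ∈ D.hp a b ∧ w ∈ D.hp a b ∧ w ∈ D.hp c d ∧ D.Q w ≠ 0 := by
  have n1 := h.finrank_hp
  obtain ⟨a, b, h1⟩ := ex _ _ (h.nondeg_hp hD) (by omega)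
  obtain ⟨c, hc, d, hd, w, hw, h2, h3, h4⟩ := hyp5 (h.nondeg_hp hD) ex htr h1 (by omega)
  exact ⟨a, a.2, b, b.2, c, c.2, d, d.2, w, w.2, ⟨h1.1, h1.2, h1.3⟩, ⟨h2.1, h2.2, h2.3⟩, D.mem_hp.2 ((D.restrict _).mem_hp.1 hc),
    D.mem_hp.2 ((D.restrict _).mem_hp.1 hd), D.mem_hp.2 ((D.restrict _).mem_hp.1 hw), D.mem_hp.2 ((D.restrict _).mem_hp.1 h3), h4⟩

end

variable {G : Type*} [Group G] {X Y : Set G}

theorem R3.all_dd (h : R3 Y) {P : Set G → Prop} (hP : ∀ X g, P X → P ((fun x => g * x * g⁻¹) '' X)) {d : G} (hd : d ∈ Y)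
    (p : P (Dd Y d)) : ∀ y ∈ Y, P (Dd Y y) := fun y hy => by
  obtain ⟨g, hg, rfl⟩ := h.tr d hd y hy
  exact h.tt.image_Dd hg d ▸ hP _ g p

theorem R3.conj_set (h : R3 X) (g : G) : R3 ((fun x => g * x * g⁻¹) '' X) := ((red_conj h.tt.wt g).corr h.toVW).r3 h

theorem R3.two [Finite G] (h : R3 Y) : Two Y := by
  induction hn : Y.ncard using Nat.strong_induction_on generalizing Y with
  | _ n ih =>
  obtain ⟨d, hd⟩ := h.ne
  rcases h.tri hd with ⟨y, hy, y', hy', ne, r⟩ | ⟨y, hy, y', hy', ne, r⟩ | r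
  · exact h.two_of_w2 (h.w2_of_w hd hy hy' ne r)
  · exact h.two_of_vc (h.vc_of_v hd hy hy' ne r)
  · exact R3.two_up (fun x hx => ih _ (hn ▸ Set.ncard_lt_ncard ⟨Dd_subset _ _, fun s => (s hx).2.1 rfl⟩)
      (h.all_dd (fun _ g a => a.conj_set g) hd r x hx) rfl) fun d hd c hc => h.mu_ne hd hc

/-- The configuration given by a point commuting with no point of an `S₄`. -/
structure NT (Y : Set G) (d a e x y z : G) : Prop where
  hd : d ∈ Y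
  ha : a ∈ Y
  he : e ∈ Y
  ae : ¬ Commute a e
  pl : Pl Y a e d
  hx : x ∈ Dd Y d
  hy : y ∈ Dd (Dd Y d) x
  hz : z ∈ Dd (Dd (Dd Y d) x) y
  fr : ∀ p, p = a ∨ p = e → ¬ Commute p x ∧ ¬ Commute p y ∧ ¬ Commute p z ∧ Commute p (d * x * y * z)

theorem TT.nt (t : TT Y) (g : ¬ TG Y) : ∃ d a e x y z, NT Y d a e x y z := by
  simp only [TG, not_forall, not_or] at g
  obtain ⟨a, ha, b, hb, e, he, n1, n2, d, hd, m1, m2, m3, m4, m5, m6⟩ := g
  have w := t.s4w ha he hb.1 (n1 ·.symm) hb.2.2 n2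
  obtain ⟨f, hf⟩ : ∃ f, f = a * (b * e * b) * a := ⟨_, rfl⟩
  rw [← hf] at m6
  have f1 : f ∈ Dd Y e := hf ▸ t.th' he ha hb.1 hb.2.1.symm hb.2.2 n1 n2
  have k : ∀ {p q r s : G}, p ∈ Y → q ∈ Dd Y p → r ∈ Y → s ∈ Y → ¬ Commute d p → ¬ Commute d q → r * (s * p * s) * r = q →
      r * (s * q * s) * r = p → Commute r s → Commute p (d * (p * (q * d * q) * p) * (r * (s * d * s) * r) *
        (r * (s * (p * (q * d * q) * p) * s) * r)) := fun {p q r s} hp hq hr hs c1 c2 e1 e2 c => by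
    have w := t.s4w hp hd hq.1 (c1 ·.symm) hq.2.2 c2
    have a1 : d * (p * (q * d * q) * p) * q = p * (d * (p * (q * d * q) * p)) := by
      simpa [mul_assoc] using w [1,0,2,1,2,0,2] [0,1,0,2,1,2,0] (by decide +kernel)
    have a2 : d * (p * (q * d * q) * p) * p = q * (d * (p * (q * d * q) * p)) := by
      simpa [mul_assoc] using w [1,0,2,1,2,0,0] [2,1,0,2,1,2,0] (by decide +kernel)
    generalize p * (q * d * q) * p = x at *
    have a3 : r * (s * d * s) * r * (r * (s * x * s) * r) * p = q * (r * (s * d * s) * r * (r * (s * x * s) * r)) := by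
      conv_lhs => rw [← e2]
      conv_rhs => rw [← e1]
      have := congrArg (fun u => r * (s * u * s) * r) a1
      simpa [mul_assoc, t.cancel hr, t.cancel hs] using this
    rw [Commute, SemiconjBy, mul_assoc (d * x), mul_assoc (d * x), a3, ← mul_assoc, ← mul_assoc (d * x), a1, ← mul_assoc p]
  have e1 : e * (f * a * f) * e = b := by simpa [hf, mul_assoc] using w [1,0,2,1,2,0,0,0,2,1,2,0,1] [2] (by decide +kernel)
  have e2 : e * (f * b * f) * e = a := by simpa [hf, mul_assoc] using w [1,0,2,1,2,0,2,0,2,1,2,0,1] [0] (by decide +kernel)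
  have e3 : a * (b * f * b) * a = e := by simpa [hf, mul_assoc] using w [0,2,0,2,1,2,0,2,0] [1] (by decide +kernel)
  have e4 : a * b * (e * f) = e * f * (a * b) := by
    simpa [hf, mul_assoc] using w [0,2,1,0,2,1,2,0] [1,0,2,1,2,0,0,2] (by decide +kernel)
  have e5 : a * b * (e * f) = a * e * a * (b * e * b) := by
    simpa [hf, mul_assoc] using w [0,2,1,0,2,1,2,0] [0,1,0,2,1,2] (by decide +kernel)
  have e6 : f * e * (b * a) = b * e * b * (a * e * a) := by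
    simpa [hf, mul_assoc] using w [0,2,1,2,0,1,2,0] [2,1,2,0,1,0] (by decide +kernel)
  have x1 := t.th' hd ha hb.1 hb.2.1.symm hb.2.2 m1 m2
  have x2 := t.th' hd he f1.1 f1.2.1.symm f1.2.2 m3 m6
  have x3 := t.th' hd (t.conj a ha e he) (t.conj b hb.1 e he) (t.s4_ne ha he hb.1 hb.2.1.symm n1 n2)
    (t.s4a ha he hb.1 hb.2.2 n1 n2) m4 m5
  have z1 : a * e * a * (b * e * b * d * (b * e * b)) * (a * e * a) = a * (b * (e * (f * d * f) * e) * b) * a := by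
    rw [show a * e * a * (b * e * b * d * (b * e * b)) * (a * e * a) = a * e * a * (b * e * b) * d * (b * e * b * (a * e * a)) by
      simp only [mul_assoc], ← e5, ← e6]; simp only [mul_assoc]
  have z2 : a * (b * (e * (f * d * f) * e) * b) * a = e * (f * (a * (b * d * b) * a) * f) * e := by
    have := congrArg (·⁻¹) e4
    simp only [mul_inv_rev, t.inv ha, t.inv hb.1, t.inv he, t.inv f1.1] at this
    rw [show a * (b * (e * (f * d * f) * e) * b) * a = a * b * (e * f) * d * (f * e * (b * a)) by simp only [mul_assoc], e4, this]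
    simp only [mul_assoc]
  rw [z1] at x3
  have c1 : ∀ {x y}, x ∈ Dd Y y → a * (b * x * b) * a ∈ Dd Y (a * (b * y * b) * a) := fun h => t.conj_Dd ha (t.conj_Dd hb.1 h)
  have c2 : ∀ {x y}, x ∈ Dd Y y → e * (f * x * f) * e ∈ Dd Y (e * (f * y * f) * e) := fun h => t.conj_Dd he (t.conj_Dd f1.1 h)
  have i1 : ∀ x, a * (b * (a * (b * x * b) * a) * b) * a = x := fun x => by
    simp only [mul_assoc, hb.2.2.left_comm, t.cancel ha, t.cancel hb.1, hb.2.2.eq, t.sq ha, t.sq hb.1, mul_one]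
  have y12 := c1 x3
  have y13 := c1 x2
  have y23 := c2 x1
  rw [i1] at y12
  rw [← z2] at y23
  have n : ∀ {r s p q}, r ∈ Y → s ∈ Y → s * (r * p * r) * s = q → ¬ Commute d q → ¬ Commute p (r * (s * d * s) * r) :=
    fun hr hs e n c => n (by rw [← e, ← t.commute_conj_iff' hs, ← t.commute_conj_iff' hr]; exact c.symm)
  have ab := hb.2.2
  have ef := f1.2.2
  refine ⟨d, a, e, _, _, _, hd, ha, he, (n1 ·.symm), ⟨hd, m1, m3, m4⟩, x1, ⟨x2, y12.2⟩, ⟨⟨x3, y13.2⟩, y23.2⟩, ?_⟩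
  rintro p (rfl | rfl)
  · refine ⟨n ha hb.1 ?_ m1, n he f1.1 ?_ m2, ?_, z2 ▸ k ha hb he f1.1 m1 m2 e1 e2 ef⟩
    · rw [t.sq ha, one_mul, ← ab.eq, t.cancel' hb.1]
    · rw [← e1]; simp only [mul_assoc, ef.left_comm, ef.eq]
    · rw [← t.commute_conj_iff' ha, ← t.commute_conj_iff' hb.1, t.sq ha, one_mul, ← ab.eq, t.cancel' hb.1]
      exact n he f1.1 (by rw [← e1]; simp only [mul_assoc, ef.left_comm, ef.eq]) m2
  · refine ⟨n ha hb.1 ?_ m6, n he f1.1 ?_ m3, ?_, ?_⟩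
    · rw [hf]; simp only [mul_assoc, ab.left_comm, ab.eq]
    · rw [t.sq he, one_mul, ← ef.eq, t.cancel' f1.1]
    · rw [z2, ← t.commute_conj_iff' he, ← t.commute_conj_iff' f1.1, t.sq he, one_mul, ← ef.eq, t.cancel' f1.1]
      exact n ha hb.1 (by rw [hf]; simp only [mul_assoc, ab.left_comm, ab.eq]) m6
    · rw [mul_assoc d, y12.2.2.eq, ← mul_assoc d]
      exact k he f1 ha hb.1 m3 m6 hf.symm e3 ab

theorem TT.fr_uniq (t : TT Y) {c g p q : G} (hc : c ∈ Y) (hp : p ∈ Y) (hq : q ∈ Y) (n1 : ¬ Commute c p) (n2 : ¬ Commute c q)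
    (h1 : Commute c (g * p)) (h2 : Commute c (g * q)) : p = q := t.third_inj hc hp hq n1 n2 (by
  have e1 := (conj_eq_of_commute h1).trans (conj_eq_of_commute h2).symm
  exact mul_right_cancel (b := g⁻¹) (by simpa [mul_assoc, t.inv hp, t.inv hq] using e1))

theorem TT.frame (t : TT Y) {c d a b : G} (hc : c ∈ Y) (hd : d ∈ Y) (ha : a ∈ Dd Y d) (hb : b ∈ Dd (Dd Y d) a) (n1 : ¬ Commute c d)
    (n2 : ¬ Commute c a) (n3 : ¬ Commute c b) : ∃ θ ∈ Dd (Dd (Dd Y d) a) b, ¬ Commute c θ ∧ Commute c (d * a * b * θ) := by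
  have w := t.d4w hc hd ha.1 hb.1.1 n1 n2 n3 ha.2.2 hb.1.2.2 hb.2.2
  have k := t.conj c hc _ (t.conj d hd _ (t.conj a ha.1 _ (t.conj b hb.1.1 c hc)))
  have c0 : Commute c (d * a * b * (c * (d * (a * (b * c * b) * a) * d) * c)) := by
    simpa [mul_assoc, Commute, SemiconjBy] using w [0,1,2,3,0,1,2,3,0,3,2,1,0] [1,2,3,0,1,2,3,0,3,2,1,0,0] (by decide +kernel)
  have n4 : ¬ Commute c (c * (d * (a * (b * c * b) * a) * d) * c) := t.not_commute_third hc (by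
    have m := t.conj a ha.1 _ (t.conj b hb.1.1 c hc)
    rw [t.braid hd m (t.not_commute_conj ha.1 ha.2.2 (t.not_commute_conj hb.1.1 hb.1.2.2 (n1 ·.symm)))]
    exact t.not_commute_conj m (t.s4b ha.1 hc hb.1.1 hb.2.2 n2 n3) n1)
  have c1 : Commute d (c * (d * (a * (b * c * b) * a) * d) * c) := by
    simpa [mul_assoc, Commute, SemiconjBy] using w [1,0,1,2,3,0,3,2,1,0] [0,1,2,3,0,3,2,1,0,1] (by decide +kernel)
  have c2 : Commute a (c * (d * (a * (b * c * b) * a) * d) * c) := by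
    simpa [mul_assoc, Commute, SemiconjBy] using w [2,0,1,2,3,0,3,2,1,0] [0,1,2,3,0,3,2,1,0,2] (by decide +kernel)
  have c3 : Commute b (c * (d * (a * (b * c * b) * a) * d) * c) := by
    simpa [mul_assoc, Commute, SemiconjBy] using w [3,0,1,2,3,0,3,2,1,0] [0,1,2,3,0,3,2,1,0,3] (by decide +kernel)
  generalize c * (d * (a * (b * c * b) * a) * d) * c = θ at *
  have u : ∀ {p q}, p ∈ Y → q ∈ Y → ¬ Commute c p → ¬ Commute c q → Commute c (p * q) → q = p := fun hp hq m1 m2 e =>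
    t.fr_uniq hc hq hp m2 m1 e (by rw [t.sq hp]; exact Commute.one_right _)
  refine ⟨θ, ⟨⟨⟨k, fun e => hb.2.1 (u ha.1 hb.1.1 n2 n3 ?_), c1⟩, fun e => hb.1.2.1 (u hd hb.1.1 n1 n3 ?_), c2⟩,
    fun e => ha.2.1 (u hd ha.1 n1 n2 ?_), c3⟩, n4, c0⟩
  · rwa [e, mul_assoc d, (t.conj_eq_iff hd).2 (ha.2.2.mul_right hb.1.2.2)] at c0
  · rwa [e, mul_assoc d, mul_assoc d, (t.conj_eq_iff ha.1).2 hb.2.2] at c0
  · rwa [e, t.cancel' hb.1.1] at c0

section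
variable (h : R3 Y) (hs : ∀ y ∈ Y, Symp (Dd Y y)) (ns : ¬ Symp Y)
include h hs ns

theorem R3.col {d c : G} (hd : d ∈ Y) (hc : c ∈ Y) (n : ¬ Commute d c) : ∃ p ∈ Dd Y d, ∃ q ∈ Dd Y d, ¬ Commute p q ∧ Pl Y p q c ∧
    (∀ m ∈ Dd Y d, Commute c m → (Commute m p ∨ Commute m q ∨ Commute m (p * q * p)) ∧ ¬ (Commute m p ∧ Commute m q) ∧
      ¬ (Commute m p ∧ Commute m (p * q * p)) ∧ ¬ (Commute m q ∧ Commute m (p * q * p))) ∧
    ∀ m ∈ Dd Y d, ∀ m' ∈ Dd Y d, Commute c m → Commute c m' → ¬ Commute m m' → ¬ (Commute m p ∧ Commute m' p) ∧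
      ¬ (Commute m q ∧ Commute m' q) ∧ ¬ (Commute m (p * q * p) ∧ Commute m' (p * q * p)) := by
  have t := h.tt
  obtain ⟨u, hu⟩ := h.pl ns hd hc n
  obtain ⟨w, hw, hwc⟩ := h.mu_ne hd hc n
  have wc : c ∈ Dd Y w := ⟨hc, fun e => n (e ▸ hw.2.2), hwc.symm⟩
  have z : ∀ {p q c m}, p ∈ Y → q ∈ Y → ¬ Commute p q → Pl Y p q c → m ∈ Y → Commute c m → ¬ (Commute m p ∧ Commute m q) :=
    fun {p q c m} hp hq n hc hm e k => hc.2.2.2 (hs m hm p ⟨hp, fun r => hc.2.1 (r ▸ e), k.1⟩ q ⟨hq, fun r => hc.2.2.1 (r ▸ e), k.2⟩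
      c ⟨hc.1, fun r => hc.2.1 (r ▸ k.1), e.symm⟩ n hc.2.1 hc.2.2.1)
  obtain ⟨g, hg, e1, e2⟩ := h.tr_nc hw.1 hd hu.1 hc (fun k => z hd hc n hu hw.1 k.symm ⟨hw.2.2.symm, hwc.symm⟩) n
  have hp : g * d * g⁻¹ ∈ Dd Y d := by have := (t.conj_Dd_iff hg).2 (mem_Dd_comm hd hw); rwa [e1] at this
  have hq : g * c * g⁻¹ ∈ Dd Y d := by have := (t.conj_Dd_iff hg).2 wc; rwa [e1] at this
  have pq := commute_conj_conj_iff (g := g).not.2 n
  have pl : Pl Y (g * d * g⁻¹) (g * c * g⁻¹) c := ⟨hc, e2 ▸ commute_conj_conj_iff.not.2 hu.2.1,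
    by conv => enter [1, 1]; rw [← e2]
       exact commute_conj_conj_iff.not.2 hu.2.2.1, by
    rw [show g * d * g⁻¹ * (g * c * g⁻¹) * (g * d * g⁻¹) = g * (d * c * d) * g⁻¹ by group]
    conv => enter [1, 1]; rw [← e2]
    exact commute_conj_conj_iff.not.2 hu.2.2.2⟩
  generalize g * d * g⁻¹ = p at *
  generalize g * c * g⁻¹ = q at *
  have z1 : ∀ m ∈ Dd Y d, Commute c m → (Commute m p ∨ Commute m q ∨ Commute m (p * q * p)) ∧ ¬ (Commute m p ∧ Commute m q) ∧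
      ¬ (Commute m p ∧ Commute m (p * q * p)) ∧ ¬ (Commute m q ∧ Commute m (p * q * p)) := fun m hm e => by
    have k := z hp.1 hq.1 pq pl hm.1 e
    exact ⟨or_iff_not_imp_left.2 fun a => or_iff_not_imp_left.2 (hs d hd p hp q hq m hm pq a), k, fun r => k ⟨r.1, t.comm_third' hp.1 r.1 r.2⟩, fun r => k ⟨t.comm_third hp.1 hq.1 pq r.1 r.2, r.1⟩⟩
  refine ⟨p, hp, q, hq, pq, pl, z1, fun m hm m' hm' e e' n => ?_⟩
  have k1 := z1 m hm e
  have k2 := z1 m' hm' e'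
  have k3 := z1 _ ((t.dd d).conj m hm m' hm') (TT.commute_conj e e')
  have s : ∀ x ∈ Dd Y d, ¬ Commute m x → ¬ Commute m' x → Commute (m * m' * m) x := fun x hx a b =>
    (hs d hd m hm m' hm' x hx n (a ·.symm) (b ·.symm)).symm
  have s' : ∀ x, Commute m x → Commute m' x → Commute (m * m' * m) x := fun x a b => (TT.commute_conj a.symm b.symm).symm
  exact ⟨fun r => k3.2.1 ⟨s' _ r.1 r.2, s q hq (fun e => k1.2.1 ⟨r.1, e⟩) fun e => k2.2.1 ⟨r.2, e⟩⟩,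
    fun r => k3.2.1 ⟨s p hp (fun e => k1.2.1 ⟨e, r.1⟩) fun e => k2.2.1 ⟨e, r.2⟩, s' _ r.1 r.2⟩,
    fun r => k3.2.2.1 ⟨s p hp (fun e => k1.2.2.1 ⟨e, r.1⟩) fun e => k2.2.2.1 ⟨e, r.2⟩, s' _ r.1 r.2⟩⟩

theorem R3.no_k4 {d c m1 m2 m3 m4 : G} (hd : d ∈ Y) (hc : c ∈ Y) (n : ¬ Commute d c)
    (hm : ∀ m ∈ [m1, m2, m3, m4], m ∈ Dd Y d ∧ Commute c m) (h12 : ¬ Commute m1 m2) (h13 : ¬ Commute m1 m3) (h14 : ¬ Commute m1 m4)
    (h23 : ¬ Commute m2 m3) (h24 : ¬ Commute m2 m4) (h34 : ¬ Commute m3 m4) : False := by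
  obtain ⟨p, -, q, -, -, -, z1, z2⟩ := h.col hs ns hd hc n
  simp only [List.mem_cons, List.not_mem_nil, or_false, forall_eq_or_imp, forall_eq] at hm
  obtain ⟨a1, a2, a3, a4⟩ := hm
  have := z2 _ a1.1 _ a2.1 a1.2 a2.2 h12
  have := z2 _ a1.1 _ a3.1 a1.2 a3.2 h13
  have := z2 _ a1.1 _ a4.1 a1.2 a4.2 h14
  have := z2 _ a2.1 _ a3.1 a2.2 a3.2 h23
  have := z2 _ a2.1 _ a4.1 a2.2 a4.2 h24
  have := z2 _ a3.1 _ a4.1 a3.2 a4.2 h34
  rcases (z1 _ a1.1 a1.2).1 with k1 | k1 | k1 <;> rcases (z1 _ a2.1 a2.2).1 with k2 | k2 | k2 <;>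
    rcases (z1 _ a3.1 a3.2).1 with k3 | k3 | k3 <;> rcases (z1 _ a4.1 a4.2).1 with k4 | k4 | k4 <;> simp_all only [and_self, not_true_eq_false, and_false, false_and]

variable [Finite G] (hR : ∀ y ∈ Y, R3 (Dd Y y))
include hR

theorem R3.not_tsp {d : G} (hd : d ∈ Y) : ¬ TSp (Dd Y d) := by
  rintro ⟨n, D, v, S, hv⟩
  obtain ⟨c, hc, dc⟩ := h.nc d hd
  obtain ⟨p, hp, q, hq, pq, pl, z1, -⟩ := h.col hs ns hd hc dc
  obtain ⟨y, hy, cy⟩ := h.mu_ne hd hc dc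
  have k : ∀ a ∈ Dd Y d, ∀ b ∈ Dd Y d, ¬ Commute a b → ¬ Commute c a → Commute y a →
      (∀ m ∈ Dd Y d, Commute c m → ¬ (Commute m a ∧ Commute m b)) → False := fun a ha b hb ab ca ya z => by
    have a1 : a ∈ Dd (Dd Y d) y := ⟨ha, fun e => ca (e ▸ cy), ya⟩
    obtain ⟨a', ha', e⟩ := hv (v a + v y) fun e => a1.2.1 (S.inj ha hy (v2_eq.1 e))
    have B0 : ∀ u, D.B u u = 0 := Symp.B_self D
    have a2 : a' ∈ Dd (Dd Y d) y := ⟨ha', fun r => S.ne0 (hR d hd) ha (by simpa [r] using e),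
      (S.comm hy ha').1 (by rw [e, D.B_add_right, S.B0 hy ha ya, B0, add_zero])⟩
    have dy := mem_Dd_comm hd hy
    have V := (hR y hy.1).vc_of_v dy (Dd_comm Y ▸ a1) (Dd_comm Y ▸ a2) (fun r => S.ne0 (hR d hd) hy (by simpa [r] using e))
      (fun u hu => by
        rw [← Dd_comm] at hu
        rw [← S.comm ha hu.1, ← S.comm ha' hu.1, e, D.B_add_left, S.B0 hy hu.1 hu.2.2, add_zero])
    obtain ⟨m, hm, r, cm⟩ := (hR y hy.1).one' V dy (Dd_comm Y ▸ a1) ⟨hc, fun e => dc (e ▸ hy.2.2), cy.symm⟩ dc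
    rw [← Dd_comm] at hm r
    have e2 := S.all2_of_v (hR d hd) hy a1 hm (fun e => ca (e ▸ cm)) r
    refine z m hm.1 cm ⟨(r.commute hm).symm, (S.comm hm.1 hb).1 ?_⟩
    have := congrArg (D.B · (v b)) e2
    simp only [D.B_add_left, S.B1 ha hb ab, S.B1 hy hb fun r => z y hy cy ⟨ya, r⟩] at this
    simpa using this
  have t := h.tt
  rcases (z1 y hy cy).1 with e | e | e
  · exact k p hp q hq pq pl.2.1 e fun m hm c => (z1 m hm c).2.1
  · exact k q hq p hp (pq ·.symm) pl.2.2.1 e fun m hm c r => (z1 m hm c).2.1 r.symm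
  · exact k _ ((t.dd d).conj p hp q hq) p hp (t.not_commute_third hp.1 pq ·.symm) pl.2.2.2 e fun m hm c r => (z1 m hm c).2.2.1 r.symm

omit h hs ns hR [Finite G] in
theorem TSn.conj_set {m : ℕ} (T : TSn X m) (g : G) (t : TT ((fun x => g * x * g⁻¹) '' X)) : TSn ((fun x => g * x * g⁻¹) '' X) m := by
  obtain ⟨s, S⟩ := T
  refine ⟨fun i j => g * s i j * g⁻¹, t, fun a => ⟨_, S.mem a, rfl⟩, ?_, fun i j => by rw [S.symm], fun a b c => ?_,
    fun a b c => commute_conj_conj_iff.not.2 (S.nc a b c), fun a b c d e f => commute_conj_conj_iff.2 (S.comm a b c d e f)⟩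
  · rintro _ ⟨x, hx, rfl⟩
    obtain ⟨i, j, a, rfl⟩ := S.surj x hx
    exact ⟨i, j, a, rfl⟩
  · rw [← S.tri a b c]; group

omit h hs ns hR [Finite G] in
theorem SN.line {ι : Type*} {s : ι → ι → G} (S : SN X s) {p q : G} (hp : p ∈ X) (hq : q ∈ X) (n : ¬ Commute p q) :
    ∃ i j k, i ≠ j ∧ i ≠ k ∧ j ≠ k ∧ s i j = p ∧ s j k = q := by
  obtain ⟨i, j, a, rfl⟩ := S.surj p hp
  obtain ⟨k, l, b, rfl⟩ := S.surj q hq
  rw [S.comm_iff a b] at n
  by_cases e1 : i = k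
  · exact ⟨j, i, l, a.symm, by grind, by grind, S.symm _ _, by rw [e1]⟩
  by_cases e2 : i = l
  · exact ⟨j, i, k, a.symm, by grind, by grind, S.symm _ _, by rw [e2, S.symm]⟩
  by_cases e3 : j = k
  · exact ⟨i, j, l, a, e2, by grind, rfl, by rw [e3]⟩
  · exact ⟨i, j, k, a, e1, e3, rfl, by rw [S.symm k, show j = l by grind]⟩

omit [Finite G] in
theorem R3.not_tsn {d : G} (hd : d ∈ Y) {m : ℕ} (hm : 6 ≤ m) : ¬ TSn (Dd Y d) m := fun T => by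
  have t := h.tt
  have all := h.all_dd (P := fun X => R3 X ∧ TSn X m) (fun _ g a => ⟨a.1.conj_set g, a.2.conj_set g (a.1.conj_set g).tt⟩) hd ⟨hR d hd, T⟩
  obtain ⟨s, S⟩ := T
  obtain ⟨f, hf, -⟩ := exists_inj_notMem (m := m) (k := 6) ∅ (by simpa)
  have n : ∀ {i j : Fin 6}, i ≠ j → f i ≠ f j := fun a => hf.ne a
  have mem : ∀ i j : Fin 6, i ≠ j → s (f i) (f j) ∈ Y := fun i j a => (S.mem (n a)).1
  have cm : ∀ i j k l : Fin 6, i ≠ j ∧ k ≠ l ∧ i ≠ k ∧ i ≠ l ∧ j ≠ k ∧ j ≠ l → Commute (s (f i) (f j)) (s (f k) (f l)) :=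
    fun i j k l a => S.comm (n a.1) (n a.2.1) (n a.2.2.1) (n a.2.2.2.1) (n a.2.2.2.2.1) (n a.2.2.2.2.2)
  have nc : ∀ i j k : Fin 6, i ≠ j ∧ i ≠ k ∧ j ≠ k → ¬ Commute (s (f i) (f j)) (s (f j) (f k)) :=
    fun i j k a => S.nc (n a.1) (n a.2.1) (n a.2.2)
  have a1 : s (f 3) (f 4) ∈ Dd Y (s (f 0) (f 1)) := ⟨mem 3 4 (by decide), fun e => nc 3 4 5 (by decide) (e ▸ cm 0 1 4 5 (by decide)),
    cm 0 1 3 4 (by decide)⟩
  have a2 : s (f 4) (f 5) ∈ Dd Y (s (f 0) (f 1)) := ⟨mem 4 5 (by decide), fun e => nc 3 4 5 (by decide) (e ▸ cm 3 4 0 1 (by decide)),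
    cm 0 1 4 5 (by decide)⟩
  have b1 := cm 1 2 3 4 (by decide)
  have b2 := cm 1 2 4 5 (by decide)
  have b3 := nc 3 4 5 (by decide)
  obtain ⟨p, hp, q, hq, pq, pl, z1, -⟩ := h.col hs ns (mem 0 1 (by decide)) (mem 1 2 (by decide)) (nc 0 1 2 (by decide))
  obtain ⟨-, r, R⟩ := all _ (mem 0 1 (by decide))
  generalize s (f 3) (f 4) = x at *
  generalize s (f 4) (f 5) = y at *
  have b4 := TT.commute_conj b1 b2
  obtain ⟨i, j, k, c1, c2, c3, rfl, rfl⟩ := R.line hp hq pq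
  obtain ⟨u, v, w, d1, d2, d3, rfl, rfl⟩ := R.line a1 a2 b3
  rw [R.tri d1 d2 d3] at b4
  have key : ∀ u v, u ≠ v → Commute (s (f 1) (f 2)) (r u v) → ((u = i ∨ u = j ∨ u = k) ↔ ¬ (v = i ∨ v = j ∨ v = k)) := fun u v n c => by
    have k1 := (z1 _ (R.mem n) c).2.1
    have k2 : r u v ≠ r i j := fun e => pl.2.1 (e ▸ c)
    have k3 : r u v ≠ r j k := fun e => pl.2.2.1 (e ▸ c)
    have k4 : r u v ≠ r i k := fun e => pl.2.2.2 (R.tri c1 c2 c3 ▸ e ▸ c)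
    simp only [R.comm_iff, ne_eq, R.eq_iff (by simp; omega), c1, c2, c3, n, not_false_eq_true] at k1 k2 k3 k4
    clear * - k1 k2 k3 k4 c1 c2 c3 n
    grind
  have k1 := key _ _ d1 b1
  have k2 := key _ _ d3 b2
  have k3 := key _ _ d2 b4
  clear * - k1 k2 k3
  tauto

omit h ns hR [Finite G] in
theorem NT.not_to2 {d a e x y z : G} (N : NT Y d a e x y z) (t : TT Y) {n : ℕ} {D : Form (altKind (ZMod 2)) (V2 n)} {v : G → V2 n}
    (S : SR (Dd Y d) D v) {Q : Form (quadKind (ZMod 2)) (V2 n)} (hB : Q.B = D.B) (hv : ∀ u, u ∈ v '' Dd Y d ↔ Q.Q u = 1) : 8 ≤ n := by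
  have hx := N.hx
  have hy := N.hy
  have hz := N.hz
  have B0 : ∀ u, D.B u u = 0 := Symp.B_self D
  have b1 := S.B0 hx hy.1 hy.2.2
  have b2 := S.B0 hx hz.1.1 hz.1.2.2
  have b3 := S.B0 hy.1 hz.1.1 hz.2.2
  have q : ∀ {x}, x ∈ Dd Y d → Q.Q (v x) = 1 := fun hx => (hv _).1 ⟨_, hx, rfl⟩
  have ne : ∀ {x y}, x ∈ Dd Y d → y ∈ Dd Y d → y ≠ x → v x + v y ≠ 0 := fun hx hy n e => n (S.inj hx hy (v2_eq.1 e)).symm
  obtain ⟨w, hw, ew⟩ := (hv (v x + v y + v z)).2 (by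
    rw [quad_Q_add, quad_Q_add, hB, D.B_add_left, q hx, q hy.1, q hz.1.1, b1, b2, b3]; decide)
  have w1 : w ∈ Dd (Dd Y d) x := ⟨hw, fun r => ne hy.1 hz.1.1 hz.2.1 (by rw [r, add_assoc] at ew; simpa using ew),
    (S.comm hx hw).1 (by simp [ew, B0, b1, b2])⟩
  have w2 : w ∈ Dd Y y := ⟨hw.1, fun r => ne hx hz.1.1 hz.1.2.1 (by rw [r, add_right_comm] at ew; simpa using ew),
    (S.comm hy.1 hw).1 (by simp [ew, B0, alt2_symm D (v y) (v x), b1, b3])⟩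
  have w3 : w ∈ Dd (Dd Y y) z := ⟨w2, fun r => ne hx hy.1 hy.2.1 (by rw [r] at ew; simpa using ew),
    (S.comm hz.1.1 hw).1 (by simp [ew, B0, alt2_symm D (v z), b2, b3])⟩
  by_contra lt
  have k : ∀ p ∈ Y, ¬ Commute d p → p = a ∨ p = e → p ∈ Dd Y w := fun p hp dp r => by
    obtain ⟨f1, f2, f3, f4⟩ := N.fr p r
    refine ⟨hp, fun r => dp (r ▸ hw.2.2), by_contra fun m => lt ?_⟩
    obtain ⟨θ, h1, h2, h3⟩ := t.frame hp N.hd hx w1 (dp ·.symm) f1 (m ·.symm)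
    obtain ⟨θ', h1', h2', h3'⟩ := t.frame hp hy.1.1 ⟨hz.1.1.1, hz.2.1, hz.2.2⟩ w3 f2 f3 (m ·.symm)
    obtain rfl : θ = θ' := t.fr_uniq hp h1.1.1.1 h1'.1.1.1 h2 h2' h3 (by
      have := f4.mul_right h3'
      rwa [show d * x * y * z * (y * z * w * θ') = d * x * w * θ' by
        simp only [mul_assoc, hz.2.2.left_comm, t.cancel hy.1.1, t.cancel hz.1.1.1]] at this)
    have hθ := h1.1.1
    have c1 := S.B0 hx hθ h1.1.2.2
    have c2 := S.B0 hy.1 hθ h1'.1.1.2.2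
    have c3 := S.B0 hz.1.1 hθ h1'.1.2.2
    have := ti_dim S.nd (v := ![v x, v y, v z, v θ]) (by
      rw [Fintype.linearIndependent_iff]
      intro g hg
      simp only [Fin.sum_univ_four, Matrix.cons_val] at hg
      have k0 := congrArg Q.Q hg
      have n1 := ne hx hy.1 hy.2.1
      have n2 := ne hx hz.1.1 hz.1.2.1
      have n3 := ne hy.1 hz.1.1 hz.2.1
      have n4 := ne hx hθ h1.1.2.1
      have n5 := ne hy.1 hθ h1'.1.1.2.1
      have n6 := ne hz.1.1 hθ h1'.1.2.1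
      have n7 := ew ▸ ne hw hθ h1.2.1
      suffices g 0 = 0 ∧ g 1 = 0 ∧ g 2 = 0 ∧ g 3 = 0 by intro i; fin_cases i; exacts [this.1, this.2.1, this.2.2.1, this.2.2.2]
      revert hg k0
      rcases z2 (g 0) with e0 | e0 <;> rcases z2 (g 1) with e1 | e1 <;> rcases z2 (g 2) with e2 | e2 <;>
        rcases z2 (g 3) with e3 | e3 <;> simp only [e0, e1, e2, e3, zero_smul, one_smul, add_zero, zero_add] <;>
        simp [quad_Q_add, hB, D.B_add_left, q hx, q hy.1, q hz.1.1, q hθ, *] <;> intro _ <;> decide)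
      fun i j => by fin_cases i <;> fin_cases j <;> simp [B0, alt2_symm D (v y) (v x), alt2_symm D (v z) (v x), alt2_symm D (v z) (v y),
        alt2_symm D (v θ) (v x), alt2_symm D (v θ) (v y), alt2_symm D (v θ) (v z), b1, b2, b3, c1, c2, c3]
    simpa using this
  exact N.pl.2.2.2 (hs w hw.1 a (k a N.ha (N.pl.2.1) (Or.inl rfl)) e (k e N.he N.pl.2.2.1 (Or.inr rfl)) d (mem_Dd_comm N.hd hw)
    N.ae N.pl.2.1 N.pl.2.2.1)

omit hR [Finite G] in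
theorem R3.not_to2 {d : G} {n : ℕ} {D : Form (altKind (ZMod 2)) (V2 n)} {v : G → V2 n}
    (S : SR (Dd Y d) D v) {Q : Form (quadKind (ZMod 2)) (V2 n)} (hB : Q.B = D.B) (hv : ∀ u, u ∈ v '' Dd Y d ↔ Q.Q u = 1) : n < 7 := by
  by_contra! hn
  have hQ : Q.Nondeg := fun x hx => S.nd x (hB ▸ hx)
  obtain ⟨e, f, h0⟩ := Quad.exists_isHyp hQ (by simp; omega)
  obtain ⟨a, ha, b, hb, c, hc, k, hk, w, hw, h1, h2, h3, h4, h5, h6, h7⟩ :=
    hyp7 hQ (fun _ _ _ _ _ a b => Quad.exists_isHyp a b) ⟨1, by simp⟩ h0 (by simpa)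
  simp only [Form.mem_hp] at ha hb hc hk hw h3 h4 h5 h6
  have B0 : ∀ u, Q.B u u = 0 := hB ▸ Symp.B_self D
  have := z2_one h7
  have q : ∀ u w, Q.B u w = 0 → Q.B w u = 0 := fun _ _ => Q.eq_zero_symm
  have q1 : ∀ {u w}, Q.IsHyp u w → Q.B w u = 1 := fun a => by rw [quad_symm, a.3]
  have cm : ∀ {x y u w}, x ∈ Dd Y d → y ∈ Dd Y d → v x = u → v y = w → (Commute x y ↔ Q.B u w = 0) :=
    fun hx hy a b => by rw [← S.comm hx hy, a, b, hB]
  obtain ⟨p, hp, ep⟩ := (hv (e + f)).2 (by simp [quad_Q_add, h0.1, h0.2, h0.3])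
  obtain ⟨r, hr, er⟩ := (hv (e + w)).2 (by simp [quad_Q_add, h0.1, hw, this])
  obtain ⟨m1, g1, e1⟩ := (hv (a + b)).2 (by simp [quad_Q_add, h1.1, h1.2, h1.3])
  obtain ⟨m2, g2, e2⟩ := (hv (a + w)).2 (by simp [quad_Q_add, h1.1, h5, this])
  obtain ⟨m3, g3, e3⟩ := (hv (b + c + w)).2 (by simp [quad_Q_add, Q.B_add_left, h1.2, h2.1, h3, h5, h6, this])
  obtain ⟨m4, g4, e4⟩ := (hv (b + k + w)).2 (by simp [quad_Q_add, Q.B_add_left, h1.2, h2.2, h4, h5, h6, this])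
  have pr : ¬ Commute p r := by rw [cm hp hr ep er]; simp [Q.B_add_left, B0, q1 h0, hw]
  have n12 : ¬ Commute m1 m2 := by rw [cm g1 g2 e1 e2]; simp [Q.B_add_left, B0, q1 h1, h5]
  have n13 : ¬ Commute m1 m3 := by rw [cm g1 g3 e1 e3]; simp [Q.B_add_left, B0, h1.3, h5, h3]
  have n14 : ¬ Commute m1 m4 := by rw [cm g1 g4 e1 e4]; simp [Q.B_add_left, B0, h1.3, h5, h4]
  have n23 : ¬ Commute m2 m3 := by rw [cm g2 g3 e2 e3]; simp [Q.B_add_left, B0, h1.3, h5, h3, q _ _ h5.2, q _ _ h6.1]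
  have n24 : ¬ Commute m2 m4 := by rw [cm g2 g4 e2 e4]; simp [Q.B_add_left, B0, h1.3, h5, h4, q _ _ h5.2, q _ _ h6.2]
  have n34 : ¬ Commute m3 m4 := by
    rw [cm g3 g4 e3 e4]; simp [Q.B_add_left, B0, h2.3, h5, h4, h6, q _ _ h5.2, q _ _ h6.2, q _ _ h3.2]
  refine h.no_k4 hs ns hp.1 hr.1 pr (fun m hm => ?_) n12 n13 n14 n23 n24 n34
  have k : ∀ m ∈ Dd Y d, Q.B e (v m) = 0 → Q.B f (v m) = 0 → Q.B w (v m) = 0 → m ∈ Dd Y p ∧ Commute r m := fun m hm a1 a2 a3 => by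
    have c : Commute r m := by rw [cm hr hm er rfl, Q.B_add_left, a1, a3, add_zero]
    exact ⟨⟨hm.1, fun e => pr (e ▸ c.symm), by rw [cm hp hm ep rfl, Q.B_add_left, a1, a2, add_zero]⟩, c⟩
  simp only [List.mem_cons, List.not_mem_nil, or_false] at hm
  rcases hm with rfl | rfl | rfl | rfl <;> refine k _ (by assumption) ?_ ?_ ?_ <;>
    simp [e1, e2, e3, e4, ha, hb, hc, hk, hw, B0, q _ _ h5.1, q _ _ h5.2, q _ _ h6.1, q _ _ h6.2]

set_option synthInstance.maxSize 10000 in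
theorem R3.tg_of_symp : TG Y := by
  by_contra g
  obtain ⟨d, a, e, x, y, z, N⟩ := h.tt.nt g
  rcases (hR d N.hd).symp_cases (hs d N.hd) with ⟨m, hm, T⟩ | T | ⟨n, D, v, S, -, Q, hB, hv⟩
  · rcases hm.eq_or_lt with rfl | hm
    swap
    · exact h.not_tsn hs ns hR N.hd hm T
    obtain ⟨s, S⟩ := T
    have hy := N.hy
    have hz := N.hz
    obtain ⟨i, j, c1, rfl⟩ := S.surj x N.hx
    obtain ⟨k, l, c2, rfl⟩ := S.surj y hy.1
    obtain ⟨p, q, c3, rfl⟩ := S.surj z hz.1.1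
    have k : ∀ {i j k l}, i ≠ j → k ≠ l → s k l ≠ s i j ∧ Commute (s i j) (s k l) → i ≠ k ∧ i ≠ l ∧ j ≠ k ∧ j ≠ l :=
      fun a b c => (((S.comm_iff a b).1 c.2).resolve_left fun e => c.1 (by rw [e.1, e.2])).resolve_left
        fun e => c.1 (by rw [e.1, e.2, S.symm])
    exact (by decide +kernel : ∀ i j k l p q : Fin 5, i ≠ j → k ≠ l → p ≠ q → i ≠ k ∧ i ≠ l ∧ j ≠ k ∧ j ≠ l →
      i ≠ p ∧ i ≠ q ∧ j ≠ p ∧ j ≠ q → ¬ (k ≠ p ∧ k ≠ q ∧ l ≠ p ∧ l ≠ q)) _ _ _ _ _ _ c1 c2 c3 (k c1 c2 hy.2) (k c1 c3 hz.1.2)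
      (k c2 c3 hz.2)
  · exact h.not_tsp hs ns hR N.hd T
  · exact absurd (h.not_to2 hs ns S hB hv) (by have := N.not_to2 hs h.tt S hB hv; omega)

end

end Cfsg.Lib.Known2
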