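import Cfsg.Agent.Lib.Known2.F14

/-! Fischer's theorem, XV: locally orthogonal classes over `𝔽₃`. -/

set_option autoImplicit false

namespace Cfsg.Lib.Known2

open Subgroup Cfsg.Lib.Forms Module

variable {G : Type*} [Group G] {X Y Z : Set G}

def Pp (x z : G) : Prop := z ≠ x ∧ Commute x z
def Hh (a b z : G) : Prop := (Pp a z ↔ Pp b z) ∧ (Pp a z ↔ Pp (a * b * a) z)

section
variable {V : Type*} [AddCommGroup V] [Module (ZMod 3) V] {D : Form (quadKind (ZMod 3)) V} {τ : V → G}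

theorem q3_self {u : V} (hu : D.Q u = 1) : D.B u u = 2 := by rw [quad_B_self, hu, mul_one]
theorem q3_rf {u : V} (hu : D.Q u = 1) (w : V) : D.Q (w - D.B u w • u) = D.Q w := by
  rw [quad_Q_sub, quad_Q_smul, hu, D.B_smul_right, quad_symm D w u]; ring
theorem q3_add {u r : V} (hr : D.Q r = 0) (h : D.B u r = 0) (l : ZMod 3) : D.Q (u + l • r) = D.Q u := by
  simp [quad_Q_add, quad_Q_smul, hr, h]

theorem q3_mem [FiniteDimensional (ZMod 3) V] (hD : D.Nondeg) {S : Set V} {r : V} (hr : D.Q r = 0) (h1 : ∀ s ∈ S, D.B s r = 0)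
    (h2 : ∀ z, D.Q z = 1 → (∀ s ∈ S, D.B s z = 0) → D.B z r = 0) : r ∈ Submodule.span (ZMod 3) S := by
  by_contra n
  obtain ⟨z, hz, e⟩ := hD.exists_perp_B_eq n 1
  have := h2 (z + (1 - D.Q z) • r) (by rw [quad_Q_add, quad_Q_smul, hr, D.B_smul_right, e]; ring) fun s hs => by
    rw [D.B_add_right, D.B_smul_right, h1 s hs, D.mem_perp_span.1 hz s hs]; simp
  simp [D.B_add_left, D.B_smul_left, e, D.B_self_of_Q hr] at this

namespace OM
variable (O : OM Z D τ)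
include O

theorem neg {u : V} (hu : D.Q u = 1) : τ (-u) = τ u := (O.eq_iff (by simpa) hu).2 (Or.inr rfl)

theorem pp {u w : V} (hu : D.Q u = 1) (hw : D.Q w = 1) : Pp (τ u) (τ w) ↔ D.B u w = 0 := by
  rw [Pp, ← O.tt.conj_eq_iff (O.mem hu), O.conj hu hw, O.eq_iff (by rwa [q3_rf hu]) hw, Ne, O.eq_iff hw hu]
  refine ⟨fun ⟨h1, h2⟩ => by_contra fun n => ?_, fun e => ⟨?_, by simp [e]⟩⟩
  · have h3 : (3 : ZMod 3) • w = 0 := by rw [show (3 : ZMod 3) = 0 from rfl, zero_smul]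
    rcases h2 with h2 | h2
    · have : u = 0 := by simpa [n] using h2
      simp [this] at hu
    · rcases z3_cases (D.B u w) with e | e | e
      · exact n e
      · exact h1 (Or.inr (by rw [e] at h2; linear_combination (norm := module) h3 - h2))
      · refine h1 (Or.inl ?_)
        have h4 : (3 : ZMod 3) • u = 0 := by rw [show (3 : ZMod 3) = 0 from rfl, zero_smul]
        rw [e] at h2; linear_combination (norm := module) h3 - h2 - h4
  · rintro (rfl | rfl)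
    · exact absurd (e.symm.trans (q3_self hu)) (by decide)
    · rw [D.B_neg_right, q3_self hu] at e; exact absurd e (by decide)

theorem dd {u w : V} (hu : D.Q u = 1) (hw : D.Q w = 1) : τ w ∈ Dd Z (τ u) ↔ D.B u w = 0 :=
  (and_iff_right (O.mem hw)).trans (O.pp hu hw)

theorem pair {u : V} (hu : D.Q u = 1) {y : G} (hy : y ∈ Z) (n : ¬ Commute (τ u) y) :
    ∃ r, r ≠ 0 ∧ D.Q r = 0 ∧ D.B u r = 0 ∧ τ (u + r) = y := by
  obtain ⟨w, hw, rfl⟩ := O.surj y hy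
  have k : ∀ w, D.Q w = 1 → ¬ Commute (τ u) (τ w) → D.B u w = 2 → ∃ r, r ≠ 0 ∧ D.Q r = 0 ∧ D.B u r = 0 ∧ τ (u + r) = τ w :=
    fun w hw n e => ⟨w - u, fun q => n (by rw [sub_eq_zero.1 q]), by rw [quad_Q_sub, hw, hu, quad_symm, e]; decide,
      by rw [D.B_sub_right, e, q3_self hu, sub_self], by simp⟩
  rcases z3_cases (D.B u w) with e | e | e
  · exact (n ((O.pp hu hw).2 e).2).elim
  · exact O.neg hw ▸ k (-w) (by simpa) (by rwa [O.neg hw]) (by rw [D.B_neg_right, e]; decide)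
  · exact k w hw n e

theorem hh {a r z : V} (ha : D.Q a = 1) (hr : D.Q r = 0) (h : D.B a r = 0) (hz : D.Q z = 1) :
    Hh (τ a) (τ (a + r)) (τ z) ↔ D.B r z = 0 := by
  have h1 : D.Q (a + r) = 1 := by simpa [ha] using q3_add hr h 1
  rw [Hh, O.conj ha h1, O.pp ha hz, O.pp h1 hz, O.pp (by rwa [q3_rf ha]) hz, D.B_add_right, q3_self ha, h, D.B_sub_left,
    D.B_smul_left, D.B_add_left, RingHom.id_apply]
  generalize D.B a z = x; generalize D.B r z = y; revert x y; decide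

theorem mu {d c a : G} (hd : d ∈ Z) (hc : c ∈ Z) (n : ¬ Commute d c) (ha : a ∈ Dd Z d) (ca : Commute c a) :
    ∃ b ∈ Dd Z d, ¬ Commute a b ∧ ∀ z ∈ Dd Z d, Commute c z ↔ Hh a b z := by
  obtain ⟨u, hu, rfl⟩ := O.surj d hd
  obtain ⟨r, r0, hr, ur, rfl⟩ := O.pair hu hc n
  have h1 : D.Q (u + r) = 1 := by simpa [hu] using q3_add hr ur 1
  have k : ∀ z, D.Q z = 1 → D.B u z = 0 → (Commute (τ (u + r)) (τ z) ↔ D.B r z = 0) := fun z hz e => by
    rw [show D.B r z = D.B (u + r) z by rw [D.B_add_left, e, zero_add], ← O.pp h1 hz]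
    exact (and_iff_right fun q : τ z = τ (u + r) => n (q ▸ ((O.pp hu hz).2 e).2)).symm
  obtain ⟨w, hw, rfl⟩ := O.surj a ha.1
  rw [O.dd hu hw] at ha
  have wr := D.eq_zero_symm ((k w hw ha).1 ca)
  have h2 : D.Q (w + r) = 1 := by simpa [hw] using q3_add hr wr 1
  refine ⟨τ (w + r), (O.dd hu h2).2 (by simp [ha, ur]), fun q => ?_, fun z hz => ?_⟩
  · have := (O.pp hw h2).not.2 (by rw [D.B_add_right, wr, q3_self hw]; decide)
    rcases (O.eq_iff h2 hw).1 (by_contra fun e => this ⟨e, q⟩) with e | e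
    · exact r0 (by simpa using e)
    · have := congrArg (D.B w) e
      rw [D.B_add_right, D.B_neg_right, wr, q3_self hw] at this; exact absurd this (by decide)
  · obtain ⟨z, hz', rfl⟩ := O.surj z hz.1
    rw [O.hh hw hr wr hz', k z hz' ((O.dd hu hz').1 hz)]

end OM

variable [Finite G] [FiniteDimensional (ZMod 3) V] (h : R3 Y) (hO : ∀ y ∈ Y, TO3 (Dd Y y)) (hR : ∀ y ∈ Y, R3 (Dd Y y))
  (hRR : ∀ y ∈ Y, ∀ a ∈ Dd Y y, R3 (Dd (Dd Y y) a)) {d : G} (hd : d ∈ Y) (O : OM (Dd Y d) D τ)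
include h hO hR hRR hd O

theorem R3.hyper {c : G} (hc : c ∈ Y) (n : ¬ Commute d c) : ∃ r, D.Q r = 0 ∧ r ≠ 0 ∧ ∀ z, D.Q z = 1 → (Commute c (τ z) ↔ D.B r z = 0) := by
  have t := h.tt
  let Gd := fun y r => ∀ z, D.Q z = 1 → D.B y z = 0 → (Commute c (τ z) ↔ D.B r z = 0)
  have cD : ∀ {y}, y ∈ Dd Y d → Commute c y → c ∈ Dd Y y := fun hy e => ⟨hc, fun q => n (q ▸ hy.2.2), e.symm⟩
  have ex : ∀ y, D.Q y = 1 → Commute c (τ y) → ∃ a, D.Q a = 1 ∧ D.B y a = 0 ∧ Commute c (τ a) := fun y hy e => by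
    obtain ⟨a, ha, ca⟩ := (hR _ (O.mem hy).1).mu_ne (mem_Dd_comm hd (O.mem hy)) (cD (O.mem hy) e) n
    rw [Dd_comm] at ha
    obtain ⟨a, qa, rfl⟩ := O.surj a ha.1
    exact ⟨a, qa, (O.dd hy qa).1 ha, ca⟩
  have g1 : ∀ y, D.Q y = 1 → Commute c (τ y) → ∃ r, D.Q r = 0 ∧ r ≠ 0 ∧ D.B y r = 0 ∧ Gd y r := fun y hy e => by
    obtain ⟨a, qa, ya, ca⟩ := ex y hy e
    obtain ⟨m, E, ρ, -, O'⟩ := hO _ (O.mem hy).1
    obtain ⟨b, hb, ab, k⟩ := O'.mu (mem_Dd_comm hd (O.mem hy)) (cD (O.mem hy) e) n (Dd_comm Y ▸ (O.dd hy qa).2 ya) ca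
    rw [Dd_comm] at hb k
    obtain ⟨r, r0, hr, ar, rfl⟩ := O.pair qa hb.1 ab
    rw [O.dd hy (by simpa [qa] using q3_add hr ar 1), D.B_add_right, ya, zero_add] at hb
    exact ⟨r, hr, r0, hb, fun z hz yz => by rw [k _ ((O.dd hy hz).2 yz), O.hh qa hr ar hz]⟩
  have g2 : ∀ y r a, D.Q y = 1 → Commute c (τ y) → D.Q r = 0 → D.B y r = 0 → Gd y r → D.Q a = 1 → D.B y a = 0 → Commute c (τ a) →
      Gd a r := fun y r a hy e hr yr g qa ya ca => by
    obtain ⟨s, hs, s0, as, g'⟩ := g1 a qa ca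
    have ay := D.eq_zero_symm ya
    have ra := (g a qa ya).1 ca
    have sy := (g' y hy ay).1 e
    have m1 := (O.dd hy qa).2 ya
    have m2 : τ a ∈ Dd Y (τ y) := ⟨m1.1.1, m1.2⟩
    obtain ⟨b, hb, cb⟩ := (hRR _ (O.mem hy).1 _ m2).mu_ne ⟨mem_Dd_comm hd (O.mem hy), (mem_Dd_comm hd m1.1).2⟩
      ⟨cD (O.mem hy) e, (cD m1.1 ca).2⟩ n
    obtain ⟨b, qb, rfl⟩ := O.surj b ⟨hb.1.1.1, hb.2⟩
    have yb := (O.pp hy qb).1 hb.1.1.2
    have ab := (O.pp qa qb).1 hb.1.2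
    have rb := (g b qb yb).1 cb
    have q1 : D.Q (b + r) = 1 := by simpa [qb] using q3_add hr (D.eq_zero_symm rb) 1
    have sr : D.B s r = 0 := by
      have := (g' _ q1 (by simp [ab, D.eq_zero_symm ra])).1 ((g _ q1 (by simp [yb, yr])).2 (by simp [rb, D.B_self_of_Q hr]))
      rwa [D.B_add_right, (g' b qb ab).1 cb, zero_add] at this
    have := q3_mem O.nd (S := {y, a, r}) hs (by simp [as, D.eq_zero_symm sy, D.eq_zero_symm sr]) fun z hz k => by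
      simp only [Set.mem_insert_iff, Set.mem_singleton_iff, forall_eq_or_imp, forall_eq] at k
      exact D.eq_zero_symm ((g' z hz k.2.1).1 ((g z hz k.1).2 k.2.2))
    obtain ⟨α, β, γ, rfl⟩ := Submodule.mem_span_triple.1 this
    have a0 : α = 0 := by
      simpa [D.B_add_left, D.B_smul_left, q3_self hy, ay, D.eq_zero_symm yr, show (2 : ZMod 3) ≠ 0 by decide] using sy
    have b0 : β = 0 := by simpa [q3_self qa, ay, D.eq_zero_symm ra, show (2 : ZMod 3) ≠ 0 by decide] using as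
    subst a0 b0
    have c0 : γ ≠ 0 := fun q => s0 (by simp [q])
    exact fun z hz az => by simpa [D.B_smul_left, c0] using g' z hz az
  obtain ⟨y, hy, cy⟩ := h.mu_ne hd hc n
  obtain ⟨y, qy, rfl⟩ := O.surj y hy
  obtain ⟨r, hr, r0, yr, g⟩ := g1 y qy cy
  obtain ⟨a, qa, ya, ca⟩ := ex y qy cy
  have ra := (g a qa ya).1 ca
  have ga := g2 y r a qy cy hr yr g qa ya ca
  refine ⟨r, hr, r0, fun z hz => ⟨fun e => by_contra fun m => m ?_, fun e => by_contra fun m => ?_⟩⟩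
  · have q1 := (q3_add hr (D.eq_zero_symm ra) (-(D.B a z * D.B r z))).trans qa
    refine (g2 y r _ qy cy hr yr g q1 (by simp [ya, yr]) ((g _ q1 (by simp [ya, yr])).2 (by simp [ra, D.B_self_of_Q hr])) z hz ?_).1 e
    rw [D.B_add_left, D.B_smul_left, RingHom.id_apply]; linear_combination -D.B a z * z3_sq m
  let H := fun x => ∃ u, D.Q u = 1 ∧ D.B r u = 0 ∧ τ u = x
  have Hc : ∀ {x y}, H x → H y → H (x * y * x) := by
    rintro _ _ ⟨u, qu, ru, rfl⟩ ⟨w, qw, rw, rfl⟩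
    exact ⟨_, (q3_rf qu w).trans qw, by simp [ru, rw], (O.conj qu qw).symm⟩
  have HX : ∀ {x}, H x → x ∈ Dd Y d := by rintro _ ⟨u, qu, -, rfl⟩; exact O.mem qu
  have Ha : ∀ {x}, H x → Pp (τ a) x → Commute c x := by
    rintro _ ⟨u, qu, ru, rfl⟩ p; exact (ga u qu ((O.pp qa qu).1 p)).2 ru
  have Hy : ∀ x ∈ Dd (Dd Y d) (τ y), Commute c x → H x := fun x hx p => by
    obtain ⟨u, qu, rfl⟩ := O.surj x hx.1
    exact ⟨u, qu, (g u qu ((O.dd qy qu).1 hx)).1 p, rfl⟩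
  have n1 : ¬ Commute (τ z) (τ y) := fun q => m ((g z hz ((O.pp qy hz).1 ⟨fun e => m (e ▸ cy), q.symm⟩)).2 e)
  have n2 : ¬ Commute (τ z) (τ a) := fun q => m ((ga z hz ((O.pp qa hz).1 ⟨fun e => m (e ▸ ca), q.symm⟩)).2 e)
  have hz1 : H (τ z) := ⟨z, hz, e, rfl⟩
  have hy1 : H (τ y) := ⟨y, qy, D.eq_zero_symm yr, rfl⟩
  have ha1 : H (τ a) := ⟨a, qa, ra, rfl⟩
  have ya' := (O.pp qy qa).2 ya
  generalize τ z = z, τ y = y, τ a = a at *
  have mz := (HX hz1).1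
  have hz2 := Hc hy1 (Hc ha1 hz1)
  have z2 := t.th' mz hy.1 (HX ha1).1 ya'.1.symm ya'.2 n1 n2
  have e1 : y * (a * z * a) * y * (z * y * z) * (y * (a * z * a) * y) = a := by
    simpa [mul_assoc] using t.s4w hy.1 mz (HX ha1).1 (n1 ·.symm) ya'.2 n2 [0,2,1,2,0,1,0,1,0,2,1,2,0] [2] (by decide +kernel)
  have m2 : ¬ Commute c (y * (a * z * a) * y) := t.not_commute_conj hy.1 cy (t.not_commute_conj (HX ha1).1 ca m)
  generalize y * (a * z * a) * y = w at *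
  have k := t.th' hc mz z2.1 z2.2.1.symm z2.2.2 m m2
  have cj : ∀ x, Commute (z * (w * c * w) * z) x ↔ Commute c (w * (z * x * z) * w) := fun x => by
    rw [t.commute_conj_iff' mz, t.commute_conj_iff' z2.1]
  have n3 := t.not_commute_conj mz (HX hz1).2.2 (t.not_commute_conj z2.1 (HX hz2).2.2 n)
  rcases (hR y hy.1).two d (mem_Dd_comm hd hy) c (cD hy cy) _ ⟨k.1, fun q => n3 (q ▸ hy.2.2), ((cj y).2 (e1 ▸ ca)).symm⟩ n n3
    (fun x hx p => by
      rw [Dd_comm] at hx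
      refine (cj x).2 (Ha (Hc hz2 (Hc hz1 (Hy x hx p))) ?_)
      rw [← e1]
      exact (t.conj_Dd z2.1 (t.conj_Dd mz (a := y) ⟨hx.1.1, hx.2⟩)).2) with q | q
  · exact k.2.1 q
  · exact t.not_commute_third' hd hc n (q ▸ k.2.2)

set_option synthInstance.maxSize 100000 in
set_option synthInstance.maxHeartbeats 400000 in
theorem NT.not_om {a e x y z : G} (N : NT Y d a e x y z) : False := by
  have t := h.tt
  obtain ⟨x, qx, rfl⟩ := O.surj x N.hx
  obtain ⟨y, qy, rfl⟩ := O.surj y N.hy.1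
  obtain ⟨z, qz, rfl⟩ := O.surj z N.hz.1.1
  have xy := (O.dd qx qy).1 N.hy
  have xz := (O.dd qx qz).1 N.hz.1
  have yz := (O.pp qy qz).1 N.hz.2
  have key : ∀ p ∈ Y, ¬ Commute d p → p = a ∨ p = e → ∃ α β γ : ZMod 3, α ≠ 0 ∧ β ≠ 0 ∧ γ ≠ 0 ∧
      ∀ m, D.Q m = 1 → (Commute p (τ m) ↔ α * D.B x m + β * D.B y m + γ * D.B z m = 0) := fun p hp n q => by
    obtain ⟨f1, f2, f3, f4⟩ := N.fr p q
    obtain ⟨r, hr, r0, g⟩ := h.hyper hO hR hRR hd O hp n
    have a1 := (g x qx).not.1 f1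
    have a2 := (g y qy).not.1 f2
    have a3 := (g z qz).not.1 f3
    have k : ∀ m, D.B m (D.B r x • x + D.B r y • y + D.B r z • z) = D.B r x * D.B x m + D.B r y * D.B y m + D.B r z * D.B z m :=
      fun m => by simp [quad_symm D m]
    have k1 : ∀ m, D.Q m = 1 → D.B r m = 0 → D.B m (D.B r x • x + D.B r y • y + D.B r z • z) = 0 := fun m qm rm => by
      have q1 := (q3_rf qz m).trans qm
      have q2 := (q3_rf qy _).trans q1
      have q3 := (q3_rf qx _).trans q2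
      have := (g _ q3).1 (by
        rw [← O.conj qx q2, ← O.conj qy q1, ← O.conj qz qm, ← (t.conj_eq_iff hd).2 (((t.dd d).conj _ N.hx _ ((t.dd d).conj _ N.hy.1 _
          ((t.dd d).conj _ N.hz.1.1 _ (O.mem qm)))).2.2), ← conj_eq_of_commute f4]
        convert commute_conj_conj_iff (g := d * τ x * τ y * τ z).2 ((g m qm).2 rm) using 1
        simp [mul_assoc, t.inv hd, t.inv N.hx.1, t.inv N.hy.1.1, t.inv N.hz.1.1.1])
      simp only [D.B_sub_right, D.B_smul_right, xy, xz, yz, rm] at this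
      rw [k]; linear_combination -this
    obtain ⟨γ, e⟩ := Submodule.mem_span_singleton.1 (q3_mem O.nd (S := {r}) (r := D.B r x • x + D.B r y • y + D.B r z • z) (by
      simp [quad_Q_add, quad_Q_smul, qx, qy, qz, D.B_add_left, D.B_smul_left, xy, xz, yz, sq, z3_sq a1, z3_sq a2, z3_sq a3]; decide)
      (by simp [z3_sq a1, z3_sq a2, z3_sq a3]; decide) fun m qm rm => k1 m qm (rm r rfl))
    have c0 : γ ≠ 0 := fun q => by
      have := congrArg (D.B x) e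
      simp [q, xy, xz, q3_self qx, a1] at this
      exact absurd this (by decide)
    exact ⟨_, _, _, a1, a2, a3, fun m qm => by rw [g m qm, ← k, ← e, D.B_smul_right, quad_symm D m]; simp [c0]⟩
  obtain ⟨α, β, γ, a1, a2, a3, ka⟩ := key a N.ha N.pl.2.1 (Or.inl rfl)
  obtain ⟨α', β', γ', b1, b2, b3, ke⟩ := key e N.he N.pl.2.2.1 (Or.inr rfl)
  have fin : ∀ w, D.Q w = 1 → ¬ Commute a (τ w) → (∀ m, D.Q m = 1 → Commute e (τ m) →
      α * D.B x (m - D.B w m • w) + β * D.B y (m - D.B w m • w) + γ * D.B z (m - D.B w m • w) = 0) → False := fun w qw n k => by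
    have mw := O.mem qw
    rcases h.two d hd e N.he _ (t.conj _ mw.1 a N.ha) N.pl.2.2.1 (t.not_commute_conj mw.1 mw.2.2 N.pl.2.1) (fun m hm c => by
      obtain ⟨m, qm, rfl⟩ := O.surj m hm
      rw [t.commute_conj_iff' mw.1, O.conj qw qm, ka _ ((q3_rf qw m).trans qm)]
      exact k m qm c) with q | q
    · exact N.pl.2.2.2 (by rw [← q, t.third_third N.ha mw.1 n]; exact mw.2.2)
    · exact N.ae (by rw [← t.conj_conj hd e, ← q]; exact t.s4b hd N.ha mw.1 mw.2.2 (N.pl.2.1 ·.symm) n)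
  have := (by decide +kernel : ∀ α β γ α' β' γ' : ZMod 3, α ≠ 0 → β ≠ 0 → γ ≠ 0 → α' ≠ 0 → β' ≠ 0 → γ' ≠ 0 →
    (∀ s t u, α' * s + β' * t + γ' * u = 0 → α * s + β * t + γ * u = 0) ∨
    (∀ s t u, α' * s + β' * t + γ' * u = 0 → α * (s - s * 2) + β * t + γ * u = 0) ∨
    (∀ s t u, α' * s + β' * t + γ' * u = 0 → α * s + β * (t - t * 2) + γ * u = 0) ∨
    ∀ s t u, α' * s + β' * t + γ' * u = 0 → α * s + β * t + γ * (u - u * 2) = 0) α β γ α' β' γ' a1 a2 a3 b1 b2 b3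
  have fa := N.fr a (Or.inl rfl)
  rcases this with k | k | k | k
  · rcases h.two d hd e N.he a N.ha N.pl.2.2.1 N.pl.2.1 (fun m hm c => by
      obtain ⟨m, qm, rfl⟩ := O.surj m hm
      exact (ka m qm).2 (k _ _ _ ((ke m qm).1 c))) with q | q
    · exact N.ae (q ▸ Commute.refl a)
    · exact N.pl.2.2.2 (by rw [q, t.braid hd N.he N.pl.2.2.1, t.swap_third N.he hd (N.pl.2.2.1 ·.symm)])
  · exact fin x qx fa.1 fun m qm c => by
      simpa [q3_self qx, D.eq_zero_symm xy, D.eq_zero_symm xz] using k _ _ _ ((ke m qm).1 c)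
  · exact fin y qy fa.2.1 fun m qm c => by
      simpa [q3_self qy, xy, D.eq_zero_symm yz] using k _ _ _ ((ke m qm).1 c)
  · exact fin z qz fa.2.2.1 fun m qm c => by
      simpa [q3_self qz, xz, yz] using k _ _ _ ((ke m qm).1 c)

end

theorem R3.tg_of_to3 [Finite G] (h : R3 Y) (hO : ∀ y ∈ Y, TO3 (Dd Y y)) (hR : ∀ y ∈ Y, R3 (Dd Y y))
    (hRR : ∀ y ∈ Y, ∀ a ∈ Dd Y y, R3 (Dd (Dd Y y) a)) : TG Y := by
  by_contra g
  obtain ⟨d, a, e, x, y, z, N⟩ := h.tt.nt g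
  obtain ⟨n, D, τ, -, O⟩ := hO d N.hd
  exact N.not_om h hO hR hRR N.hd O

theorem TO3.conj_set (T : TO3 X) (g : G) (t : TT ((fun x => g * x * g⁻¹) '' X)) : TO3 ((fun x => g * x * g⁻¹) '' X) := by
  obtain ⟨n, D, τ, hn, O⟩ := T
  refine ⟨n, D, fun u => g * τ u * g⁻¹, hn, t, O.nd, fun hu => ⟨_, O.mem hu, rfl⟩, ?_, fun hu hw => by
    rw [← O.eq_iff hu hw]; simp, fun hu hw => by rw [← O.conj hu hw]; group⟩
  rintro _ ⟨x, hx, rfl⟩
  obtain ⟨u, hu, rfl⟩ := O.surj x hx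
  exact ⟨u, hu, rfl⟩

theorem OM.corr' {n : ℕ} {D : Form (quadKind (ZMod 3)) (V3 n)} {τ : V3 n → G} (O : OM X D τ) :
    ∃ ρ, Corr X (reflectionsOfNorm (toQuad D) 1) ρ := by
  obtain ⟨ρ, C⟩ := O.corr
  let e := oIso D (Q := toQuad D) rfl
  refine ⟨fun x k => ρ x (e k), C.t₁, ?_, fun x k a => ⟨(C.m _ _ a).1, (mem_refl_iff rfl k).2 (C.m _ _ a).2⟩, fun x hx => ?_,
    fun k hk => C.s₂ _ ((mem_refl_iff rfl k).1 hk), fun x k x' k' a b => (C.e _ _ _ _ a b).trans e.injective.eq_iff,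
    fun x k x' k' a b => by simpa using C.c _ _ _ _ a b⟩
  · convert C.t₂.comap e.toMonoidHom e.injective using 1
    exact Set.ext (mem_refl_iff rfl)
  · obtain ⟨y, hy⟩ := C.s₁ x hx
    exact ⟨e.symm y, by simpa using hy⟩

theorem TO3.iso (T : TO3 X) (h1 : closure X = ⊤) (h2 : center G = ⊥) : ∃ n : ℕ, 5 ≤ n ∧ ∃ Q : QuadraticForm (ZMod 3) (Fin n → ZMod 3),
    (QuadraticMap.polarBilin Q).Nondegenerate ∧ ∃ c : ZMod 3, c ≠ 0 ∧ ∃ e : G ≃* reflectionSubgroup Q c ⧸ center (reflectionSubgroup Q c),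
      e '' X = (QuotientGroup.mk : reflectionSubgroup Q c → _) ''
        {g : reflectionSubgroup Q c | (g : isometryGroup (ZMod 3) Q) ∈ reflectionsOfNorm Q c} := by
  obtain ⟨n, D, τ, hn, O⟩ := T
  obtain ⟨ρ, C⟩ := O.corr'
  obtain ⟨e, he⟩ := C.isoQ h1 h2
  exact ⟨n, hn, toQuad D, nondegenerate_toQuad O.nd, 1, one_ne_zero, e, he.trans (mkq_image _)⟩

end Cfsg.Lib.Known2
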