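import Cfsg.Agent.Lib.Known2.F15

/-! Fischer's theorem, XVI: locally unitary classes. -/

set_option autoImplicit false

namespace Cfsg.Lib.Known2

open Subgroup Cfsg.Lib.Forms Module

variable {G : Type*} [Group G] {X Y Z : Set G}

set_option synthInstance.maxSize 100000 in
set_option synthInstance.maxHeartbeats 400000 in
theorem TT.sqs (t : TT Y) {c d : G} (hc : c ∈ Y) (hd : d ∈ Y) (n : ¬ Commute c d) (L : Fin 5 → G) (mem : ∀ i, L i ∈ Dd Y d)
    (cm : ∀ i j, i ≠ j → L j ∈ Dd (Dd Y d) (L i)) (nc : ∀ i, ¬ Commute c (L i))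
    (cl : ∀ i j, i ≠ j → ∀ θ ∈ Dd (Dd (Dd Y d) (L i)) (L j), ∃ k, θ = L k) : False := by
  let P := fun i j k => Commute c (d * L i * L j * L k)
  have c0 : ∀ i j, L i * L j = L j * L i := fun i j => by
    by_cases e : i = j
    exacts [by rw [e], (cm i j e).2.2]
  have ex : ∀ i j, i ≠ j → ∃ k, k ≠ i ∧ k ≠ j ∧ P i j k := fun i j e => by
    obtain ⟨θ, h1, -, h3⟩ := t.frame hc hd (mem i) (cm i j e) n (nc i) (nc j)
    obtain ⟨k, rfl⟩ := cl i j e θ h1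
    exact ⟨k, fun q => h1.1.2.1 (by rw [q]), fun q => h1.2.1 (by rw [q]), h3⟩
  have un : ∀ {i j k l}, P i j k → P i j l → k = l := fun a b => by_contra fun e =>
    (cm _ _ e).2.1 (t.fr_uniq hc (mem _).1 (mem _).1 (nc _) (nc _) b a)
  have s1 : ∀ {i j k}, P i j k → P j i k := fun {i j k} a => by simpa only [P, mul_assoc d (L _) (L _), c0 i j] using a
  have s2 : ∀ {i j k}, P i j k → P i k j := fun {i j k} a => by
    show Commute c (d * L i * L k * L j)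
    rw [mul_assoc (d * L i), ← c0 j k, ← mul_assoc]; exact a
  obtain ⟨k, k0, k1, pk⟩ := ex 0 1 (by decide)
  obtain ⟨l, l0, l1, lk, -⟩ := exists_not_mem4 (by simp) 0 1 k k
  obtain ⟨m, m0, ml, pm⟩ := ex 0 l l0.symm
  obtain ⟨p, p1, pl, pp⟩ := ex 1 l l1.symm
  have : m = p := (by decide : ∀ k l m p : Fin 5, k ≠ 0 → k ≠ 1 → l ≠ 0 → l ≠ 1 → l ≠ k → m ≠ 0 → m ≠ 1 → m ≠ k → m ≠ l → p ≠ 0 →
    p ≠ 1 → p ≠ k → p ≠ l → m = p) k l m p k0 k1 l0 l1 lk m0 (fun e => lk (un (s2 (e ▸ pm)) pk)) (fun e => l1 (un (s2 (e ▸ pm)) (s2 pk)))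
    ml (fun e => lk (un (s2 (e ▸ pp)) (s1 pk))) p1 (fun e => l0 (un (s2 (e ▸ pp)) (s2 (s1 pk)))) pl
  exact absurd (un (s2 (s1 pm)) (s2 (s1 (this ▸ pp)))) (by decide)

section
variable {F : Type*} [Field F] {σ : F →+* F} {s : IsConj σ 2} {V : Type*} [AddCommGroup V] [Module F V] [FiniteDimensional F V]
  {D : Form s.kind V} {τ : V → G} (hD : D.Nondeg)
include hD

theorem UM.gq (U : UM D Z τ) (hn : finrank F V ≤ 5) {p q z : V} (hp : Is D p) (hq : Is D q) (hz : Is D z) (pq : τ q ∈ Dd Z (τ p))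
    (h1 : τ z ∈ Dd Z (τ p)) (h2 : D.B q z = 0) : ∃ l : F, τ z = τ (q + l • p) := by
  obtain ⟨a1, a2⟩ := (U.mem_Dd hp hq).1 pq
  obtain ⟨b1, b2⟩ := (U.mem_Dd hp hz).1 h1
  have hm : z ∈ Submodule.span F {p, q} := by
    by_contra n
    have := ti_dim hD (v := ![p, q, z]) (by
      rw [Fintype.linearIndependent_iff]
      intro g hg
      simp only [Fin.sum_univ_three, Matrix.cons_val] at hg
      have g2 : g 2 = 0 := by_contra fun e => n (Submodule.mem_span_pair.2 ⟨-(g 2)⁻¹ * g 0, -(g 2)⁻¹ * g 1, by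
        linear_combination (norm := module) -(g 2)⁻¹ • hg + inv_mul_cancel₀ e • z⟩)
      have g1 : g 1 = 0 := by_contra fun e => a2 ⟨-(g 1)⁻¹ * g 0, by
        rw [g2] at hg; linear_combination (norm := module) (g 1)⁻¹ • hg - inv_mul_cancel₀ e • q⟩
      have g0 : g 0 = 0 := by simpa [g1, g2, hp.1] using hg
      intro i; fin_cases i; exacts [g0, g1, g2]) fun i j => by
      fin_cases i <;> fin_cases j <;> simp [hp.B, hq.B, hz.B, a1, b1, h2, D.eq_zero_symm a1, D.eq_zero_symm b1, D.eq_zero_symm h2]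
    omega
  obtain ⟨a, b, e⟩ := Submodule.mem_span_pair.1 hm
  have hb : b ≠ 0 := by rintro rfl; exact b2 ⟨a, by simp [← e]⟩
  exact ⟨b⁻¹ * a, by rw [← U.smul (hp.add_smul hq a1 a2 _).1 hb, smul_add, smul_smul, mul_inv_cancel_left₀ hb, add_comm, e]⟩

theorem UM.u4 (U : UM D Z τ) (hn : finrank F V = 4) {t a e x : G} (ht : t ∈ Z) (ha : a ∈ Z) (he : e ∈ Z) (hx : x ∈ Z)
    (ta : Commute t a) (te : Commute t e) (tx : Commute t x) (n : ¬ Commute a e) (n1 : ¬ Commute x a) (n2 : ¬ Commute x e) :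
    Commute x (a * e * a) := by
  obtain ⟨t, it, rfl⟩ := U.surj t ht
  obtain ⟨a, ia, rfl⟩ := U.surj a ha
  obtain ⟨e, ie, rfl⟩ := U.surj e he
  obtain ⟨x, ix, rfl⟩ := U.surj x hx
  rw [U.conj _ _ ia ie, U.comm_iff ix (ia.tv ie)]
  rw [U.comm_iff (by assumption) (by assumption)] at ta te tx n n1 n2
  have k : LinearIndependent F ![a, e, t] := by
    rw [Fintype.linearIndependent_iff]
    intro g hg
    simp only [Fin.sum_univ_three, Matrix.cons_val] at hg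
    have g1 : g 1 = 0 := by simpa [ia.B, D.eq_zero_symm ta, n] using congrArg (D.B a) hg
    have g0 : g 0 = 0 := by simpa [ie.B, D.eq_zero_symm te, D.ne_zero_symm n] using congrArg (D.B e) hg
    have g2 : g 2 = 0 := by simpa [g1, g0, it.1] using hg
    intro i; fin_cases i; exacts [g0, g1, g2]
  have e1 : Submodule.span F (Set.range ![a, e, t]) = D.perp (F ∙ t) := Submodule.eq_of_le_of_finrank_eq
    (Submodule.span_le.2 (by rintro _ ⟨i, rfl⟩; fin_cases i <;> simp [D.mem_perp_span_singleton, ta, te, it.B])) (by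
      have := hD.finrank_perp (F ∙ t)
      rw [finrank_span_singleton it.1] at this
      rw [finrank_span_eq_card k]; simp; omega)
  obtain ⟨g, rfl⟩ := (Submodule.mem_span_range_iff_exists_fun F).1 (e1.ge (D.mem_perp_span_singleton.2 tx))
  have q := ix.B
  simp only [Fin.sum_univ_three, Matrix.cons_val, tvF, D.B_add_left, D.B_add_right, D.B_smul_left, D.B_smul_right, ia.B, ie.B, it.B, ta, te,
    D.eq_zero_symm ta, D.eq_zero_symm te, B_symm D a e, mul_zero, add_zero, zero_add] at q n1 n2 ⊢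
  have k1 := F4.norm s n
  have k2 := F4.norm s (a := g 0) fun z => n2 (by simp [z])
  have k3 := F4.two s
  rcases F4.fixed s (a := g 1 * σ (g 0) * D.B a e) (by
    rw [map_mul, map_mul, s.kind.σσ]; linear_combination q - g 1 * σ (g 0) * D.B a e * k3) with z | z
  · simp [n, show g 1 ≠ 0 from fun z => n1 (by simp [z]), show g 0 ≠ 0 from fun z => n2 (by simp [z])] at z
  · have := congrArg σ z
    rw [map_mul, map_mul, s.kind.σσ, map_one] at this
    linear_combination (D.B a e * σ (g 0)) * this - D.B a e * σ (g 1) * σ (D.B a e) * k2 + σ (g 0) * D.B a e * k3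

variable {n : ℕ} (h : R3 Y) (hU : ∀ y ∈ Y, TU' (Dd Y y) n) {d c : G} (hd : d ∈ Y) (U : UM D (Dd Y d) τ) (hc : c ∈ Y) (dc : ¬ Commute d c)
include h hU hd U hc dc

omit h in
theorem um_one {u v : V} (hu : Is D u) (hv : Is D v) (cu : Commute c (τ u)) (uv : τ v ∈ Dd (Dd Y d) (τ u)) :
    (∃ l : F, Commute c (τ (v + l • u))) ∧ ∀ l : F, Commute c (τ v) → Commute c (τ (v + l • u)) → l = 0 := by
  have hy := U.mem u hu
  obtain ⟨E, _, ρ, r, τ', U'⟩ := hU _ hy.1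
  obtain ⟨z, ⟨⟨z1, z2⟩, z3⟩, z4⟩ := U'.mu_unique (stdHerm_nondeg r _) (mem_Dd_comm hd hy) ⟨hc, fun e => dc (e ▸ hy.2.2), cu.symm⟩ dc
    (Dd_comm Y ▸ uv)
  rw [Dd_comm] at z1 z2 z4
  obtain ⟨w, hw, rfl⟩ := U.surj z z1.1
  obtain ⟨a1, a2⟩ := (U.mem_Dd hu hv).1 uv
  refine ⟨((U.rv_iff hD hu hv hw uv z1).1 z2).imp fun l (e : τ w = τ (v + l • u)) => e ▸ z3, fun l c1 c2 => U.line_inj hu hv uv ?_⟩
  have hm := (U.mem_Dd hu (hu.add_smul hv a1 a2 l).1).2 (hu.add_smul hv a1 a2 l).2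
  rw [z4 _ ⟨⟨hm, (U.rv_iff hD hu hv (hu.add_smul hv a1 a2 l).1 uv hm).2 ⟨l, rfl⟩⟩, c2⟩, zero_smul, add_zero, z4 _ ⟨⟨uv, RV.refl _⟩, c1⟩]

omit h in
theorem um_z {e f g q : V} (he : Is D e) (hf : Is D f) (hg : Is D g) (ce : Commute c (τ e)) (cf : Commute c (τ f))
    (cg : Commute c (τ g)) (ef : D.B e f = 1) (fg : D.B f g = 1) (g0 : D.B g e ≠ 0) (g1 : D.B g e ≠ 1) (hq : Is D q) (q1 : D.B e q = 0)
    (q2 : D.B f q = 0) (q3 : D.B g q = 0) : ¬ Commute c (τ (e + q)) := fun cq => by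
  have st : ∀ {a b}, Is D a → Is D b → Commute c (τ a) → Commute c (τ b) → D.B a b = 1 → D.B a q = 0 → D.B b q = 0 →
      Is D (a + q) ∧ Commute c (τ (a + q)) → Is D (b + q) ∧ Commute c (τ (b + q)) := fun {a b} ha hb ca cb e a1 a2 k => by
    have e1 : tvF D (tvF D a b) (a + q) = b + q := by
      simp only [tvF, e, one_smul, D.B_add_left, D.B_add_right, B_symm D a b, map_one, ha.B, a1, a2, add_zero]
      linear_combination (norm := module) vadd_self s a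
    rw [← e1, ← U.conj _ _ (ha.tv hb) k.1, ← U.conj _ _ ha hb]
    exact ⟨(ha.tv hb).tv k.1, TT.commute_conj (TT.commute_conj ca cb) k.2⟩
  have nq : ¬ ∃ l : F, q = l • e := fun ⟨l, a⟩ => by
    rw [a, D.B_smul_right, B_symm D e f, ef, map_one, mul_one] at q2; exact hq.1 (by simp [a, q2])
  have i1 := he.add_smul hq q1 nq 1
  rw [one_smul, add_comm] at i1
  have k := st hg (he.smul (inv_ne_zero g0)) cg (by rwa [U.smul he (inv_ne_zero g0)]) (by simp [g0]) q3 (by simp [D.B_smul_left, q1])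
    (st hf hg cf cg fg q2 q3 (st he hf ce cf ef q1 q2 ⟨i1.1, cq⟩))
  have := (um_one hD hU hd U hc dc he i1.1 ce ((U.mem_Dd he i1.1).2 i1.2)).2 ((D.B g e)⁻¹ - 1) cq (by convert k.2 using 2; module)
  exact g1 (by rwa [sub_eq_zero, inv_eq_one] at this)

omit hU in
theorem um_sqs (hn : finrank F V ≤ 5) {p q : V} (hp : Is D p) (hq : Is D q) (pq : τ q ∈ Dd (Dd Y d) (τ p)) (n : ¬ Commute c (τ p)) :
    ∃ l : F, Commute c (τ (q + l • p)) := by
  by_contra! k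
  have := s.finite
  have := Fintype.ofFinite F
  obtain ⟨a1, a2⟩ := (U.mem_Dd hp hq).1 pq
  let e : Fin 5 ≃ Option F := (Fintype.equivFinOfCardEq (by rw [Fintype.card_option, ← Nat.card_eq_fintype_card, s.card]; rfl)).symm
  let w : Option F → V := fun o => o.elim p fun l => q + l • p
  have iw : ∀ o, Is D (w o) := fun o => by cases o; exacts [hp, (hp.add_smul hq a1 a2 _).1]
  have bw : ∀ o, D.B (w o) p = 0 ∧ D.B (w o) q = 0 := fun o => by
    cases o <;> simp [w, hp.B, hq.B, a1, D.B_add_left, D.B_smul_left, D.eq_zero_symm a1]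
  have inj : ∀ o o', τ (w o) = τ (w o') → o = o' := fun o o' a => by
    cases o <;> cases o'
    · rfl
    · exact ((hp.add_smul hq a1 a2 _).2.2 ((U.eq_iff _ _ (iw _) hp).1 a.symm)).elim
    · exact ((hp.add_smul hq a1 a2 _).2.2 ((U.eq_iff _ _ (iw _) hp).1 a)).elim
    · exact congrArg _ (U.line_inj hp hq pq a)
  refine h.tt.sqs hc hd (dc ·.symm) (fun i => τ (w (e i))) (fun i => U.mem _ (iw _)) (fun i j a => ⟨U.mem _ (iw _),
    fun b => a (e.injective (inj _ _ b)).symm, (U.comm_iff (iw _) (iw _)).2 (by cases e j <;> simp [w, bw])⟩)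
    (fun i => by cases e i; exacts [n, k _]) fun i j a θ hθ => ?_
  obtain ⟨z, hz, rfl⟩ := U.surj θ hθ.1.1
  have b1 := (U.comm_iff (iw _) hz).1 hθ.1.2.2
  have b2 := (U.comm_iff (iw _) hz).1 hθ.2.2
  have b3 : D.B p z = 0 ∧ D.B q z = 0 := by
    have := e.injective.ne a
    revert b1 b2 this
    rcases e i with _ | l <;> rcases e j with _ | m <;> simp only [w, Option.elim, D.B_add_left, D.B_smul_left] <;> intro b1 b2 b3
    · exact (b3 rfl).elim
    · exact ⟨b1, by simpa [b1] using b2⟩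
    · exact ⟨b2, by simpa [b2] using b1⟩
    have : D.B p z = 0 := by_contra fun r => b3 (congrArg _ (σ.injective (mul_right_cancel₀ r (by linear_combination b1 - b2))))
    exact ⟨this, by simpa [this] using b1⟩
  by_cases r : τ z = τ p
  · exact ⟨e.symm none, by simpa [w] using r⟩
  · obtain ⟨l, hl⟩ := U.gq hD hn hp hq hz pq ⟨hθ.1.1, r, (U.comm_iff hp hz).2 b3.1⟩ b3.2
    exact ⟨e.symm (some l), by simpa [w] using hl⟩

omit hD hU [FiniteDimensional F V] in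
theorem um_start : ∃ u, Is D u ∧ Commute c (τ u) := by
  obtain ⟨y, hy, cy⟩ := h.mu_ne hd hc dc
  obtain ⟨u, hu, rfl⟩ := U.surj y hy
  exact ⟨u, hu, cy⟩

omit h hU hd U hc dc hD [FiniteDimensional F V] in
theorem herm_tri {w a b : V} {ω : F} (hω : ω * ω = ω + 1) (hw : D.Q w ≠ 0) (ha : D.Q a = 0) (hb : D.Q b = 0) (ab : D.B a b = 1)
    (h1 : D.B a w = 0) (h2 : D.B b w = 0) : Is D (w + a + ω • b) ∧ D.B b (w + a + ω • b) = 1 ∧ D.B a (w + a + ω • b) = ω := by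
  have e1 : D.B a (w + a + ω • b) = ω := by simp [h1, B_iso ha, ab]
  have e2 : D.B b (w + a + ω • b) = 1 := by simp [h2, B_iso hb, B_symm D a b, ab]
  have e3 : D.B w w = 1 := (F4.fixed s (B_symm D w w).symm).resolve_left (by rwa [← Q_eq])
  refine ⟨⟨fun e => by simp [e] at e2, ?_⟩, e2, e1⟩
  rw [Q_eq, D.B_add_left, D.B_add_left, D.B_smul_left, e1, e2, F4.σω s hω]
  simp only [D.B_add_right, D.B_smul_right, e3, D.eq_zero_symm h1, D.eq_zero_symm h2]
  linear_combination (1 + ω) * F4.two s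

theorem um_seven : finrank F V < 7 := by
  by_contra! hn
  obtain ⟨u, hu, cu⟩ := um_start h hd U hc dc
  obtain ⟨u', h0⟩ := hD.exists_isHyp hu.2 hu.1
  obtain ⟨ω, hω⟩ := F4.exists_omega s
  obtain ⟨a, ha, b, hb, p, hp, p', -, w, hw, h1, h2, h3, -, h5, h6, h7⟩ := hyp7 hD (fun _ _ _ _ _ a b => Herm.exists_isHyp a (by omega))
    (let ⟨b, hb⟩ := s.exists_trace_eq (map_one σ); ⟨b, by simp [hb]⟩) h0 hn
  simp only [Form.mem_hp] at ha hb hp hw h3 h5 h6
  obtain ⟨ig, bg, ag⟩ := herm_tri hω h7 h1.1 h1.2 h1.3 h5.1 h5.2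
  have ba : D.B b a = 1 := by rw [B_symm, h1.3, map_one]
  have E : ∀ v z, D.Q v = 0 → D.B u v = 0 → D.B z v ≠ 0 → D.B u z = 0 → ∃ l : F, Is D (v + l • u) ∧ Commute c (τ (v + l • u)) :=
    fun v z qv e1 e2 e3 => by
      have iv : Is D v := ⟨fun e => e2 (by simp [e]), qv⟩
      have nv : ¬ ∃ l : F, v = l • u := fun ⟨l, e⟩ => e2 (by simp [e, D.eq_zero_symm e3])
      exact (um_one hD hU hd U hc dc hu iv cu ((U.mem_Dd hu iv).2 ⟨e1, nv⟩)).1.imp fun l e => ⟨(hu.add_smul iv e1 nv l).1, e⟩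
  have ug : D.B u (w + a + ω • b) = 0 := by simp [ha, hb, hw]
  have gp : D.B (w + a + ω • b) p = 0 := by simp [D.B_add_left, D.B_smul_left, h3, D.eq_zero_symm h6.1]
  have ga : D.B (w + a + ω • b) a = ω + 1 := by rw [B_symm, ag, F4.σω s hω]
  generalize w + a + ω • b = g at *
  obtain ⟨l1, i1, c1⟩ := E a b h1.1 ha.1 (by simp [ba]) hb.1
  obtain ⟨l2, i2, c2⟩ := E b a h1.2 hb.1 (by simp [h1.3]) ha.1
  obtain ⟨l3, i3, c3⟩ := E g b ig.2 ug (by simp [bg]) hb.1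
  obtain ⟨l4, -, c4⟩ := E (a + p) b (by rw [D.Q_add_of_B h3.1, h1.1, h2.1, add_zero]) (by simp [ha, hp]) (by simp [ba, h3]) hb.1
  have ip : Is D p := ⟨fun e => by simpa [e, D.B_zero_left] using h2.3, h2.1⟩
  have z : ∀ {x}, D.B u x = 0 → D.B x u = 0 := D.eq_zero_symm
  refine um_z hD hU hd U hc dc i1 i2 i3 c1 c2 c3 ?_ ?_ ?_ ?_ (hu.add_smul ip hp.1 (fun ⟨l, e⟩ => hu.1 ?_) (l4 - l1)).1 ?_ ?_ ?_
    (by convert c4 using 2; module)
  · simp [D.B_add_left, D.B_smul_left, ha, hb, hu.B, h1.3, z ha.1]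
  · simp [D.B_add_left, D.B_smul_left, ug, hu.B, bg, z hb.1]
  · simpa [D.B_add_left, D.B_smul_left, ha, hu.B, ga, z ug] using F4.ω1_ne hω
  · simpa [D.B_add_left, D.B_smul_left, ha, hu.B, ga, z ug] using F4.ω_ne hω
  · have := hp.2
    rw [e, D.B_smul_right, B_symm D u u', h0.3, map_one, mul_one] at this
    exact absurd (by simp [e, this]) ip.1
  · simp [D.B_add_left, D.B_smul_left, hp, hu.B, h3, z ha.1]
  · simp [D.B_add_left, D.B_smul_left, hp, hu.B, h3, z hb.1]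
  · simp [D.B_add_left, D.B_smul_left, hp, hu.B, gp, z ug]

theorem um_five : finrank F V ≠ 5 := fun hn => by
  obtain ⟨u, hu, cu⟩ := um_start h hd U hc dc
  obtain ⟨f, h0⟩ := hD.exists_isHyp hu.2 hu.1
  obtain ⟨ω, hω⟩ := F4.exists_omega s
  obtain ⟨a, ha, b, hb, w, hw, h1, h5, h7⟩ := hyp5 hD (fun _ _ _ _ _ a b => Herm.exists_isHyp a (by omega))
    (let ⟨b, hb⟩ := s.exists_trace_eq (map_one σ); ⟨b, by simp [hb]⟩) h0 hn.ge
  simp only [Form.mem_hp] at ha hb hw h5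
  have z : ∀ {x y}, D.B x y = 0 → D.B y x = 0 := D.eq_zero_symm
  have ia : Is D a := ⟨fun e => by simpa [e, D.B_zero_left] using h1.3, h1.1⟩
  have na : ¬ ∃ l : F, a = l • u := fun ⟨l, e⟩ => by simpa [e, D.B_smul_left, hb] using h1.3
  obtain ⟨l, c1⟩ := (um_one hD hU hd U hc dc hu ia cu ((U.mem_Dd hu ia).2 ⟨ha.1, na⟩)).1
  have i1 := hu.add_smul ia ha.1 na l
  have i2 := hu.add_smul i1.1 i1.2.1 i1.2.2 1
  have c2 : ¬ Commute c (τ (a + l • u + (1 : F) • u)) := fun e =>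
    one_ne_zero ((um_one hD hU hd U hc dc hu i1.1 cu ((U.mem_Dd hu i1.1).2 i1.2)).2 1 c1 e)
  have e1 : u + (a + l • u + (1 : F) • u) = a + l • u := by linear_combination (norm := module) vadd_self s u
  have tf : D.B (a + l • u + (1 : F) • u) (f + σ (l + 1) • b) = 0 := by
    simp [D.B_add_left, D.B_smul_left, h0.3, h1.3, hb, z ha.2]; linear_combination (σ l + 1) * F4.two s
  have tw : D.B (a + l • u + (1 : F) • u) w = 0 := by simp [D.B_add_left, D.B_smul_left, hw, h5]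
  have uf : D.B u (f + σ (l + 1) • b) = 1 := by simp [h0.3, hb]
  have qf : D.Q (f + σ (l + 1) • b) = 0 := by rw [D.Q_add_of_B (by simp [hb]), h0.2, D.Q_smul_of_Q h1.2, add_zero]
  have fw : D.B (f + σ (l + 1) • b) w = 0 := by simp [D.B_add_left, D.B_smul_left, hw, h5]
  generalize a + l • u + (1 : F) • u = t at *
  generalize f + σ (l + 1) • b = f at *
  obtain ⟨ig, bg, ag⟩ := herm_tri hω h7 hu.2 qf uf hw.1 fw
  have tg : D.B t (w + u + ω • f) = 0 := by simp [tw, tf, z i2.2.1]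
  generalize w + u + ω • f = g at *
  have E : ∀ v, D.Q v = 0 → D.B t v = 0 → D.B u v ≠ 0 → ∃ l : F, Is D (v + l • t) ∧ Commute c (τ (v + l • t)) := fun v qv e1 e2 => by
    have iv : Is D v := ⟨fun e => e2 (by simp [e]), qv⟩
    have nv : ¬ ∃ l : F, v = l • t := fun ⟨l, e⟩ => e2 (by simp [e, i2.2.1])
    exact (um_sqs hD h hd U hc dc hn.le i2.1 iv ((U.mem_Dd i2.1 iv).2 ⟨e1, nv⟩) c2).imp fun l e => ⟨(i2.1.add_smul iv e1 nv l).1, e⟩
  obtain ⟨l2, j2, d2⟩ := E f qf tf (by simp [uf])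
  obtain ⟨l3, j3, d3⟩ := E g ig.2 tg (by rw [ag]; exact F4.ω_ne hω)
  have gu : D.B g u = ω + 1 := by rw [B_symm, ag, F4.σω s hω]
  refine um_z hD hU hd U hc dc hu j2 j3 cu d2 d3 ?_ ?_ ?_ ?_ i2.1 i2.2.1 ?_ ?_ (e1 ▸ c1)
  · simp [uf, i2.2.1]
  · simp [D.B_add_left, D.B_smul_left, bg, tg, z tf, i2.1.B]
  · simpa [D.B_add_left, D.B_smul_left, gu, z i2.2.1] using F4.ω1_ne hω
  · simpa [D.B_add_left, D.B_smul_left, gu, z i2.2.1] using F4.ω_ne hω
  · simp [D.B_add_left, D.B_smul_left, z tf, i2.1.B]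
  · simp [D.B_add_left, D.B_smul_left, z tg, i2.1.B]

theorem um_four (hn : finrank F V = 4) {ω : F} (hω : ω * ω = ω + 1) {p q : V} (hp : Is D p) (hq : Is D q) (pq : τ q ∈ Dd (Dd Y d) (τ p))
    (n1 : ¬ Commute c (τ p)) (n2 : ¬ Commute c (τ q)) (n3 : ¬ Commute c (τ (q + p))) :
    Commute c (τ (q + ω • p)) ∧ Commute c (τ (q + (ω + 1) • p)) := by
  obtain ⟨a1, a2⟩ := (U.mem_Dd hp hq).1 pq
  have k : ∀ ω : F, ω * ω = ω + 1 → Commute c (τ (q + ω • p)) → Commute c (τ (q + (ω + 1) • p)) := fun ω hω e => by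
    have i := hp.add_smul hq a1 a2 ω
    obtain ⟨l, hl⟩ := (um_one hD hU hd U hc dc i.1 hp e (mem_Dd_comm (U.mem _ hp) ((U.mem_Dd hp i.1).2 i.2))).1
    by_cases l0 : l = 0
    · exact (n1 (by simpa [l0] using hl)).elim
    rw [show p + l • (q + ω • p) = l • (q + (ω + l⁻¹) • p) by
      linear_combination (norm := module) -mul_inv_cancel₀ l0 • p, U.smul (hp.add_smul hq a1 a2 _).1 l0] at hl
    rcases F4.cases s hω l⁻¹ with r | r | r | r <;> rw [r] at hl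
    · exact (l0 (inv_eq_zero.1 r)).elim
    · exact hl
    · exact (n2 (by simpa [F4.add_self s] using hl)).elim
    · exact (n3 (by simpa [← add_assoc, F4.add_self s] using hl)).elim
  obtain ⟨l, hl⟩ := um_sqs hD h hd U hc dc (by omega) hp hq pq n1
  rcases F4.cases s hω l with rfl | rfl | rfl | rfl
  · exact (n2 (by simpa using hl)).elim
  · exact (n3 (by simpa using hl)).elim
  · exact ⟨hl, k _ hω hl⟩
  · exact ⟨by simpa [add_assoc, F4.add_self s] using k (ω + 1) (by linear_combination hω + ω * F4.two s) hl, hl⟩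

end

theorem R3.six_of_tu (h : R3 Y) {n : ℕ} (hn : 4 ≤ n) (hU : ∀ y ∈ Y, TU' (Dd Y y) n) (g : ¬ TG Y) : n = 6 := by
  obtain ⟨d, a, e, x, y, z, N⟩ := h.tt.nt g
  obtain ⟨F, _, σ, s, τ, U⟩ := hU d N.hd
  have hD := stdHerm_nondeg s (Fin n)
  have h1 := um_seven hD h hU N.hd U N.ha N.pl.2.1
  have h2 := um_five hD h hU N.hd U N.ha N.pl.2.1
  simp only [finrank_fin_fun] at h1 h2
  by_contra
  obtain rfl : n = 4 := by omega
  obtain ⟨ω, hω⟩ := F4.exists_omega s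
  obtain ⟨p, hp, rfl⟩ := U.surj x N.hx
  obtain ⟨q, hq, rfl⟩ := U.surj y N.hy.1
  obtain ⟨r, hr, rfl⟩ := U.surj z N.hz.1.1
  obtain ⟨l, e1⟩ := U.gq hD (by simp) hp hq hr N.hy N.hz.1 ((U.comm_iff hq hr).1 N.hz.2.2)
  have l0 : l ≠ 0 := fun e => N.hz.2.1 (by simpa [e] using e1)
  have ip := hp.smul l0
  have e2 := U.smul hp l0
  have pq := e2 ▸ N.hy
  have k := fun c hc dc r => um_four hD h hU N.hd U (c := c) hc dc (by simp) hω ip hq pq (e2 ▸ (N.fr c r).1) (N.fr c r).2.1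
    (e1 ▸ (N.fr c r).2.2.1)
  have k1 := k a N.ha N.pl.2.1 (Or.inl rfl)
  have k2 := k e N.he N.pl.2.2.1 (Or.inr rfl)
  obtain ⟨a1, a2⟩ := (U.mem_Dd ip hq).1 pq
  have i1 := (ip.add_smul hq a1 a2 ω).1
  have i2 := (ip.add_smul hq a1 a2 (ω + 1)).1
  have m1 := U.mem _ i1
  have m2 := U.mem _ i2
  obtain ⟨E, _, ρ, s', τ', U'⟩ := hU _ m1.1
  exact N.pl.2.2.2 (U'.u4 (stdHerm_nondeg s' _) (by simp) ⟨m2.1, fun e => by simpa using U.line_inj ip hq pq e,
    (U.comm_iff i1 i2).2 (by simp [Form.B_add_left, Form.B_smul_left, hp.B, hq.B, (U.comm_iff hp hq).1 N.hy.2.2,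
      (U.comm_iff hq hp).1 N.hy.2.2.symm])⟩ ⟨N.ha, fun e => N.pl.2.1 (e ▸ m1.2.2), k1.1.symm⟩
    ⟨N.he, fun e => N.pl.2.2.1 (e ▸ m1.2.2), k2.1.symm⟩ (mem_Dd_comm N.hd m1) k1.2.symm k2.2.symm m2.2.2.symm N.ae N.pl.2.1 N.pl.2.2.1)

end Cfsg.Lib.Known2
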