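import Cfsg.Agent.Lib.Known2.F16
import Cfsg.Agent.Lib.Known2.FiC

/-! Fischer's theorem, XVII: the local type `T24`, and the end of the chain `M(22), M(23), M(24)`. -/

set_option autoImplicit false
set_option maxRecDepth 100000

namespace Cfsg.Lib.Known2

open Subgroup Cfsg.Lib.Comp Cfsg.Spor

universe u

variable {G : Type u} [Group G] [Finite G] {D X Y : Set G}

noncomputable def opsB : List ℕ := apd ops8 ops8
theorem blk5 : Nat.land (Nat.lor M2 M3) (orb Fi23.nets opsB (Nat.shiftLeft 1 19722)) = Nat.lor M2 M3 ∧ cnt M1 31671 0 = 1080 := by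
  decide +kernel

theorem L23.blocks (h : T23 Y) {γ : ℕ → G} {z : G} (l : L23 Y γ z) {E : Set G} (t : TT E) (h1 : E ⊆ Y) (h2 : ∀ y ∈ E, y ∉ Rs γ)
    (h3 : ∀ x ∈ L2, γ x ∈ E) : E.ncard = 1080 ∨ E.ncard = 3240 := by
  obtain ⟨s, -, H⟩ := l.pf h
  have a : ∀ p < 31671, s p ∈ E → M1.testBit p = true ∨ (Nat.lor M2 M3).testBit p = true := fun p hp hy => by
    have e := congrArg (fun a => Nat.testBit a p) blk3.1
    simp only [land_eq', Nat.testBit_and, testBit_ones, hp, decide_true, Bool.true_and] at e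
    rw [lor_eq', Nat.testBit_or, Bool.or_eq_true, lor_eq' M1, Nat.testBit_or, Bool.or_eq_true] at e
    exact e.resolve_right fun c => h2 _ hy (H.orb_conj (by decide +kernel) c).2
  have o : ∀ x ∈ L2, x ∈ L10 ∧ γ x ∈ E := fun x hx => ⟨by revert x; decide, h3 x hx⟩
  have b : ∀ p, M1.testBit p = true → s p ∈ E := fun p hp =>
    (H.orb_iff t (ops := ops8) (fun x hx => o x (by revert x; decide +kernel)) (H.pt 2 (by decide)).1 hp).2.2
      ((H.pt 2 (by decide)).2 ▸ h3 2 (by decide))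
  have c : ∀ p, (Nat.lor M2 M3).testBit p = true → (s p ∈ E ↔ s 19722 ∈ E) := fun p hp => by
    rw [← blk5.1, land_eq', Nat.testBit_and, Bool.and_eq_true] at hp
    exact (H.orb_iff t (ops := opsB) (fun x hx => o x (by revert x; decide +kernel)) (by decide) hp.2).2
  by_cases e : s 19722 ∈ E
  · refine Or.inr ((H.ncard h1 fun p hp => ?_).trans blk3.2)
    rw [lor_eq' M1, Nat.testBit_or, Bool.or_eq_true]
    exact ⟨a p hp, fun r => r.elim (b p) fun r => (c p r).2 e⟩
  · exact Or.inl ((H.ncard h1 fun p hp => ⟨fun r => (a p hp r).resolve_right fun q => e ((c p q).1 r), b p⟩).trans blk5.2)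

theorem T24.side (h : T24 D) (hD : closure D = ⊤) (hZ : center G = ⊥) :
    (∃ k F, Side X24 (1, -1) L24 D k F) ∧ IsOfTypeM24 G D := by
  obtain ⟨l, hl⟩ := h.1.ne
  obtain ⟨k, hk, hn⟩ := h.1.nc l hl
  have t := h.1.tt
  have hX := h.2 l hl
  obtain ⟨γ, z, L, c1, c2, c3⟩ := h.exists_l23 hl hk hn
  obtain ⟨F, fi, fl, fx⟩ := h.hom hD hZ hl hk hn L c1 c2
  have ctr : ∀ u : K24, Commute (1, -1) u := fun u => Prod.ext (by simp) (mul_comm _ _)
  have nrm : ∀ u, F u ∈ closure D := fun u => hD ▸ mem_top _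
  have a1 : Comp.cl γ L10 ≤ F.range := cl_le.2 fun x hx => ⟨_, fx x hx⟩
  have a2 : closure (Dd D l) ≤ F.range := (closure_le _).2 (L.gen hX.1 a1 (by
    rw [← inv_eq_of_mul_eq_one_right (eq_one_of_commute hD hZ (h.1.commute_all hl hk hn L.ctr
      (((commute_ev fun x hx => (L.mem x (by revert x; decide)).2.2.symm).pow_left _).mul_left L.base.2.2.symm)
      (((commute_ev fun x hx => (c1 x (by revert x; decide)).symm).pow_left _).mul_left c3.symm)))]
    exact a1 (inv_mem (pow_mem (ev_mem fun x hx => mem_cl (by revert x; decide)) _))))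
  have fc : ∀ u, F u * l * (F u)⁻¹ = l := fun u => by rw [← fl]; exact conj_eq_self_iff.2 ((ctr u).symm.map F)
  have img : F '' X24 = Dd D l := by
    ext y
    constructor
    · rintro ⟨_, hu, rfl⟩
      obtain ⟨u, rfl⟩ := isConj_iff.1 hu
      rw [map_mul, map_mul, map_inv, fx 1 (by decide), ← fc u, t.conj_Dd_iff (nrm u)]
      exact L.mem 1 (by decide)
    · intro hy
      obtain ⟨g, hg, rfl⟩ := hX.1.tr _ (L.mem 1 (by decide)) y hy
      obtain ⟨u, rfl⟩ := a2 hg
      exact ⟨_, isConj_iff.2 ⟨u, rfl⟩, by rw [map_mul, map_mul, map_inv, fx 1 (by decide)]⟩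
  have imR : F '' Rs κ24 = Rs γ := by
    have m := map_cl_of_gen (f := F) (L := [2,3,4,5,6,7,8,9,10]) fun x hx => fx x (by revert x; decide)
    ext y
    constructor
    · rintro ⟨_, ⟨u, hu, rfl⟩, rfl⟩
      exact ⟨F u, m ▸ mem_map_of_mem F hu, by rw [map_mul, map_mul, map_inv, fx 1 (by decide)]⟩
    · rintro ⟨g, hg, rfl⟩
      obtain ⟨u, hu, rfl⟩ := m.ge hg
      exact ⟨_, ⟨u, hu, rfl⟩, by rw [map_mul, map_mul, map_inv, fx 1 (by decide)]⟩
  set E := {x | x ∈ Dd D l ∧ Commute k x} with hE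
  have RX : Rs γ ⊆ Dd D l := by
    rintro _ ⟨u, hu, rfl⟩
    exact hX.1.tt.conj_mem (cl_le.2 (fun x hx => subset_closure (L.mem x (by revert x; decide))) hu) (L.mem 1 (by decide))
  have ER : E ⊆ Dd D l \ Rs γ := fun y hy => ⟨hy.1, by
    rintro ⟨u, hu, rfl⟩
    have := conj_eq_of_commute (commute_of_mem_closure (d := k) (by rintro _ ⟨x, hx, rfl⟩; exact c1 x hx) hu)
    exact c2 (commute_conj_conj_iff.1 (this.symm ▸ hy.2))⟩
  have n1 := Set.ncard_sdiff RX
  have n2 := L.le_ncard hX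
  have n3 := Set.ncard_le_ncard ER
  rw [hX.ncard] at n1
  obtain ⟨n4, n4'⟩ := double_count hl (m := E.ncard) (fun c hc hn' => by
    obtain ⟨g, hg, e1, rfl⟩ := h.1.tr_nc hl hl hk hc hn hn'
    rw [← Set.ncard_image_of_injective E (MulAut.conj g).injective]
    congr 1
    ext y
    constructor
    · intro hy
      refine ⟨g⁻¹ * y * g, ⟨?_, commute_conj_left_iff.1 hy.2⟩, by simp [mul_assoc]⟩
      rw [← t.conj_Dd_iff hg, e1]; simpa [mul_assoc] using hy.1
    · rintro ⟨x, hx, rfl⟩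
      exact ⟨e1 ▸ (t.conj_Dd_iff hg).2 hx.1, commute_conj_conj_iff.2 hx.2⟩) (fun x hx => (h.2 x hx).ncard)
    fun x hx => (hX.2 x hx).ncard
  have n5 := card_conj_orbit F k
  have eA : (Set.range fun u => F u * k * (F u)⁻¹) = {c | c ∈ D ∧ ¬ Commute l c} := by
    ext y
    constructor
    · rintro ⟨u, rfl⟩
      exact ⟨t.conj_mem (nrm u) hk, by rwa [← fc u, commute_conj_conj_iff]⟩
    · intro hy
      obtain ⟨g, hg, rfl⟩ := h.1.tnc l hl k hk y hy.1 hn hy.2
      obtain ⟨u, rfl⟩ : g ∈ F.range := (closure_le _).2 (fun y hy => by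
        by_cases e : y = l
        · exact ⟨_, e ▸ fl⟩
        · exact a2 (subset_closure ⟨hy.1, e, hy.2⟩)) hg
      exact ⟨u, rfl⟩
  rw [eA, Nat.card_prod, Comp.Fi23.main.2, Nat.card_eq_fintype_card (α := ℤˣ), Fintype.card_units_int] at n5
  have le1 : closure E ≤ ((centralizer {k}).comap F).map F := (closure_le _).2 fun y hy => by
    obtain ⟨u, -, rfl⟩ := img.ge hy.1
    exact ⟨u, mem_centralizer_singleton_iff.2 hy.2.symm, rfl⟩
  have n7 := card_le_of_le le1
  have n8 := card_map_of_injective (K := (centralizer {k}).comap F) fi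
  have n9 : Nat.card ((centralizer {k}).comap F) * (31671 * 28160) = 4089470473293004800 * 2 * E.ncard := by
    rw [← n5, show 31671 * 28160 = 31671 * (31671 - 1 - 3510) from rfl, ← n4]; ring
  have tE : TT E := by rw [hE, ← mu_eq hn]; exact t.mu l k
  have n10 : E.ncard = 3240 := (L.blocks hX tE (fun _ a => a.1) (fun y hy => (ER hy).2) fun x hx =>
      ⟨L.mem x (by revert x; decide), c1 x hx⟩).resolve_left fun e => by
    have := t.mod3 hl hk hn subset_rfl (fun s => t.conj l hl s) fun s => t.conj k hk s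
    rw [show {s | s ∈ D ∧ Commute l s ∧ Commute k s} = E from Set.ext fun y => ⟨fun a => ⟨⟨a.1, fun e => hn (e ▸ a.2.2).symm, a.2.1⟩,
      a.2.2⟩, fun a => ⟨a.1.1, a.1.2.2, a.2⟩⟩] at this
    rw [e] at n4
    omega
  have eE : E = Dd D l \ Rs γ := Set.eq_of_subset_of_ncard_le ER (by omega)
  obtain ⟨θ, S⟩ := L.s8 hX (E := E) (fun _ a => a.1) (fun y hy => (ER hy).2) n10 (by omega)
  have ty := S.quot
  have n6 := card_ge_of_type ty
  have eL : L24 = (centralizer {k}).comap F := map_injective fi (by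
    rw [L24, MonoidHom.map_closure, Set.image_sdiff fi, img, imR, ← eE]
    exact eq_of_le_of_card_ge le1 (by omega))
  refine ⟨⟨k, F, h.1, fl ▸ hl, hk, fl ▸ hn, fi, fl ▸ img, ctr, nrm, fun u => ?_⟩, hZ, l, hl, k, hk, hn,
    mkq_image (Dd D l) ▸ hX.qx.type hX.1.toVW.center_QX, ?_⟩
  · rw [eL, mem_comap, mem_centralizer_singleton_iff]; exact Commute.symm_iff
  · rw [hE, ← mu_eq hn] at ty; exact ty

theorem T24.iso (h : T24 D) (hD : closure D = ⊤) (hZ : center G = ⊥) :
    ∃ e : G ≃* Spor.Fi24, e '' D = conjugatesOf (Fi24.γ 12) := by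
  obtain ⟨k₁, F₁, S₁⟩ := (h.side hD hZ).1
  obtain ⟨P, Z, T, -⟩ := fi24_t24
  obtain ⟨k₂, F₂, S₂⟩ := (T.side P.grp.2.2 Z).1
  exact S₁.iso S₂ T.two hD P.grp.2.2 hZ Z

omit [Finite G] in
theorem Corr.t24 {K : Type*} [Group K] {Z : Set K} {ρ : G → K → Prop} (h : Corr X Z ρ) (H : T24 X) : T24 Z := ⟨h.r3 H.1, fun y hy => by
  obtain ⟨x, a⟩ := h.s₂ y hy
  exact (h.dd a).t23 (H.2 x (h.m _ _ a).1)⟩

/-- No product of an odd number of members of a class of type `M(24)` centralises the class. -/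
theorem T24.odd (h : T24 X) {w : List G} (hw : ∀ x ∈ w, x ∈ X) (c : ∀ y ∈ X, Commute w.prod y) : w.length % 2 = 0 := by
  obtain ⟨e, he⟩ := (((red_mkq h.1.tt.wt).corr h.1.toVW).t24 h).iso (closure_mkq X) h.1.toVW.center_QX
  have k : ∀ w : List G, (∀ x ∈ w, x ∈ X) → ∃ m : w.prod ∈ closure X,
      (e (QuotientGroup.mk ⟨_, m⟩) ∈ _root_.commutator Spor.Fi24 ↔ w.length % 2 = 0) := fun w hw => by
    induction w with
    | nil => exact ⟨one_mem _, iff_of_true (by exact (map_one e).symm ▸ one_mem _) rfl⟩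
    | cons x t ih =>
      obtain ⟨a, b⟩ := List.forall_mem_cons.1 hw
      obtain ⟨m, ih⟩ := ih b
      refine ⟨mul_mem (subset_closure a) m, ?_⟩
      obtain ⟨g, hg⟩ := isConj_iff.1 (he.le ⟨_, ⟨x, a, rfl⟩, rfl⟩)
      have n : e (QuotientGroup.mk ⟨x, subset_closure a⟩) ∉ _root_.commutator Spor.Fi24 := fun r => by
        rw [← mkq_coe, ← hg] at r
        exact Fi24.not_mem_comm (x := 12) (by decide) (by simpa [mul_assoc] using Normal.conj_mem inferInstance _ r g⁻¹)
      change e (QuotientGroup.mk (⟨x, subset_closure a⟩ * ⟨_, m⟩)) ∈ _ ↔ _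
      rw [QuotientGroup.mk_mul, map_mul, mul_mem_iff_of_index_two Fi24.comm_eq.2, ih, List.length_cons]
      simp only [n, false_iff]
      omega
  obtain ⟨m, hm⟩ := k w hw
  rw [← hm, mk_eq_one_iff'.2 c, map_one]
  exact one_mem _

theorem R3.not_t24 (h : R3 Y) (H : ∀ y ∈ Y, T24 (Dd Y y)) : False := by
  obtain ⟨d, hd⟩ := h.ne
  obtain ⟨l, hl⟩ := (H d hd).1.ne
  obtain ⟨γ, z, L⟩ := ((H d hd).2 l hl).exists_l23
  let w := (List.replicate 9 ([1,2,3,4,5,6,8].map γ)).flatten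
  have e : w.prod = ev γ [1,2,3,4,5,6,8] ^ 9 := by simp only [w, List.prod_flatten, List.map_replicate, List.prod_replicate]; rfl
  have hw : ∀ x ∈ w, ∃ i ∈ [1,2,3,4,5,6,8], γ i = x := fun x hx => by
    obtain ⟨_, a, b⟩ := List.mem_flatten.1 hx
    exact List.mem_map.1 (List.eq_of_mem_replicate a ▸ b)
  have len : w.length = 63 := by simp [w]
  have mZ : ∀ x ∈ w, x ∈ Dd (Dd Y d) l := fun x hx => by
    obtain ⟨i, hi, rfl⟩ := hw x hx
    exact L.mem i (by clear hx; revert i; decide)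
  have k : ∀ {d l}, d ∈ Y → l ∈ Dd Y d → (∀ x ∈ w, x ∈ Dd (Dd Y d) l) → (∀ y ∈ Dd (Dd Y d) l, Commute w.prod y) →
      ∀ y ∈ Dd Y d, Commute (w.prod * l) y := fun {d l} hd hl m c => by
    have T := H d hd
    obtain ⟨k, hk, hn⟩ := T.1.nc l hl
    have cl : Commute w.prod l := (Commute.list_prod_right _ _ fun x hx => (m x hx).2.2).symm
    refine T.1.center_two T.two hl hk hn (list_prod_mem fun x hx => Subgroup.subset_closure (m x hx).1) c cl fun r => ?_
    have := T.odd (fun x hx => (m x hx).1) (T.1.commute_all hl hk hn c cl r)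
    omega
  have c0 : ∀ y ∈ Dd (Dd Y d) l, Commute w.prod y := e ▸ L.rel ([1,2,3,4,5,6,8], 8) (by decide +kernel)
  have hd' := mem_Dd_comm hd hl
  have k1 := k hd hl mZ c0
  have k2 := k hl.1 hd' (Dd_comm Y ▸ mZ) (Dd_comm Y ▸ c0)
  obtain ⟨b, hb, hn⟩ := (H l hl.1).1.nc d hd'
  have cd : Commute w.prod d := (Commute.list_prod_right _ _ fun x hx => (mZ x hx).1.2.2).symm
  have k3 := h.commute_all (r := w.prod * l * d) hd hb.1 hn (fun y hy => (k1 y hy).mul_left hy.2.2)
    ((cd.mul_left hl.2.2.symm).mul_left (Commute.refl d)) (by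
      rw [mul_assoc, ← hl.2.2.eq, ← mul_assoc]; exact (k2 b hb).mul_left hb.2.2)
  have hm := L.mem 10 (by decide)
  have := (H _ hm.1.1).odd (w := w ++ [l, d]) (fun x hx => by
    rcases List.mem_append.1 hx with a | a
    · obtain ⟨i, hi, rfl⟩ := hw x a
      clear hx a
      exact L.cox.dd (L.mem i (by revert i; decide)).1.1 (by revert i; decide)
    · simp only [List.mem_cons, List.not_mem_nil, or_false] at a
      rcases a with rfl | rfl
      exacts [⟨hl.1, hm.2.1.symm, hm.2.2.symm⟩, mem_Dd_comm hd hm.1]) fun y hy => by simpa [mul_assoc] using k3 y hy.1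
  simp [len] at this

end Cfsg.Lib.Known2
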