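import Cfsg.Agent.Lib.Known2.F17

/-! Fischer's theorem, XVIII: the classification of rank 3 classes of 3-transpositions. -/

set_option autoImplicit false

namespace Cfsg.Lib.Known2

open Subgroup Cfsg.Lib.Forms

variable {G : Type*} [Group G] {D X Y : Set G}

theorem Symp.conj_set (h : Symp X) (g : G) : Symp ((fun x => g * x * g⁻¹) '' X) := by
  rintro _ ⟨a, ha, rfl⟩ _ ⟨b, hb, rfl⟩ _ ⟨x, hx, rfl⟩
  rw [show g * a * g⁻¹ * (g * b * g⁻¹) * (g * a * g⁻¹) = g * (a * b * a) * g⁻¹ by group]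
  simpa only [commute_conj_conj_iff] using h a ha b hb x hx

theorem VW.conj_corr (h : VW X) (g : G) : Corr X ((fun x => g * x * g⁻¹) '' X) fun x y => x ∈ X ∧ g * x * g⁻¹ = y :=
  (red_conj h.tt.wt g).corr h

/-- The list of rank 3 classes. -/
def FCls (Y : Set G) : Prop :=
  Symp Y ∨ (∃ n, 4 ≤ n ∧ TU' Y n) ∨ (TO3 Y ∧ ∀ y ∈ Y, R3 (Dd Y y)) ∨ T22 Y ∨ T23 Y ∨ T24 Y

theorem R3.cls [Finite G] (h : R3 Y) : FCls Y := by
  induction hn : Y.ncard using Nat.strong_induction_on generalizing Y with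
  | _ n ih =>
  obtain ⟨d, hd⟩ := h.ne
  rcases h.tri hd with ⟨y, hy, y', hy', ne, r⟩ | ⟨y, hy, y', hy', ne, r⟩ | r
  · exact Or.inl (h.symp_of_w2 (h.w2_of_w hd hy hy' ne r))
  · exact (h.v_cases hd hy hy' ne r).imp (fun ⟨_, _, _, S, _⟩ => S.symp) Or.inl
  have hR := h.all_dd (fun _ g a => a.conj_set g) hd r
  by_cases ns : Symp Y
  · exact Or.inl ns
  by_cases g : TG Y
  · exact Or.inr (Or.inr (Or.inl ⟨h.to3 g ns, hR⟩))
  rcases ih _ (hn ▸ Set.ncard_lt_ncard ⟨Dd_subset _ _, fun s => (s hd).2.1 rfl⟩) r rfl with c | ⟨m, hm, c⟩ | c | c | c | c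
  · exact (g (h.tg_of_symp (h.all_dd (fun _ g a => a.conj_set g) hd c) ns hR)).elim
  · have := h.all_dd (P := (TU' · m)) (fun _ g ⟨F, _, σ, s, τ, U⟩ => ⟨F, _, σ, s, _, U.conj_set g⟩) hd c
    obtain rfl := h.six_of_tu hm this g
    exact Or.inr (Or.inr (Or.inr (Or.inl ⟨h, this⟩)))
  · have := h.all_dd (P := fun X => R3 X ∧ TO3 X ∧ ∀ y ∈ X, R3 (Dd X y)) (fun _ g a => ⟨a.1.conj_set g,
      a.2.1.conj_set g (a.1.conj_set g).tt, by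
        rintro _ ⟨x, hx, rfl⟩; exact ((a.1.toVW.conj_corr g).dd ⟨hx, rfl⟩).r3 (a.2.2 x hx)⟩) hd ⟨r, c⟩
    exact (g (h.tg_of_to3 (fun y hy => (this y hy).2.1) hR fun y hy => (this y hy).2.2)).elim
  · exact Or.inr (Or.inr (Or.inr (Or.inr (Or.inl ⟨h, h.all_dd (fun _ g a => (a.1.toVW.conj_corr g).t22 a) hd c⟩))))
  · exact Or.inr (Or.inr (Or.inr (Or.inr (Or.inr ⟨h, h.all_dd (fun _ g a => (a.1.toVW.conj_corr g).t23 a) hd c⟩))))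
  · exact (h.not_t24 (h.all_dd (fun _ g a => (a.1.toVW.conj_corr g).t24 a) hd c)).elim

theorem TSp.not_r3 (T : TSp Y) (h : R3 Y) {d : G} (hd : d ∈ Y) (r : R3 (Dd Y d)) : False := by
  obtain ⟨n, B, v, S, H⟩ := T
  obtain ⟨y, hy⟩ := r.ne
  obtain ⟨z, hz, e⟩ := H (v y + v d) fun e => hy.2.1 (S.inj hy.1 hd (v2_eq.1 e))
  have c : ∀ x ∈ Dd Y d, Commute y x ↔ Commute z x := fun x hx => by
    rw [← S.comm hy.1 hx.1, ← S.comm hz hx.1, e, B.B_add_left, S.B0 hd hx.1 hx.2.2, add_zero]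
  have := r.rv y hy z ⟨hz, fun a => S.ne0 h hy.1 (by simpa [a] using e.symm), (S.comm hd hz).1 (by
    rw [e, B.B_add_right, S.B0 hd hy.1 hy.2.2, S.B0 hd hd (Commute.refl _), add_zero])⟩ c
  exact S.ne0 h hd (by simpa [← this] using e.symm)

theorem TU'.not_r3 {n : ℕ} (T : TU' Y n) {d : G} (hd : d ∈ Y) (r : R3 (Dd Y d)) : False := by
  obtain ⟨F, _, σ, s, τ, U⟩ := T
  obtain ⟨y, hy⟩ := r.ne
  obtain ⟨u, hu, rfl⟩ := U.surj d hd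
  obtain ⟨v, hv, rfl⟩ := U.surj y hy.1
  obtain ⟨a1, a2⟩ := (U.mem_Dd hu hv).1 hy
  have i := hu.add_smul hv a1 a2 1
  have m := (U.mem_Dd hu i.1).2 i.2
  have := r.rv _ hy _ m ((U.rv_iff (stdHerm_nondeg s _) hu hv i.1 hy m).2 ⟨1, rfl⟩)
  exact zero_ne_one (U.line_inj hu hv hy (l := 0) (m := 1) (by simpa using this))

theorem TSn.seven {m : ℕ} (T : TSn Y m) (hm : 5 ≤ m) {d : G} (hd : d ∈ Y) (r : R3 (Dd Y d)) : 7 ≤ m := by
  obtain ⟨s, S⟩ := T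
  have h5 : 5 ≤ Fintype.card (Fin m) := by simpa
  have dd : ∀ {i j k l : Fin m}, i ≠ j → k ≠ l → s k l ≠ s i j → Commute (s i j) (s k l) → i ≠ k ∧ i ≠ l ∧ j ≠ k ∧ j ≠ l :=
    fun a b c e => ((or_assoc.2 ((S.comm_iff a b).1 e)).resolve_left fun q => c ((S.eq_iff h5 a b).2 q).symm)
  obtain ⟨a, ha⟩ := r.ne
  obtain ⟨b, hb⟩ := r.dd a ha
  obtain ⟨e, he'⟩ := not_forall.1 fun q => hb.2.1 (r.rv _ ha _ hb.1 q).symm
  obtain ⟨he, q⟩ := Classical.not_imp.1 he'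
  obtain ⟨i, j, ij, rfl⟩ := S.surj d hd
  obtain ⟨k, l, kl, rfl⟩ := S.surj a ha.1
  obtain ⟨p, t, pt, rfl⟩ := S.surj b hb.1.1
  obtain ⟨x, y, xy, rfl⟩ := S.surj e he.1
  have a1 := dd ij kl ha.2.1 ha.2.2
  have a2 := dd ij pt hb.1.2.1 hb.1.2.2
  have a3 := dd kl pt hb.2.1 hb.2.2
  have a4 := dd ij xy he.2.1 he.2.2
  rw [S.comm_iff kl xy, S.comm_iff pt xy] at q
  obtain ⟨z, z1, z2⟩ : ∃ z, (i ≠ z ∧ j ≠ z) ∧ k ≠ z ∧ l ≠ z ∧ p ≠ z ∧ t ≠ z := by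
    by_contra! n
    have n1 := n x ⟨a4.1, a4.2.2.1⟩
    have n2 := n y ⟨a4.2.1, a4.2.2.2⟩
    clear * - n1 n2 q a3 kl pt xy
    grind
  simpa using List.Nodup.length_le_card (l := [i, j, k, l, p, t, z]) (by simp [ij, kl, pt, a1, a2, a3, z1, z2])

end Cfsg.Lib.Known2
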