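import Cfsg.Agent.Lib.Known2.F18

/-! Fischer's theorem, XIX: small cases and perfect groups. -/

set_option autoImplicit false

namespace Cfsg.Lib.Known2

open Subgroup Cfsg.Lib.Forms Module

variable {G K : Type*} [Group G] [Group K] {D X Y : Set G}

theorem two_of_center (hD : IsThreeTranspositionClass D) (hZ : center G = ⊥) : ∃ a ∈ D, ∃ b ∈ D, ¬ Commute a b := by
  by_contra! n
  obtain ⟨d, hd, -⟩ := hD.2.1
  exact (TT.of_class hD).ne_one hd (eq_one_of_commute hD.2.2 hZ (n d hd))

theorem s3_of_solvable (hD : IsThreeTranspositionClass D) (hZ : center G = ⊥) [IsSimpleGroup (_root_.commutator G)]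
    (hs : Group.IsSolvable (_root_.commutator G)) : ∃ e : G ≃* Equiv.Perm (Fin 3), e '' D = {σ | σ.IsSwap} := by
  have t := TT.of_class hD
  obtain ⟨a, ha, b, hb, n⟩ := two_of_center hD hZ
  have m : ∀ c ∈ D, c * a ∈ _root_.commutator G := fun c hc => by
    obtain ⟨g, rfl⟩ := class_trans hD ha hc
    have := commutator_mem_commutator (mem_top g) (mem_top a)
    rwa [commutatorElement_def, t.inv ha] at this
  have cm := IsSimpleGroup.comm_iff_isSolvable.2 hs
  have z : zpowers (⟨_, m b hb⟩ : _root_.commutator G) = ⊤ :=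
    (IsSimpleGroup.eq_bot_or_eq_top_of_normal _ ⟨fun x hx g => by rwa [cm g, mul_inv_cancel_right]⟩).resolve_left fun e => n (by
      rw [← t.inv ha, ← eq_inv_of_mul_eq_one_left (congrArg Subtype.val (zpowers_eq_bot.1 e))])
  have c3 : ∀ c ∈ D, c = a ∨ c = b ∨ c = a * b * a := fun c hc => by
    classical
    have o : orderOf (⟨_, m b hb⟩ : _root_.commutator G) = 3 := by
      rw [← orderOf_coe]; exact tt_orderOf_mul t.1 hb ha fun e => n e.symm
    obtain ⟨k, hk, e⟩ := Finset.mem_image.1 ((IsOfFinOrder.mem_zpowers_iff_mem_range_orderOf (orderOf_pos_iff.1 (by rw [o]; decide))).1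
      (z ▸ mem_top (⟨_, m c hc⟩ : _root_.commutator G)))
    have e : (b * a) ^ k * a = c := by rw [show (b * a) ^ k = c * a from congrArg Subtype.val e, t.cancel' ha]
    rw [o, Finset.mem_range] at hk
    interval_cases k
    · exact Or.inl (by simpa using e.symm)
    · exact Or.inr (Or.inl (by rw [← e, pow_one, t.cancel' ha]))
    · exact Or.inr (Or.inr (by rw [← e, t.braid ha hb n, _root_.sq, ← mul_assoc, t.cancel' ha]))
  have n1 : a ≠ b := fun e => n (e ▸ Commute.refl _)
  have n2 : a ≠ a * b * a := fun e => t.not_commute_third ha n (e ▸ Commute.refl _)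
  have n3 : b ≠ a * b * a := fun e => t.not_commute_third' ha hb n (e ▸ Commute.refl _)
  refine (Corr.of_param (P := fun _ : Fin 3 => True) (s := ![a, b, a * b * a]) (t := ![Equiv.swap 0 1, Equiv.swap 1 2, Equiv.swap 0 2])
    t (sn_swap (Fin 3)).tt (fun x => ⟨fun hx => ?_, ?_⟩)
    (by simp only [Set.mem_ofPred_eq, Equiv.Perm.IsSwap]; decide) (fun i j _ _ => ?_) fun i j _ _ => ?_).iso hD.2.2 hZ
    Equiv.Perm.closure_isSwap (eq_bot_iff.2 fun g hg => (by decide : ∀ g : Equiv.Perm (Fin 3), (∀ k, k * g = g * k) → g = 1) g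
      (mem_center_iff.1 hg))
  · rcases c3 x hx with rfl | rfl | rfl
    exacts [⟨0, trivial, rfl⟩, ⟨1, trivial, rfl⟩, ⟨2, trivial, rfl⟩]
  · rintro ⟨i, -, rfl⟩; fin_cases i
    exacts [ha, hb, t.conj a ha b hb]
  · fin_cases i <;> fin_cases j <;> simp [n1, n2, n3, n1.symm, n2.symm, n3.symm] <;> decide
  · fin_cases i <;> fin_cases j
    exacts [⟨0, trivial, (t.cancel' ha a).symm, by decide⟩, ⟨2, trivial, rfl, by decide⟩, ⟨1, trivial, (t.conj_conj ha b).symm, by decide⟩,
      ⟨2, trivial, t.braid ha hb n, by decide⟩, ⟨1, trivial, (t.cancel' hb b).symm, by decide⟩,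
      ⟨0, trivial, ((congrArg (b * · * b) (t.braid ha hb n)).trans (t.conj_conj hb a)).symm, by decide⟩,
      ⟨1, trivial, (t.swap_third ha hb n).symm, by decide⟩,
      ⟨0, trivial, by have := t.swap_third hb ha fun e => n e.symm; rw [← t.braid ha hb n] at this; exact this.symm, by decide⟩,
      ⟨2, trivial, (t.cancel' (t.conj a ha b hb) _).symm, by decide⟩]

theorem prim_of_simple' [Finite G] (hD : IsThreeTranspositionClass D) (hZ : center G = ⊥) (hs : IsSimpleGroup (_root_.commutator G))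
    (hn : ¬ Group.IsSolvable (_root_.commutator G)) : Prim D := by
  obtain ⟨a, ha, b, hb, n⟩ := two_of_center hD hZ
  have h2 : ∃ a ∈ D, ∃ b ∈ D, a ≠ b := ⟨a, ha, b, hb, fun e => n (e ▸ Commute.refl _)⟩
  exact ⟨hD, prim_of_simple hD h2 hs hn, wide_of_not_central hD h2 (pCore_central_of_simple hD hs hn Nat.prime_three)⟩

theorem no_sign (hp : _root_.commutator G = ⊤) (e : G ≃* K) (φ : K →* ℤˣ) (k : K) : φ k = 1 := by
  have : e.symm k ∈ (φ.comp e.toMonoidHom).ker := Abelianization.commutator_subset_ker _ (hp ▸ mem_top _)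
  simpa using this

theorem TO2.not_perfect (T : TO2 Y) (h : R3 Y) (h1 : closure Y = ⊤) (h2 : center G = ⊥) (hp : _root_.commutator G = ⊤) : False := by
  rcases T.iso h h1 h2 with ⟨m, hm, e, -⟩ | ⟨m, hm, e, -⟩
  · have : Nontrivial (Fin m ⊕ Fin m → ZMod 2) := Module.nontrivial_of_finrank_pos (R := ZMod 2) (by simp; omega)
    obtain ⟨k, hk⟩ := (fPlus_nondeg (F := ZMod 2) m).dickson_surjective (-1)
    exact absurd (no_sign hp (e.trans (oIso _ fPlus_Q)) _ k ▸ hk) (by decide)
  · obtain ⟨k, hk⟩ := (fMinus_nondeg (F := ZMod 2) m (a := 1) (b := 1) (by decide)).dickson_surjective (-1)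
    exact absurd (no_sign hp (e.trans (oIso _ (fMinus_Q 1 1))) _ k ▸ hk) (by decide)

theorem TO3.pomega (T : TO3 Y) (h1 : closure Y = ⊤) (h2 : center G = ⊥) (hp : _root_.commutator G = ⊤) :
    ∃ m, Nonempty (G ≃* POmega (ZMod 3) (quadFormOdd m (ZMod 3))) := by
  obtain ⟨n, B, τ, hn, O⟩ := T
  obtain ⟨ρ, C⟩ := O.corr
  obtain ⟨e, -⟩ := C.isoQ h1 h2
  have hB := O.nd
  have R := rg_RX hB (by simpa) (c := 1) one_ne_zero
  obtain ⟨m, rfl | rfl⟩ := n.even_or_odd'
  · obtain ⟨_, ⟨v, hv, rfl⟩, -⟩ := R.two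
    have := no_sign hp e (QuotientGroup.lift _ ((Form.dickson hB).comp (closure (RX B 1)).subtype) fun g hg => by
      obtain ⟨p, q, hpq⟩ := Quad.exists_isHyp hB (by simp; omega)
      obtain ⟨t, ht⟩ := hpq.exists_smul_of_comm hB (Or.inr (by simp; omega)) g.1 fun e z d k => congrArg Subtype.val
        (mem_center_iff.1 hg ⟨_, R.le (hB.eich_mem_commutator (Form.good_of_two_ne_zero (by decide)) e z d k)⟩).symm
      rcases z3_cases t with rfl | rfl | rfl
      · exact absurd (g.1.1.injective ((ht p).trans (by simp))) (fun e : p = 0 => by simpa [e] using hpq.3)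
      · rw [show g = 1 from Subtype.ext (Subtype.ext (LinearEquiv.ext fun x => by simpa using ht x))]; exact one_mem _
      · have : g.1 = B.negOne := Subtype.ext (LinearEquiv.ext fun x => by rw [ht, Form.negOne_apply, ← neg_one_smul (ZMod 3)]; rfl)
        simp [this, Form.dickson_negOne hB (by decide)]) (QuotientGroup.mk ⟨_, subset_closure ⟨v, hv, rfl⟩⟩)
    exact absurd ((Form.dickson_refl hB (hv ▸ one_ne_zero)).symm.trans this) (by decide)
  · obtain ⟨e1⟩ := R.pomega
    obtain ⟨t, ht, f, hf⟩ := Quad.exists_iso_qsmul hB (fOdd_nondeg (F := ZMod 3) (by decide) m) (m := m) (by simp) (finrank_odd m)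
    exact ⟨m, ⟨(topEquiv.symm.trans (MulEquiv.subgroupCongr hp.symm)).trans ((commutatorCongr e).trans (e1.trans
      ((Linear.quotientCenterCongr (commutatorCongr ((MulEquiv.subgroupCongr (Form.isom_qsmul ht).symm).trans
        (Form.isomCongr f hf)))).trans (pOmegaIso _ fOdd_Q).symm)))⟩⟩

end Cfsg.Lib.Known2
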