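import Cfsg.Agent.Lib.Known2.F1
import Cfsg.Agent.Lib.Max.Inv2M

/-! Fischer's theorem, II: forms from Gram matrices, isomorphisms from correspondences. -/

set_option autoImplicit false

namespace Cfsg.Lib.Known2

open Subgroup Cfsg.Lib.Forms Module

section Gram
variable {F : Type*} [Field F] {σ : F →+* F} {K : Kind σ}

theorem gram0 {V : Type*} [AddCommGroup V] [Module F V] [FiniteDimensional F V] (D0 : Form K V) :
    ∃ (n : ℕ) (D : Form K (Fin n → F)) (π : V →ₗ[F] (Fin n → F)), D.Nondeg ∧ Function.Surjective π ∧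
      ∀ x y, D.B (π x) (π y) = D0.B x y := by
  obtain ⟨C, hC⟩ := (D0.perp ⊤).exists_isCompl
  let e := (Module.finBasis F C).equivFun
  let p := Submodule.projectionOnto C _ hC.symm
  have hp : ∀ x, x - p x ∈ D0.perp ⊤ := fun x => by
    obtain ⟨a, ha, b, hb, rfl⟩ := Submodule.mem_sup.1 (hC.symm.sup_eq_top ▸ Submodule.mem_top (x := x))
    simpa [p, Submodule.projectionOnto_apply_of_mem_left _ ha, Submodule.projectionOnto_apply_of_mem_right _ hb] using hb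
  refine ⟨_, (D0.restrict C).comap e.symm, e.toLinearMap ∘ₗ p, ?_, e.surjective.comp fun c => ⟨c, by simp [p]⟩, fun x y => ?_⟩
  · exact Form.IsIsometry.nondeg (D0.nondeg_restrict_of_isCompl_rad hC) (e := e) ⟨by simp, by simp⟩
  · have h1 := (D0.mem_perp.1 (hp y)) (p x) trivial
    have h2 := (D0.mem_perp'.1 (hp x)) y trivial
    rw [D0.B_sub_right] at h1
    rw [D0.B_sub_left] at h2
    simp only [LinearMap.comp_apply, Form.comap_B, LinearEquiv.coe_coe, LinearEquiv.symm_apply_apply, Form.restrict_B]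
    linear_combination -h1 - h2

variable {G : Type*} [Finite G]

/-- A Gram matrix on `Y` realised by spanning vectors of a non-degenerate space. -/
theorem gram (Y : Set G) (M : G → G → F) (hM : ∀ x ∈ Y, ∀ y ∈ Y, M y x = K.ε * σ (M x y))
    (mk : ∀ [Fintype Y] (B : (Y → F) →ₛₗ[σ] (Y → F) →ₗ[F] F), (∀ x y, B x y = ∑ i, ∑ j, σ (x i) * y j * M i j) →
      (∀ x y, B y x = K.ε * σ (B x y)) → ∃ D : Form K (Y → F), D.B = B) :
    ∃ (n : ℕ) (D : Form K (Fin n → F)) (v : G → Fin n → F), D.Nondeg ∧ Submodule.span F (v '' Y) = ⊤ ∧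
      ∀ x ∈ Y, ∀ y ∈ Y, D.B (v x) (v y) = M x y := by
  classical
  have := Fintype.ofFinite Y
  let B := Matrix.toLinearMapₛₗ₂' F σ (RingHom.id F) (Matrix.of fun i j : Y => M i j)
  have hB : ∀ x y, B x y = ∑ i, ∑ j, σ (x i) * y j * M i j := fun x y => by
    simp [B, Matrix.toLinearMapₛₗ₂'_apply, mul_assoc]
  obtain ⟨D0, h0⟩ := mk B hB fun x y => by
    rw [hB, hB, Finset.sum_comm, map_sum, Finset.mul_sum]
    refine Finset.sum_congr rfl fun i _ => ?_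
    rw [map_sum, Finset.mul_sum]
    refine Finset.sum_congr rfl fun j _ => ?_
    rw [hM i i.2 j j.2, map_mul, map_mul, K.σσ]; ring
  obtain ⟨n, D, π, h1, h2, h3⟩ := gram0 D0
  refine ⟨n, D, fun x => if h : x ∈ Y then π (Pi.single ⟨x, h⟩ 1) else 0, h1, eq_top_iff.2 fun u _ => ?_, fun x hx y hy => ?_⟩
  · obtain ⟨f, rfl⟩ := h2 u
    rw [pi_eq_sum_univ' f, map_sum]
    refine Submodule.sum_mem _ fun i _ => ?_
    rw [map_smul]
    exact Submodule.smul_mem _ _ (Submodule.subset_span ⟨i, i.2, by simp⟩)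
  · simp only [hx, hy, dif_pos, h3, h0, B, Matrix.toLinearMapₛₗ₂'_single, Matrix.of_apply]

theorem gramAlt (Y : Set G) (M : G → G → ZMod 2) (hM : ∀ x ∈ Y, ∀ y ∈ Y, M y x = M x y) (h0 : ∀ x ∈ Y, M x x = 0) :
    ∃ (n : ℕ) (D : Form (altKind (ZMod 2)) (Fin n → ZMod 2)) (v : G → Fin n → ZMod 2), D.Nondeg ∧
      Submodule.span (ZMod 2) (v '' Y) = ⊤ ∧ ∀ x ∈ Y, ∀ y ∈ Y, D.B (v x) (v y) = M x y := by
  refine gram Y M (fun x hx y hy => by simp [hM x hx y hy]) fun B h1 h2 => ⟨ofAlt B fun x => ?_, rfl⟩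
  classical
  induction x using Pi.single_induction with
  | zero => simp
  | add x y hx hy => simp [hx, hy, h2 x y, CharTwo.add_self_eq_zero]
  | single i c => simp [h1, Pi.single_apply, h0 i i.2]

theorem gramQ3 (Y : Set G) (M : G → G → ZMod 3) (hM : ∀ x ∈ Y, ∀ y ∈ Y, M y x = M x y) :
    ∃ (n : ℕ) (D : Form (quadKind (ZMod 3)) (Fin n → ZMod 3)) (v : G → Fin n → ZMod 3), D.Nondeg ∧
      Submodule.span (ZMod 3) (v '' Y) = ⊤ ∧ ∀ x ∈ Y, ∀ y ∈ Y, D.B (v x) (v y) = M x y := by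
  refine gram Y M (fun x hx y hy => by simp [hM x hx y hy, quadKind]) fun B h1 h2 =>
    ⟨ofSymm ((2 : ZMod 3) • B) fun x y => by simp [h2 x y, quadKind], ?_⟩
  ext x y
  simp only [ofSymm, smul_smul, show (2 * 2 : ZMod 3) = 1 from rfl, one_smul]

theorem gramH (h : IsConj σ 2) (Y : Set G) (M : G → G → F) (hM : ∀ x ∈ Y, ∀ y ∈ Y, M y x = σ (M x y)) :
    ∃ (n : ℕ) (D : Form h.kind (Fin n → F)) (v : G → Fin n → F), D.Nondeg ∧
      Submodule.span F (v '' Y) = ⊤ ∧ ∀ x ∈ Y, ∀ y ∈ Y, D.B (v x) (v y) = M x y := by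
  refine gram Y M (fun x hx y hy => by simp [hM x hx y hy]) fun B h1 h2 =>
    ⟨ofHerm _ (Or.inl h.ne_id) B ⟨fun x y => by simp [h2 x y]⟩, rfl⟩

end Gram

variable {G H : Type*} [Group G] [Group H] {X Y : Set G} {Z : Set H}

theorem qx_top' (h : closure X = ⊤) (hZ : center G = ⊥) : ∃ e : QX X ≃* G, ∀ x, e (mkq X x) = x := by
  let e : closure X ≃* G := (MulEquiv.subgroupCongr h).trans topEquiv
  exact ⟨(Linear.quotientCenterCongr e).trans ((QuotientGroup.quotientMulEquivOfEq hZ).trans QuotientGroup.quotientBot),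
    fun x => by rw [show x = (⟨x, h ▸ mem_top x⟩ : closure X) from rfl, mkq_coe]; rfl⟩

theorem Corr.isoQ {ρ : G → H → Prop} (C : Corr X Z ρ) (h : closure X = ⊤) (hZ : center G = ⊥) :
    ∃ e : G ≃* QX Z, e '' X = mkq Z '' Z := by
  obtain ⟨φ, hφ⟩ := C.quot
  obtain ⟨e, he⟩ := qx_top' h hZ
  have k : ∀ x y, ρ x y → (e.symm.trans φ) x = mkq Z y := fun x y r => by
    rw [← hφ x y r, MulEquiv.trans_apply, e.symm_apply_eq.2 (he x).symm]
  refine ⟨e.symm.trans φ, Set.ext fun z => ⟨?_, ?_⟩⟩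
  · rintro ⟨x, hx, rfl⟩; obtain ⟨y, r⟩ := C.s₁ x hx; exact ⟨y, (C.m x y r).2, (k x y r).symm⟩
  · rintro ⟨y, hy, rfl⟩; obtain ⟨x, r⟩ := C.s₂ y hy; exact ⟨x, (C.m x y r).1, k x y r⟩

theorem Corr.iso {ρ : G → H → Prop} (C : Corr X Z ρ) (h : closure X = ⊤) (hZ : center G = ⊥)
    (h' : closure Z = ⊤) (hZ' : center H = ⊥) : ∃ e : G ≃* H, e '' X = Z := by
  obtain ⟨φ, hφ⟩ := C.isoQ h hZ
  obtain ⟨e, he⟩ := qx_top' h' hZ'
  refine ⟨φ.trans e, ?_⟩
  rw [MulEquiv.coe_trans, Set.image_comp, hφ, Set.image_image]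
  simp [he]

/-- A correspondence given by two parametrisations. -/
theorem Corr.of_param {ι : Type*} {P : ι → Prop} {s : ι → G} {t : ι → H} (hX : TT X) (hZ : TT Z)
    (h1 : ∀ x, x ∈ X ↔ ∃ i, P i ∧ s i = x) (h2 : ∀ y, y ∈ Z ↔ ∃ i, P i ∧ t i = y)
    (e : ∀ i j, P i → P j → (s i = s j ↔ t i = t j))
    (c : ∀ i j, P i → P j → ∃ k, P k ∧ s k = s i * s j * s i ∧ t k = t i * t j * t i) :
    Corr X Z fun x y => ∃ i, P i ∧ s i = x ∧ t i = y := by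
  refine ⟨hX, hZ, ?_, fun x hx => ?_, fun y hy => ?_, ?_, ?_⟩
  · rintro _ _ ⟨i, hi, rfl, rfl⟩; exact ⟨(h1 _).2 ⟨i, hi, rfl⟩, (h2 _).2 ⟨i, hi, rfl⟩⟩
  · obtain ⟨i, hi, rfl⟩ := (h1 x).1 hx; exact ⟨_, i, hi, rfl, rfl⟩
  · obtain ⟨i, hi, rfl⟩ := (h2 y).1 hy; exact ⟨_, i, hi, rfl, rfl⟩
  · rintro _ _ _ _ ⟨i, hi, rfl, rfl⟩ ⟨j, hj, rfl, rfl⟩; exact e i j hi hj
  · rintro _ _ _ _ ⟨i, hi, rfl, rfl⟩ ⟨j, hj, rfl, rfl⟩; exact c i j hi hj

end Cfsg.Lib.Known2
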