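import Cfsg.Agent.Lib.Known2.F19

/-! Disconnected commuting graphs, I: the components. -/

set_option autoImplicit false

namespace Cfsg.Lib.Known2

open Subgroup Cfsg.Lib.Comp
open scoped commutatorElement

variable {G : Type*} [Group G] {D X Y : Set G}

/-- `y` moves every member of `X` to a different commuting member. -/
def YT (X : Set G) (y : G) : Prop := y ∈ closure X ∧ y * y = 1 ∧ ∀ c ∈ X, y * c * y⁻¹ ∈ Dd X c
/-- The orbits of `w` on `X` are lines. -/
def ZT (X : Set G) (w : G) : Prop := w ∈ closure X ∧ w ^ 3 = 1 ∧ ∀ c ∈ X, ¬ Commute c (w * c * w⁻¹) ∧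
  w * w * c * (w * w)⁻¹ = c * (w * c * w⁻¹) * c

structure Tri (D : Set G) (L : Subgroup G) : Prop where
  cls : IsThreeTranspositionClass D
  nrm : L.Normal
  simple : IsSimpleGroup L
  nsol : ¬ Group.IsSolvable L
  cen : ∀ g, (∀ x ∈ L, Commute g x) → g = 1
  mul : ∀ a ∈ D, ∀ b ∈ D, Commute a b → a * b ∈ L
  ne : ∀ d ∈ D, ∃ e ∈ D, e * d ∉ L

def Cp (D : Set G) (L : Subgroup G) (d : G) : Set G := {c | c ∈ D ∧ c * d ∈ L}

namespace Tri
variable {L : Subgroup G} (T : Tri D L) {d : G} (hd : d ∈ D)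
include T

theorem tt : TT D := TT.of_class T.cls
theorem symm {a b : G} (ha : a ∈ D) (hb : b ∈ D) (h : a * b ∈ L) : b * a ∈ L := by
  simpa [T.tt.inv ha, T.tt.inv hb] using inv_mem h
theorem trans {a b c : G} (hb : b ∈ D) (h : a * b ∈ L) (h' : b * c ∈ L) : a * c ∈ L := by
  have := mul_mem h h'
  rwa [mul_assoc, T.tt.cancel hb] at this
theorem conj {a b : G} (g : G) (h : a * b ∈ L) : g * a * g⁻¹ * (g * b * g⁻¹) ∈ L := by
  simpa [mul_assoc] using T.nrm.conj_mem _ h g
theorem cmem (g : G) {a : G} (ha : a ∈ D) : g * a * g⁻¹ ∈ D := (group_of_class T.cls).2.1 g a ha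

include hd
theorem self : d ∈ Cp D L d := ⟨hd, by rw [T.tt.sq hd]; exact one_mem _⟩
theorem pair {a b : G} (ha : a ∈ Cp D L d) (hb : b ∈ Cp D L d) : a * b ∈ L := T.trans hd ha.2 (T.symm hb.1 hd hb.2)
theorem ctt : TT (Cp D L d) := T.tt.mono (fun _ a => a.1) fun a ha b hb =>
  ⟨T.tt.conj a ha.1 b hb.1, by rw [mul_assoc (a * b)]; exact mul_mem (T.pair hd ha hb) ha.2⟩
theorem orb {g : G} (hg : g ∈ L) : g * d * g⁻¹ ∈ Cp D L d := ⟨T.cmem g hd, by
  have := mul_mem hg (T.nrm.conj_mem _ (inv_mem hg) d)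
  rwa [T.tt.inv hd, ← mul_assoc, ← mul_assoc] at this⟩
omit hd in
theorem nc {e c : G} (he : e ∈ D) (n : e * d ∉ L) (hc : c ∈ Cp D L d) : ¬ Commute e c :=
  fun a => n (T.trans hc.1 (T.mul e he c hc.1 a) hc.2)

theorem le_orb : L ≤ closure {y | ∃ g ∈ L, g * d * g⁻¹ = y} := by
  let K := closure {y | ∃ g ∈ L, g * d * g⁻¹ = y}
  have : (K.subgroupOf L).Normal := ⟨fun x hx g => by
    have : K.map (MulAut.conj g.1).toMonoidHom ≤ K := by
      rw [MonoidHom.map_closure, closure_le]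
      rintro _ ⟨_, ⟨k, hk, rfl⟩, rfl⟩
      exact subset_closure ⟨g * k, mul_mem g.2 hk, by simp [mul_assoc]⟩
    exact this ⟨x, hx, rfl⟩⟩
  have := T.simple
  refine subgroupOf_eq_top.1 ((IsSimpleGroup.eq_bot_or_eq_top_of_normal (K.subgroupOf L) ‹_›).resolve_left fun e => ?_)
  refine T.tt.ne_one hd (T.cen d fun g hg => (conj_eq_self_iff.1 ?_).symm)
  have : (⟨_, (T.orb hd hg).2⟩ : L) ∈ K.subgroupOf L :=
    K.mul_mem (Subgroup.subset_closure ⟨g, hg, rfl⟩) (Subgroup.subset_closure ⟨1, one_mem _, by simp⟩)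
  rw [e, mem_bot, Subtype.ext_iff] at this
  exact (eq_inv_of_mul_eq_one_left this).trans (T.tt.inv hd)

theorem le : L ≤ closure (Cp D L d) := (T.le_orb hd).trans (closure_mono fun _ ⟨_, hg, e⟩ => e ▸ T.orb hd hg)

theorem cen' {g : G} (h : ∀ c ∈ Cp D L d, Commute g c) : g = 1 := T.cen g fun _ hx => commute_of_mem_closure h (T.le hd hx)

theorem tr {c : G} (hc : c ∈ Cp D L d) : ∃ g ∈ L, g * d * g⁻¹ = c := by
  by_cases h : ∀ g ∈ L, Commute c (g * d * g⁻¹)
  · exact (T.tt.ne_one hc.1 (T.cen c fun x hx => commute_of_mem_closure (by rintro _ ⟨g, hg, rfl⟩; exact h g hg) (T.le_orb hd hx))).elim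
  push Not at h
  obtain ⟨g, hg, n⟩ := h
  have m := T.orb hd hg
  refine ⟨g * d * g⁻¹ * c * g, mul_mem (T.pair hd m hc) hg, ?_⟩
  have := T.tt.conj_conj m.1 c
  rw [← T.tt.braid hc.1 m.1 n] at this
  rw [← conj_conj', mul_inv_rev (_ * _ * _), T.tt.inv m.1, T.tt.inv hc.1]
  simpa only [mul_assoc] using this

theorem par {g : G} (hg : g ∈ closure (Cp D L d)) : g ∈ L ∨ g * d ∈ L := by
  induction hg using closure_induction'' with
  | mem g hg => exact Or.inr hg.2
  | inv_mem g hg => exact Or.inr (by rw [T.tt.inv hg.1]; exact hg.2)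
  | one => exact Or.inl (one_mem _)
  | mul a b _ _ ha hb =>
    rcases ha with ha | ha <;> rcases hb with hb | hb
    · exact Or.inl (mul_mem ha hb)
    · exact Or.inr (mul_assoc a b d ▸ mul_mem ha hb)
    · have := mul_mem ha (T.nrm.conj_mem _ hb d)
      exact Or.inr (by rwa [T.tt.inv hd, ← mul_assoc, ← mul_assoc, T.tt.cancel' hd] at this)
    · have := mul_mem ha (T.nrm.conj_mem _ hb d)
      exact Or.inl (by rwa [T.tt.inv hd, ← mul_assoc, ← mul_assoc, T.tt.cancel' hd, ← mul_assoc, T.tt.cancel' hd] at this)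

theorem comm_eq : (_root_.commutator (closure (Cp D L d))).map (closure (Cp D L d)).subtype = L := by
  have := T.nrm
  have := T.simple
  rw [map_subtype_commutator]
  refine le_antisymm (commutator_le.2 fun a ha b hb => ?_) ?_
  · have k : ∀ g ∈ closure (Cp D L d), (QuotientGroup.mk g : G ⧸ L) ∈ zpowers (QuotientGroup.mk d : G ⧸ L) := fun g hg => by
      rcases T.par hd hg with e | e
      · rw [(QuotientGroup.eq_one_iff g).2 e]; exact one_mem _
      · rw [eq_inv_of_mul_eq_one_left (show (QuotientGroup.mk g : G ⧸ L) * QuotientGroup.mk d = 1 from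
          (QuotientGroup.eq_one_iff _).2 e)]
        exact inv_mem (mem_zpowers _)
    rw [← QuotientGroup.eq_one_iff, ← QuotientGroup.mk'_apply, map_commutatorElement, commutatorElement_eq_one_iff_mul_comm]
    obtain ⟨i, hi⟩ := k a ha
    obtain ⟨j, hj⟩ := k b hb
    rw [QuotientGroup.mk'_apply, QuotientGroup.mk'_apply, ← hi, ← hj]
    exact zpow_mul_comm _ i j
  · have : _root_.commutator L = ⊤ := (IsSimpleGroup.eq_bot_or_eq_top_of_normal _ inferInstance).resolve_left fun e =>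
      T.nsol (IsSimpleGroup.comm_iff_isSolvable.1 fun a b => commutatorElement_eq_one_iff_mul_comm.1
        (mem_bot.1 (e ▸ commutator_mem_commutator (mem_top a) (mem_top b))))
    have e := map_subtype_commutator L
    rw [this, ← MonoidHom.range_eq_map, range_subtype] at e
    exact e.le.trans (commutator_mono (T.le hd) (T.le hd))

theorem prim [Finite G] : Prim ((↑) ⁻¹' Cp D L d : Set (closure (Cp D L d))) ∧ center (closure (Cp D L d)) = ⊥ := by
  have := T.simple
  refine prim_of_min ((T.ctt hd).sub_class ⟨d, T.self hd⟩ fun a ha b hb => ?_) (fun M hM n => ?_) fun s => T.nsol ?_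
  · obtain ⟨g, hg, rfl⟩ := T.tr hd ha
    obtain ⟨k, hk, rfl⟩ := T.tr hd hb
    exact ⟨k * g⁻¹, T.le hd (mul_mem hk (inv_mem hg)), by group⟩
  · let i := inclusion (T.le hd)
    rcases IsSimpleGroup.eq_bot_or_eq_top_of_normal (M.comap i) inferInstance with e | e
    · refine (n (eq_bot_iff.2 fun m hm => Subtype.ext (T.cen _ fun x hx => commutatorElement_eq_one_iff_commute.1 ?_))).elim
      have h1 : ⁅m.1, x⁆ ∈ L := mul_mem (T.nrm.conj_mem _ hx _) (inv_mem hx)
      have h2 : (⟨_, h1⟩ : L) ∈ M.comap i := by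
        have := mul_mem hm (hM.conj_mem _ (inv_mem hm) ⟨x, T.le hd hx⟩)
        rwa [← mul_assoc, ← mul_assoc] at this
      rw [e, mem_bot, Subtype.ext_iff] at h2
      exact h2
    · intro g hg
      exact (e.ge (mem_top ⟨g.1, (T.comm_eq hd).le ⟨g, hg, rfl⟩⟩) :)
  · exact Group.isSolvable_of_isSolvable_injective (inclusion_injective (T.le hd))

theorem r3 [Finite G] : R3 (Cp D L d) := by
  have h := (T.prim hd).1.r3
  have := (corr_of_map h.tt Subtype.val (fun x hx => ⟨T.tt.sq hx.1, T.tt.ne_one hx.1⟩) (fun _ _ _ _ => rfl)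
    Subtype.val_injective.injOn).r3 h
  rwa [Set.image_preimage_eq_of_subset fun x hx => ⟨⟨x, subset_closure hx⟩, rfl⟩] at this

theorem yt {e f : G} (he : e ∈ D) (hf : f ∈ Dd D e) (n : e * d ∉ L) : YT (Cp D L d) (e * f) := by
  have m := T.mul e he f hf.1 hf.2.2
  have n' : f * d ∉ L := fun a => n (T.trans hf.1 m a)
  refine ⟨T.le hd m, by rw [← _root_.sq, T.tt.sq_mul he hf.1 hf.2.2], fun c hc => ?_⟩
  have a1 : ¬ Commute c e := fun a => T.nc he n hc a.symm
  have a2 : ¬ Commute c f := fun a => T.nc hf.1 n' hc a.symm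
  have q : e * f * c * (e * f)⁻¹ = e * (f * c * f) * e := by simp [T.tt.inv he, T.tt.inv hf.1, mul_assoc]
  refine ⟨(T.ctt hd).conj_mem (T.le hd m) hc, fun a => ?_, q ▸ T.tt.s4b he hc.1 hf.1 hf.2.2 a1 a2⟩
  refine T.tt.s4_ne he hc.1 hf.1 hf.2.1.symm a1 a2 ?_
  rw [← a, q, T.tt.conj_conj he]
  rw [q] at a; rw [a]

theorem zt {e f : G} (he : e ∈ D) (hf : f ∈ D) (ef : ¬ Commute e f) (m : e * f ∈ L) (n : e * d ∉ L) : ZT (Cp D L d) (e * f) := by
  refine ⟨T.le hd m, T.tt.cube he hf ef, fun c hc => ?_⟩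
  have a1 : ¬ Commute c e := fun a => T.nc he n hc a.symm
  have a2 : ¬ Commute c f := fun a => T.nc hf (fun a => n (T.trans hf m a)) hc a.symm
  have a3 : ¬ Commute c (e * f * e) := fun a => T.nc (T.tt.conj e he f hf) (fun a => n (by
    simpa [mul_assoc] using mul_mem (inv_mem m) a)) hc a.symm
  have q : e * f * (e * f) * c * (e * f * (e * f))⁻¹ = c * (e * f * c * (e * f)⁻¹) * c := by
    simpa [T.tt.inv he, T.tt.inv hf, mul_assoc] using
      T.tt.plw hc.1 he hf a1 a2 ef a3 [1,2,1,2,0,2,1,2,1] [0,1,2,0,2,1,0] (by decide +kernel)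
  refine ⟨fun a => a1 (T.tt.fix3 hc.1 he hf ef (conj_eq_self_iff.1 ?_)).1.symm, q⟩
  rw [(T.tt.conj_eq_iff hc.1).2 a] at q
  simpa [mul_assoc] using congrArg (fun x => (e * f)⁻¹ * x * (e * f)) q

theorem odd {w : List G} (hw : ∀ x ∈ w, x ∈ Cp D L d) (c : ∀ y ∈ Cp D L d, Commute w.prod y) : w.length % 2 = 0 := by
  have k : ∀ w : List G, (∀ x ∈ w, x ∈ Cp D L d) → w.prod * d ^ w.length ∈ L := fun w hw => by
    induction w with
    | nil => simp
    | cons x t ih =>
      obtain ⟨a, b⟩ := List.forall_mem_cons.1 hw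
      have := mul_mem a.2 (T.nrm.conj_mem _ (ih b) d)
      rwa [T.tt.inv hd, ← mul_assoc, ← mul_assoc, T.tt.cancel' hd, ← mul_assoc, mul_assoc _ _ d, ← pow_succ] at this
  have := k w hw
  rw [T.cen' hd c, one_mul, pow_eq_pow_mod _ (show d ^ 2 = 1 by rw [_root_.sq, T.tt.sq hd])] at this
  refine (Nat.mod_two_eq_zero_or_one _).resolve_right fun e => ?_
  rw [e, pow_one] at this
  obtain ⟨e, he, n⟩ := T.ne d hd
  obtain ⟨g, rfl⟩ := class_trans T.cls hd he
  exact n (mul_mem (T.nrm.conj_mem _ this g) this)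

end Tri

end Cfsg.Lib.Known2
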