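import Cfsg.Agent.Lib.Known2.F20

/-! Disconnected commuting graphs, II: excluded types. -/

set_option autoImplicit false
set_option maxRecDepth 100000

namespace Cfsg.Lib.Known2

open Subgroup Cfsg.Lib.Comp

variable {G : Type*} [Group G] {D X Y : Set G} {y w : G}

theorem YT.inv (h : YT X y) (c : G) : y * (y * c * y⁻¹) * y⁻¹ = c := by rw [conj_conj', h.2.1]; simp

theorem TSn.not_yt {m : ℕ} (T : TSn X m) (hm : 5 ≤ m) (h : YT X y) : False := by
  obtain ⟨s, S⟩ := T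
  have h5 : 5 ≤ Fintype.card (Fin m) := by simpa
  have im : ∀ {i j}, i ≠ j → ∃ k l, k ≠ l ∧ s k l = y * s i j * y⁻¹ ∧ i ≠ k ∧ i ≠ l ∧ j ≠ k ∧ j ≠ l := fun {i j} a => by
    obtain ⟨b1, b2, b3⟩ := h.2.2 _ (S.mem a)
    obtain ⟨k, l, kl, e⟩ := S.surj _ b1
    rw [← e] at b2 b3
    exact ⟨k, l, kl, e, (or_assoc.2 ((S.comm_iff a kl).1 b3)).resolve_left fun q => b2 ((S.eq_iff h5 a kl).2 q).symm⟩
  obtain ⟨i, j, ij⟩ : ∃ i j : Fin m, i ≠ j := ⟨⟨0, by omega⟩, ⟨1, by omega⟩, by simp⟩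
  obtain ⟨k, l, kl, e1, a1⟩ := im ij
  obtain ⟨p, a2⟩ := exists_not_mem4 h5 i j k l
  have e0 : s i j = y * s k l * y⁻¹ := by rw [e1, h.inv]
  obtain ⟨k1, l1, kl1, e2, a3⟩ := im a1.1
  obtain ⟨k2, l2, kl2, e3, a4⟩ := im a1.2.1
  obtain ⟨k3, l3, kl3, e4, a5⟩ := im a2.1.symm
  have c : ∀ {a b c d a' b' c' d'}, a ≠ b → c ≠ d → a' ≠ b' → c' ≠ d' → s a' b' = y * s a b * y⁻¹ → s c' d' = y * s c d * y⁻¹ →
      ((a = c ∧ b = d) ∨ (a = d ∧ b = c) ∨ (a ≠ c ∧ a ≠ d ∧ b ≠ c ∧ b ≠ d) ↔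
        (a' = c' ∧ b' = d') ∨ (a' = d' ∧ b' = c') ∨ (a' ≠ c' ∧ a' ≠ d' ∧ b' ≠ c' ∧ b' ≠ d')) := fun a b c d e f => by
    rw [← S.comm_iff a b, ← S.comm_iff c d, e, f, commute_conj_conj_iff]
  have := c ij a1.1 kl kl1 e1 e2
  have := c kl a1.1 ij kl1 e0 e2
  have := c ij a1.2.1 kl kl2 e1 e3
  have := c kl a1.2.1 ij kl2 e0 e3
  have := c ij a2.1.symm kl kl3 e1 e4
  have := c kl a2.1.symm ij kl3 e0 e4
  have := c a1.1 a2.1.symm kl1 kl3 e2 e4
  have := c a1.2.1 a2.1.symm kl2 kl3 e3 e4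
  clear c im e0 e1 e2 e3 e4 S h h5
  grind

theorem R3.not_vc [Finite G] (r : R3 X) (v : VC X) (h : YT X y) : False := by
  obtain ⟨a, ha⟩ := r.ne
  have hb := h.2.2 a ha
  have k : ∀ z ∈ Ln X a (y * a * y⁻¹), y * z * y⁻¹ ∈ Ln X a (y * a * y⁻¹) := fun z hz => by
    simpa only [h.inv] using Ln.symm (r.tt.ln_conj h.1 hz)
  have i : ∀ {p q}, y * p * y⁻¹ = q → p = y * q * y⁻¹ := fun e => by rw [← e, h.inv]
  obtain ⟨t, ht, t1, t2⟩ := v a ha _ hb
  obtain ⟨e, he, e1, e2, e3, e4, e5⟩ := r.five v ha hb ht (k t ht) t1 t2 (fun q => t2 (i q)) (fun q => t1 (by simpa using q))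
    (h.2.2 t ht.1).2.1
  rcases e5 _ (k e he) with q | q | q | q | q
  exacts [e2 (i q), e1 (by simpa using q), e4 (i q), e3 (by simpa using q), (h.2.2 e he.1).2.1 q]

theorem not_odd9 {γ : ℕ → G} (m : ∀ x ∈ [1,2,3,4,5,6,8], γ x ∈ X) (c : ∀ y ∈ X, Commute (ev γ [1,2,3,4,5,6,8] ^ (8 + 1)) y)
    (o : ∀ {w : List G}, (∀ x ∈ w, x ∈ X) → (∀ y ∈ X, Commute w.prod y) → w.length % 2 = 0) : False := by
  have := o (w := (List.replicate 9 ([1,2,3,4,5,6,8].map γ)).flatten) (fun x hx => by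
    obtain ⟨_, a, b⟩ := List.mem_flatten.1 hx
    obtain ⟨i, hi, rfl⟩ := List.mem_map.1 (List.eq_of_mem_replicate a ▸ b)
    exact m i hi) (by simp only [List.prod_flatten, List.map_replicate, List.prod_replicate]; exact c)
  simp at this

theorem T24.mu [Finite G] (h : T24 D) {l k : G} (hl : l ∈ D) (hk : k ∈ D) (hn : ¬ Commute l k) :
    (Dd D l ∩ Dd D k).ncard = 3240 ∧ D.ncard = 306936 := by
  have t := h.1.tt
  have hX := h.2 l hl
  obtain ⟨γ, z, L, c1, c2, c3⟩ := h.exists_l23 hl hk hn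
  obtain ⟨n4, n5⟩ := double_count hl (fun c hc => h.1.ncard_mu hl hk hn hc) (fun x hx => (h.2 x hx).ncard)
    fun x hx => (hX.2 x hx).ncard
  have m := t.mod3 hl hk hn subset_rfl (fun s => t.conj l hl s) fun s => t.conj k hk s
  rw [show {s | s ∈ D ∧ Commute l s ∧ Commute k s} = {x | x ∈ Dd D l ∧ Commute k x} from Set.ext fun y =>
    ⟨fun a => ⟨⟨a.1, fun e => hn (e ▸ a.2.2).symm, a.2.1⟩, a.2.2⟩, fun a => ⟨a.1.1, a.1.2.2, a.2⟩⟩] at m
  have := L.blocks hX (mu_eq hn ▸ t.mu l k) (fun _ a => a.1) (fun y hy => by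
    rintro ⟨u, hu, rfl⟩
    have := conj_eq_of_commute (commute_of_mem_closure (d := k) (by rintro _ ⟨x, hx, rfl⟩; exact c1 x hx) hu)
    exact c2 (commute_conj_conj_iff.1 (this.symm ▸ hy.2))) fun x hx => And.intro (L.mem x (by revert x; decide)) (c1 x hx)
  rw [mu_eq hn]
  rcases this with e | e <;> rw [e] at n4 m ⊢ <;> omega

theorem trace_int {ι : Type*} [Fintype ι] [DecidableEq ι] {M : Matrix ι ι ℂ} (h : M ^ 4 = M) : IsIntegral ℤ M.trace := by
  rw [Matrix.trace_eq_sum_roots_charpoly]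
  refine IsIntegral.multiset_sum fun r hr => ?_
  have := spectrum.subset_polynomial_aeval M (Polynomial.X ^ 4 - Polynomial.X)
    ⟨r, Matrix.mem_spectrum_iff_isRoot_charpoly.2 (Polynomial.isRoot_of_mem_roots hr), rfl⟩
  cases isEmpty_or_nonempty ι
  · simp [Matrix.charpoly_isEmpty] at hr
  simp only [map_sub, map_pow, Polynomial.aeval_X, h, sub_self, spectrum.zero_eq, Set.mem_singleton_iff] at this
  exact ⟨Polynomial.X ^ 4 - Polynomial.X, by monicity!, by simpa using this⟩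

omit [Group G] in
open Classical in
theorem sum_ind [Finite G] [Fintype X] (p : G → Prop) : ∑ x : X, (if p x then (1 : ℂ) else 0) = ({x | x ∈ X ∧ p x}.ncard : ℂ) := by
  rw [Finset.sum_boole, ← Set.ncard_coe_finset, ← Set.ncard_image_of_injective _ Subtype.val_injective]
  congr 2; ext x; simp [and_comm]

theorem T24.not_zt [Finite G] (h : T24 X) (z : ZT X w) : False := by
  classical
  have := Fintype.ofFinite X
  have t := h.1.tt
  obtain ⟨l, hl⟩ := h.1.ne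
  obtain ⟨k, hk, hn⟩ := h.1.nc l hl
  have n0 : (Fintype.card X : ℂ) = 306936 := by rw [← Nat.card_eq_fintype_card, Nat.card_coe_set_eq, (h.mu hl hk hn).2]; rfl
  let σ : Equiv.Perm X := ⟨fun x => ⟨_, t.conj_mem z.1 x.2⟩, fun x => ⟨_, t.conj_mem (inv_mem z.1) x.2⟩,
    fun x => Subtype.ext (by simp [mul_assoc]), fun x => Subtype.ext (by simp [mul_assoc])⟩
  let A : Matrix X X ℂ := Matrix.of fun a b => if b.1 ∈ Dd X a then 1 else 0
  let J : Matrix X X ℂ := Matrix.of fun _ _ => 1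
  let P : Matrix X X ℂ := σ.toPEquiv.toMatrix
  have sy : ∀ a b : X, a.1 ∈ Dd X b ↔ b.1 ∈ Dd X a := fun a b => ⟨mem_Dd_comm b.2, mem_Dd_comm a.2⟩
  have k0 : ∀ a : X, ∑ x : X, (if x.1 ∈ Dd X a then (1 : ℂ) else 0) = 31671 := fun a => by
    rw [sum_ind (· ∈ Dd X a), show {x | x ∈ X ∧ x ∈ Dd X a} = Dd X a from Set.ext fun x => ⟨(·.2), fun h => ⟨h.1, h⟩⟩,
      (h.2 a a.2).ncard]; rfl
  have aj : A * J = (31671 : ℂ) • J := by ext a b; simpa [A, J, Matrix.mul_apply] using k0 a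
  have ja : J * A = (31671 : ℂ) • J := by ext a b; simpa [A, J, Matrix.mul_apply, sy b] using k0 b
  have jj : J * J = (306936 : ℂ) • J := by ext a b; simpa [J, Matrix.mul_apply] using n0
  have aa : A * A = (28431 : ℂ) • 1 + (270 : ℂ) • A + (3240 : ℂ) • J := by
    ext a b
    have : (A * A) a b = ((Dd X a ∩ Dd X b).ncard : ℂ) := by
      rw [show Dd X a ∩ Dd X b = {x | x ∈ X ∧ x ∈ Dd X a ∧ x ∈ Dd X b} from Set.ext fun x => ⟨fun h => ⟨h.1.1, h⟩, (·.2)⟩,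
        ← sum_ind]
      simp only [A, Matrix.mul_apply, Matrix.of_apply, sy b]
      exact Finset.sum_congr rfl fun x _ => by by_cases x.1 ∈ Dd X a <;> by_cases x.1 ∈ Dd X b <;> simp [*]
    rw [this]
    by_cases e : a = b
    · subst e; simp [A, J, (h.2 a a.2).ncard, show a.1 ∉ Dd X a from fun c => c.2.1 rfl]; norm_num
    by_cases c : Commute a.1 b.1
    · have m : b.1 ∈ Dd X a := ⟨b.2, fun q => e (Subtype.ext q.symm), c⟩
      rw [show Dd X a ∩ Dd X b = Dd (Dd X a) b from Set.ext fun x => ⟨fun q => ⟨q.1, q.2.2⟩, fun q => ⟨q.1, q.1.1, q.2⟩⟩,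
        ((h.2 a a.2).2 b m).ncard]
      simp [A, J, e, m]; norm_num
    · rw [(h.mu a.2 b.2 c).1]; simp [A, J, e, show b.1 ∉ Dd X a from fun q => c q.2.2]
  let E := (1 / 432 : ℂ) • A + (81 / 432 : ℂ) • (1 : Matrix X X ℂ) - (31752 / (432 * 306936) : ℂ) • J
  have ee : E * E = E := by
    simp only [E, add_mul, mul_add, sub_mul, mul_sub, smul_mul_assoc, mul_smul_comm, aa, aj, ja, jj, mul_one, one_mul]
    match_scalars <;> norm_num
  have pe : P * E = E * P := by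
    rw [PEquiv.toMatrix_toPEquiv_mul, PEquiv.mul_toMatrix_toPEquiv]
    ext a b
    obtain ⟨b, rfl⟩ := σ.surjective b
    simp [E, A, J, Matrix.one_apply, show (σ b).1 ∈ Dd X (σ a) ↔ b.1 ∈ Dd X a from t.conj_Dd_iff z.1]
  have p3 : P ^ 3 = 1 := by
    have : σ.trans (σ.trans σ) = Equiv.refl _ := Equiv.ext fun x => Subtype.ext (by
      have := z.2.1
      change w * (w * (w * x * w⁻¹) * w⁻¹) * w⁻¹ = x
      rw [conj_conj', conj_conj', ← pow_three', this]; simp)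
    simp only [pow_three, P, ← PEquiv.toMatrix_trans, ← Equiv.toPEquiv_trans, this, Equiv.toPEquiv_refl, PEquiv.toMatrix_refl]
  have := trace_int (M := P * E) (by
    rw [(show Commute P E from pe).mul_pow, pow_succ P, p3, one_mul, (show IsIdempotentElem E from ee).pow_succ_eq])
  have tr : (P * E).trace = algebraMap ℚ ℂ (-147 / 2) := by
    rw [PEquiv.toMatrix_toPEquiv_mul, Matrix.trace, Finset.sum_congr rfl (g := fun _ => -(31752 / (432 * 306936) : ℂ)) fun a _ => ?_]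
    · rw [Finset.sum_const, Finset.card_univ, nsmul_eq_mul, n0]; simp; norm_num
    · have n := (z.2.2 a a.2).1
      simp [E, A, J, show σ a ≠ a from fun q => n (by rw [show w * a * w⁻¹ = a from congrArg Subtype.val q]),
        show a.1 ∉ Dd X (σ a) from fun q => n q.2.2.symm]
  rw [tr, isIntegral_algebraMap_iff (algebraMap ℚ ℂ).injective, IsIntegrallyClosed.isIntegral_iff] at this
  obtain ⟨m, hm⟩ := this
  have : (2 * m : ℚ) = -147 := by simp at hm; linarith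
  norm_cast at this
  omega

end Cfsg.Lib.Known2
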