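import Cfsg.Agent.Lib.Known2.F21

/-! Disconnected commuting graphs, III: linear algebra. -/

set_option autoImplicit false

namespace Cfsg.Lib.Known2

open Cfsg.Lib.Forms Module

universe u

section
variable {F V : Type*} [Field F] [AddCommGroup V] [Module F V] [FiniteDimensional F V]

theorem halve {ι : Type*} [Fintype ι] (T S : ι → End F V) (I : End F V) (hT : ∀ i, T i * T i = T i) (c : ∀ i j, T i * T j = T j * T i)
    (cI : ∀ i, T i * I = I * T i) (hS : ∀ i, Function.Injective (S i)) (sw : ∀ i, S i * T i = (1 - T i) * S i)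
    (sc : ∀ i j, i ≠ j → T j * S i = S i * T j) (ev : ∀ W : Submodule F V, (∀ x ∈ W, I x ∈ W) → 2 ∣ finrank F W) :
    2 ^ (Fintype.card ι + 1) ∣ finrank F V := by
  classical
  let W : Finset ι → Submodule F V := fun A => ⨅ i ∈ A, LinearMap.ker (T i)
  have mem : ∀ A x, x ∈ W A ↔ ∀ i ∈ A, T i x = 0 := fun A x => by simp [W]
  have pr : ∀ {A} {R : End F V} {x}, (∀ j ∈ A, T j * R = R * T j) → x ∈ W A → R x ∈ W A := fun {A R x} h hx =>
    (mem _ _).2 fun j hj => by rw [← End.mul_apply, h j hj, End.mul_apply, (mem _ _).1 hx j hj, map_zero]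
  have k : ∀ A, finrank F V = 2 ^ A.card * finrank F (W A) := fun A => by
    induction A using Finset.induction_on with
    | empty => rw [show W ∅ = ⊤ from eq_top_iff.2 fun x _ => (mem _ _).2 (by simp)]; simp
    | insert i A hi ih =>
      have le : ∀ {P Q : Submodule F V}, (∀ x ∈ P, S i x ∈ Q) → finrank F P ≤ finrank F Q := fun {P Q} h =>
        LinearMap.finrank_le_finrank_of_injective (f := (S i).restrict h) fun x y e => Subtype.ext (hS i (congrArg Subtype.val e))
      have s1 : ∀ x ∈ W A, S i x ∈ W A := fun x => pr fun j hj => sc i j fun e => hi (e ▸ hj)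
      have s2 : ∀ x, S i (T i x) = S i x - T i (S i x) := fun x => by simpa using congrArg (· x) (sw i)
      have t2 : ∀ x, T i (T i x) = T i x := fun x => congrArg (· x) (hT i)
      have e1 : W (insert i A) = W A ⊓ LinearMap.ker (T i) := Submodule.ext fun x => by simp [mem, and_comm]
      have := Submodule.finrank_sup_add_finrank_inf_eq (W A ⊓ LinearMap.ker (T i)) (W A ⊓ LinearMap.ker (1 - T i))
      rw [show W A ⊓ LinearMap.ker (T i) ⊔ W A ⊓ LinearMap.ker (1 - T i) = W A from le_antisymm (by simp) fun x hx =>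
          Submodule.mem_sup.2 ⟨x - T i x, Submodule.mem_inf.2 ⟨sub_mem hx (pr (fun j _ => c j i) hx), by simp [t2]⟩, T i x,
            Submodule.mem_inf.2 ⟨pr (fun j _ => c j i) hx, by simp [t2]⟩, by simp⟩,
        show W A ⊓ LinearMap.ker (T i) ⊓ (W A ⊓ LinearMap.ker (1 - T i)) = ⊥ from eq_bot_iff.2 fun x hx => by
          simpa [show T i x = 0 from hx.1.2] using hx.2.2, finrank_bot,
        ← le_antisymm (le (P := W A ⊓ LinearMap.ker (T i)) (Q := W A ⊓ LinearMap.ker (1 - T i)) fun x hx => ⟨s1 x hx.1, by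
          simp [← s2, show T i x = 0 from hx.2]⟩) (le fun x hx => ⟨s1 x hx.1, by
          have := s2 x
          rw [show T i x = x from (sub_eq_zero.1 hx.2).symm] at this
          exact sub_eq_self.1 this.symm⟩)] at this
      rw [ih, Finset.card_insert_of_notMem hi, e1, pow_succ, mul_assoc]
      congr 1; omega
  rw [k Finset.univ, pow_succ]
  exact Nat.mul_dvd_mul_left _ (ev _ fun x => pr fun j _ => cI j)

theorem half_ker {N : End F V} (h : N * N = 0) : finrank F V ≤ 2 * finrank F (LinearMap.ker N) := by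
  have := N.finrank_range_add_finrank_ker
  have := Submodule.finrank_mono (LinearMap.range_le_ker_iff.2 h)
  omega

theorem cliff {ι : Type*} [Fintype ι] (J : Fin 2 ⊕ ι × Fin 2 → End F V) (h2 : (2 : F) ≠ 0) (sq : ∀ i, J i * J i = -1)
    (ac : ∀ i j, i ≠ j → J i * J j = -(J j * J i)) (ev : ∀ W : Submodule F V, (∀ x ∈ W, J (.inl 0) x ∈ W) → 2 ∣ finrank F W) :
    2 ^ (Fintype.card ι + 1) ∣ finrank F V := by
  have c2 : ∀ a b c, a ≠ b → a ≠ c → Commute (J a) (J b * J c) := fun a b c h1 h2 => by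
    rw [Commute, SemiconjBy, ← mul_assoc, ac a b h1, neg_mul, mul_assoc, ac a c h2, mul_neg, neg_neg, mul_assoc]
  have s2 : ∀ a b, a ≠ b → J a * J b * (J a * J b) = -1 := fun a b h => by
    rw [mul_assoc, ← mul_assoc (J b), ac b a h.symm, neg_mul, mul_assoc, sq, mul_neg_one, neg_neg, sq]
  let A := fun i => J (.inl 0) * (J (.inr (i, 0)) * J (.inr (i, 1)))
  have a0 : ∀ i, Commute (J (.inl 0)) (A i) := fun i => (Commute.refl _).mul_right (c2 _ _ _ (by simp) (by simp))
  have a1 : ∀ i, A i * A i = 1 := fun i => by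
    rw [mul_assoc, ← mul_assoc (_ * _), ← (c2 (.inl 0) _ _ (by simp) (by simp)).eq, mul_assoc, s2 _ _ (by simp), ← mul_assoc, sq]; simp
  have a2 : ∀ i j, Commute (A i) (A j) := fun i j => by
    by_cases e : i = j
    · rw [e]
    exact (a0 j).mul_left ((c2 _ _ _ (by simp) (by simp)).symm.mul_right ((c2 _ _ _ (by simp [e]) (by simp [e])).mul_left
      (c2 _ _ _ (by simp [e]) (by simp [e]))))
  have t : ∀ {i} {R : End F V}, Commute (A i) R → (2 : F)⁻¹ • (1 + A i) * R = R * (2 : F)⁻¹ • (1 + A i) := fun h =>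
    (((Commute.one_left _).add_left h).smul_left _).eq
  refine halve (fun i => (2 : F)⁻¹ • (1 + A i)) (fun i => J (.inr (i, 0)) * J (.inl 1)) (J (.inl 0)) (fun i => ?_)
    (fun i j => t (((Commute.one_right _).add_right (a2 i j)).smul_right _)) (fun i => t (a0 i).symm) (fun i => ?_) (fun i => ?_)
    (fun i j e => t ((c2 _ _ _ (by simp) (by simp)).mul_left ((c2 _ _ _ (by simp [e.symm]) (by simp)).mul_left
      (c2 _ _ _ (by simp) (by simp))))) ev
  · simp only [smul_mul_assoc, mul_smul_comm, add_mul, mul_add, a1, one_mul, mul_one]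
    match_scalars <;> field_simp <;> ring
  · exact Function.LeftInverse.injective (g := -(J (.inr (i, 0)) * J (.inl 1))) fun x => by
      rw [← End.mul_apply, neg_mul, s2 _ _ (by simp)]; simp
  · have : J (.inr (i, 0)) * J (.inl 1) * A i = -(A i * (J (.inr (i, 0)) * J (.inl 1))) := by
      have h1 := (c2 (.inl 0) (.inr (i, 0)) (.inl 1) (by simp) (by simp)).eq
      have h2 := (c2 (.inr (i, 1)) (.inr (i, 0)) (.inl 1) (by simp) (by simp)).eq
      have h3 : J (.inr (i, 0)) * J (.inl 1) * J (.inr (i, 0)) = -(J (.inr (i, 0)) * (J (.inr (i, 0)) * J (.inl 1))) := by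
        rw [mul_assoc, ac (.inl 1) _ (by simp), mul_neg]
      generalize J (.inr (i, 0)) * J (.inl 1) = R at *
      rw [← mul_assoc, ← h1, mul_assoc, ← mul_assoc R, h3, mul_assoc (J _), mul_assoc (J _) (J _) R, h2]
      simp only [mul_assoc, mul_neg, neg_mul]
    simp only [smul_mul_assoc, mul_smul_comm, add_mul, mul_add, sub_mul, this, one_mul, mul_one]
    match_scalars <;> field_simp <;> ring
end

theorem even3 {V : Type*} [AddCommGroup V] [Module (ZMod 3) V] [FiniteDimensional (ZMod 3) V] {I : End (ZMod 3) V} (h : I * I = -1)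
    (W : Submodule (ZMod 3) V) (hW : ∀ x ∈ W, I x ∈ W) : 2 ∣ finrank (ZMod 3) W := by
  have : I.restrict hW * I.restrict hW = (-1 : ZMod 3) • LinearMap.id :=
    LinearMap.ext fun x => Subtype.ext (by simpa using congrArg (· x.1) h)
  have := congrArg LinearMap.det this
  rw [map_mul, LinearMap.det_smul, LinearMap.det_id, mul_one] at this
  refine even_iff_two_dvd.1 ((Nat.even_or_odd _).resolve_right fun o => ?_)
  rw [o.neg_one_pow] at this
  exact (by decide : ∀ a : ZMod 3, a * a ≠ -1) _ this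

theorem even2 {V : Type*} [AddCommGroup V] [Module (ZMod 2) V] [FiniteDimensional (ZMod 2) V] {I : End (ZMod 2) V} (h : I * I = I + 1)
    (W : Submodule (ZMod 2) V) (hW : ∀ x ∈ W, I x ∈ W) : 2 ∣ finrank (ZMod 2) W := by
  classical
  have : Finite W := Module.finite_of_finite (ZMod 2)
  have := Fintype.ofFinite W
  have a : ∀ x, I (I x) = I x + x := fun x => congrArg (· x) h
  have z : ∀ x : V, x + x = 0 := fun x => by rw [← two_smul (ZMod 2)]; exact zero_smul _ x
  have : Fact (Nat.Prime 3) := ⟨Nat.prime_three⟩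
  have := Equiv.Perm.card_fixedPoints_modEq (f := fun x => I.restrict hW x) (p := 3) (n := 1) (funext fun x => Subtype.ext (by
    change I (I (I x)) = x
    rw [a x, map_add, a, add_right_comm, z, zero_add]))
  rw [Module.card_eq_pow_finrank (K := ZMod 2), (Fintype.card_eq_one_iff (α := Function.fixedPoints _)).2 ⟨⟨0, map_zero (I.restrict hW)⟩, fun x => Subtype.ext (Subtype.ext (by
    have := a x.1.1
    rw [show I x.1.1 = x.1.1 from congrArg Subtype.val x.2, show I x.1.1 = x.1.1 from congrArg Subtype.val x.2, z] at this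
    exact this))⟩, ZMod.card] at this
  obtain ⟨k, e | e⟩ := (finrank (ZMod 2) W).even_or_odd'
  · exact ⟨k, e⟩
  · rw [e, pow_succ, pow_mul, Nat.ModEq, Nat.mul_mod, Nat.pow_mod] at this
    simp at this

theorem frame3 (k : ℕ) : ∀ (V : Type u) [AddCommGroup V] [Module (ZMod 3) V] [FiniteDimensional (ZMod 3) V]
    (D : Form (quadKind (ZMod 3)) V), D.Nondeg → k < finrank (ZMod 3) V →
    ∃ b : Fin k → V, (∀ i, D.Q (b i) = 1) ∧ ∀ i j, i ≠ j → D.B (b i) (b j) = 0 := by
  induction k with
  | zero => exact fun V _ _ _ D _ _ => ⟨Fin.elim0, (·.elim0), (·.elim0)⟩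
  | succ k ih =>
    intro V _ _ _ D hD hk
    obtain ⟨u, hu⟩ := Quad.exists_Q_eq hD (by omega) 1
    have a : D.B u u ≠ 0 := by rw [q3_self hu]; decide
    have := Form.finrank_perp_span_singleton a
    obtain ⟨b, b1, b2⟩ := ih _ _ (Form.nondeg_perp_singleton hD a) (by omega)
    have c : ∀ i, D.B u (b i) = 0 := fun i => D.mem_perp_span_singleton.1 (b i).2
    exact ⟨Fin.cons u fun i => b i, Fin.cases hu b1, Fin.cases (Fin.cases (by simp) fun j _ => c j) fun i =>
      Fin.cases (fun _ => D.eq_zero_symm (c i)) fun j e => b2 i j fun q => e (congrArg _ q)⟩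

theorem planes2 (k : ℕ) : ∀ (V : Type u) [AddCommGroup V] [Module (ZMod 2) V] [FiniteDimensional (ZMod 2) V]
    (D : Form (quadKind (ZMod 2)) V), D.Nondeg → 2 * k + 2 ≤ finrank (ZMod 2) V →
    ∃ (b : Fin k → Bool → V) (h : V), D.Q h = 1 ∧ (∀ i, D.B (b i false) (b i true) = 1) ∧ ∀ i s, D.Q (b i s) = 1 ∧ D.B (b i s) h = 0 ∧
      ∀ j t, i ≠ j → D.B (b i s) (b j t) = 0 := by
  induction k with
  | zero => exact fun V _ _ _ D hD _ => (Quad.exists_Q_eq hD (by omega) 1).elim fun h e => ⟨Fin.elim0, h, e, (·.elim0), (·.elim0)⟩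
  | succ k ih =>
    intro V _ _ _ D hD hk
    obtain ⟨e, f, H⟩ := Quad.exists_isHyp hD (by omega)
    have := H.finrank_hp
    obtain ⟨⟨x, hx⟩, qx⟩ := Quad.exists_Q_eq (H.nondeg_hp hD) (by omega) 1
    obtain ⟨x1, x2⟩ := D.mem_hp.1 hx
    have q1 : D.Q (e + f) = 1 := by simp [quad_Q_add, H.1, H.2, H.3]
    have q2 : D.Q (f + x) = 1 := by simpa [quad_Q_add, H.2, x2] using qx
    have q3 : D.B (e + f) (f + x) = 1 := by simp [D.B_add_left, H.3, x1, x2, D.B_self_of_Q H.2]
    have z : ∀ y, D.B y y = 0 := fun y => by rw [quad_B_self]; exact zero_mul _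
    generalize e + f = u at *
    generalize f + x = w at *
    have := hD.finrank_perp (Submodule.span (ZMod 2) {u, w})
    have : finrank (ZMod 2) (Submodule.span (ZMod 2) {u, w}) ≤ 2 := by
      classical exact (finrank_span_le_card _).trans (by
        rw [← Set.ncard_eq_toFinset_card']; exact (Set.ncard_insert_le u {w}).trans (by rw [Set.ncard_singleton]))
    obtain ⟨b, h, b0, b1, b2⟩ := ih _ _ (hD.restrict_perp (W := Submodule.span (ZMod 2) {u, w}) (Submodule.disjoint_def.2
      fun y hy hy' => by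
        obtain ⟨α, β, rfl⟩ := Submodule.mem_span_pair.1 hy
        have a1 := D.mem_perp_span.1 hy' u (by simp)
        have a2 := D.mem_perp_span.1 hy' w (by simp)
        simp only [D.B_add_right, D.B_smul_right, z, q3, quad_symm D w u, mul_zero, mul_one, zero_add, add_zero] at a1 a2
        simp [a1, a2])) (by omega)
    have c : ∀ (s : Bool) (y : D.perp (Submodule.span (ZMod 2) {u, w})), D.B (cond s w u) y = 0 := fun s y =>
      D.mem_perp_span.1 y.2 _ (by cases s <;> simp)
    exact ⟨Fin.cons (fun s => cond s w u) fun i s => b i s, h, b0, Fin.cases q3 b1, Fin.cases (fun s => ⟨by cases s <;> assumption,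
      c s h, Fin.cases (by simp) fun j t _ => c s _⟩) fun i s => ⟨(b2 i s).1, (b2 i s).2.1, Fin.cases
      (fun t _ => D.eq_zero_symm (c t _)) fun j t e => (b2 i s).2.2 j t fun q => e (congrArg _ q)⟩⟩

end Cfsg.Lib.Known2
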