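import Cfsg.Agent.Lib.Known2.F22

/-! Disconnected commuting graphs, IV: the orthogonal geometry over the field with two elements. -/

set_option autoImplicit false

namespace Cfsg.Lib.Known2

open Subgroup Cfsg.Lib.Forms Module

variable {G : Type*} [Group G] {X : Set G}

/-- Conjugation by `g` carries products of two members of `X` to elements acting on `X` as in a triality. -/
def Src (X : Set G) (g : G) : Prop :=
  (∀ a ∈ X, ∀ b ∈ Dd X a, YT X (g * (a * b) * g⁻¹)) ∧ ∀ a ∈ X, ∀ b ∈ X, ¬ Commute a b → ZT X (g * (a * b) * g⁻¹)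

theorem pow_bound {k c : ℕ} (h : 2 ^ k ∣ 2 * k + c) (hc : c = 2 ∨ c = 3) (hk : 1 ≤ k) : c = 2 ∧ (k = 1 ∨ k = 3) := by
  have h1 := Nat.le_of_dvd (by omega) h
  have : k ≤ 3 := by
    by_contra! q
    obtain ⟨j, rfl⟩ := Nat.exists_eq_add_of_le q
    have := Nat.lt_two_pow_self (n := j)
    rw [pow_add] at h1
    omega
  rcases hc with rfl | rfl <;> interval_cases k <;> simp_all

namespace SR
variable {n : ℕ} {D : Form (altKind (ZMod 2)) (V2 n)} {v : G → V2 n} (S : SR X D v)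
include S

theorem hom : ∃ Φ : closure X →* End (ZMod 2) (V2 n), ∀ k, ∀ x ∈ X, Φ k (v x) = v (k * x * (k : G)⁻¹) := by
  choose φ hφ using fun k : closure X => S.act k.2
  refine ⟨⟨⟨fun k => (φ k).1, LinearMap.ext_on S.span ?_⟩, fun a b => LinearMap.ext_on S.span ?_⟩, fun k x hx => (hφ k x hx).symm⟩ <;>
    rintro _ ⟨x, hx, rfl⟩
  · simpa using (hφ 1 x hx).symm
  · change (φ (a * b)).1 (v x) = (φ a).1 ((φ b).1 (v x))
    rw [← hφ _ x hx, ← hφ _ x hx, ← hφ _ _ (S.tt.conj_mem b.2 hx), conj_conj']; rfl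

omit S in
theorem e2 (a : End (ZMod 2) (V2 n)) : a + a = 0 := LinearMap.ext fun x => v2_add _

variable {Φ : closure X →* End (ZMod 2) (V2 n)} (hΦ : ∀ k, ∀ x ∈ X, Φ k (v x) = v (k * x * (k : G)⁻¹))
include hΦ

theorem zt {w : G} (z : ZT X w) : Φ ⟨w, z.1⟩ * Φ ⟨w, z.1⟩ = Φ ⟨w, z.1⟩ + 1 := LinearMap.ext_on S.span (by
  rintro _ ⟨x, hx, rfl⟩
  rw [← map_mul, hΦ _ x hx, LinearMap.add_apply, hΦ _ x hx, End.one_apply, add_comm, ← S.add hx (S.tt.conj_mem z.1 hx) (z.2.2 x hx).1,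
    ← (z.2.2 x hx).2]; rfl)

omit hΦ in
theorem three {a b c : G} (ha : ZT X a) (hb : ZT X b) (hc : ZT X c) (h1 : a * b * c = 1) (h2 : Commute a b) :
    ∀ x ∈ X, Commute (b⁻¹ * a) x := fun x hx => by
  obtain ⟨Φ, hΦ⟩ := S.hom
  have e1 := S.zt hΦ ha
  have e2 := S.zt hΦ hb
  have e3 := S.zt hΦ hc
  have e4 : Φ ⟨a, ha.1⟩ * Φ ⟨b, hb.1⟩ * Φ ⟨c, hc.1⟩ = 1 := by rw [← map_mul, ← map_mul, ← Φ.map_one]; exact congrArg _ (Subtype.ext h1)
  have e5 := ((commute_coe (a := ⟨a, ha.1⟩) (b := ⟨b, hb.1⟩)).1 h2).map Φ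
  have e6 := hΦ ⟨a, ha.1⟩ x hx
  have e7 := hΦ ⟨b, hb.1⟩ x hx
  generalize Φ ⟨a, ha.1⟩ = A, Φ ⟨b, hb.1⟩ = B, Φ ⟨c, hc.1⟩ = C at *
  have e8 := congrArg (A * B * (A * B) * ·) e3
  simp only [mul_add, ← mul_assoc (A * B * (A * B)), mul_assoc (A * B) (A * B) C, e4, mul_one] at e8
  rw [← pow_two, e5.mul_pow, pow_two, pow_two, e1, e2] at e8
  have e9 : A = B := by
    simp only [mul_add, add_mul, mul_one, one_mul] at e8
    linear_combination (norm := module) -e8 - SR.e2 (A * B) - SR.e2 B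
  rw [e9, e7] at e6
  have := S.inj (S.tt.conj_mem hb.1 hx) (S.tt.conj_mem ha.1 hx) e6
  exact conj_eq_self_iff.1 (by simpa [mul_assoc] using congrArg (fun x => b⁻¹ * x * b) this.symm)

omit hΦ in
theorem eight (h : R3 X) (hn : 6 ≤ n) {Q : Form (quadKind (ZMod 2)) (V2 n)} (hB : Q.B = D.B) (hv : ∀ u, u ∈ v '' X ↔ Q.Q u = 1)
    {g : G} (s : Src X g) : n = 8 ∧ Q.HasTS 4 := by
  obtain ⟨Φ, hΦ⟩ := S.hom
  have hQ : Q.Nondeg := fun x hx => S.nd x (hB ▸ hx)
  obtain ⟨m, hm⟩ := Symp.exists_finrank_eq S.nd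
  obtain rfl : n = 2 * m := by simpa using hm
  obtain ⟨k, rfl⟩ : ∃ k, m = k + 2 := ⟨m - 2, by omega⟩
  obtain ⟨b, u, q0, q1, q2⟩ := planes2 (k + 1) _ Q hQ (by simp; omega)
  choose x x1 x2 using fun i t => (hv _).2 (q2 i t).1
  obtain ⟨z, z1, z2⟩ := (hv _).2 q0
  simp only [← x2, ← z2, hB, S.comm (x1 _ _) (x1 _ _), S.comm (x1 _ _) z1] at q1 q2
  have nc := fun i => S.nc (x1 i false) (x1 i true) (q1 i)
  have W := fun i => s.2 _ (x1 i false) _ (x1 i true) (nc i)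
  have Y := fun i => s.1 _ (x1 i false) z ⟨z1, fun e => nc i (e ▸ (q2 i true).2.1.symm), (q2 i false).2.1⟩
  let φ := fun i => Φ ⟨_, (W i).1⟩
  let ψ := fun i => Φ ⟨_, (Y i).1⟩
  have c1 : ∀ i j, Commute (φ i) (φ j) := fun i j => by
    by_cases e : i = j
    · rw [e]
    have a := fun s t => (q2 i s).2.2 j t e
    exact (commute_coe.1 (commute_conj_conj_iff.2 (((a _ _).mul_left (a _ _)).mul_right ((a _ _).mul_left (a _ _))))).map Φ
  have c2 : ∀ i j, i ≠ j → Commute (φ i) (ψ j) := fun i j e =>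
    have a := fun s t => (q2 i s).2.2 j t e
    (commute_coe.1 (commute_conj_conj_iff.2 (((a _ _).mul_left (a _ _)).mul_right ((q2 i _).2.1.mul_left (q2 i _).2.1)))).map Φ
  have c3 : ∀ i, ψ i * φ i = (φ i + 1) * ψ i := fun i => by
    rw [← S.zt hΦ (W i), ← map_mul, ← map_mul, ← map_mul]
    refine congrArg _ (Subtype.ext ?_)
    have e := S.tt.conj_conj (x1 i false) (x i true)
    rw [S.tt.braid (x1 i false) (x1 i true) (nc i)] at e
    have e' : x i false * z * (x i false * x i true) = x i false * (x i true * x i false * x i true) * x i false * z := by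
      rw [e, (q2 i false).2.1.eq, mul_assoc, S.tt.cancel (x1 i false), (q2 i true).2.1.eq]
    simpa [mul_assoc] using congrArg (· * g⁻¹) e'
  have sq := fun i => S.zt hΦ (W i)
  have iv : ∀ i, ψ i * ψ i = 1 := fun i => by rw [← map_mul, ← Φ.map_one]; exact congrArg _ (Subtype.ext (Y i).2.1)
  have := halve (fun i : Fin k => φ 0 + φ i.succ) (fun i => ψ i.succ) (φ 0) (fun i => by
      simp only [add_mul, mul_add, φ, sq, (c1 i.succ 0).eq]
      linear_combination (norm := module) e2 (φ 0 * φ i.succ) + e2 1)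
    (fun i j => (((c1 _ _).add_left (c1 _ _)).add_right ((c1 _ _).add_left (c1 _ _))).eq) (fun i => ((c1 _ _).add_left (c1 _ _)).eq)
    (fun i => Function.LeftInverse.injective (g := ψ i.succ) fun x => by rw [← End.mul_apply, iv]; rfl) (fun i => by
      simp only [add_mul, mul_add, sub_mul, c3, ← (c2 0 i.succ i.succ_ne_zero.symm).eq, one_mul]
      linear_combination (norm := module) e2 (φ 0 * ψ i.succ) + e2 (φ i.succ * ψ i.succ))
    (fun i j e => ((c2 _ _ i.succ_ne_zero.symm).add_left (c2 _ _ (by simpa using e.symm))).eq) (even2 (sq 0))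
  obtain rfl : k = 2 := by
    have := pow_bound (k := k + 1) (c := 2) (by simpa [mul_add] using this) (Or.inl rfl) (by omega)
    omega
  refine ⟨rfl, Form.HasTS.mono (k := finrank _ (LinearMap.ker (ψ 0 - 1))) (Form.hasTS_quad_iff.2 ⟨_, rfl, fun p hp => by_contra fun e => ?_⟩) ?_⟩
  · obtain ⟨c, hc, rfl⟩ := (hv p).2 (z2_one e)
    have := (Y 0).2.2 c hc
    exact this.2.1 (S.inj this.1 hc ((hΦ _ c hc).symm.trans (sub_eq_zero.1 hp)))
  · have := half_ker (N := ψ 0 - 1) (by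
      simp only [mul_sub, sub_mul, iv, mul_one, one_mul]
      linear_combination (norm := module) e2 1 - e2 (ψ 0))
    exact Nat.le_of_mul_le_mul_left (c := 2) (by simpa using this) two_pos

end SR

theorem SR.sub {n : ℕ} {D : Form (altKind (ZMod 2)) (V2 n)} {v : G → V2 n} (S : SR X D v) :
    (fun x : closure X => v x) '' ((↑) ⁻¹' X) = v '' X ∧ SR ((↑) ⁻¹' X : Set (closure X)) D fun x => v x := by
  have e : (fun x : closure X => v x) '' ((↑) ⁻¹' X) = v '' X := Set.ext fun u =>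
    ⟨fun ⟨x, hx, e⟩ => ⟨x, hx, e⟩, fun ⟨x, hx, e⟩ => ⟨⟨x, subset_closure hx⟩, hx, e⟩⟩
  exact ⟨e, S.tt.sub _, S.nd, e ▸ S.span, fun a b => (S.comm a b).trans commute_coe, fun a b e => Subtype.ext (S.inj a b e),
    fun a b => S.conj a b⟩

theorem TO2.eight (T : TO2 X) (h : R3 X) (h' : R3 ((↑) ⁻¹' X : Set (closure X))) (hZ : center (closure X) = ⊥) {g : G} (s : Src X g) :
    Nonempty (closure X ≃* isometryGroup (ZMod 2) (quadFormPlus 4 (ZMod 2))) := by
  obtain ⟨n, D, v, S, hn, Q, hB, hv⟩ := T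
  obtain ⟨rfl, ts⟩ := S.eight h hn hB hv s
  have hQ : Q.Nondeg := fun x hx => S.nd x (hB ▸ hx)
  obtain ⟨e0, S'⟩ := S.sub
  obtain ⟨e, -⟩ := S'.iso_of h' closure_closure_coe_preimage hZ (L := Q.isom) (fun g a => Symp.mem_isom.2 (hB ▸ a.B_map))
    (fun x => Q.refl (v x)) (fun x hx u => by
      rw [Form.refl_apply, (hv _).1 ⟨x, hx, rfl⟩, hB, inv_one, one_mul, sub_eq_add_neg, neg_eq_of_add_eq_zero_left (v2_add _)])
    (hQ.eq_top_of_refl (Form.good_of_finrank (by simp)) _ fun p hp => by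
      obtain ⟨x, hx, rfl⟩ := e0.ge ((hv p).2 (z2_one hp))
      exact subset_closure ⟨x, hx, rfl⟩)
  obtain ⟨φ, hφ⟩ := Quad.iso_fPlus hQ (m := 4) (by simp) ts
  exact ⟨e.trans ((Form.isomCongr φ hφ).trans (oIso _ fPlus_Q).symm)⟩

end Cfsg.Lib.Known2
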