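import Cfsg.Agent.Lib.Known2.F23

/-! Disconnected commuting graphs, V: the orthogonal geometry over the field with three elements. -/

set_option autoImplicit false

namespace Cfsg.Lib.Known2

open Subgroup Cfsg.Lib.Forms Module

variable {G : Type*} [Group G] {X : Set G} {V : Type} [AddCommGroup V] [Module (ZMod 3) V] [FiniteDimensional (ZMod 3) V]
  {D : Form (quadKind (ZMod 3)) V} {τ : V → G}

section Q8
variable {I J : D.isom} (hI : I * I = D.negOne) (hJ : J * J = D.negOne) (hK : I * J * (I * J) = D.negOne)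
omit [FiniteDimensional (ZMod 3) V]

theorem v3 (x : V) : x + x + x = 0 := by
  have : (3 : ZMod 3) • x = 0 := zero_smul _ x
  linear_combination (norm := module) this

include hI in
theorem q8_sq (x : V) : I.1 (I.1 x) = -x := (congrArg (·.1 x) hI).trans (D.negOne_apply x)
include hI in
theorem q8_skew (x y : V) : D.B (I.1 x) y = -D.B x (I.1 y) := by rw [← Form.B_isom I, q8_sq hI, D.B_neg_left]

include hI hJ hK
theorem q8_ac (x : V) : J.1 (I.1 x) = -I.1 (J.1 x) := by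
  have : I.1 (J.1 (I.1 (J.1 (J.1 x)))) = -J.1 x := q8_sq hK _
  rw [q8_sq hJ, map_neg, map_neg, map_neg, neg_inj] at this
  rw [← this, q8_sq hI, neg_neg]

theorem q8_N : ∃ N : End (ZMod 3) V, (∀ x, N x = I.1 x + J.1 x + I.1 (J.1 x)) ∧ N * N = 0 ∧ (∀ x y, D.B (N x) y = -D.B x (N y)) ∧
    ∀ x, D.Q (N x) = 0 := by
  let N : End (ZMod 3) V := I.1.toLinearMap + J.1.toLinearMap + (I * J).1.toLinearMap
  have e : ∀ x, N x = I.1 x + J.1 x + I.1 (J.1 x) := fun x => rfl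
  have n2 : ∀ x, N (N x) = 0 := fun x => by
    simp only [e, map_add, map_neg, q8_ac hI hJ hK, q8_sq hI, q8_sq hJ]
    linear_combination (norm := module) -v3 x
  have sk : ∀ x y, D.B (N x) y = -D.B x (N y) := fun x y => by
    have := q8_skew hK x y
    change D.B (I.1 (J.1 x)) y = -D.B x (I.1 (J.1 y)) at this
    simp only [e, D.B_add_left, D.B_add_right, this, q8_skew hI x, q8_skew hJ x]; ring
  refine ⟨N, e, LinearMap.ext n2, sk, fun x => ?_⟩
  have := sk x (N x)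
  rw [n2, quad_B_self, map_zero, neg_zero] at this
  exact (mul_eq_zero.1 this).resolve_left (by decide)

theorem q8_ts [FiniteDimensional (ZMod 3) V] {m : ℕ} (hm : finrank (ZMod 3) V = 2 * m) : D.HasTS m := by
  obtain ⟨N, e, n2, -, q⟩ := q8_N hI hJ hK
  refine Form.HasTS.mono (k := finrank _ (LinearMap.ker N)) (Form.hasTS_quad_iff.2 ⟨_, rfl, fun p hp => ?_⟩)
    (Nat.le_of_mul_le_mul_left (hm ▸ half_ker n2) two_pos)
  rw [← q (I.1 p)]
  have : I.1 (N p) = 0 := by rw [hp, map_zero]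
  congr 1
  simp only [e, map_add, map_neg, q8_ac hI hJ hK, q8_sq hI] at this ⊢
  linear_combination (norm := module) this + v3 p

theorem q8_rho : ∃ ρ : D.isom, ρ ^ 3 = 1 ∧ ρ * I = J * ρ := by
  obtain ⟨N, e, n2, sk, q⟩ := q8_N hI hJ hK
  have n2' : ∀ x, N (N x) = 0 := fun x => congrArg (· x) n2
  refine ⟨⟨LinearEquiv.ofLinearMap (1 + N) (1 - N) (LinearMap.ext fun x => by simp [n2']) (LinearMap.ext fun x => by simp [n2']),
    mem_isom_quad.2 fun x => ?_⟩, Form.isom_ext fun x => ?_, Form.isom_ext fun x => ?_⟩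
  · have := sk x x
    rw [quad_symm] at this
    change D.Q (x + N x) = _
    rw [quad_Q_add, q, (by decide : ∀ a : ZMod 3, a = -a → a = 0) _ this]; simp
  · change (1 + N) ((1 + N) ((1 + N) x)) = x
    simp only [LinearMap.add_apply, End.one_apply, map_add, n2', map_zero]
    linear_combination (norm := module) v3 (N x)
  · change I.1 x + N (I.1 x) = J.1 (x + N x)
    simp only [e, map_add, map_neg, q8_ac hI hJ hK, q8_sq hI, q8_sq hJ]
    module
end Q8

def Lo (D : Form (quadKind (ZMod 3)) V) (τ : V → G) (φ : D.isom) (k : G) : Prop := ∀ u, D.Q u = 1 → k * τ u * k⁻¹ = τ (φ.1 u)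

omit [FiniteDimensional (ZMod 3) V] in
theorem Lo.mul {φ ψ : D.isom} {k l : G} (a : Lo D τ φ k) (b : Lo D τ ψ l) : Lo D τ (φ * ψ) (k * l) := fun u hu => by
  rw [← conj_conj', b u hu, a _ (by simpa)]; rfl

namespace OM
variable (O : OM X D τ)
include O

omit [FiniteDimensional (ZMod 3) V] in
theorem lf {a : V} (ha : D.Q a = 1) : Lo D τ (D.refl a) (τ a) := fun u hu => by
  rw [O.tt.inv (O.mem ha), O.conj ha hu, Form.refl_apply, ha, inv_one, one_mul]

omit [FiniteDimensional (ZMod 3) V] in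
theorem lf_ex {k : G} (hk : k ∈ closure X) : ∃ φ, Lo D τ φ k := by
  induction hk using closure_induction'' with
  | mem g hg => obtain ⟨a, ha, rfl⟩ := O.surj g hg; exact ⟨_, O.lf ha⟩
  | inv_mem g hg => obtain ⟨a, ha, rfl⟩ := O.surj g hg; exact ⟨_, (O.tt.inv hg).symm ▸ O.lf ha⟩
  | one => exact ⟨1, fun u _ => by simp⟩
  | mul g k _ _ a b => exact ⟨_, a.choose_spec.mul b.choose_spec⟩

theorem lf_ex' {φ : D.isom} (hk : φ ∈ closure (RX D 1)) : ∃ k ∈ closure X, Lo D τ φ k := by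
  induction hk using closure_induction'' with
  | mem g hg => obtain ⟨a, ha, rfl⟩ := hg; exact ⟨_, subset_closure (O.mem ha), O.lf ha⟩
  | inv_mem g hg =>
    rw [(tt_RX O.nd one_ne_zero).inv hg]; obtain ⟨a, ha, rfl⟩ := hg; exact ⟨_, subset_closure (O.mem ha), O.lf ha⟩
  | one => exact ⟨1, one_mem _, fun u _ => by simp⟩
  | mul g k _ _ a b => exact ⟨_, mul_mem a.choose_spec.1 b.choose_spec.1, a.choose_spec.2.mul b.choose_spec.2⟩

variable (hn : 5 ≤ finrank (ZMod 3) V)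
include hn

theorem pm {φ : D.isom} (h : Lo D τ φ 1) : φ = 1 ∨ φ = D.negOne := by
  have hB := O.nd
  obtain ⟨p, q, hpq⟩ := Quad.exists_isHyp hB (by omega)
  obtain ⟨t, ht⟩ := hpq.exists_smul_of_comm hB (Or.inr (by omega)) φ fun e z d k => commute_of_mem_closure (by
    rintro _ ⟨u, hu, rfl⟩
    rw [← conj_eq_self_iff, Form.conj_refl]
    rcases (O.eq_iff hu (by simpa)).1 ((by simp : τ u = _).trans (h u hu)) with e | e
    · rw [← e]
    · rw [← refl_neg, ← e]) ((rg_RX hB hn one_ne_zero).le (hB.eich_mem_commutator (Form.good_of_two_ne_zero (by decide)) e z d k))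
  rcases z3_cases t with rfl | rfl | rfl
  · exact absurd (φ.1.injective ((ht p).trans (by simp))) (fun e : p = 0 => by simpa [e] using hpq.3)
  · exact Or.inl (Form.isom_ext fun x => by simpa using ht x)
  · exact Or.inr (Form.isom_ext fun x => by rw [ht, Form.negOne_apply, ← neg_one_smul (ZMod 3)]; rfl)

variable (r : R3 X) (hR : ∀ y ∈ X, R3 (Dd X y))
include r hR

theorem sq {φ : D.isom} {y : G} (Y : YT X y) (h : Lo D τ φ y) : φ * φ = D.negOne := by
  refine (O.pm hn (Y.2.1 ▸ h.mul h)).resolve_left fun e => ?_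
  have e' : ∀ x, φ.1 (φ.1 x) = x := fun x => congrArg (·.1 x) e
  obtain ⟨c, hc⟩ := r.ne
  obtain ⟨k, hk⟩ := (hR c hc).dd _ (Y.2.2 c hc)
  obtain ⟨u, hu, rfl⟩ := O.surj c hc
  obtain ⟨w, hw, rfl⟩ := O.surj k hk.1.1
  have o : ∀ {x}, D.Q x = 1 → D.B x (φ.1 x) = 0 := fun hx => (O.dd hx (by simpa)).1 (h _ hx ▸ Y.2.2 _ (O.mem hx))
  have a1 := (O.dd hu hw).1 hk.1
  have a2 : D.B (φ.1 u) w = 0 := (O.dd (by simpa) hw).1 (h u hu ▸ ⟨hk.1.1, hk.2⟩)
  have a3 : D.B u (φ.1 w) = 0 := by rw [← Form.B_isom φ, e', a2]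
  have q : D.Q (u + φ.1 u + (w + φ.1 w)) = 1 := by
    simp only [quad_Q_add, D.B_add_left, D.B_add_right, Form.B_isom, Form.Q_isom, hu, hw, o hu, o hw, a1, a2, a3]; decide
  refine (Y.2.2 _ (O.mem q)).2.1 ((h _ q).trans (congrArg τ ?_))
  simp only [map_add, e']; abel

theorem eight {g : G} (s : Src X g) : finrank (ZMod 3) V = 8 ∧ D.HasTS 4 := by
  obtain ⟨k, hk⟩ : ∃ k, finrank (ZMod 3) V = 2 * (k + 1) + 2 ∨ finrank (ZMod 3) V = 2 * (k + 1) + 3 :=
    ⟨(finrank (ZMod 3) V - 4) / 2, by omega⟩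
  obtain ⟨b, b1, b2⟩ := frame3 (2 * k + 3) V D O.nd (by omega)
  let e : Option (Fin 2 ⊕ Fin k × Fin 2) ≃ Fin (2 * k + 3) := Fintype.equivFinOfCardEq (by simp; omega)
  have dd : ∀ i j, i ≠ j → τ (b (e j)) ∈ Dd X (τ (b (e i))) := fun i j n => (O.dd (b1 _) (b1 _)).2 (b2 _ _ (e.injective.ne n))
  have Y := fun i j n => s.1 _ (O.mem (b1 (e i))) _ (dd i j n)
  choose φ hφ using fun i => O.lf_ex (Y none (some i) (by simp)).1
  have s1 := fun i => O.sq hn r hR (Y none (some i) (by simp)) (hφ i)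
  have s2 : ∀ i j, i ≠ j → φ i * φ j * (φ i * φ j) = D.negOne := fun i j n => O.sq hn r hR (Y (some i) (some j) (by simpa)) (by
    convert (hφ i).mul (hφ j) using 1
    rw [(dd none (some i) (by simp)).2.2.eq]
    simp [mul_assoc, O.tt.cancel (O.mem (b1 _))])
  have sq : ∀ i, ((φ i).1 : End (ZMod 3) V) * (φ i).1 = -1 := fun i => LinearMap.ext (q8_sq (s1 i))
  have := cliff (fun i => ((φ i).1 : End (ZMod 3) V)) (by decide) sq
    (fun i j n => LinearMap.ext (q8_ac (s1 j) (s1 i) (s2 j i n.symm))) (even3 (sq _))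
  rw [Fintype.card_fin] at this
  have e8 : finrank (ZMod 3) V = 8 := by
    rcases hk with hk | hk
    · have := pow_bound (hk ▸ this) (Or.inl rfl) (by omega); omega
    · have := pow_bound (hk ▸ this) (Or.inr rfl) (by omega); omega
  exact ⟨e8, q8_ts (s1 (.inl 0)) (s1 (.inl 1)) (s2 _ _ (by simp)) e8⟩

theorem three {a b : G} (ha : YT X a) (hb : YT X b) (hc : YT X (a * b)) : ∃ k ∈ closure X, ∀ x ∈ X, Commute (b⁻¹ * (k * a * k⁻¹)) x := by
  obtain ⟨I, hI⟩ := O.lf_ex ha.1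
  obtain ⟨J, hJ⟩ := O.lf_ex hb.1
  obtain ⟨ρ, r1, r2⟩ := q8_rho (O.sq hn r hR ha hI) (O.sq hn r hR hb hJ) (O.sq hn r hR hc (hI.mul hJ))
  obtain ⟨k, hk, l⟩ := O.lf_ex' (φ := ρ) (by
    have := (D.reflClass 1).mul_self_mem_of_index_two (O.nd.index_reflClass (by decide) (by omega) (by omega) one_ne_zero) (ρ * ρ)
    rwa [← closure_RX, ← mul_assoc, ← pow_three', r1, one_mul] at this)
  refine ⟨k, hk, fun x hx => ?_⟩
  obtain ⟨y, hy, rfl⟩ : ∃ y ∈ X, k * y * k⁻¹ = x := ⟨k⁻¹ * x * k⁻¹⁻¹, O.tt.conj_mem (inv_mem hk) hx, by group⟩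
  obtain ⟨u, hu, rfl⟩ := O.surj y hy
  have := (l.mul hI u hu).trans (r2 ▸ (hJ.mul l u hu).symm)
  exact conj_eq_self_iff.1 (by simpa [mul_assoc] using congrArg (fun x => b⁻¹ * x * b) this)

end OM

theorem TO3.eight (T : TO3 X) (r : R3 X) (hR : ∀ y ∈ X, R3 (Dd X y)) (hZ : center (closure X) = ⊥) {g : G} (s : Src X g) :
    Nonempty (_root_.commutator (closure X) ≃* POmega (ZMod 3) (quadFormPlus 4 (ZMod 3))) := by
  obtain ⟨n, B, τ, hn, O⟩ := T
  have hn' : 5 ≤ finrank (ZMod 3) (V3 n) := by simpa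
  obtain ⟨e8, ts⟩ := O.eight hn' r hR s
  obtain ⟨ρ, C⟩ := O.corr
  obtain ⟨e, -⟩ := C.quot
  obtain ⟨e1⟩ := (rg_RX O.nd hn' (c := 1) one_ne_zero).pomega
  obtain ⟨f, hf⟩ := Quad.iso_fPlus O.nd (m := 4) e8 ts
  exact ⟨(commutatorCongr (((QuotientGroup.quotientMulEquivOfEq hZ).trans QuotientGroup.quotientBot).symm.trans e)).trans (e1.trans
    ((Linear.quotientCenterCongr (commutatorCongr (Form.isomCongr f hf))).trans (pOmegaIso _ fPlus_Q).symm))⟩

end Cfsg.Lib.Known2
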