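import Cfsg.Agent.Lib.Known2.F24

/-! Disconnected commuting graphs, VI: the triality groups. -/

set_option autoImplicit false

namespace Cfsg.Lib.Known2

open Subgroup Cfsg.Lib.Forms

variable {G : Type*} [Group G] {D X Y : Set G}

theorem s3_of_three (t : TT D) (hD : closure D = ⊤) {a b : G} (ha : a ∈ D) (hb : b ∈ D) (n : ¬ Commute a b)
    (c3 : ∀ c ∈ D, c = a ∨ c = b ∨ c = a * b * a) : Nonempty (G ≃* Equiv.Perm (Fin 3)) := by
  have br := t.braid ha hb n
  have six : ∀ g ∈ closure ({a, b} : Set G), g = 1 ∨ g = a ∨ g = b ∨ g = a * b ∨ g = b * a ∨ g = a * b * a := fun g hg => by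
    have k : ∀ x ∈ ({a, b} : Set G), ∀ g, (g = 1 ∨ g = a ∨ g = b ∨ g = a * b ∨ g = b * a ∨ g = a * b * a) →
        x * g = 1 ∨ x * g = a ∨ x * g = b ∨ x * g = a * b ∨ x * g = b * a ∨ x * g = a * b * a := by
      rintro _ (rfl | rfl) _ (rfl | rfl | rfl | rfl | rfl | rfl)
      all_goals first | simp [mul_assoc, t.cancel ha, t.cancel hb, t.sq ha, t.sq hb]; done | (simp [br, mul_assoc, t.cancel hb])
    induction hg using closure_induction_left with
    | one => exact Or.inl rfl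
    | mul_left x hx y _ ih => exact k x hx y ih
    | inv_mul_cancel x hx y _ ih => rw [t.inv (hx.elim (· ▸ ha) (· ▸ hb))]; exact k x hx y ih
  have hZ : center G = ⊥ := eq_bot_iff.2 fun g hg => by
    have c := fun x : G => show Commute x g from mem_center_iff.1 hg x
    have : closure D ≤ closure {a, b} := (closure_le _).2 fun x hx => by
      have h1 : a ∈ closure ({a, b} : Set G) := subset_closure (by simp)
      have h2 : b ∈ closure ({a, b} : Set G) := subset_closure (by simp)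
      rcases c3 x hx with rfl | rfl | rfl
      exacts [h1, h2, mul_mem (mul_mem h1 h2) h1]
    rcases six g (this (hD ▸ mem_top g)) with rfl | rfl | rfl | rfl | rfl | rfl
    · exact one_mem _
    · exact (n (c b).symm).elim
    · exact (n (c a)).elim
    · exact (n (by simpa [t.cancel ha] using (Commute.refl a).mul_right (c a))).elim
    · exact (n (by simpa [t.cancel' ha] using (c a).mul_right (Commute.refl a))).elim
    · exact (t.not_commute_third ha n (c a)).elim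
  have n1 : a ≠ b := fun e => n (e ▸ Commute.refl _)
  have n2 : a ≠ a * b * a := fun e => t.not_commute_third ha n (e ▸ Commute.refl _)
  have n3 : b ≠ a * b * a := fun e => t.not_commute_third' ha hb n (e ▸ Commute.refl _)
  refine ⟨((Corr.of_param (P := fun _ : Fin 3 => True) (s := ![a, b, a * b * a]) (t := ![Equiv.swap 0 1, Equiv.swap 1 2, Equiv.swap 0 2])
    t (sn_swap (Fin 3)).tt (fun x => ⟨fun hx => ?_, ?_⟩)
    (by simp only [Set.mem_ofPred_eq, Equiv.Perm.IsSwap]; decide) (fun i j _ _ => ?_) fun i j _ _ => ?_).iso hD hZ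
    Equiv.Perm.closure_isSwap (eq_bot_iff.2 fun g hg => (by decide : ∀ g : Equiv.Perm (Fin 3), (∀ k, k * g = g * k) → g = 1) g
      (mem_center_iff.1 hg))).choose⟩
  · rcases c3 x hx with rfl | rfl | rfl
    exacts [⟨0, trivial, rfl⟩, ⟨1, trivial, rfl⟩, ⟨2, trivial, rfl⟩]
  · rintro ⟨i, -, rfl⟩; fin_cases i
    exacts [ha, hb, t.conj a ha b hb]
  · fin_cases i <;> fin_cases j <;> simp [n1, n2, n3, n1.symm, n2.symm, n3.symm] <;> decide
  · fin_cases i <;> fin_cases j
    exacts [⟨0, trivial, (t.cancel' ha a).symm, by decide⟩, ⟨2, trivial, rfl, by decide⟩, ⟨1, trivial, (t.conj_conj ha b).symm, by decide⟩,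
      ⟨2, trivial, br, by decide⟩, ⟨1, trivial, (t.cancel' hb b).symm, by decide⟩,
      ⟨0, trivial, ((congrArg (b * · * b) br).trans (t.conj_conj hb a)).symm, by decide⟩,
      ⟨1, trivial, (t.swap_third ha hb n).symm, by decide⟩,
      ⟨0, trivial, by have := t.swap_third hb ha fun e => n e.symm; rw [← br] at this; exact this.symm, by decide⟩,
      ⟨2, trivial, (t.cancel' (t.conj a ha b hb) _).symm, by decide⟩]

namespace Tri
variable [Finite G] {L : Subgroup G} (T : Tri D L) {d : G} (hd : d ∈ D)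
include T hd

omit [Finite G] in
theorem src : ∃ g, Src (Cp D L d) g := by
  obtain ⟨e, he, n⟩ := T.ne d hd
  obtain ⟨g, rfl⟩ := class_trans T.cls hd he
  have k : ∀ a ∈ Cp D L d, g * a * g⁻¹ * d ∉ L := fun a ha q =>
    n (T.trans (T.cmem g ha.1) (T.conj g (T.symm ha.1 hd ha.2)) q)
  have e : ∀ a b, g * (a * b) * g⁻¹ = g * a * g⁻¹ * (g * b * g⁻¹) := fun a b => by group
  exact ⟨g, fun a ha b hb => e a b ▸ T.yt hd (T.cmem g ha.1) (conj_mem_Dd (fun _ => T.cmem g) ⟨hb.1.1, hb.2⟩) (k a ha),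
    fun a ha b hb c => e a b ▸ T.zt hd (T.cmem g ha.1) (T.cmem g hb.1) (by rwa [commute_conj_conj_iff]) (T.conj g (T.pair hd ha hb))
      (k a ha)⟩

theorem cases : (∀ y ∈ Cp D L d, R3 (Dd (Cp D L d) y)) ∧ (TO2 (Cp D L d) ∨ TO3 (Cp D L d)) := by
  have h := T.r3 hd
  have hs := T.self hd
  obtain ⟨g, s⟩ := T.src hd
  obtain ⟨a, ha⟩ := h.dd d hs
  obtain ⟨b, hb, n⟩ := h.nc d hs
  have Y := s.1 d hs a ha
  rcases h.tri hs with ⟨y, hy, y', hy', ne, r⟩ | ⟨y, hy, y', hy', ne, r⟩ | r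
  · exact ((h.tsn_of_w2 (h.w2_of_w hs hy hy' ne r)).not_yt le_rfl Y).elim
  · exact (h.not_vc (h.vc_of_v hs hy hy' ne r) Y).elim
  refine ⟨h.all_dd (fun _ g a => a.conj_set g) hs r, ?_⟩
  rcases h.cls with c | ⟨n, -, c⟩ | c | c | c | c
  · rcases h.symp_cases c with ⟨m, hm, c⟩ | c | c
    exacts [(c.not_yt hm Y).elim, (c.not_r3 h hs r).elim, Or.inl c]
  · exact (c.not_r3 hs r).elim
  · exact Or.inr c.1
  · obtain ⟨γ, _, _, M⟩ := c.exists_fm
    exact (not_odd9 (fun x hx => M.l22.mem x (by revert x; decide)) (M.l22.rel ([1,2,3,4,5,6,8], 8) (by decide +kernel)) (T.odd hd)).elim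
  · obtain ⟨γ, _, M⟩ := c.exists_l23
    exact (not_odd9 (fun x hx => M.mem x (by revert x; decide)) (M.rel ([1,2,3,4,5,6,8], 8) (by decide +kernel)) (T.odd hd)).elim
  · exact (c.not_zt (s.2 d hs b hb n)).elim

theorem three {e f : G} (he : e ∈ D) (n : e * d ∉ L) (hf : f ∈ D) : f * d ∈ L ∨ f * e ∈ L ∨ f * (d * e * d) ∈ L := by
  by_contra! q
  obtain ⟨q1, q2, q3⟩ := q
  have t := T.tt
  have h := T.r3 he
  have hs := T.self he
  have q4 : e * f * e * d ∉ L := fun a => q3 (by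
    have := T.conj e a
    rwa [t.inv he, t.conj_conj he, t.braid he hd (T.nc he n (T.self hd))] at this)
  have q5 : e * f ∉ L := fun a => q2 (T.symm he hf a)
  have nc : ∀ {c}, c ∈ Cp D L e → ¬ Commute f c := T.nc hf q2
  rcases T.cases hd with ⟨hR, ⟨_, _, _, S, -⟩ | ⟨m, B, τ, hm, O⟩⟩
  · obtain ⟨c, hc, ec⟩ := h.nc e hs
    obtain ⟨m, hm, cm⟩ := h.mu_ne hs hc ec
    have ecL := T.pair he hs hc
    have k : ∀ {f d}, f ∈ D → d ∈ D → e * f ∉ L → f * d ∉ L → ZT (Cp D L d) (f * (e * c * f * (e * c)⁻¹)) := fun hf hd a b =>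
      T.zt hd hf (T.cmem _ hf) ((T.zt hf he hc.1 ec ecL a).2.2 _ (T.self hf)).1 (T.pair hf (T.self hf) (T.orb hf ecL)) b
    have w := fun u w => t.plw hf he hc.1 (nc hs) (nc hc) ec (nc ((T.ctt he).conj e hs c hc)) u w
    have := T.cen' hd (S.three (T.zt hd he hc.1 ec ecL n) (k hf hd q5 q1) (k (t.conj e he f hf) hd (by
      rwa [← mul_assoc, t.cancel he]) q4)
      (by simpa [t.inv he, t.inv hc.1, mul_assoc] using w [1,2,0,1,2,0,2,1,1,0,1,1,2,1,0,1,2,1] [] (by decide +kernel))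
      (by simpa [Commute, SemiconjBy, t.inv he, t.inv hc.1, mul_assoc] using w [1,2,0,1,2,0,2,1] [0,1,2,0,2,1,1,2] (by decide +kernel)))
    refine ((k hf he q5 q2).2.2 m hm.1).1 ?_
    rw [← inv_mul_eq_one.1 this.symm.symm |>.symm, conj_eq_self_iff.2 (hm.2.2.mul_left cm)]
  · obtain ⟨c, hc⟩ := h.dd e hs
    have ec : c ∈ Dd D e := ⟨hc.1.1, hc.2⟩
    have y := (T.yt hf he ec q5).2.2 _ (T.self hf)
    have a1 := nc hs
    have a2 := nc hc.1
    obtain ⟨k, hk, c0⟩ := O.three (by simpa) (T.r3 hd) hR (T.yt hd he ec n) (T.yt hd hf ⟨y.1.1, y.2⟩ q1) (by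
      convert T.yt hd (t.conj e he f hf) ⟨t.conj c ec.1 f hf, (t.s4_ne he hf ec.1 ec.2.1.symm a1 a2).symm,
        t.s4a he hf ec.1 ec.2.2 a1 a2⟩ q4 using 1
      simpa [t.inv he, t.inv ec.1, mul_assoc] using t.s4w he hf ec.1 (fun a => a1 a.symm) ec.2.2 a2 [0,2,1,0,2,1,2,0] [0,1,0,2,1,2]
        (by decide +kernel))
    have e1 := inv_mul_eq_one.1 (T.cen' hd c0)
    have e2 := T.mul _ (T.cmem k he) f hf ((t.commute_mul_iff hf y.1.1 (T.cmem k he) y.2.1.symm y.2.2).1
      (e1 ▸ commute_conj_conj_iff.2 ((Commute.refl e).mul_right ec.2.2))).1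
    have e3 := T.symm (T.cmem k he) hf e2
    rcases T.par hd hk with a | a
    · exact q2 (T.trans (T.cmem k he) e3 (T.orb he a).2)
    · have := (T.orb (t.conj d hd e he) a).2
      rw [show k * d * (d * e * d) * (k * d)⁻¹ = k * e * k⁻¹ by simp [mul_assoc, t.cancel hd]] at this
      exact q3 (T.trans (T.cmem k he) e3 this)

theorem s3 [L.Normal] : Nonempty (G ⧸ L ≃* Equiv.Perm (Fin 3)) := by
  obtain ⟨e, he, n⟩ := T.ne d hd
  have t := T.tt
  let π := QuotientGroup.mk' L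
  have i : ∀ {a b}, b ∈ D → a * b ∈ L → π a = π b := fun {a b} hb h => by
    rw [← t.cancel' hb a, map_mul, show π (a * b) = 1 from (QuotientGroup.eq_one_iff _).2 h, one_mul]
  have t' : TT (π '' D) := ⟨⟨by
      rintro _ ⟨a, ha, rfl⟩
      refine orderOf_eq_two_of (by rw [← map_mul, t.sq ha, map_one]) fun q => ?_
      obtain ⟨b, hb, q'⟩ := T.ne a ha
      obtain ⟨g, rfl⟩ := class_trans T.cls ha hb
      have := (QuotientGroup.eq_one_iff _).1 q
      exact q' (mul_mem (T.nrm.conj_mem _ this g) this), by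
      rintro _ ⟨a, ha, rfl⟩ _ ⟨b, hb, rfl⟩
      exact (t.1.2 a ha b hb).imp (fun q => by rw [← map_mul, ← map_pow, q, map_one]) fun q => by rw [← map_mul, ← map_pow, q, map_one]⟩, by
    rintro _ ⟨a, ha, rfl⟩ _ ⟨b, hb, rfl⟩
    exact ⟨_, t.conj a ha b hb, by simp⟩⟩
  have nc := T.nc he n (T.self hd)
  refine s3_of_three t' (by rw [← MonoidHom.map_closure, T.cls.2.2, map_top_of_surjective _ (QuotientGroup.mk'_surjective L)])
    ⟨d, hd, rfl⟩ ⟨e, he, rfl⟩ (fun c => n ((QuotientGroup.eq_one_iff _).1 ?_)) ?_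
  · have := congrArg π (t.braid he hd nc)
    rw [map_mul, map_mul, map_mul, map_mul, ← c.eq, t'.cancel' ⟨e, he, rfl⟩, c.eq, t'.cancel' ⟨d, hd, rfl⟩] at this
    change π (e * d) = 1
    rw [map_mul, this, t'.sq ⟨e, he, rfl⟩]
  · rintro _ ⟨f, hf, rfl⟩
    exact (T.three hd he n hf).imp (i hd) (.imp (i he) fun a => by simpa using i (t.conj d hd e he) a)

theorem iso : Nonempty (L ≃* Omega (ZMod 2) (quadFormPlus 4 (ZMod 2))) ∨ Nonempty (L ≃* POmega (ZMod 3) (quadFormPlus 4 (ZMod 3))) := by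
  let e := ((_root_.commutator _).equivMapOfInjective _ (closure (Cp D L d)).subtype_injective).trans
    (MulEquiv.subgroupCongr (T.comm_eq hd))
  obtain ⟨g, s⟩ := T.src hd
  obtain ⟨P, Z⟩ := T.prim hd
  obtain ⟨hR, c⟩ := T.cases hd
  exact c.imp (fun c => (c.eight (T.r3 hd) P.r3 Z s).map fun f => e.symm.trans (commutatorCongr f))
    fun c => (c.eight (T.r3 hd) hR Z s).map fun f => e.symm.trans f

end Tri

theorem tri_of_disc [Finite G] (hD : IsThreeTranspositionClass D) (hZ : center G = ⊥) (h2 : pCore 2 G = ⊥) (h3 : pCore 3 G = ⊥)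
    (hn : ¬ (commutingGraph D).Connected) : Tri D (generalizedFittingSubgroup G) := by
  obtain ⟨a, ha, b, hb, n⟩ := two_of_center hD hZ
  have hD2 : ∃ a ∈ D, ∃ b ∈ D, a ≠ b := ⟨a, ha, b, hb, fun e => n (e ▸ Commute.refl _)⟩
  have k2 : pCore 2 G ≤ center G := h2 ▸ bot_le
  have k3 : pCore 3 G ≤ center G := h3 ▸ bot_le
  obtain ⟨L, hL, e⟩ := exists_component hD hD2 k2 k3
  rw [e, hZ, sup_bot_eq]
  have hN := component_normal hD hL
  have ns : ¬ Group.IsSolvable L := Layer.IsQuasisimple.not_isSolvable hL.2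
  have c : centralizer (L : Set G) ≤ center G := by_contra fun q => ns (Group.isSolvable_of_comm fun a b =>
    Subtype.ext (component_le_of_not_central hD k2 k3 hL q b.2 a a.2))
  refine ⟨hD, hN, Layer.IsQuasisimple.isSimpleGroup hL.2 (eq_bot_iff.2 fun g hg => Subtype.ext (mem_bot.1 (hZ ▸ c fun x hx =>
    congrArg Subtype.val (mem_center_iff.1 hg ⟨x, hx⟩)))), ns, fun g hg => mem_bot.1 (hZ ▸ c fun x hx => (hg x hx).symm),
    fun a ha b hb => mul_mem_component hD hL ha hb, fun d hd => by_contra fun q => hn ?_⟩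
  push Not at q
  exact Prim.connected ⟨hD, prim_of_index hD hD2 k2 k3 hL (index_le_two_of_mul_mem hD.2.2 (TT.of_class hD) hd q),
    wide_of_not_central hD hD2 k3⟩

end Cfsg.Lib.Known2
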