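import Cfsg.Agent.Lib.Known2.F2

/-! Fischer's theorem, III: the symplectic types. -/

set_option autoImplicit false

namespace Cfsg.Lib.Known2

open Subgroup Cfsg.Lib.Forms Module

variable {G H : Type*} [Group G] [Group H] {X Y : Set G}

abbrev V2 (n : ℕ) := Fin n → ZMod 2

theorem z2 (a : ZMod 2) : a = 0 ∨ a = 1 := by revert a; decide
theorem z2_one {a : ZMod 2} (h : a ≠ 0) : a = 1 := (z2 a).resolve_left h
theorem v2_add {n : ℕ} (u : V2 n) : u + u = 0 := by ext i; exact CharTwo.add_self_eq_zero _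
theorem v2_eq {n : ℕ} {u w : V2 n} : u + w = 0 ↔ u = w := by
  rw [add_eq_zero_iff_eq_neg, neg_eq_of_add_eq_zero_left (v2_add w)]

/-- A symplectic representation. -/
structure SR (Y : Set G) {n : ℕ} (D : Form (altKind (ZMod 2)) (V2 n)) (v : G → V2 n) : Prop where
  tt : TT Y
  nd : D.Nondeg
  span : Submodule.span (ZMod 2) (v '' Y) = ⊤
  comm : ∀ {x y}, x ∈ Y → y ∈ Y → (D.B (v x) (v y) = 0 ↔ Commute x y)
  inj : ∀ {x y}, x ∈ Y → y ∈ Y → v x = v y → x = y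
  conj : ∀ {x y}, x ∈ Y → y ∈ Y → v (x * y * x) = v y + D.B (v x) (v y) • v x

theorem span_ext {F V : Type*} [Field F] {σ : F →+* F} {K : Kind σ} [AddCommGroup V] [Module F V] {D : Form K V}
    (hD : D.Nondeg) {S : Set V} (hS : Submodule.span F S = ⊤) {u w : V} (h : ∀ s ∈ S, D.B s u = D.B s w) : u = w := by
  have := D.mem_perp_span.2 (fun s hs => show D.B s (u - w) = 0 by rw [D.B_sub_right, h s hs, sub_self])
  rwa [hS, hD.perp_top, Submodule.mem_bot, sub_eq_zero] at this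

theorem alt2_symm {n : ℕ} (D : Form (altKind (ZMod 2)) (V2 n)) (u w : V2 n) : D.B u w = D.B w u := by
  rw [Symp.B_symm]; exact CharTwo.neg_eq _

theorem VW.sr [Finite G] (h : VW Y) (hs : Symp Y) : ∃ n D v, SR Y (n := n) D v := by
  classical
  have t := h.tt
  obtain ⟨n, D, v, h1, h2, h3⟩ := gramAlt Y (fun x y => if Commute x y then 0 else 1)
    (fun x _ y _ => by simp only [Commute.symm_iff (a := y)]) (fun x _ => by simp)
  have c : ∀ {x y}, x ∈ Y → y ∈ Y → (D.B (v x) (v y) = 0 ↔ Commute x y) := fun hx hy => by simp [h3 _ hx _ hy]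
  refine ⟨n, D, v, t, h1, h2, c, fun {x y} hx hy e => h.rv x hx y hy fun z hz => by rw [← c hx hz, ← c hy hz, e],
    fun {x y} hx hy => ?_⟩
  by_cases hxy : Commute x y
  · rw [(t.conj_eq_iff hx).2 hxy, (c hx hy).2 hxy]; simp
  refine span_ext h1 h2 ?_
  rintro _ ⟨z, hz, rfl⟩
  rw [D.B_add_right, D.B_smul_right, h3 _ hz _ (t.conj x hx y hy), h3 _ hz _ hy, h3 _ hz _ hx, h3 _ hx _ hy]
  simp only [hxy, if_false, one_mul]
  by_cases a : Commute z x <;> by_cases b : Commute z y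
  · simp [a, b, TT.commute_conj a b]
  · simp [a, b, t.not_commute_conj hx a b]
  · simp [a, b, t.braid hx hy hxy, t.not_commute_conj hy b a]
  · simp [a, b, hs x hx y hy z hz hxy a b]; rfl

namespace SR
variable {n : ℕ} {D : Form (altKind (ZMod 2)) (V2 n)} {v : G → V2 n} (S : SR Y D v)
include S

theorem B0 {x y : G} (hx : x ∈ Y) (hy : y ∈ Y) (h : Commute x y) : D.B (v x) (v y) = 0 := (S.comm hx hy).2 h
theorem B1 {x y : G} (hx : x ∈ Y) (hy : y ∈ Y) (h : ¬ Commute x y) : D.B (v x) (v y) = 1 :=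
  z2_one fun e => h ((S.comm hx hy).1 e)
theorem nc {x y : G} (hx : x ∈ Y) (hy : y ∈ Y) (h : D.B (v x) (v y) = 1) : ¬ Commute x y :=
  fun c => by simp [S.B0 hx hy c] at h
theorem add {x y : G} (hx : x ∈ Y) (hy : y ∈ Y) (h : ¬ Commute x y) : v (x * y * x) = v x + v y := by
  rw [S.conj hx hy, S.B1 hx hy h, one_smul, add_comm]
theorem ext {u w : V2 n} (h : ∀ x ∈ Y, D.B (v x) u = D.B (v x) w) : u = w :=
  span_ext S.nd S.span (by rintro _ ⟨z, hz, rfl⟩; exact h z hz)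
theorem add_mem {u w : V2 n} (hu : u ∈ v '' Y) (hw : w ∈ v '' Y) (h : D.B u w = 1) : u + w ∈ v '' Y := by
  obtain ⟨x, hx, rfl⟩ := hu
  obtain ⟨y, hy, rfl⟩ := hw
  exact ⟨_, S.tt.conj x hx y hy, S.add hx hy (S.nc hx hy h)⟩

theorem ind {P : V2 n → Prop} (h0 : P 0) (h1 : ∀ u, ∀ x ∈ Y, P u → P (u + v x)) (u : V2 n) : P u := by
  have : ∀ w ∈ Submodule.span (ZMod 2) (v '' Y), ∀ u, P u → P (u + w) := fun w hw => by
    induction hw using Submodule.span_induction with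
    | mem w hw => obtain ⟨x, hx, rfl⟩ := hw; exact fun u => h1 u x hx
    | zero => simp
    | add x y _ _ hx hy => exact fun u hu => add_assoc u x y ▸ hy _ (hx _ hu)
    | smul c x _ hx => rcases z2 c with rfl | rfl <;> simp [hx]; exact hx
  simpa using this u (S.span ▸ trivial) 0 h0

theorem act {g : G} (hg : g ∈ closure Y) : ∃ φ : D.isom, ∀ x ∈ Y, v (g * x * g⁻¹) = φ.1 (v x) := by
  induction hg using closure_induction'' with
  | mem g hg => exact ⟨Symp.tv D (v g) 1, fun x hx => by rw [S.tt.inv hg, S.conj hg hx, Symp.tv_apply, one_mul]⟩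
  | inv_mem g hg => exact ⟨Symp.tv D (v g) 1, fun x hx => by rw [inv_inv, S.tt.inv hg, S.conj hg hx, Symp.tv_apply, one_mul]⟩
  | one => exact ⟨1, fun x _ => by simp⟩
  | mul g k hg hk a b =>
    obtain ⟨φ, hφ⟩ := a
    obtain ⟨ψ, hψ⟩ := b
    exact ⟨φ * ψ, fun x hx => by rw [← conj_conj', hφ _ (S.tt.conj_mem hk hx), hψ x hx]; rfl⟩

theorem symp : Symp Y := fun a ha b hb x hx h1 h2 h3 => by
  rw [← S.comm hx (S.tt.conj a ha b hb), S.add ha hb h1, map_add, S.B1 hx ha h2, S.B1 hx hb h3]; rfl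

variable (h : R3 Y)
include h

theorem ne0 {x : G} (hx : x ∈ Y) : v x ≠ 0 := fun e => by
  obtain ⟨y, hy, n⟩ := h.nc x hx
  exact n ((S.comm hx hy).1 (by simp [e]))

theorem all2 {a b : G} (ha : a ∈ Y) (hb : b ∈ Dd Y a) (e : v a + v b ∈ v '' Y) {u : V2 n} (hu : u ≠ 0) : u ∈ v '' Y := by
  refine (S.ind (P := fun u => u = 0 ∨ u ∈ v '' Y) (Or.inl rfl) ?_ u).resolve_left hu
  rintro _ x hx (rfl | ⟨y, hy, rfl⟩)
  · exact Or.inr ⟨x, hx, by simp⟩
  by_cases c : Commute y x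
  swap
  · exact Or.inr (S.add_mem ⟨y, hy, rfl⟩ ⟨x, hx, rfl⟩ (S.B1 hy hx c))
  by_cases q : x = y
  · exact Or.inl (q ▸ v2_add _)
  obtain ⟨g, hg, rfl, rfl⟩ := h.tr_dd ha hy hb ⟨hx, q, c⟩
  obtain ⟨φ, hφ⟩ := S.act hg
  obtain ⟨z, hz, e⟩ := e
  exact Or.inr ⟨_, h.tt.conj_mem hg hz, by rw [hφ z hz, hφ a ha, hφ b hb.1, e, map_add]⟩

theorem all2_of_v {d y y' : G} (hd : d ∈ Y) (hy : y ∈ Dd Y d) (hy' : y' ∈ Dd Y d) (hn : y ≠ y') (r : RV (Dd Y d) y y') :
    v y + v y' = v d := by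
  have k : ∀ z ∈ Y, Commute d z → D.B (v z) (v y + v y') = 0 := fun z hz c => by
    by_cases q : z = d
    · rw [q, map_add, S.B0 hd hy.1 hy.2.2, S.B0 hd hy'.1 hy'.2.2, add_zero]
    by_cases p : Commute y z
    · rw [map_add, S.B0 hz hy.1 p.symm, S.B0 hz hy'.1 ((r z ⟨hz, q, c⟩).1 p).symm, add_zero]
    · rw [map_add, S.B1 hz hy.1 (p ·.symm), S.B1 hz hy'.1 (fun c' => p ((r z ⟨hz, q, c⟩).2 c'.symm))]; rfl
  have k2 : ∀ a ∈ Y, ∀ b ∈ Y, ¬ Commute d a → ¬ Commute d b → D.B (v a) (v y + v y') = D.B (v b) (v y + v y') := by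
    intro a ha b hb h1 h2
    obtain ⟨g, hg, rfl⟩ := h.tnc d hd a ha b hb h1 h2
    clear hb h2
    have sub : ∀ {g}, g ∈ closure {y | y ∈ Y ∧ Commute d y} → g ∈ closure Y := fun hg => closure_mono (fun _ a => a.1) hg
    induction hg using closure_induction_left with
    | one => simp
    | mul_left x hx g hg ih =>
      rw [← conj_conj', h.tt.inv hx.1, S.conj hx.1 (h.tt.conj_mem (sub hg) ha), D.B_add_left, D.B_smul_left, k x hx.1 hx.2, ih]; simp
    | inv_mul_cancel x hx g hg ih =>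
      rw [h.tt.inv hx.1, ← conj_conj', h.tt.inv hx.1, S.conj hx.1 (h.tt.conj_mem (sub hg) ha), D.B_add_left, D.B_smul_left, k x hx.1 hx.2, ih]; simp
  by_contra q
  have : ∃ a ∈ Y, ¬ Commute d a ∧ D.B (v a) (v y + v y') = 0 := by
    by_contra p
    push Not at p
    refine q (S.ext fun x hx => ?_)
    by_cases c : Commute d x
    · rw [k x hx c, S.B0 hx hd c.symm]
    · rw [z2_one (p x hx c), S.B1 hx hd (c ·.symm)]
  obtain ⟨a, ha, h1, h2⟩ := this
  refine hn (S.inj hy.1 hy'.1 (v2_eq.1 (S.ext fun x hx => ?_)))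
  rw [map_zero]
  by_cases c : Commute d x
  · exact k x hx c
  · rw [k2 x hx a ha c h1, h2]

end SR

/-- A model of the transpositions of the symmetric group on `ι`. -/
structure SN (Y : Set G) {ι : Type*} (s : ι → ι → G) : Prop where
  tt : TT Y
  mem : ∀ {i j}, i ≠ j → s i j ∈ Y
  surj : ∀ x ∈ Y, ∃ i j, i ≠ j ∧ s i j = x
  symm : ∀ i j, s i j = s j i
  tri : ∀ {i j k}, i ≠ j → i ≠ k → j ≠ k → s i j * s j k * s i j = s i k
  nc : ∀ {i j k}, i ≠ j → i ≠ k → j ≠ k → ¬ Commute (s i j) (s j k)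
  comm : ∀ {i j k l}, i ≠ j → k ≠ l → i ≠ k → i ≠ l → j ≠ k → j ≠ l → Commute (s i j) (s k l)

theorem exists_not_mem4 {ι : Type*} [Fintype ι] (h : 5 ≤ Fintype.card ι) (i j k l : ι) : ∃ m, m ≠ i ∧ m ≠ j ∧ m ≠ k ∧ m ≠ l := by
  classical
  obtain ⟨m, -, hm⟩ := Finset.exists_mem_notMem_of_card_lt_card (s := {i, j, k, l}) (t := Finset.univ)
    (lt_of_le_of_lt Finset.card_le_four (by rw [Finset.card_univ]; omega))
  exact ⟨m, by simpa using hm⟩

theorem sn_swap (ι : Type*) [DecidableEq ι] [Finite ι] : SN {σ : Equiv.Perm ι | σ.IsSwap} Equiv.swap := by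
  have t : ∀ {i j k : ι}, i ≠ j → i ≠ k → j ≠ k → Equiv.swap i j * Equiv.swap j k * Equiv.swap i j = Equiv.swap i k :=
    fun {i j k} a b c => by
      have := Equiv.swap_apply_apply (Equiv.swap i j) j k
      rw [Equiv.swap_inv, Equiv.swap_apply_right, Equiv.swap_apply_of_ne_of_ne b.symm c.symm] at this
      exact this.symm
  have c : ∀ {i j k l : ι}, i ≠ j → k ≠ l → i ≠ k → i ≠ l → j ≠ k → j ≠ l → Commute (Equiv.swap i j) (Equiv.swap k l) :=
    fun {i j k l} _ _ a b c d => by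
      have := Equiv.swap_apply_apply (Equiv.swap i j) k l
      rw [Equiv.swap_apply_of_ne_of_ne a.symm c.symm, Equiv.swap_apply_of_ne_of_ne b.symm d.symm] at this
      exact conj_eq_self_iff.1 this.symm
  have cb : ∀ {i j k : ι}, i ≠ j → i ≠ k → j ≠ k → (Equiv.swap i j * Equiv.swap j k) ^ 3 = 1 := fun {i j k} a b c => by
    have h1 := t a b c
    have h2 := t c.symm b.symm a.symm
    rw [Equiv.swap_comm k j, Equiv.swap_comm j i, Equiv.swap_comm k i, ← h1] at h2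
    calc _ = (Equiv.swap i j * Equiv.swap j k * Equiv.swap i j) * (Equiv.swap j k * Equiv.swap i j * Equiv.swap j k) := by
          simp only [pow_succ, pow_zero, one_mul, mul_assoc]
      _ = 1 := by rw [h2, h1, Equiv.swap_mul_self]
  refine ⟨TT.of_conj ⟨?_, ?_⟩ ?_, fun h => ⟨_, _, h, rfl⟩, fun x ⟨i, j, h, e⟩ => ⟨i, j, h, e.symm⟩, Equiv.swap_comm, t,
    fun {i j k} a b c q => ?_, c⟩
  · rintro _ ⟨i, j, h, rfl⟩; exact orderOf_eq_two_iff'.2 ⟨Equiv.swap_mul_self _ _, by simpa using h⟩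
  · rintro _ ⟨i, j, h, rfl⟩ _ ⟨k, l, h', rfl⟩
    by_cases a : i = k
    · subst a
      by_cases b : j = l
      · simp [b]
      · exact Or.inr (Equiv.swap_comm j i ▸ cb h.symm b h')
    by_cases b : i = l
    · subst b
      by_cases a' : j = k
      · simp [a', Equiv.swap_comm]
      · exact Or.inr (Equiv.swap_comm j i ▸ Equiv.swap_comm i k ▸ cb h.symm a' a)
    by_cases a' : j = k
    · subst a'; exact Or.inr (cb h b h')
    by_cases b' : j = l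
    · subst b'; exact Or.inr (Equiv.swap_comm j k ▸ cb h a a')
    · exact Or.inl (by rw [(c h h' a b a' b').mul_pow]; simp [sq])
  · rintro g _ ⟨i, j, h, rfl⟩; exact ⟨g i, g j, by simpa using h, (Equiv.swap_apply_apply _ _ _).symm⟩
  · have := congrArg (· j) q.eq
    simp [Equiv.swap_apply_of_ne_of_ne b.symm c.symm, Equiv.swap_apply_of_ne_of_ne a b] at this
    exact b this.symm

namespace SN
variable {ι : Type*} {s : ι → ι → G} (S : SN Y s)
include S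

theorem nc' {i j k : ι} (a : i ≠ j) (b : i ≠ k) (c : j ≠ k) : ¬ Commute (s i j) (s i k) := S.symm j i ▸ S.nc a.symm c b

theorem comm_iff {i j k l : ι} (a : i ≠ j) (b : k ≠ l) :
    Commute (s i j) (s k l) ↔ (i = k ∧ j = l) ∨ (i = l ∧ j = k) ∨ (i ≠ k ∧ i ≠ l ∧ j ≠ k ∧ j ≠ l) := by
  refine ⟨fun q => ?_, ?_⟩
  · by_cases c : i = k
    · subst c; exact Or.inl ⟨rfl, by_contra fun d => S.nc' a b d q⟩
    by_cases d : i = l
    · subst d; exact Or.inr (Or.inl ⟨rfl, by_contra fun e => S.nc' a c e (S.symm k i ▸ q)⟩)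
    refine Or.inr (Or.inr ⟨c, d, ?_, ?_⟩)
    · rintro rfl; exact S.nc a d b q
    · rintro rfl; exact S.nc a c b.symm (S.symm k j ▸ q)
  · rintro (⟨rfl, rfl⟩ | ⟨rfl, rfl⟩ | ⟨c, d, e, f⟩)
    exacts [Commute.refl _, S.symm i j ▸ Commute.refl _, S.comm a b c d e f]

theorem conj [DecidableEq ι] {i j k l : ι} (a : i ≠ j) (b : k ≠ l) :
    s i j * s k l * s i j = s (Equiv.swap i j k) (Equiv.swap i j l) := by
  have t := S.tt
  have q : ∀ {i j k l : ι}, i ≠ j → k ≠ l → k = j → s i j * s k l * s i j = s (Equiv.swap i j k) (Equiv.swap i j l) := by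
    rintro i k j l a b rfl
    by_cases c : l = i
    · simp [c, S.symm j i, t.sq (S.mem a)]
    · rw [Equiv.swap_apply_right, Equiv.swap_apply_of_ne_of_ne c b.symm, S.tri a (Ne.symm c) b]
  by_cases c : k = j
  · exact q a b c
  by_cases d : k = i
  · rw [S.symm i j, Equiv.swap_comm]; exact q a.symm b d
  by_cases e : l = j
  · rw [S.symm k l, S.symm (Equiv.swap i j k)]; exact q a b.symm e
  by_cases f : l = i
  · rw [S.symm i j, Equiv.swap_comm, S.symm k l, S.symm (Equiv.swap j i k)]; exact q a.symm b.symm f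
  rw [Equiv.swap_apply_of_ne_of_ne d c, Equiv.swap_apply_of_ne_of_ne f e,
    (t.conj_eq_iff (S.mem a)).2 (S.comm a b (Ne.symm d) (Ne.symm f) (Ne.symm c) (Ne.symm e))]

theorem comp {κ : Type*} (e : κ ≃ ι) : SN Y fun i j => s (e i) (e j) :=
  ⟨S.tt, fun a => S.mem (e.injective.ne a), fun x hx => by
    obtain ⟨i, j, a, rfl⟩ := S.surj x hx; exact ⟨e.symm i, e.symm j, e.symm.injective.ne a, by simp⟩,
    fun _ _ => S.symm _ _, fun a b c => S.tri (e.injective.ne a) (e.injective.ne b) (e.injective.ne c),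
    fun a b c => S.nc (e.injective.ne a) (e.injective.ne b) (e.injective.ne c),
    fun a b c d f g => S.comm (e.injective.ne a) (e.injective.ne b) (e.injective.ne c) (e.injective.ne d)
      (e.injective.ne f) (e.injective.ne g)⟩

variable [Fintype ι] (h5 : 5 ≤ Fintype.card ι)
include h5

theorem eq_iff {i j k l : ι} (a : i ≠ j) (b : k ≠ l) : s i j = s k l ↔ (i = k ∧ j = l) ∨ (i = l ∧ j = k) := by
  refine ⟨fun q => ?_, ?_⟩
  · obtain ⟨m, h1, h2, h3, h4⟩ := exists_not_mem4 h5 i j k l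
    rcases (S.comm_iff a b).1 (q ▸ Commute.refl _) with c | c | c
    exacts [Or.inl c, Or.inr c, (S.nc' a h1.symm h2.symm (q ▸ S.comm b h1.symm c.1.symm h3.symm c.2.1.symm h4.symm)).elim]
  · rintro (⟨rfl, rfl⟩ | ⟨rfl, rfl⟩)
    exacts [rfl, S.symm _ _]

theorem corr {Z : Set H} {t : ι → ι → H} (T : SN Z t) : ∃ ρ, Corr Y Z ρ := by
  classical
  exact ⟨_, Corr.of_param (P := fun p : ι × ι => p.1 ≠ p.2) (s := fun p => s p.1 p.2) (t := fun p => t p.1 p.2) S.tt T.tt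
    (fun x => ⟨fun hx => let ⟨i, j, a, e⟩ := S.surj x hx; ⟨(i, j), a, e⟩, fun ⟨_, a, e⟩ => e ▸ S.mem a⟩)
    (fun x => ⟨fun hx => let ⟨i, j, a, e⟩ := T.surj x hx; ⟨(i, j), a, e⟩, fun ⟨_, a, e⟩ => e ▸ T.mem a⟩)
    (fun _ _ a b => (S.eq_iff h5 a b).trans (T.eq_iff h5 a b).symm)
    fun p q a b => ⟨(Equiv.swap p.1 p.2 q.1, Equiv.swap p.1 p.2 q.2), (Equiv.injective _).ne b, (S.conj a b).symm, (T.conj a b).symm⟩⟩

theorem iso [DecidableEq ι] (h : closure Y = ⊤) (hZ : center G = ⊥) :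
    ∃ e : G ≃* Equiv.Perm ι, e '' Y = {σ | σ.IsSwap} := by
  obtain ⟨ρ, C⟩ := S.corr h5 (sn_swap ι)
  refine C.iso h hZ Equiv.Perm.closure_isSwap (eq_bot_iff.2 fun g hg => Equiv.ext fun i => by_contra fun n => ?_)
  obtain ⟨m, h1, h2, -⟩ := exists_not_mem4 h5 i (g i) i i
  have := congrArg (· i) (mem_center_iff.1 hg (Equiv.swap (g i) m))
  simp only [Equiv.Perm.mul_apply, Equiv.swap_apply_left,
    Equiv.swap_apply_of_ne_of_ne (show i ≠ g i from fun e => n e.symm) h1.symm] at this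
  exact h2 this

end SN

open Classical in
noncomputable def ob {α : Type*} (i j : Option α) : ZMod 2 := if i = none ∨ j = none ∨ i = j then 0 else 1

theorem ob1 {α : Type*} {i j k : Option α} (a : i ≠ j) (b : i ≠ k) (c : j ≠ k) : ob i j + ob i k + (ob j j + ob j k) = 1 := by
  rcases i with _ | i <;> rcases j with _ | j <;> rcases k with _ | k <;> simp_all [ob]; rfl

theorem ob0 {α : Type*} {i j k l : Option α} (a : i ≠ j) (b : k ≠ l) (c : i ≠ k) (d : i ≠ l) (e : j ≠ k) (f : j ≠ l) :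
    ob i k + ob i l + (ob j k + ob j l) = 0 := by
  rcases i with _ | i <;> rcases j with _ | j <;> rcases k with _ | k <;> rcases l with _ | l <;> simp_all [ob] <;> rfl

instance ncSymm : Std.Symm fun x y : G => ¬ Commute x y := ⟨fun _ _ a b => a b.symm⟩

def Claw (Y : Set G) : Prop := ∃ a ∈ Y, ∃ b ∈ Dd Y a, ∃ e ∈ Dd (Dd Y a) b, ∃ c ∈ Y, ¬ Commute c a ∧ ¬ Commute c b ∧ ¬ Commute c e

namespace SR
variable {n : ℕ} {D : Form (altKind (ZMod 2)) (V2 n)} {v : G → V2 n} (S : SR Y D v) (h : R3 Y)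
include S h

theorem chain : ∃ b ∈ Y, ∃ a ∈ Y, ∃ c ∈ Y, ∃ d ∈ Y, ¬ Commute b a ∧ Commute b c ∧ Commute b d ∧ ¬ Commute a c ∧
    Commute a d ∧ ¬ Commute c d := by
  obtain ⟨d, hd⟩ := h.ne
  obtain ⟨a, ha⟩ := h.dd d hd
  obtain ⟨b, hb, n1⟩ := h.nc_dd hd ha
  obtain ⟨c, hc, n2, n3⟩ := h.nc2 ha.1 hd ha.2.1 ha.2.2.symm
  by_cases q : Commute c b
  · exact ⟨b, hb.1, a, ha.1, c, hc, d, hd, (n1 ·.symm), q.symm, hb.2.2.symm, (n2 ·.symm), ha.2.2.symm, n3⟩
  · exact ⟨_, h.tt.conj a ha.1 b hb.1, a, ha.1, c, hc, d, hd, (h.tt.not_commute_third ha.1 n1 ·.symm),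
      (S.symp a ha.1 b hb.1 c hc n1 n2 q).symm, (TT.commute_conj ha.2.2 hb.2.2).symm, (n2 ·.symm), ha.2.2.symm, n3⟩

theorem sn [Finite G] (hc : ¬ Claw Y) : ∃ m, 5 ≤ m ∧ ∃ s : Fin m → Fin m → G, SN Y s := by
  classical
  have t := h.tt
  let C : Set (Set G) := {W | W ⊆ Y ∧ (W.Pairwise fun x y => ¬ Commute x y) ∧ 4 ≤ W.ncard}
  have hC : C.Nonempty := by
    obtain ⟨b, hb, a, ha, c, hc, d, hd, h1, h2, h3, h4, h5, h6⟩ := S.chain h
    have hb' := t.conj b hb a ha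
    have hd' := t.conj d hd c hc
    have e1 := S.add hb ha h1
    have e2 := S.add hd hc (h6 ·.symm)
    have n1 : ¬ Commute a (b * a * b) := t.not_commute_third' hb ha h1
    have n2 : ¬ Commute c (d * c * d) := t.not_commute_third' hd hc (h6 ·.symm)
    have n3 : ¬ Commute a (d * c * d) := t.not_commute_conj hd h5 h4
    have n4 : ¬ Commute c (b * a * b) := t.not_commute_conj hb h2.symm (h4 ·.symm)
    have n5 : ¬ Commute (b * a * b) (d * c * d) := S.nc hb' hd' (by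
      simp [e1, e2, S.B0 hb hd h3, S.B0 hb hc h2, S.B0 ha hd h5, S.B1 ha hc h4])
    have k : ∀ {x y : G}, ¬ Commute x y → x ≠ y := fun c e => c (e ▸ Commute.refl _)
    refine ⟨{a, c, b * a * b, d * c * d}, by simp [Set.insert_subset_iff, *], ?_, ?_⟩
    · simp only [Set.pairwise_insert_of_symm (r := fun x y : G => ¬ Commute x y), Set.pairwise_singleton]
      simp [*]
    · rw [Set.ncard_insert_of_notMem (by simp [k h4, k n1, k n3]), Set.ncard_insert_of_notMem (by simp [k n2, k n4]),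
        Set.ncard_pair (k n5)]
  obtain ⟨W, ⟨hW, hp, h4⟩, hm⟩ := Set.exists_max_image C Set.ncard (Set.toFinite C) hC
  have mx : ∀ y ∈ Y, (∀ w ∈ W, ¬ Commute y w) → False := fun y hy n => by
    have y1 : y ∉ W := fun c => n y c (Commute.refl y)
    have := hm (insert y W) ⟨Set.insert_subset hy hW, (Set.pairwise_insert_of_symm (r := fun x y : G => ¬ Commute x y)).2
      ⟨hp, fun b hb _ => n b hb⟩, by rw [Set.ncard_insert_of_notMem y1]; omega⟩
    rw [Set.ncard_insert_of_notMem y1] at this; omega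
  have bw : ∀ x ∈ W, ∀ y ∈ W, D.B (v x) (v y) = if x = y then 0 else 1 := fun x hx y hy => by
    split_ifs with q
    exacts [q ▸ Symp.B_self _ _, S.B1 (hW hx) (hW hy) (hp hx hy q)]
  have := Fintype.ofFinite W
  let e : Option W → V2 n := fun i => i.elim 0 fun w => v w
  let s : Option W → Option W → G := fun i j => Function.invFunOn v Y (e i + e j)
  have ex : ∀ {i j}, i ≠ j → ∃ x ∈ Y, v x = e i + e j := by
    rintro (_ | i) (_ | j) q
    · exact (q rfl).elim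
    · exact ⟨j, hW j.2, by simp [e]⟩
    · exact ⟨i, hW i.2, by simp [e]⟩
    · exact S.add_mem ⟨i, hW i.2, rfl⟩ ⟨j, hW j.2, rfl⟩ ((bw _ i.2 _ j.2).trans (if_neg (by simpa [Subtype.val_inj] using q)))
  have sm : ∀ {i j}, i ≠ j → s i j ∈ Y := fun q => Function.invFunOn_mem (ex q)
  have sv : ∀ {i j}, i ≠ j → v (s i j) = e i + e j := fun q => Function.invFunOn_eq (ex q)
  have be : ∀ i j, D.B (e i) (e j) = ob i j := by
    rintro (_ | i) (_ | j) <;> simp [e, ob, bw, Subtype.val_inj]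
  have b1 : ∀ {i j k}, i ≠ j → i ≠ k → j ≠ k → D.B (v (s i j)) (v (s j k)) = 1 := fun {i j k} a b c => by
    simp only [sv a, sv c, D.B_add_left, D.B_add_right, be, ob1 a b c]
  have card : 5 ≤ Fintype.card (Option W) := by
    rw [Fintype.card_option, ← Nat.card_eq_fintype_card, Nat.card_coe_set_eq]; omega
  have ws : ∀ w ∈ W, ∃ i j, i ≠ j ∧ s i j = w := fun w hw =>
    ⟨none, some ⟨w, hw⟩, by simp, S.inj (sm (by simp)) (hW hw) (by rw [sv (by simp)]; simp [e])⟩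
  have T : SN Y s := by
    refine ⟨t, sm, ?_, fun i j => by simp only [s, add_comm], fun {i j k} a b c => ?_, fun a b c => S.nc (sm a) (sm c) (b1 a b c),
      fun {i j k l} a b c d f g => (S.comm (sm a) (sm b)).1 ?_⟩
    rotate_left
    · refine S.inj (t.conj _ (sm a) _ (sm c)) (sm b) ?_
      rw [S.add (sm a) (sm c) (S.nc (sm a) (sm c) (b1 a b c)), sv a, sv b, sv c, add_assoc, ← add_assoc (e j), v2_add, zero_add]
    · simp only [sv a, sv b, D.B_add_left, D.B_add_right, be, ob0 a b c d f g]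
    have key : ∀ y ∈ Y, (¬ ∃ i j, i ≠ j ∧ s i j = y) → ∀ w ∈ W, Commute y w := fun y hy n w1 hw1 => by
      by_contra n1
      obtain ⟨w0, hw0, c0⟩ : ∃ w ∈ W, Commute y w := by
        by_contra c; push Not at c; exact mx y hy c
      have n01 : w1 ≠ w0 := fun q => n1 (q ▸ c0)
      by_cases q : ∃ w2 ∈ W, w2 ≠ w1 ∧ ¬ Commute y w2
      · obtain ⟨w2, hw2, n21, n2⟩ := q
        have n02 : w2 ≠ w0 := fun q => n2 (q ▸ c0)
        have a : (some ⟨w1, hw1⟩ : Option W) ≠ some ⟨w2, hw2⟩ := by simpa using n21.symm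
        have a' : (some ⟨w1, hw1⟩ : Option W) ≠ some ⟨w0, hw0⟩ := by simpa using n01
        have y0 := S.B0 hy (hW hw0) c0
        have y1 := S.B1 hy (hW hw1) n1
        have y2 := S.B1 hy (hW hw2) n2
        refine hc ⟨y, hy, w0, ⟨hW hw0, fun q => n (q ▸ ws w0 hw0), c0⟩, s _ _, ⟨⟨sm a, fun q => n ⟨_, _, a, q⟩, ?_⟩, fun q => ?_, ?_⟩,
          _, sm a', S.nc (sm a') hy ?_, S.nc (sm a') (hW hw0) ?_, S.nc (sm a') (sm a) ?_⟩
        · rw [← S.comm hy (sm a), sv a]; simp [e, y1, y2]; rfl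
        · obtain ⟨w, hw, q1⟩ := Set.exists_mem_notMem_of_ncard_lt_ncard (s := {w0, w1, w2}) (t := W)
            (lt_of_le_of_lt (Set.ncard_insert_le _ _) (by rw [Set.ncard_pair n21.symm]; omega))
          have := congrArg (fun u => D.B (v w) (v u)) q
          simp only [Set.mem_insert_iff, Set.mem_singleton_iff, not_or] at q1
          simp [sv a, e, bw, hw, hw0, hw1, hw2, q1, CharTwo.add_self_eq_zero] at this
        · rw [← S.comm (hW hw0) (sm a), sv a]; simp [e, bw, hw0, hw1, hw2, n01.symm, n02.symm]; rfl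
        · rw [alt2_symm, sv a']; simp [e, y0, y1]
        · rw [sv a']; simp [e, bw, hw0, hw1, n01]
        · rw [sv a', sv a]; simp [e, bw, hw0, hw1, hw2, n01.symm, n02.symm, n21.symm]; rfl
      push Not at q
      refine mx _ (t.conj w1 (hW hw1) y hy) fun w hw => S.nc (t.conj w1 (hW hw1) y hy) (hW hw) ?_
      rw [S.add (hW hw1) hy (n1 ·.symm), D.B_add_left, bw _ hw1 _ hw]
      split_ifs with r
      · rw [← r, S.B1 hy (hW hw1) n1, zero_add]
      · rw [S.B0 hy (hW hw) (q w hw (Ne.symm r)), add_zero]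
    intro x hx
    obtain ⟨w, hw⟩ : W.Nonempty := (Set.ncard_pos (Set.toFinite W)).1 (by omega)
    obtain ⟨g, hg, rfl⟩ := h.tr w (hW hw) x hx
    refine t.invariant_of_commute (P := {x | ∃ i j, i ≠ j ∧ s i j = x}) (fun _ ⟨_, _, a, e⟩ => e ▸ sm a) ?_ hg w (ws w hw)
    rintro _ ⟨i, j, a, rfl⟩ y hy n
    rw [← S.comm (sm a) hy, sv a, alt2_symm]
    rcases i with _ | i <;> rcases j with _ | j <;> simp [e, fun w : W => S.B0 hy (hW w.2) (key y hy n w w.2)]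
  exact ⟨_, card, _, T.comp (Fintype.equivFin _).symm⟩

theorem dim6 {a b e : G} (ha : a ∈ Y) (hb : b ∈ Dd Y a) (he : e ∈ Dd (Dd Y a) b) (h3 : v a + v b + v e ≠ 0) : 6 ≤ n := by
  have li : LinearIndependent (ZMod 2) ![v a, v b, v e] := by
    have n1 : v a + v b ≠ 0 := fun q => hb.2.1 (S.inj ha hb.1 (v2_eq.1 q)).symm
    have n2 : v a + v e ≠ 0 := fun q => he.1.2.1 (S.inj ha he.1.1 (v2_eq.1 q)).symm
    have n3 : v b + v e ≠ 0 := fun q => he.2.1 (S.inj hb.1 he.1.1 (v2_eq.1 q)).symm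
    refine Fintype.linearIndependent_iff.2 fun g hg => ?_
    rw [Fin.sum_univ_three] at hg
    rcases z2 (g 0) with p | p <;> rcases z2 (g 1) with q | q <;> rcases z2 (g 2) with r | r <;>
      simp [p, q, r, n1, n2, n3, h3, S.ne0 h ha, S.ne0 h hb.1, S.ne0 h he.1.1] at hg
    intro i; fin_cases i <;> assumption
  have h1 := finrank_span_eq_card li
  have h2 := S.nd.finrank_perp (Submodule.span _ (Set.range ![v a, v b, v e]))
  have h4 : Submodule.span _ (Set.range ![v a, v b, v e]) ≤ D.perp (Submodule.span _ (Set.range ![v a, v b, v e])) := by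
    refine Submodule.span_le.2 ?_
    rintro _ ⟨i, rfl⟩
    refine D.mem_perp_span.2 ?_
    rintro _ ⟨j, rfl⟩
    fin_cases i <;> fin_cases j <;> simp [Symp.B_self, S.B0 ha hb.1 hb.2.2, S.B0 ha he.1.1 he.1.2.2, S.B0 hb.1 he.1.1 he.2.2,
      S.B0 hb.1 ha hb.2.2.symm, S.B0 he.1.1 ha he.1.2.2.symm, S.B0 he.1.1 hb.1 he.2.2.symm]
  have := Submodule.finrank_mono h4
  simp only [Fintype.card_fin, Module.finrank_fin_fun] at h1 h2
  omega

theorem quad [Finite G] (hc : Claw Y) (h2 : ∀ a ∈ Y, ∀ b ∈ Dd Y a, v a + v b ∉ v '' Y) :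
    6 ≤ n ∧ ∃ Q : Form (quadKind (ZMod 2)) (V2 n), Q.B = D.B ∧ ∀ u, u ∈ v '' Y ↔ Q.Q u = 1 := by
  classical
  have t := h.tt
  obtain ⟨a, ha, b, hb, e, he, c, hc, n1, n2, n3⟩ := hc
  have R : R3 (Dd Y a) := by
    rcases h.tri ha with ⟨y, hy, y', hy', n, r⟩ | ⟨y, hy, y', hy', n, r⟩ | R
    · exact (he.2.1 (h.w2_of_w ha hy hy' n r a ha b hb e he.1 he.2.2).symm).elim
    · exact (h2 y hy.1 y' ⟨hy'.1, n.symm, r.commute hy'⟩ ⟨a, ha, (S.all2_of_v h ha hy hy' n r).symm⟩).elim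
    · exact R
  have m0 : v a + v b + v e ∈ v '' Y := by
    have b1 := S.B1 hc ha n1
    have b2 := S.B1 hc hb.1 n2
    have b3 := S.B1 hc he.1.1 n3
    have := S.add_mem ⟨c, hc, rfl⟩ (S.add_mem (S.add_mem (S.add_mem ⟨c, hc, rfl⟩ ⟨a, ha, rfl⟩ b1) ⟨b, hb.1, rfl⟩
      (by simp [b2, S.B0 ha hb.1 hb.2.2])) ⟨e, he.1.1, rfl⟩
      (by simp [b3, S.B0 ha he.1.1 he.1.2.2, S.B0 hb.1 he.1.1 he.2.2])) (by simp [b1, b2, b3, Symp.B_self]; rfl)
    rwa [add_assoc (v c), add_assoc (v c), ← add_assoc (v c), v2_add, zero_add] at this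
  have m3 : ∀ x ∈ Y, ∀ y ∈ Dd Y x, ∀ z ∈ Dd (Dd Y x) y, v x + v y + v z ∈ v '' Y := fun x hx y hy z hz => by
    obtain ⟨g, hg, rfl⟩ := h.tr a ha x hx
    obtain ⟨y, rfl⟩ : ∃ y', y = g * y' * g⁻¹ := ⟨g⁻¹ * y * g, by group⟩
    obtain ⟨z, rfl⟩ : ∃ y', z = g * y' * g⁻¹ := ⟨g⁻¹ * z * g, by group⟩
    rw [t.dd2_conj hg] at hz
    rw [t.conj_Dd_iff hg] at hy
    obtain ⟨k, hk, rfl, rfl⟩ := R.tr_dd hb hy he hz
    have e1 := conj_eq_of_commute (commute_of_mem_closure (fun _ a => a.2.2) hk)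
    obtain ⟨φ, hφ⟩ := S.act (mul_mem hg (closure_mono (Dd_subset Y a) hk))
    obtain ⟨w, hw, q⟩ := m0
    refine ⟨_, t.conj_mem (mul_mem hg (closure_mono (Dd_subset Y a) hk)) hw, ?_⟩
    rw [conj_conj', conj_conj', hφ w hw, hφ b hb.1, hφ e he.1.1, q, map_add, map_add, ← hφ a ha, ← conj_conj', e1]
  have z0 : (0 : V2 n) ∉ v '' Y := fun ⟨x, hx, e⟩ => S.ne0 h hx e
  have m4 : ∀ x ∈ Y, ∀ y ∈ Dd Y x, ∀ z ∈ Y, Commute x z → Commute y z → v x + v y + v z ∈ v '' Y := fun x hx y hy z hz c1 c2 => by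
    by_cases p : z = x
    · exact ⟨y, hy.1, by rw [p, add_right_comm, v2_add, zero_add]⟩
    by_cases q : z = y
    · exact ⟨x, hx, by rw [q, add_assoc, v2_add, add_zero]⟩
    exact m3 x hx y hy z ⟨⟨hz, p, c1⟩, q, c2⟩
  have two : ∀ x ∈ Y, ∀ y ∈ Y, v x + v y = 0 ∨ v x + v y ∈ v '' Y ∨ ∃ a ∈ Y, ∃ b ∈ Dd Y a, v x + v y = v a + v b := fun x hx y hy => by
    by_cases p : y = x
    · exact Or.inl (p ▸ v2_add _)
    by_cases q : Commute x y
    · exact Or.inr (Or.inr ⟨x, hx, y, ⟨hy, p, q⟩, rfl⟩)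
    · exact Or.inr (Or.inl ⟨_, t.conj x hx y hy, S.add hx hy q⟩)
  have tri := S.ind (P := fun u => u = 0 ∨ u ∈ v '' Y ∨ ∃ a ∈ Y, ∃ b ∈ Dd Y a, u = v a + v b) (Or.inl rfl) (by
    rintro _ x hx (rfl | ⟨y, hy, rfl⟩ | ⟨a, ha, b, hb, rfl⟩)
    · exact Or.inr (Or.inl ⟨x, hx, by simp⟩)
    · exact two y hy x hx
    by_cases p : Commute a x
    swap
    · rw [add_right_comm, ← S.add ha hx p]; exact two _ (t.conj a ha x hx) b hb.1
    by_cases q : Commute b x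
    · exact Or.inr (Or.inl (m4 a ha b hb x hx p q))
    · rw [add_assoc, ← S.add hb.1 hx q]; exact two a ha _ (t.conj b hb.1 x hx))
  let q : V2 n → ZMod 2 := fun u => if u ∈ v '' Y then 1 else 0
  have st : ∀ u, ∀ x ∈ Y, q (u + v x) = q u + 1 + D.B u (v x) := fun u x hx => by
    have bb : D.B (u + v x) (v x) = D.B u (v x) := by rw [D.B_add_left, Symp.B_self, add_zero]
    have uu : u + v x + v x = u := by rw [add_assoc, v2_add, add_zero]
    rcases z2 (D.B u (v x)) with p | p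
    · have : u + v x ∈ v '' Y ↔ u ∉ v '' Y := by
        refine ⟨?_, fun n => ?_⟩
        · rintro m ⟨y, hy, rfl⟩
          by_cases r : x = y
          · exact z0 (by rwa [r, v2_add] at m)
          · exact h2 y hy x ⟨hx, r, (S.comm hy hx).1 p⟩ m
        rcases tri u with rfl | m | ⟨a, ha, b, hb, rfl⟩
        · exact ⟨x, hx, by simp⟩
        · exact (n m).elim
        rw [D.B_add_left] at p
        by_cases r : Commute a x
        · exact m4 a ha b hb x hx r ((S.comm hb.1 hx).1 (by simpa [S.B0 ha hx r] using p))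
        · rw [add_right_comm]
          refine S.add_mem (S.add_mem ⟨a, ha, rfl⟩ ⟨x, hx, rfl⟩ (S.B1 ha hx r)) ⟨b, hb.1, rfl⟩ ?_
          rw [S.B1 ha hx r] at p
          rw [D.B_add_left, S.B0 ha hb.1 hb.2.2, zero_add, alt2_symm]
          exact z2_one fun r => by simp [r] at p
      simp only [q, this, p]; split_ifs <;> rfl
    · have : u + v x ∈ v '' Y ↔ u ∈ v '' Y :=
        ⟨fun m => uu ▸ S.add_mem m ⟨x, hx, rfl⟩ (bb ▸ p), fun m => S.add_mem m ⟨x, hx, rfl⟩ p⟩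
      simp only [q, this, p]; split_ifs <;> rfl
  have q0 : q 0 = 0 := if_neg z0
  refine ⟨S.dim6 h ha hb he fun e => z0 (e ▸ m0), ⟨D.B, q, fun x y => by simp [quadKind, alt2_symm D x y], fun u w => ?_, fun c x => ?_,
    fun x => by simp [Symp.B_self, quadKind, show (2 : ZMod 2) = 0 from rfl], fun x => ⟨_, rfl⟩⟩, rfl, fun u => by simp [q]⟩
  · induction w using S.ind with
    | h0 => simp [q0]
    | h1 w x hx ih =>
      rw [← add_assoc, st _ x hx, ih, st _ x hx]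
      simp only [quadKind, AddMonoidHom.id_apply, D.B_add_left, D.B_add_right]; ring
  · rcases z2 c with rfl | rfl <;> simp [q0]

end SR

def TSn (Y : Set G) (m : ℕ) : Prop := ∃ s : Fin m → Fin m → G, SN Y s
def TSp (Y : Set G) : Prop := ∃ n D v, SR Y (n := n) D v ∧ ∀ u ≠ 0, u ∈ v '' Y
def TO2 (Y : Set G) : Prop := ∃ n D v, SR Y (n := n) D v ∧ 6 ≤ n ∧
  ∃ Q : Form (quadKind (ZMod 2)) (V2 n), Q.B = D.B ∧ ∀ u, u ∈ v '' Y ↔ Q.Q u = 1

theorem R3.symp_cases [Finite G] (h : R3 Y) (hs : Symp Y) : (∃ m, 5 ≤ m ∧ TSn Y m) ∨ TSp Y ∨ TO2 Y := by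
  obtain ⟨n, D, v, S⟩ := h.toVW.sr hs
  by_cases c : Claw Y
  swap
  · exact Or.inl (S.sn h c)
  by_cases q : ∀ a ∈ Y, ∀ b ∈ Dd Y a, v a + v b ∉ v '' Y
  · exact Or.inr (Or.inr ⟨n, D, v, S, S.quad h c q⟩)
  · push Not at q
    obtain ⟨a, ha, b, hb, e⟩ := q
    exact Or.inr (Or.inl ⟨n, D, v, S, fun u hu => S.all2 h ha hb e hu⟩)

theorem R3.tsp_of_v [Finite G] (h : R3 Y) (hs : Symp Y) {d y y' : G} (hd : d ∈ Y) (hy : y ∈ Dd Y d) (hy' : y' ∈ Dd Y d)
    (hn : y ≠ y') (r : RV (Dd Y d) y y') : TSp Y := by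
  obtain ⟨n, D, v, S⟩ := h.toVW.sr hs
  exact ⟨n, D, v, S, fun u hu => S.all2 h hy.1 ⟨hy'.1, hn.symm, r.commute hy'⟩ ⟨d, hd, (S.all2_of_v h hd hy hy' hn r).symm⟩ hu⟩

theorem R3.tsn_of_w2 [Finite G] (h : R3 Y) (w : W2 Y) : TSn Y 5 := by
  obtain ⟨n, D, v, S⟩ := h.toVW.sr (h.symp_of_w2 w)
  obtain ⟨m, hm, s, T⟩ := S.sn h fun ⟨a, ha, b, hb, e, he, _⟩ => he.2.1 (w a ha b hb e he.1 he.2.2).symm
  obtain rfl | h6 := hm.eq_or_lt
  · exact ⟨s, T⟩
  obtain ⟨m, rfl⟩ : ∃ k, m = k + 6 := ⟨m - 6, by omega⟩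
  have h5 : 5 ≤ Fintype.card (Fin (m + 6)) := by simp
  have k : ∀ i j k l : Fin 6, i ≠ j → k ≠ l → i ≠ k → i ≠ l → j ≠ k → j ≠ l →
      s (i.natAdd m) (j.natAdd m) ∈ Dd Y (s (k.natAdd m) (l.natAdd m)) := fun i j k l a b c d e f =>
    ⟨T.mem (by simpa), fun q => by simpa [c, d] using (T.eq_iff h5 (by simpa) (by simpa)).1 q,
      T.comm (by simpa) (by simpa) (by simpa using c.symm) (by simpa using e.symm) (by simpa using d.symm) (by simpa using f.symm)⟩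
  exact ((k 2 3 4 5 (by decide) (by decide) (by decide) (by decide) (by decide) (by decide)).2.1
    (w _ (T.mem (by simp)) _ (k 2 3 0 1 (by decide) (by decide) (by decide) (by decide) (by decide) (by decide)) _
      (k 4 5 0 1 (by decide) (by decide) (by decide) (by decide) (by decide) (by decide))
      (k 4 5 2 3 (by decide) (by decide) (by decide) (by decide) (by decide) (by decide)).2.2)).elim

theorem corr_of_map (t : TT Y) (f : G → H) (h1 : ∀ x ∈ Y, f x * f x = 1 ∧ f x ≠ 1)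
    (h2 : ∀ x ∈ Y, ∀ y ∈ Y, f (x * y * x) = f x * f y * f x) (h3 : Set.InjOn f Y) :
    Corr Y (f '' Y) fun x k => x ∈ Y ∧ f x = k := by
  refine ⟨t, ⟨⟨?_, ?_⟩, ?_⟩, ?_, fun x hx => ⟨_, hx, rfl⟩, fun _ ⟨x, hx, e⟩ => ⟨x, hx, e⟩, ?_, ?_⟩
  · rintro _ ⟨x, hx, rfl⟩; exact orderOf_eq_two_iff'.2 (h1 x hx)
  · rintro _ ⟨x, hx, rfl⟩ _ ⟨y, hy, rfl⟩
    have := h2 x hx y hy
    by_cases c : Commute x y
    · rw [(t.conj_eq_iff hx).2 c] at this
      exact Or.inl (by rw [sq, ← mul_assoc, ← this, (h1 y hy).1])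
    · refine Or.inr ?_
      calc _ = (f x * f y * f x) * (f y * f x * f y) := by simp only [pow_succ, pow_zero, one_mul, mul_assoc]
        _ = 1 := by rw [← h2 y hy x hx, ← t.braid hx hy c, ← this, (h1 _ (t.conj x hx y hy)).1]
  · rintro _ ⟨x, hx, rfl⟩ _ ⟨y, hy, rfl⟩; exact ⟨_, t.conj x hx y hy, h2 x hx y hy⟩
  · rintro x _ ⟨hx, rfl⟩; exact ⟨hx, x, hx, rfl⟩
  · rintro x _ y _ ⟨hx, rfl⟩ ⟨hy, rfl⟩; exact (h3.eq_iff hx hy).symm
  · rintro x _ y _ ⟨hx, rfl⟩ ⟨hy, rfl⟩; exact ⟨t.conj x hx y hy, h2 x hx y hy⟩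

theorem SR.iso_of {n : ℕ} {D : Form (altKind (ZMod 2)) (V2 n)} {v : G → V2 n} (S : SR Y D v) (h : R3 Y)
    (h1 : closure Y = ⊤) (h2 : center G = ⊥) {L : Subgroup (V2 n ≃ₗ[ZMod 2] V2 n)} (hL : ∀ g ∈ L, g ∈ D.isom) (f : G → L)
    (hf : ∀ x ∈ Y, ∀ u, (f x).1 u = u + D.B (v x) u • v x) (ht : closure (f '' Y) = ⊤) :
    ∃ e : G ≃* L, e '' Y = f '' Y := by
  have e : ∀ x ∈ Y, (f x).1 = (Symp.tv D (v x) 1).1 := fun x hx => LinearEquiv.ext fun u => by rw [hf x hx, Symp.tv_apply, one_mul]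
  have inj : ∀ p q : V2 n, p ≠ 0 → (Symp.tv D p 1).1 = (Symp.tv D q 1).1 → p = q := fun p q hp e => by
    obtain ⟨y, hy⟩ := S.nd.exists_ne_zero hp
    have := congrArg (· y) e
    simp only [Symp.tv_apply, one_mul, z2_one hy, add_right_inj, one_smul] at this
    rcases z2 (D.B q y) with r | r <;> simp_all
  refine (corr_of_map S.tt f (fun x hx => ⟨Subtype.ext ?_, fun q => ?_⟩) (fun x hx y hy => Subtype.ext ?_)
    fun x hx y hy q => S.inj hx hy (inj _ _ (S.ne0 h hx) (by rw [← e x hx, ← e y hy, q]))).iso h1 h2 ht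
    (eq_bot_iff.2 fun g hg => Subtype.ext (LinearEquiv.ext fun u => ?_))
  · rw [coe_mul, e x hx, ← coe_mul, ← Symp.tv_add]; simp [CharTwo.add_self_eq_zero]
  · exact S.ne0 h hx (inj _ 0 (S.ne0 h hx) (by rw [← e x hx, q]; simp))
  · rw [coe_mul, coe_mul, e x hx, e y hy, e _ (S.tt.conj x hx y hy), ← coe_mul, ← coe_mul, S.conj hx hy]
    have := Symp.conj_tv (Symp.tv D (v x) 1) (v y) 1
    rw [Symp.tv_inv, CharTwo.neg_eq, Symp.tv_apply, one_mul] at this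
    rw [this]
  · induction u using S.ind with
    | h0 => simp
    | h1 u x hx ih =>
      have := congrArg Subtype.val (Symp.conj_tv ⟨g.1, hL _ g.2⟩ (v x) 1)
      have q := congrArg Subtype.val (mem_center_iff.1 hg (f x))
      simp only [coe_mul, InvMemClass.coe_inv, ← e x hx] at this q
      rw [← q, mul_inv_cancel_right, e x hx] at this
      rw [map_add, map_add, ih, ← inj _ _ (S.ne0 h hx) this]; rfl

theorem supp_refl {F V : Type*} [Field F] [AddCommGroup V] [Module F V] [FiniteDimensional F V] {D : Form (quadKind F) V}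
    (hD : D.Nondeg) (g : D.isom) : finrank F (supp g.1) = 1 ↔ ∃ v, D.Q v ≠ 0 ∧ D.refl v = g :=
  ⟨fun h => let ⟨v, a, b⟩ := hD.exists_eq_refl h; ⟨v, a, b.symm⟩, fun ⟨_, a, b⟩ => b ▸ hD.finrank_range_refl a⟩

theorem supp_rk1 {F V : Type*} [Field F] {σ : F →+* F} {K : Kind σ} [AddCommGroup V] [Module F V] [FiniteDimensional F V]
    {D : Form K V} (hD : D.Nondeg) (g : D.isom) : finrank F (supp g.1) = 1 ↔ ∃ p c h, p ≠ 0 ∧ c ≠ 0 ∧ D.rk1 p c h = g :=
  ⟨fun h => let ⟨p, c, hc, hp, h0, e⟩ := hD.exists_eq_rk1_of_finrank h; ⟨p, c, hc, hp, h0, e.symm⟩,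
    fun ⟨_, _, h, a, b, e⟩ => e ▸ hD.finrank_range_rk1 h b a⟩

theorem TSp.iso (T : TSp Y) (h : R3 Y) (h1 : closure Y = ⊤) (h2 : center G = ⊥) :
    ∃ m, ∃ e : G ≃* Matrix.symplecticGroup (Fin m) (ZMod 2),
      e '' Y = {g : Matrix.symplecticGroup (Fin m) (ZMod 2) | ((g : Matrix (Fin m ⊕ Fin m) (Fin m ⊕ Fin m) (ZMod 2)) - 1).rank = 1} := by
  obtain ⟨n, D, v, S, hv⟩ := T
  obtain ⟨m, hm⟩ := Symp.exists_finrank_eq S.nd
  obtain ⟨φ, hφ⟩ := Symp.iso_fSymp S.nd hm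
  obtain ⟨e, he⟩ := S.iso_of h h1 h2 (fun _ a => a) (fun x => Symp.tv D (v x) 1) (fun x hx u => by simp [Symp.tv_apply])
    (Symp.eq_top_of_tv S.nd _ fun p c => by
      by_cases hp : p = 0
      · simp [hp]
      obtain ⟨x, hx, rfl⟩ := hv p hp
      rcases z2 c with rfl | rfl
      exacts [by simp, subset_closure ⟨x, hx, rfl⟩])
  have k : ∀ p, Form.isomCongr φ hφ (Symp.tv D p 1) = Symp.tv _ (φ p) 1 := fun p => Form.isom_ext fun u => by
    simp [Symp.tv_apply, ← hφ.B_map]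
  refine ⟨m, e.trans ((Form.isomCongr φ hφ).trans (spEquiv _ m).symm), ?_⟩
  rw [MulEquiv.coe_trans, Set.image_comp, he, Set.image_image]
  ext g
  obtain ⟨g, rfl⟩ := (spEquiv _ m).symm.surjective g
  simp only [Set.mem_image, MulEquiv.trans_apply, k, EmbeddingLike.apply_eq_iff_eq, Set.mem_ofPred_eq, sp_rank,
    MulEquiv.apply_symm_apply, supp_rk1 (fSymp_nondeg m), Symp.rk1_eq_tv]
  refine ⟨fun ⟨x, hx, q⟩ => ⟨_, 1, Symp.isRk1 _ _ _, by simpa using S.ne0 h hx, one_ne_zero, q⟩, fun ⟨p, c, _, hp, h0, r⟩ => ?_⟩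
  obtain ⟨x, hx, q⟩ := hv (φ.symm p) (by simpa)
  exact ⟨x, hx, by rw [q, φ.apply_symm_apply, ← r, z2_one h0]⟩

theorem TO2.iso (T : TO2 Y) (h : R3 Y) (h1 : closure Y = ⊤) (h2 : center G = ⊥) :
    (∃ m : ℕ, 3 ≤ m ∧ ∃ e : G ≃* isometryGroup (ZMod 2) (quadFormPlus m (ZMod 2)),
      e '' Y = {g | ((g.1 : Matrix (Fin m ⊕ Fin m) (Fin m ⊕ Fin m) (ZMod 2)) - 1).rank = 1}) ∨
    ∃ m : ℕ, 2 ≤ m ∧ ∃ e : G ≃* isometryGroup (ZMod 2) (quadFormMinus m (ZMod 2) 1 1),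
      e '' Y = {g | ((g.1 : Matrix ((Fin m ⊕ Fin m) ⊕ Fin 2) ((Fin m ⊕ Fin m) ⊕ Fin 2) (ZMod 2)) - 1).rank = 1} := by
  obtain ⟨n, D, v, S, hn, Q, hB, hv⟩ := T
  have hQ : Q.Nondeg := fun x hx => S.nd x (hB ▸ hx)
  have q1 : ∀ x ∈ Y, Q.Q (v x) = 1 := fun x hx => (hv _).1 ⟨x, hx, rfl⟩
  obtain ⟨e, he⟩ := S.iso_of h h1 h2 (L := Q.isom) (fun g a => Symp.mem_isom.2 (hB ▸ a.B_map)) (fun x => Q.refl (v x))
    (fun x hx u => by rw [Form.refl_apply, q1 x hx, hB, inv_one, one_mul, sub_eq_add_neg, neg_eq_of_add_eq_zero_left (v2_add _)])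
    (hQ.eq_top_of_refl (Form.good_of_finrank (by simp; omega)) _ fun p hp => by
      obtain ⟨x, hx, rfl⟩ := (hv p).2 (z2_one hp)
      exact subset_closure ⟨x, hx, rfl⟩)
  have key : ∀ {ι : Type} [Fintype ι] [DecidableEq ι] {E : Form (quadKind (ZMod 2)) (ι → ZMod 2)} {P : (ι → ZMod 2) → ZMod 2}
      (hP : E.Q = P), Q.Iso E → ∃ e : G ≃* isometryGroup (ZMod 2) P, e '' Y = {g | ((g.1 : Matrix ι ι (ZMod 2)) - 1).rank = 1} := by
    rintro ι _ _ E P hP ⟨φ, hφ⟩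
    refine ⟨e.trans ((Form.isomCongr φ hφ).trans (oIso E hP).symm), ?_⟩
    rw [MulEquiv.coe_trans, Set.image_comp, he, Set.image_image]
    ext g
    obtain ⟨g, rfl⟩ := (oIso E hP).symm.surjective g
    simp only [Set.mem_image, MulEquiv.trans_apply, Form.isomCongr_refl, EmbeddingLike.apply_eq_iff_eq, Set.mem_ofPred_eq,
      o_rank hP, MulEquiv.apply_symm_apply, supp_refl (hφ.nondeg hQ)]
    refine ⟨fun ⟨x, hx, q⟩ => ⟨_, by simp [hφ.Q_map, q1 x hx], q⟩, fun ⟨p, hp, r⟩ => ?_⟩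
    obtain ⟨x, hx, q⟩ := (hv (φ.symm p)).2 ((hφ.symm.Q_map p).trans (z2_one hp))
    exact ⟨x, hx, by rw [q, φ.apply_symm_apply, r]⟩
  obtain ⟨m, hm⟩ := Symp.exists_finrank_eq S.nd
  have : n = 2 * m := by simpa using hm
  by_cases ts : Q.HasTS m
  · exact Or.inl ⟨m, by omega, key fPlus_Q (Quad.iso_fPlus hQ hm ts)⟩
  · obtain ⟨m, rfl⟩ : ∃ k, m = k + 1 := ⟨m - 1, by omega⟩
    exact Or.inr ⟨m, by omega, key (fMinus_Q 1 1) (Quad.iso_fMinus hQ hm ts (by decide))⟩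

end Cfsg.Lib.Known2
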