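import Cfsg.Agent.Lib.Known2.F3

/-! Fischer's theorem, IV: local cores and the relations `V`, `W`. -/

set_option autoImplicit false

namespace Cfsg.Lib.Known2

open Subgroup

variable {G : Type*} [Group G] {X Y D : Set G}

theorem rv_coe {a b : closure X} : RV ((↑) ⁻¹' X : Set (closure X)) a b ↔ RV X a b :=
  ⟨fun r e he => by simpa only [← commute_coe] using r ⟨e, subset_closure he⟩ he,
    fun r e he => by simpa only [← commute_coe] using r e he⟩

theorem rw_coe {a b : closure X} : RW ((↑) ⁻¹' X : Set (closure X)) a b ↔ RW X a b := by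
  have k : ∀ {a y : closure X}, y ∈ Dd ((↑) ⁻¹' X : Set (closure X)) a ↔ (y : G) ∈ Dd X a := by
    simp only [Dd, Set.mem_ofPred_eq, ← commute_coe, Set.mem_preimage, ne_eq, Subtype.ext_iff, implies_true]
  exact ⟨fun r => Set.ext fun y => ⟨fun hy => k.1 (r.mem (y := ⟨y, subset_closure hy.1⟩) (k.2 hy)),
    fun hy => k.1 (r.symm.mem (y := ⟨y, subset_closure hy.1⟩) (k.2 hy))⟩, fun r => Set.ext fun y => by rw [k, k, r]⟩

theorem TT.sub_class (h : TT X) (hn : X.Nonempty) (tr : ∀ a ∈ X, ∀ b ∈ X, ∃ g ∈ closure X, g * a * g⁻¹ = b) :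
    IsThreeTranspositionClass ((↑) ⁻¹' X : Set (closure X)) := by
  obtain ⟨d, hd⟩ := hn
  refine class_of_trans h.sub_group (d := ⟨d, subset_closure hd⟩) hd fun a ha b hb => ?_
  obtain ⟨g, hg, e⟩ := tr a ha b hb
  exact ⟨⟨g, hg⟩, Subtype.ext e⟩

namespace R3
variable (h : R3 Y) {d : G} (hd : d ∈ Y)
include h

theorem not_solvable [Finite G] : ¬ Group.IsSolvable (closure Y) := fun _ => by
  obtain ⟨L, hL, -⟩ := (prim_sub h.toVW h.tr fun a ha b hb n => by
    obtain ⟨x, hx, c⟩ := h.mu_ne ha hb n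
    exact ⟨x, hx.1, hx.2.2, c.symm⟩).exists_comp
  exact Cfsg.Lib.Layer.IsQuasisimple.not_isSolvable hL.2 inferInstance

include hd

theorem dd_class : IsThreeTranspositionClass ((↑) ⁻¹' Dd Y d : Set (closure (Dd Y d))) :=
  (h.tt.dd d).sub_class (h.dd d hd) (h.tdd d hd)

variable [Finite G]

theorem w_of_odd (hn : ¬ oddCore (closure (Dd Y d)) ≤ center _) :
    ∃ y ∈ Dd Y d, ∃ y' ∈ Dd Y d, y ≠ y' ∧ RW (Dd Y d) y y' := by
  obtain ⟨y, hy⟩ := h.dd d hd
  have c := h.dd_class hd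
  have t := TT.of_class c
  by_contra q
  refine hn (central_of_commute c (d := ⟨y, Subgroup.subset_closure hy⟩) hy fun g hg => by_contra fun n => ?_)
  have m := (group_of_class c).2.1 g ⟨y, Subgroup.subset_closure hy⟩ hy
  have N : (oddCore (closure (Dd Y d))).Normal := inferInstance
  refine q ⟨y, hy, _, m, fun e => n (conj_eq_self_iff.1 (Subtype.ext e.symm)), rw_coe.1 (t.rw_of_mem (a := ⟨y, Subgroup.subset_closure hy⟩)
    (N := oddCore _) (fun e he x hx => by simpa [t.inv he] using N.conj_mem x hx e) (fun x hx e => ?_) hy m ?_)⟩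
  · by_contra n1
    have := (orderOf_eq_prime (p := 2) (by rw [sq, e]) n1) ▸ orderOf_dvd_natCard _ hx
    exact (Cfsg.Lib.Core.odd_card_oddCore _).not_two_dvd_nat this
  · simpa [t.inv (a := ⟨y, Subgroup.subset_closure hy⟩) hy, mul_assoc] using mul_mem (N.conj_mem g hg ⟨y, Subgroup.subset_closure hy⟩) (inv_mem hg)

theorem v_of_two (hn : ¬ pCore 2 (closure (Dd Y d)) ≤ center _) :
    ∃ y ∈ Dd Y d, ∃ y' ∈ Dd Y d, y ≠ y' ∧ RV (Dd Y d) y y' := by
  obtain ⟨y, hy⟩ := h.dd d hd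
  obtain ⟨v, hv, n, r⟩ := exists_rv_of_not_central (h.dd_class hd) hn (d := ⟨y, Subgroup.subset_closure hy⟩) hy
  exact ⟨y, hy, v, hv, fun e => n (Subtype.ext e.symm), rv_coe.1 r⟩

theorem r3_of_central (h3 : pCore 3 (closure (Dd Y d)) ≤ center _) (h2 : pCore 2 (closure (Dd Y d)) ≤ center _) : R3 (Dd Y d) := by
  have c := h.dd_class hd
  have k : ∀ y (hy : y ∈ Dd Y d) y' (hy' : y' ∈ Dd Y d), y ≠ y' →
      (⟨y, Subgroup.subset_closure hy⟩ * ⟨y', Subgroup.subset_closure hy'⟩ : closure (Dd Y d)) ∉ center _ := fun y hy y' hy' n z =>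
    n (congrArg Subtype.val (eq_of_mul_central c ⟨⟨y, Subgroup.subset_closure hy⟩, hy, ⟨y', Subgroup.subset_closure hy'⟩, hy',
      fun e => n (congrArg Subtype.val e)⟩ hy hy' z))
  rcases h.tri hd with ⟨y, hy, y', hy', n, r⟩ | ⟨y, hy, y', hy', n, r⟩ | R
  · exact (k y hy y' hy' n (h3 ((rw_iff_mem (group_of_class c) hy hy').1 (rw_coe.2 r)))).elim
  · exact (k y hy y' hy' n (h2 ((rv_iff_mem (group_of_class c) hy hy').1 (rv_coe.2 r)))).elim
  · exact R

end R3

theorem center_of_fischer (hsol : ∀ N : Subgroup G, N.Normal → Group.IsSolvable N → N = ⊥) : center G = ⊥ :=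
  hsol _ inferInstance (Group.isSolvable_of_comm fun a b => Subtype.ext (mem_center_iff.1 b.2 a))

theorem TSn.iso {m : ℕ} (T : TSn Y m) (hm : 5 ≤ m) (h : closure Y = ⊤) (hZ : center G = ⊥) :
    ∃ e : G ≃* Equiv.Perm (Fin m), e '' Y = {σ | σ.IsSwap} :=
  let ⟨_, S⟩ := T; S.iso (by simpa) h hZ

end Cfsg.Lib.Known2
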