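import Cfsg.Agent.Lib.Known2.F4

/-! Fischer's theorem, V: the case `V`; the polar space of singular lines. -/

set_option autoImplicit false

namespace Cfsg.Lib.Known2

open Subgroup

variable {G : Type*} [Group G] {X Y : Set G}

/-- The singular line on two commuting points. -/
def Ln (Y : Set G) (a b : G) : Set G := {z | z ∈ Y ∧ ∀ w ∈ Y, Commute a w → Commute b w → Commute z w}

def VC (Y : Set G) : Prop := ∀ a ∈ Y, ∀ b ∈ Dd Y a, ∃ t ∈ Ln Y a b, t ≠ a ∧ t ≠ b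

theorem Ln.left {a b : G} (ha : a ∈ Y) : a ∈ Ln Y a b := ⟨ha, fun _ _ h _ => h⟩
theorem Ln.right {a b : G} (hb : b ∈ Y) : b ∈ Ln Y a b := ⟨hb, fun _ _ _ h => h⟩
theorem Ln.symm {a b z : G} (h : z ∈ Ln Y a b) : z ∈ Ln Y b a := ⟨h.1, fun w hw h1 h2 => h.2 w hw h2 h1⟩
theorem Ln.comm {a b z z' : G} (ha : a ∈ Y) (hb : b ∈ Dd Y a) (hz : z ∈ Ln Y a b) (hz' : z' ∈ Ln Y a b) : Commute z z' :=
  hz.2 z' hz'.1 (hz'.2 a ha (Commute.refl a) hb.2.2.symm).symm (hz'.2 b hb.1 hb.2.2 (Commute.refl b)).symm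
theorem Ln.dd {a b z z' : G} (ha : a ∈ Y) (hb : b ∈ Dd Y a) (hz : z ∈ Ln Y a b) (hz' : z' ∈ Ln Y a b) (n : z' ≠ z) : z' ∈ Dd Y z :=
  ⟨hz'.1, n, Ln.comm ha hb hz hz'⟩

theorem TT.ln_conj (h : TT Y) {g : G} (hg : g ∈ closure Y) {a b z : G} (hz : z ∈ Ln Y a b) :
    g * z * g⁻¹ ∈ Ln Y (g * a * g⁻¹) (g * b * g⁻¹) :=
  ⟨h.conj_mem hg hz.1, fun w hw h1 h2 => by
    rw [commute_conj_left_iff] at *
    exact hz.2 _ (by simpa using h.conj_mem (inv_mem hg) hw) h1 h2⟩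

theorem TT.comm_third (h : TT Y) {a b c : G} (ha : a ∈ Y) (hb : b ∈ Y) (n : ¬ Commute a b) (h1 : Commute c b)
    (h2 : Commute c (a * b * a)) : Commute c a := by_contra fun q => h.not_commute_conj hb h1 q (h.braid ha hb n ▸ h2)

theorem TT.comm_third' (h : TT Y) {a b c : G} (ha : a ∈ Y) (h1 : Commute c a) (h2 : Commute c (a * b * a)) : Commute c b :=
  by_contra fun q => h.not_commute_conj ha h1 q h2

theorem TT.mul_mem2 {a b : G} (ha : a ∈ Y) (hb : b ∈ Y) : a * b ∈ closure Y := mul_mem (subset_closure ha) (subset_closure hb)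

theorem TT.theta4 (h : TT Y) {c p q r : G} (hc : c ∈ Y) (hp : p ∈ Y) (hq : q ∈ Dd Y p) (hr : r ∈ Ln Y p q) (n1 : r ≠ p) (n2 : r ≠ q)
    (h1 : ¬ Commute c p) (h2 : ¬ Commute c q) (h3 : ¬ Commute c r) :
    ∃ θ ∈ Ln Y p q, θ ≠ p ∧ θ ≠ q ∧ θ ≠ r ∧ ¬ Commute c θ ∧ Commute (p * q * r * θ) c := by
  have c1 := Ln.comm hp hq (Ln.left hp) hr
  have c2 := Ln.comm hp hq (Ln.right hq.1) hr
  have w := h.d4w hc hp hq.1 hr.1 h1 h2 h3 hq.2.2 c1 c2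
  have hc' := h.conj p hp _ (h.conj q hq.1 c hc)
  have cc : Commute c (p * (q * c * q) * p) := h.s4b hp hc hq.1 hq.2.2 h1 h2
  have nc : c ≠ p * (q * c * q) * p := fun e => h1 ((h.commute_mul_iff hp hq.1 hc hq.2.1.symm hq.2.2).1
    (conj_eq_self_iff.1 (by rw [mul_inv_rev, h.inv hp, h.inv hq.1]; simpa [mul_assoc] using e.symm)).symm).1
  set g := c * (p * (q * c * q) * p) with hg
  have gi : g⁻¹ = p * (q * c * q) * p * c := by rw [hg, mul_inv_rev, h.inv hc, h.inv hc']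
  have e1 : g * p * g⁻¹ = q := by
    rw [gi, hg]; simpa [mul_assoc] using w [0, 1, 2, 0, 2, 1, 1, 1, 2, 0, 2, 1, 0] [2] (by decide +kernel)
  have e2 : g * q * g⁻¹ = p := by
    rw [gi, hg]; simpa [mul_assoc] using w [0, 1, 2, 0, 2, 1, 2, 1, 2, 0, 2, 1, 0] [1] (by decide +kernel)
  have m := h.ln_conj (TT.mul_mem2 hc hc') hr
  rw [← hg, e1, e2] at m
  have cg : Commute g c := (Commute.refl c).mul_left cc.symm
  refine ⟨_, Ln.symm m, fun e => n2 (by simpa using e.trans e2.symm), fun e => n1 (by simpa using e.trans e1.symm),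
    fun e => h3 ((h.commute_mul_iff hc hc' hr.1 nc cc).1 (conj_eq_self_iff.1 e).symm).1.symm, fun e => h3 ?_, ?_⟩
  · rwa [← conj_eq_of_commute cg.symm, commute_conj_conj_iff] at e
  · show _ = _
    rw [gi, hg]; simpa [mul_assoc] using w [1, 2, 3, 0, 1, 2, 0, 2, 1, 3, 1, 2, 0, 2, 1, 0, 0]
      [0, 1, 2, 3, 0, 1, 2, 0, 2, 1, 3, 1, 2, 0, 2, 1, 0] (by decide +kernel)

theorem TT.conj4 (h : TT Y) {u θ y : G} (hθ : θ ∈ Y) (c : Commute u θ) (f : Commute (u * θ) y) : u * y * u⁻¹ = θ * y * θ := by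
  have := conj_eq_self_iff.2 f
  rw [c.eq, mul_inv_rev, h.inv hθ] at this
  simpa only [mul_assoc, h.cancel hθ, h.sq hθ, mul_one] using congrArg (fun x => θ * x * θ) this

namespace R3
variable [Finite G] (h : R3 Y)
include h

theorem ln_perp {a b z z' w : G} (ha : a ∈ Y) (hb : b ∈ Dd Y a) (hz : z ∈ Ln Y a b) (hz' : z' ∈ Ln Y a b) (n : z' ≠ z)
    (hw : w ∈ Y) (h1 : Commute z w) (h2 : Commute z' w) : Commute a w ∧ Commute b w := by
  obtain ⟨g, hg, e1, e2⟩ := h.tr_dd ha hz.1 hb (Ln.dd ha hb hz hz' n)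
  have : {w | w ∈ Y ∧ Commute a w ∧ Commute b w} = {w | w ∈ Y ∧ Commute z w ∧ Commute z' w} :=
    Set.eq_of_subset_of_ncard_le (fun w hw => ⟨hw.1, hz.2 w hw.1 hw.2.1 hw.2.2, hz'.2 w hw.1 hw.2.1 hw.2.2⟩)
      (ncard_conj_eq g fun x => by
        simp only [Set.mem_ofPred_eq, ← e1, ← e2, commute_conj_conj_iff]
        exact and_congr_left fun _ => ⟨h.tt.conj_mem hg, fun a => by simpa [mul_assoc] using h.tt.conj_mem (inv_mem hg) a⟩).ge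
  exact (this.ge ⟨hw, h1, h2⟩).2

theorem ln_all {a b z z' p w : G} (ha : a ∈ Y) (hb : b ∈ Dd Y a) (hz : z ∈ Ln Y a b) (hz' : z' ∈ Ln Y a b) (n : z' ≠ z)
    (hp : p ∈ Ln Y a b) (hw : w ∈ Y) (h1 : Commute z w) (h2 : Commute z' w) : Commute p w :=
  let k := h.ln_perp ha hb hz hz' n hw h1 h2; hp.2 w hw k.1 k.2

theorem ln_mem {a b z z' p : G} (ha : a ∈ Y) (hb : b ∈ Dd Y a) (hz : z ∈ Ln Y a b) (hz' : z' ∈ Ln Y a b) (n : z' ≠ z)
    (hp : p ∈ Ln Y a b) : p ∈ Ln Y z z' := ⟨hp.1, fun _ hw => h.ln_all ha hb hz hz' n hp hw⟩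

omit h [Finite G] in
theorem ln_sub {a b z z' p : G} (hz : z ∈ Ln Y a b) (hz' : z' ∈ Ln Y a b) (hp : p ∈ Ln Y z z') : p ∈ Ln Y a b :=
  ⟨hp.1, fun w hw h1 h2 => hp.2 w hw (hz.2 w hw h1 h2) (hz'.2 w hw h1 h2)⟩

omit h [Finite G] in
theorem ln_of_rv {d y y' : G} (hy' : y' ∈ Dd Y d) (r : RV (Dd Y d) y y') : y' ∈ Ln Y d y :=
  ⟨hy'.1, fun w hw h1 h2 => by
    by_cases e : w = d
    exacts [e ▸ hy'.2.2.symm, (r w ⟨hw, e, h1⟩).1 h2]⟩

theorem rv_of_ln {d y y' : G} (hd : d ∈ Y) (hy : y ∈ Dd Y d) (hy' : y' ∈ Ln Y d y) (n : y' ≠ d) : RV (Dd Y d) y y' :=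
  fun w hw => ⟨hy'.2 w hw.1 hw.2.2, fun c => (h.ln_perp hd hy (Ln.left hd) hy' n hw.1 hw.2.2 c).2⟩

omit [Finite G] in
theorem vc_of_v {d y y' : G} (hd : d ∈ Y) (hy : y ∈ Dd Y d) (hy' : y' ∈ Dd Y d) (hn : y ≠ y') (r : RV (Dd Y d) y y') : VC Y :=
  fun a ha b hb => by
    obtain ⟨g, hg, rfl, rfl⟩ := h.tr_dd hd ha hy hb
    exact ⟨_, h.tt.ln_conj hg (ln_of_rv hy' r), by simpa using hy'.2.1, by simpa using hn.symm⟩

theorem ln_op {d y y' x : G} (hd : d ∈ Y) (hy : y ∈ Dd Y d) (hy' : y' ∈ Ln Y d y) (n : y' ≠ d) (hx : x ∈ Dd Y d) :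
    y * (y' * x * y') * y ∈ Ln Y d x ∧ y * (y' * x * y') * y ≠ d ∧ (y' ≠ y → ¬ Commute x y → y * (y' * x * y') * y ≠ x) := by
  have t := h.tt.dd d
  have m : y' ∈ Dd Y d := Ln.dd hd hy (Ln.left hd) hy' n
  have r := t.rv_conj hy (t.rv_op hy m hx (h.rv_of_ln hd hy hy' n) (RV.refl x))
  rw [t.conj_conj hy] at r
  have m' := t.conj y hy _ (t.conj y' m x hx)
  refine ⟨ln_of_rv m' r, m'.2.1, fun n1 n2 e => n2 ((t.commute_mul_iff hy m hx n1.symm (Ln.comm hd hy (Ln.right hy.1) hy')).1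
    (conj_eq_self_iff.1 (by rw [mul_inv_rev, t.inv hy, t.inv m]; simpa [mul_assoc] using e)).symm).1⟩

variable (hV : VC Y)
include hV

theorem one_aux {d y c m : G} (hd : d ∈ Y) (hy : y ∈ Dd Y d) (hc : c ∈ Y) (hm : m ∈ Dd Y d) (h1 : Commute c m)
    (h2 : ¬ Commute m y) : ∃ p ∈ Ln Y d y, Commute c p := by
  by_contra n
  push Not at n
  have t := h.tt
  obtain ⟨y', hy', n1, n2⟩ := hV d hd y hy
  obtain ⟨θ, hθ, m1, m2, m3, -, f⟩ := t.theta4 hc hd hy hy' n1 n2 (n _ (Ln.left hd)) (n _ (Ln.right hy.1)) (n _ hy')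
  have k : ∀ p ∈ Ln Y d y, p ≠ d → ¬ Commute m p := fun p hp q c =>
    h2 (h.ln_perp hd hy (Ln.left hd) hp q hm.1 hm.2.2 c.symm).2.symm
  have r := Ln.right (a := d) hy.1
  obtain ⟨η, hη, -, -, -, l, f'⟩ := t.theta4 hm.1 hy.1 (Ln.dd hd hy r hy' n2) (h.ln_mem hd hy r hy' n2 hθ) m2 m3 h2
    (k _ hy' n1) (k _ hθ m1)
  have hη' := ln_sub r hy' hη
  have e := t.conj4 hη.1 (((Ln.comm hd hy r hη').mul_left (Ln.comm hd hy hy' hη')).mul_left (Ln.comm hd hy hθ hη')) f'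
  refine n η hη' (t.comm_third hη.1 hm.1 (l ·.symm) h1 ?_)
  have : d * y * y' * θ * m * (d * y * y' * θ)⁻¹ = η * m * η := by
    rw [mul_assoc d, mul_assoc d, ← conj_conj', e]
    exact conj_eq_self_iff.2 (TT.commute_conj (Ln.comm hd hy (Ln.left hd) hη') hm.2.2)
  rw [← this, ← conj_eq_self_iff.2 f, commute_conj_conj_iff]; exact h1

theorem exists_nc_mu {d y c : G} (hd : d ∈ Y) (hy : y ∈ Dd Y d) (hc : c ∈ Y) (n : ¬ Commute d c) (n' : ¬ Commute c y) :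
    ∃ m ∈ Dd Y d, Commute c m ∧ ¬ Commute m y := by
  by_contra q
  push Not at q
  obtain ⟨m, hm, c0⟩ := h.mu_ne hd hc n
  obtain ⟨g, hg, rfl⟩ := h.tdd d hd y hy m hm
  refine ((h.tt.dd d).invariant_of_commute (P := {y | y ∈ Dd Y d ∧ ¬ Commute c y ∧ ∀ m ∈ Dd Y d, Commute c m → Commute m y})
    (fun _ a => a.1) (fun z hz x hx p => ?_) hg y ⟨hy, n', q⟩).2.1 c0
  by_cases a : Commute c x
  · exact (hz.2.2 x hx a).symm
  simp only [Set.mem_ofPred_eq, hx, a, not_false_eq_true, true_and, not_forall] at p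
  obtain ⟨m, hm, a1, a2⟩ := p
  obtain ⟨p, hp, a3⟩ := h.one_aux hV hd hx hc hm a1 a2
  have ne : p ≠ d := fun e => n (e ▸ a3).symm
  exact (h.ln_perp hd hx (Ln.left hd) hp ne hz.1.1 hz.1.2.2 (hz.2.2 p (Ln.dd hd hx (Ln.left hd) hp ne) a3)).2.symm

theorem one {d y c : G} (hd : d ∈ Y) (hy : y ∈ Dd Y d) (hc : c ∈ Y) : ∃ p ∈ Ln Y d y, Commute c p := by
  by_cases a : Commute d c
  · exact ⟨d, Ln.left hd, a.symm⟩
  by_cases b : Commute c y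
  · exact ⟨y, Ln.right hy.1, b⟩
  obtain ⟨m, hm, a1, a2⟩ := h.exists_nc_mu hV hd hy hc a b
  exact h.one_aux hV hd hy hc hm a1 a2

/-- The point of the class of `y` in `D_d` commuting with `c`. -/
theorem one' {d y c : G} (hd : d ∈ Y) (hy : y ∈ Dd Y d) (hc : c ∈ Y) (n : ¬ Commute d c) :
    ∃ p ∈ Dd Y d, RV (Dd Y d) y p ∧ Commute c p := by
  obtain ⟨p, hp, a⟩ := h.one hV hd hy hc
  have ne : p ≠ d := fun e => n (e ▸ a).symm
  exact ⟨p, Ln.dd hd hy (Ln.left hd) hp ne, h.rv_of_ln hd hy hp ne, a⟩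

theorem mu_nc {d m c : G} (hd : d ∈ Y) (hm : m ∈ Dd Y d) (hc : c ∈ Y) (n : ¬ Commute d c) :
    ∃ p ∈ Dd Y d, Commute c p ∧ ¬ Commute m p := by
  obtain ⟨b, hb, q⟩ := h.nc_dd hd hm
  obtain ⟨p, hp, r, a⟩ := h.one' hV hd hb hc n
  exact ⟨p, hp, a, fun c => q ((r m hm).2 c.symm).symm⟩

theorem conn {a : G} (ha : a ∈ Y) {P : G → Prop}
    (st : ∀ z ∈ Y, ∀ z' ∈ Dd Y z, ¬ Commute a z → ¬ Commute a z' → P z → P z') {z z' : G} (hz : z ∈ Y) (hz' : z' ∈ Y)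
    (n : ¬ Commute a z) (n' : ¬ Commute a z') (p : P z) : P z' := by
  have t := h.tt
  have st' : ∀ z ∈ Y, ∀ z' ∈ Y, Commute z z' → ¬ Commute a z → ¬ Commute a z' → P z → P z' := fun z hz z' hz' c n n' p => by
    by_cases e : z' = z
    exacts [e ▸ p, st z hz z' ⟨hz', e, c⟩ n n' p]
  have k : ∀ y ∈ Y, Commute a y → ∀ z ∈ Y, ¬ Commute a z → P z → P (y * z * y) := fun y hy c z hz n p => by
    have hz' := t.conj y hy z hz
    have n' := t.not_commute_conj hy c n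
    by_cases q : Commute y z
    · rwa [(t.conj_eq_iff hy).2 q]
    by_cases e : y = a
    · subst e
      obtain ⟨m, hm, c1⟩ := h.mu_ne hy hz n
      obtain ⟨m', hm', c2, c3⟩ := h.mu_nc hV hy hm hz n
      have mz := mem_Dd_of_nc hz (n ·.symm) c1 hm.2.2.symm
      obtain ⟨u, hu, n1, n2⟩ := hV m hm.1 z mz
      have mz' := mem_Dd_of_nc hz' (n' ·.symm) (TT.commute_conj hm'.2.2.symm c2.symm).symm hm'.2.2.symm
      obtain ⟨u', hu', c4⟩ := h.one hV hm'.1 mz' hu.1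
      have a1 : ¬ Commute y u := fun c => n (h.ln_perp hm.1 mz (Ln.left hm.1) hu n1 hy hm.2.2.symm c.symm).2.symm
      have a2 : ¬ Commute y u' := fun c => n' (h.ln_perp hm'.1 mz' (Ln.left hm'.1) hu' (fun e => c3
        (h.ln_perp hm.1 mz (Ln.right hz) hu n2 hm'.1 c2 (e ▸ c4)).1) hy hm'.2.2.symm c.symm).2.symm
      exact st' _ hu'.1 _ hz' (Ln.comm hm'.1 mz' hu' (Ln.right hz')) a2 n' (st' _ hu.1 _ hu'.1 c4 a1 a2
        (st' _ hz _ hu.1 (Ln.comm hm.1 mz (Ln.right hz) hu) n a1 p))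
    obtain ⟨m, hm, c1, c2⟩ := h.exists_nc_mu hV hy ⟨ha, Ne.symm e, c.symm⟩ hz q (n ·.symm)
    exact st' _ hm.1 _ hz' (TT.commute_conj hm.2.2.symm c1.symm) (c2 ·.symm) n' (st' _ hz _ hm.1 c1 n (c2 ·.symm) p)
  obtain ⟨g, hg, rfl⟩ := h.tnc a ha z hz z' hz' n n'
  clear hz' n'
  suffices g * z * g⁻¹ ∈ Y ∧ ¬ Commute a (g * z * g⁻¹) ∧ P (g * z * g⁻¹) from this.2.2
  induction hg using closure_induction_left with
  | one => simpa using ⟨hz, n, p⟩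
  | mul_left x hx g hg ih =>
    rw [← conj_conj', t.inv hx.1]
    exact ⟨t.conj x hx.1 _ ih.1, t.not_commute_conj hx.1 hx.2 ih.2.1, k x hx.1 hx.2 _ ih.1 ih.2.1 ih.2.2⟩
  | inv_mul_cancel x hx g hg ih =>
    rw [t.inv hx.1, ← conj_conj', t.inv hx.1]
    exact ⟨t.conj x hx.1 _ ih.1, t.not_commute_conj hx.1 hx.2 ih.2.1, k x hx.1 hx.2 _ ih.1 ih.2.1 ih.2.2⟩

theorem symp_of_three (h3 : ∀ a ∈ Y, ∀ b ∈ Dd Y a, ∀ z ∈ Ln Y a b, ∀ z' ∈ Ln Y a b, z ≠ a → z ≠ b → z' = a ∨ z' = b ∨ z' = z) :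
    Symp Y := by
  intro a ha b hb x hx n1 n2 n3
  have t := h.tt
  have key : ∀ b ∈ Y, ¬ Commute a b → ∀ z ∈ Y, ∀ z' ∈ Dd Y z, ¬ Commute a z → ¬ Commute a z' → Commute z b →
      Commute z' b ∨ Commute z' (a * b * a) := fun b hb n z hz z' hz' m m' c => by
    obtain ⟨p, hp, c1⟩ := h.one hV hz hz' ha
    have e1 : p ≠ z := fun e => m (e ▸ c1)
    by_cases q : Commute p b
    · exact Or.inl (h.ln_perp hz hz' (Ln.left hz) hp e1 hb c q).2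
    obtain ⟨r, hr, c2⟩ := h.one hV hz hz' (t.conj a ha b hb)
    rcases h3 z hz z' hz' p hp r hr e1 (fun e => m' (e ▸ c1)) with rfl | rfl | rfl
    exacts [(m (t.comm_third ha hb n c c2.symm).symm).elim, Or.inr c2.symm, (t.not_commute_conj ha c1.symm q c2.symm).elim]
  refine (h.conn hV ha (P := fun z => Commute z b ∨ Commute z (a * b * a)) (fun z hz z' hz' m m' c => c.elim
    (key b hb n1 z hz z' hz' m m') fun c => ?_) hb hx n1 (n2 ·.symm) (Or.inl (Commute.refl b))).resolve_left n3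
  simpa only [t.conj_conj ha, or_comm] using key _ (t.conj a ha b hb) (t.not_commute_third ha n1) z hz z' hz' m m' c

omit hV in
theorem lemS {a b y y' d θ p q r : G} (ha : a ∈ Y) (hb : b ∈ Dd Y a) (hy : y ∈ Y) (hy' : y' ∈ Y) (c : Commute y y')
    (hd : d ∈ Ln Y a b) (hθ : θ ∈ Ln Y a b) (hp : p ∈ Ln Y a b) (hq : q ∈ Ln Y a b) (hr : r ∈ Ln Y a b)
    (n1 : q ≠ p) (n2 : r ≠ p) (n3 : r ≠ q) (c1 : Commute y d) (c2 : Commute y' θ) (m1 : ¬ Commute y θ) (m2 : ¬ Commute y' d)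
    (np : p ≠ θ) (nq : q ≠ θ) (nr : r ≠ θ) (f : Commute (p * q * r * θ) y) : Commute (p * q * r * d) y' := by
  have t := h.tt
  have k : ∀ z ∈ Ln Y a b, z ≠ θ → ¬ Commute y' z := fun z hz n e => m2 (h.ln_all ha hb hθ hz n hd hy' c2.symm e.symm).symm
  obtain ⟨η, hη, -, -, -, l, f'⟩ := t.theta4 hy' hp.1 (Ln.dd ha hb hp hq n1) (h.ln_mem ha hb hp hq n1 hr) n2 n3
    (k p hp np) (k q hq nq) (k r hr nr)
  by_cases e : η = d
  · exact e ▸ f'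
  have hη' := ln_sub hp hq hη
  have e1 := t.conj4 hη.1 (((Ln.comm ha hb hp hη').mul_left (Ln.comm ha hb hq hη')).mul_left (Ln.comm ha hb hr hη')) f'
  have dθ : d ≠ θ := fun e => m1 (e ▸ c1)
  have y1 := mem_Dd_of_nc hy' m2 c2 (Ln.comm ha hb hθ hd)
  obtain ⟨l1, -, l2⟩ := h.ln_op hθ.1 (Ln.dd ha hb hθ hd dθ) (h.ln_mem ha hb hθ hd dθ hη') (fun e => l (e ▸ c2)) y1
  refine (m1 (h.ln_perp hθ.1 y1 (Ln.right hy') l1 (l2 e m2) hy c.symm ?_).1.symm).elim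
  have : d * (p * q * r * θ) * y' * (d * (p * q * r * θ))⁻¹ = d * (η * y' * η) * d := by
    rw [← conj_conj', ← conj_conj' _ θ, conj_eq_of_commute c2, e1, t.inv hd.1]
  rw [← this, ← conj_eq_self_iff.2 (c1.symm.mul_left f), commute_conj_conj_iff]; exact c.symm

theorem five {d a b c : G} (hd : d ∈ Y) (ha : a ∈ Dd Y d) (hb : b ∈ Ln Y d a) (hc : c ∈ Ln Y d a) (bd : b ≠ d) (ba : b ≠ a)
    (cd : c ≠ d) (ca : c ≠ a) (cb : c ≠ b) : ∃ e ∈ Ln Y d a, e ≠ d ∧ e ≠ a ∧ e ≠ b ∧ e ≠ c ∧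
      ∀ z ∈ Ln Y d a, z = d ∨ z = a ∨ z = b ∨ z = c ∨ z = e := by
  have t := h.tt
  obtain ⟨y, hy, n⟩ := h.nc_dd hd ha
  have l := Ln.left (b := a) hd
  have r := Ln.right (a := d) ha.1
  have k : ∀ z ∈ Ln Y d a, z ≠ d → ¬ Commute y z := fun z hz q e => n (h.ln_all hd ha l hz q r hy.1 hy.2.2 e.symm)
  have th : ∀ c ∈ Ln Y d a, c ≠ d → c ≠ a → c ≠ b → ∃ e ∈ Ln Y d a, e ≠ d ∧ e ≠ a ∧ e ≠ b ∧ e ≠ c ∧ Commute (b * c * e * a) y :=
    fun c hc cd ca cb => by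
      obtain ⟨e, he, e1, e2, e3, e4, f⟩ := t.theta4 hy.1 hb.1 (Ln.dd hd ha hb hc cb) (h.ln_mem hd ha hb hc cb r) ba.symm ca.symm
        (k b hb bd) (k c hc cd) (n ·.symm)
      have he' := ln_sub hb hc he
      exact ⟨e, he', fun q => e4 (q ▸ hy.2.2.symm), e3, e1, e2, by rwa [mul_assoc, (Ln.comm hd ha he' r).eq, ← mul_assoc]⟩
  obtain ⟨e, he, ed, ea, eb, ec, f1⟩ := th c hc cd ca cb
  refine ⟨e, he, ed, ea, eb, ec, fun f hf => by_contra fun q => ?_⟩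
  push Not at q
  obtain ⟨g, hg, gd, ga, gb, gf, f2⟩ := th f hf q.1 q.2.1 q.2.2.1
  obtain ⟨y', hy', c1, m⟩ := h.exists_nc_mu hV ha.1 (Ln.dd hd ha r hb ba) hy.1 n (k b hb bd)
  have m2 : ¬ Commute y' d := fun c => m (h.ln_all hd ha l r ha.2.1 hb hy'.1 c.symm hy'.2.2).symm
  have f3 := h.lemS hd ha hy.1 hy'.1 c1 l r hb hc he cb eb ec hy.2.2.symm hy'.2.2.symm (n ·.symm) m2 ba ca ea f1
  have f4 := h.lemS hd ha hy.1 hy'.1 c1 l r hb hf hg q.2.2.1 gb gf hy.2.2.symm hy'.2.2.symm (n ·.symm) m2 ba q.2.1 ga f2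
  have pr : ∀ x ∈ Ln Y d a, b * c * e * x * (b * f * g * x) = e * f * g * c := fun x hx => by
    have C := fun {u v} (hu : u ∈ Ln Y d a) (hv : v ∈ Ln Y d a) => Ln.comm hd ha hu hv
    simp only [mul_assoc, (C hc hb).left_comm, (C he hb).left_comm, (C hx hb).left_comm, t.cancel hb.1]
    simp only [(C hx hf).left_comm, (C hx hg).left_comm, t.sq hx.1, mul_one, (C hc he).left_comm, (C hc hf).left_comm, (C hc hg).eq]
  have f5 := pr a r ▸ f1.mul_left f2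
  have f6 := pr d l ▸ f3.mul_left f4
  have ge : g ≠ e := by
    rintro rfl
    rw [(Ln.comm hd ha hg hf).eq, mul_assoc f, t.sq hg.1, mul_one] at f5
    exact k f hf q.1 ((t.commute_mul_iff hf.1 hc.1 hy.1 q.2.2.2.1 (Ln.comm hd ha hf hc)).1 f5.symm).1
  have gc : g ≠ c := by
    rintro rfl
    rw [t.cancel' hg.1] at f5
    exact k e he ed ((t.commute_mul_iff he.1 hf.1 hy.1 (Ne.symm q.2.2.2.2) (Ln.comm hd ha he hf)).1 f5.symm).1
  have yy : y' ∈ Dd Y y := ⟨hy'.1, fun e => m2 (e ▸ hy.2.2.symm), c1⟩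
  obtain ⟨w, hw, c2⟩ := h.one hV hy.1 yy hc.1
  have w1 : ¬ Commute w d := fun c => m2 (h.ln_perp hy.1 yy (Ln.left hy.1) hw (fun e => k _ hc cd (e ▸ c2.symm)) hd hy.2.2.symm c).2
  have k' : ¬ Commute y' c := fun e => m2 (h.ln_all hd ha r hc ca l hy'.1 hy'.2.2 e.symm).symm
  have w2 : ¬ Commute w a := fun c => n (h.ln_perp hy.1 yy (Ln.right hy'.1) hw (fun e => k' (e ▸ c2.symm)) ha.1 hy'.2.2.symm c).1.symm
  have f7 := h.lemS hd ha hy.1 hw.1 (Ln.comm hy.1 yy (Ln.left hy.1) hw) l hc he hf hg q.2.2.2.2 ge gf hy.2.2.symm c2.symm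
    (k _ hc cd) w1 ec q.2.2.2.1 gc f5
  have f8 := h.lemS hd ha hy'.1 hw.1 (Ln.comm hy.1 yy (Ln.right hy'.1) hw) r hc he hf hg q.2.2.2.2 ge gf hy'.2.2.symm c2.symm
    k' w2 ec q.2.2.2.1 gc f6
  have := f7.inv_left.mul_left f8
  rw [mul_inv_rev, t.inv hd, mul_assoc, inv_mul_cancel_left] at this
  exact w1 ((t.commute_mul_iff hd ha.1 hw.1 ha.2.1.symm ha.2.2).1 this.symm).1

theorem two_of_vc : Two Y := by
  intro d hd c hc c' hc' n1 n2 s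
  have t := h.tt
  have k0 : ∀ c ∈ Y, ¬ Commute d c → (∀ x ∈ Dd Y d, Commute c x → Commute c' x) → Commute c c' → c' = c := fun c hc n1 s q => by
    by_contra e
    obtain ⟨y, hy, c1⟩ := h.one hV hc ⟨hc', e, q⟩ hd
    have cy := Ln.comm hc ⟨hc', e, q⟩ (Ln.left hc) hy
    obtain ⟨m, hm, c2, c3⟩ := h.mu_nc hV hd ⟨hy.1, fun e => n1 (e ▸ cy).symm, c1⟩ hc n1
    exact c3 (hy.2 m hm.1 c2 (s m hm c2))
  by_cases q1 : Commute c c'
  · exact Or.inl (k0 c hc n1 s q1)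
  by_cases q2 : Commute (d * c * d) c'
  · exact Or.inr (k0 _ (t.conj d hd c hc) (t.not_commute_third hd n1) (fun x hx e => s x hx
      (t.comm_third' hd hx.2.2.symm e.symm).symm) q2)
  exfalso
  obtain ⟨m, hm, cm⟩ := h.mu_ne hd hc n1
  obtain ⟨m', hm', cm', nm⟩ := h.mu_nc hV hd hm hc n1
  have dm := mem_Dd_comm hd hm
  have cm1 := mem_Dd_of_nc hc (n1 ·.symm) cm hm.2.2.symm
  obtain ⟨t1, ht1, a1, a2⟩ := hV m hm.1 d dm
  let S : G → Prop := fun q => q ∈ Y ∧ (∀ x ∈ Dd Y d, Commute c x → Commute q x) ∧ ¬ Commute q d ∧ ¬ Commute q c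
  have ex : ∀ q, S q → ∃ u ∈ Ln Y m c, u ≠ m ∧ u ≠ c ∧ c * (u * q * u) * c = d * (t1 * q * t1) * d := fun q hq => by
    have qm := mem_Dd_of_nc hq.1 hq.2.2.1 (hq.2.1 m hm cm) hm.2.2.symm
    obtain ⟨l1, l2, l3⟩ := h.ln_op hm.1 dm ht1 a1 qm
    have l4 := l3 a2 hq.2.2.1
    have l5 : ¬ Commute c (d * (t1 * q * t1) * d) := fun e =>
      hq.2.2.2 (h.ln_perp hm.1 qm (Ln.left hm.1) l1 l2 hc cm.symm e.symm).2
    obtain ⟨u, -, -, e1, e2⟩ := t.theta hq.1 l1.1 hc (Ln.comm hm.1 qm (Ln.right hq.1) l1) (hq.2.2.2 ·.symm) l5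
    obtain ⟨l6, l7, l8⟩ := h.ln_op hm.1 qm l1 l2 cm1
    exact ⟨u, e2 ▸ l6, e2 ▸ l7, e2 ▸ l8 l4 (hq.2.2.2 ·.symm), e1⟩
  choose! u hu using ex
  have key : ∀ q q', S q → S q' → ¬ Commute q q' → u q ≠ u q' := fun q q' hq hq' n e => by
    obtain ⟨b1, b2, b3, b4⟩ := hu q hq
    have b5 := e ▸ (hu q' hq').2.2.2
    have gi : (u q * c * d * t1)⁻¹ = t1 * d * c * u q := by simp [t.inv hc, t.inv hd, t.inv ht1.1, t.inv b1.1, mul_assoc]
    have fx : ∀ q', c * (u q * q' * u q) * c = d * (t1 * q' * t1) * d → Commute (u q * c * d * t1) q' := fun q' e =>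
      conj_eq_self_iff.1 (by
        rw [gi]
        simpa only [mul_assoc, t.cancel b1.1, t.cancel hc, t.sq b1.1, mul_one] using
          congrArg (fun x => u q * (c * x * c) * u q) e.symm)
    have hg : u q * c * d * t1 ∈ closure Y := mul_mem (mul_mem (TT.mul_mem2 b1.1 hc) (Subgroup.subset_closure hd)) (Subgroup.subset_closure ht1.1)
    obtain ⟨k, hk, e1, e2⟩ := h.tr_nc hd hq.1 hc hq'.1 n1 n
    have eq : {x | x ∈ Dd Y d ∧ Commute c x} = {x | x ∈ Dd Y q ∧ Commute q' x} :=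
      Set.eq_of_subset_of_ncard_le (fun x hx => ⟨⟨hx.1.1, fun e => hq.2.2.1 (e ▸ hx.1.2.2.symm), hq.2.1 x hx.1 hx.2⟩, hq'.2.1 x hx.1 hx.2⟩)
        (ncard_conj_eq k fun x => by simp only [Set.mem_ofPred_eq, ← e1, ← e2, commute_conj_conj_iff, t.conj_Dd_iff hk]).ge
    have m1 : m' ∈ {x | x ∈ Dd Y q ∧ Commute q' x} := eq ▸ ⟨hm', cm'⟩
    have m2 : (u q * c * d * t1)⁻¹ * m' * (u q * c * d * t1)⁻¹⁻¹ ∈ {x | x ∈ Dd Y d ∧ Commute c x} := by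
      have a1 := (t.conj_Dd_iff (inv_mem hg)).2 m1.1
      have a2 := (commute_conj_conj_iff (g := (u q * c * d * t1)⁻¹)).2 m1.2
      rw [conj_eq_self_iff.2 (fx q b4).inv_left] at a1
      rw [conj_eq_self_iff.2 (fx q' b5).inv_left] at a2
      exact eq ▸ ⟨a1, a2⟩
    have m3 := m2.1.2.2
    rw [inv_inv, ← commute_conj_left_iff, ← conj_conj', conj_eq_of_commute (Ln.comm hm.1 dm (Ln.right hd) ht1), ← conj_conj',
      mul_inv_cancel_right, ← conj_conj', t.inv hc, t.inv b1.1] at m3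
    have um := Ln.dd hm.1 cm1 (Ln.left hm.1) b1 b2
    obtain ⟨l1, -, l3⟩ := h.ln_op hm.1 um (h.ln_mem hm.1 cm1 (Ln.left hm.1) b1 b2 (Ln.right hc)) cm1.2.1 dm
    exact nm (h.ln_perp hm.1 dm (Ln.right hd) l1 (l3 b3.symm fun e => n1
      (h.ln_perp hm.1 cm1 (Ln.left hm.1) b1 b2 hd hm.2.2.symm e.symm).2.symm) hm'.1 hm'.2.2 m3).1
  have br := t.braid hd hc n1
  have s1 : S (d * c * d) := ⟨t.conj d hd c hc, fun x hx e => (TT.commute_conj hx.2.2.symm e.symm).symm,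
    (t.not_commute_third hd n1 ·.symm), (t.not_commute_third' hd hc n1 ·.symm)⟩
  have s2 : S c' := ⟨hc', s, (n2 ·.symm), (q1 ·.symm)⟩
  have s3 : S (d * c' * d) := ⟨t.conj d hd c' hc', fun x hx e => (TT.commute_conj hx.2.2.symm (s x hx e).symm).symm,
    (t.not_commute_third hd n2 ·.symm), fun e => q2 ((t.commute_conj_iff' hd).1 e).symm⟩
  have s4 : S (c * c' * c) := ⟨t.conj c hc c' hc', fun x hx e => (TT.commute_conj e.symm (s x hx e).symm).symm,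
    fun e => q2 (br ▸ ((t.commute_conj_iff' hc).1 e).symm), (t.not_commute_third hc q1 ·.symm)⟩
  have k12 := key _ _ s1 s2 q2
  obtain ⟨e, -, -, -, -, -, a⟩ := h.five hV hm.1 cm1 (hu _ s1).1 (hu _ s2).1 (hu _ s1).2.1 (hu _ s1).2.2.1 (hu _ s2).2.1
    (hu _ s2).2.2.1 k12.symm
  have k13 := key _ _ s1 s3 fun e => q1 ((t.commute_conj_iff hd).1 e)
  have k14 := key _ _ s1 s4 fun e => n2 ((t.commute_conj_iff hc).1 (br ▸ e))
  have k23 := key _ _ s2 s3 (t.not_commute_third' hd hc' n2)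
  have k24 := key _ _ s2 s4 (t.not_commute_third' hc hc' q1)
  have k34 := key _ _ s3 s4 fun e => n1 ((t.commute_conj_iff hc').1 (by rwa [← t.braid hd hc' n2, ← t.braid hc hc' q1]))
  have a3 := a _ (hu _ s3).1
  have a4 := a _ (hu _ s4).1
  simp only [(hu _ s3).2.1, (hu _ s3).2.2.1, (hu _ s4).2.1, (hu _ s4).2.2.1, k13.symm, k14.symm, k23.symm, k24.symm, false_or] at a3 a4
  exact k34 (a3.trans a4.symm)

end R3

end Cfsg.Lib.Known2
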