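import Cfsg.Agent.Lib.Known2.F5

/-! Fischer's theorem, VI: orientation of the `V`-classes. -/

set_option autoImplicit false

namespace Cfsg.Lib.Known2

open Subgroup Cfsg.Lib.Forms

variable {G : Type*} [Group G] {X Y : Set G}

theorem TT.plw (h : TT X) {a b c : G} (ha : a ∈ X) (hb : b ∈ X) (hc : c ∈ X) (h1 : ¬ Commute a b) (h2 : ¬ Commute a c)
    (h3 : ¬ Commute b c) (h4 : ¬ Commute a (b * c * b)) (u w : List ℕ) (e : TC.weq 3 TC.pl_ft u w = true) :
    TC.ev (fun s => [a, b, c].getD s 1) u = TC.ev (fun s => [a, b, c].getD s 1) w :=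
  TC.weq_sound TC.pl_check (by norm_num) (sq_getD (by simp [h.sq, *])) (by
    have := h.cube ha hb h1; have := h.cube ha hc h2; have := h.cube hb hc h3; have := h.cube ha (h.conj b hb c hc) h4
    simp only [pow_succ, pow_zero, one_mul, mul_assoc] at *
    simp [TC.pl_rels, h.sq, *]) u w e

/-- One-cocycles on the non-commuting graph are coboundaries. -/
theorem TT.h1 {A : Type*} [CommGroup A] (t : TT X)
    (diam : ∀ a ∈ X, ∀ b ∈ X, ∃ c ∈ X, ¬ Commute a c ∧ ¬ Commute c b) (ε : G → G → A)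
    (h2 : ∀ a ∈ X, ∀ b ∈ X, ¬ Commute a b → ε a b * ε b a = 1)
    (h3 : ∀ a ∈ X, ∀ b ∈ X, ∀ c ∈ X, ¬ Commute a b → ¬ Commute b c → ¬ Commute a c → ε a b * ε b c = ε a c) :
    ∃ o : G → A, ∀ a ∈ X, ∀ b ∈ X, ¬ Commute a b → o a * ε a b = o b := by
  rcases X.eq_empty_or_nonempty with rfl | ⟨m, hm⟩
  · simp
  have s1 : ∀ x ∈ X, ∀ a ∈ X, ∀ b ∈ X, ¬ Commute m a → ¬ Commute a x → ¬ Commute m b → ¬ Commute b x → ¬ Commute a b →
      ε m a * ε a x = ε m b * ε b x := fun x hx a ha b hb a1 a2 b1 b2 n => by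
    rw [← h3 m hm a ha b hb a1 n b1, ← h3 a ha b hb x hx n b2 a2, mul_assoc]
  have s2 : ∀ x ∈ X, ∀ a ∈ X, ∀ b ∈ X, ¬ Commute m a → ¬ Commute a x → ¬ Commute m b → ¬ Commute b x →
      ε m a * ε a x = ε m b * ε b x := fun x hx a ha b hb a1 a2 b1 b2 => by
    by_cases n : Commute a b
    swap
    · exact s1 x hx a ha b hb a1 a2 b1 b2 n
    by_cases c : Commute m x
    swap
    · rw [h3 m hm a ha x hx a1 a2 c, h3 m hm b hb x hx b1 b2 c]
    have k := t.conj m hm a ha
    have k1 := t.not_commute_third hm a1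
    have k2 : ¬ Commute (m * a * m) x := (t.not_commute_conj hm c.symm (a2 ·.symm) ·.symm)
    rw [s1 x hx a ha _ k a1 a2 k1 k2 (t.not_commute_third' hm ha a1), s1 x hx b hb _ k b1 b2 k1 k2
      (t.braid hm ha a1 ▸ t.not_commute_conj ha n.symm (b1 ·.symm))]
  choose! c hc using diam m hm
  have o2 : ∀ x ∈ X, ∀ a ∈ X, ¬ Commute m a → ¬ Commute a x → ε m (c x) * ε (c x) x = ε m a * ε a x :=
    fun x hx a ha a1 a2 => s2 x hx _ (hc x hx).1 a ha (hc x hx).2.1 (hc x hx).2.2 a1 a2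
  have o1 : ∀ a ∈ X, ∀ b ∈ X, ¬ Commute a b → ¬ Commute m a → ε m (c a) * ε (c a) a * ε a b = ε m (c b) * ε (c b) b :=
    fun a ha b hb n q => by rw [o2 b hb a ha q n, h3 m hm _ (hc a ha).1 a ha (hc a ha).2.1 (hc a ha).2.2 q]
  refine ⟨fun x => ε m (c x) * ε (c x) x, fun a ha b hb n => ?_⟩
  by_cases q : Commute m a
  swap
  · exact o1 a ha b hb n q
  by_cases r : Commute m b
  swap
  · simp only [← o1 b hb a ha (n ·.symm) r, mul_assoc, h2 b hb a ha (n ·.symm), mul_one]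
  obtain ⟨e, he, e1, e2, e3⟩ : ∃ e ∈ X, ¬ Commute m e ∧ ¬ Commute e a ∧ ¬ Commute e b := by
    by_cases p : Commute (c a) b
    · exact ⟨_, t.conj a ha _ (hc a ha).1, t.not_commute_conj ha q (hc a ha).2.1,
        (t.not_commute_third ha ((hc a ha).2.2 ·.symm) ·.symm),
        (t.not_commute_conj (hc a ha).1 p.symm (n ·.symm) <| t.braid ha (hc a ha).1 ((hc a ha).2.2 ·.symm) ▸ ·.symm)⟩
    · exact ⟨_, (hc a ha).1, (hc a ha).2.1, (hc a ha).2.2, p⟩
  simp only [o2 a ha e he e1 e2, o2 b hb e he e1 e3, mul_assoc, h3 e he a ha b hb e2 n e3]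

theorem TT.third_third (t : TT X) {a b : G} (ha : a ∈ X) (hb : b ∈ X) (n : ¬ Commute a b) : a * (b * a * b) * a = b := by
  rw [← t.braid ha hb n, t.conj_conj ha]

theorem TT.swap_third (t : TT X) {a b : G} (ha : a ∈ X) (hb : b ∈ X) (n : ¬ Commute a b) : a * b * a * a * (a * b * a) = b := by
  simpa only [mul_assoc, t.cancel ha] using t.third_third ha hb n

/-- Holonomy around a non-affine triangle. -/
theorem TT.hol (t : TT X) {a b c : G} (ha : a ∈ X) (hb : b ∈ X) (hc : c ∈ X) (n : ¬ Commute a b) (n2 : ¬ Commute b c)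
    (n3 : ¬ Commute a c) (q : Commute c (a * b * a)) : c * a * c * (b * c * b) * (a * b * a) ∈ X := by
  have w := t.conj a ha b hb
  have e : a * b * a * (c * a * c) * (a * b * a) = b * c * b := by
    have e0 := t.swap_third ha hb n
    generalize a * b * a = u at q e0 ⊢
    rw [t.braid hb hc n2, ← e0]
    simp only [mul_assoc, q.left_comm, q.eq]
  rw [← e, mul_assoc (c * a * c), t.cancel' w, ← mul_assoc]
  exact t.conj _ (t.conj c hc a ha) _ w

def cl (X : Set G) (y : G) : Set G := {z | z ∈ X ∧ RV X y z}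

theorem cl.self {y : G} (hy : y ∈ X) : y ∈ cl X y := ⟨hy, RV.refl y⟩
theorem cl.eq {y z : G} (h : RV X y z) : cl X y = cl X z :=
  Set.ext fun _ => and_congr_right fun _ => ⟨h.symm.trans, h.trans⟩
theorem cl.comm {y z w : G} (hz : z ∈ cl X y) (hw : w ∈ X) : Commute z w ↔ Commute y w := (hz.2 w hw).symm
theorem TT.cl_conj (t : TT X) {g y z : G} (hg : g ∈ closure X) (hz : z ∈ cl X y) : g * z * g⁻¹ ∈ cl X (g * y * g⁻¹) :=
  ⟨t.conj_mem hg hz.1, hz.2.conj fun e he => by simpa using t.conj_mem (inv_mem hg) he⟩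

def x4 (i j : Fin 4) : Fin 4 := ![![0, 1, 2, 3], ![1, 0, 3, 2], ![2, 3, 0, 1], ![3, 2, 1, 0]] i j
def m4 (k : Fin 3) (j : Fin 4) : Fin 4 := ![![0, 1, 2, 3], ![0, 2, 3, 1], ![0, 3, 1, 2]] k j

theorem even4 : ∀ π : Equiv.Perm (Fin 4), Equiv.Perm.sign π = 1 → ∃ k, ∀ i j, x4 (π i) (π j) = m4 k (x4 i j) := by decide +kernel
theorem inv4 : ∀ π : Equiv.Perm (Fin 4), π * π = 1 → (∀ i, π i ≠ i) → Equiv.Perm.sign π = 1 := by decide +kernel

theorem TT.labels {F : Type*} [Field F] {σ : F →+* F} (hσ : IsConj σ 2) (t : TT X)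
    (tr : ∀ a ∈ X, ∀ b ∈ X, ∃ g ∈ closure X, g * a * g⁻¹ = b) (nc : ∀ a ∈ X, ∃ b ∈ X, ¬ Commute a b)
    (h4 : ∀ y ∈ X, (cl X y).ncard = 4) : ∃ ℓ : G → F, (∀ y ∈ X, Set.BijOn ℓ (cl X y) Set.univ) ∧
      ∀ y ∈ X, ∀ z ∈ X, ∃ α ≠ 0, ∀ p ∈ cl X z, ∀ q ∈ cl X z, ℓ (y * p * y) + ℓ (y * q * y) = α * (ℓ p + ℓ q) := by
  classical
  have e0 : ∀ S : Set G, ∃ f : Fin 4 → G, S.ncard = 4 → Function.Injective f ∧ Set.range f = S := fun S => by
    by_cases h : S.ncard = 4
    · have : Finite S := (Set.finite_of_ncard_ne_zero (by omega)).to_subtype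
      let e := (Finite.equivFinOfCardEq (α := S) h).symm
      exact ⟨fun i => e i, fun _ => ⟨Subtype.val_injective.comp e.injective, by
        rw [show (fun i => (e i : G)) = Subtype.val ∘ e from rfl, e.surjective.range_comp, Subtype.range_coe]⟩⟩
    · exact ⟨fun _ => 1, fun a => (h a).elim⟩
  choose en hen using e0
  have ei : ∀ z ∈ X, Function.Injective (en (cl X z)) := fun z hz => (hen _ (h4 z hz)).1
  have em : ∀ z ∈ X, ∀ i, en (cl X z) i ∈ cl X z := fun z hz i => (hen _ (h4 z hz)).2.le ⟨i, rfl⟩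
  have es : ∀ z ∈ X, ∀ p ∈ cl X z, ∃ i, en (cl X z) i = p := fun z hz p hp => (hen _ (h4 z hz)).2.ge hp
  have e1 : ∀ g ∈ closure X, ∀ z ∈ X, ∃ π : Equiv.Perm (Fin 4), ∀ i, en (cl X (g * z * g⁻¹)) (π i) = g * en (cl X z) i * g⁻¹ :=
    fun g hg z hz => by
      choose f hf using fun i => es _ (t.conj_mem hg hz) _ (t.cl_conj hg (em z hz i))
      exact ⟨Equiv.ofBijective f (Finite.injective_iff_bijective.1 fun i j e => ei z hz (by simpa [e, hf] using (hf i).symm)), hf⟩
  choose! π hπ using e1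
  have mul : ∀ g ∈ closure X, ∀ k ∈ closure X, ∀ z ∈ X, π (g * k) z = π g (k * z * k⁻¹) * π k z := fun g hg k hk z hz =>
    Equiv.ext fun i => ei _ (t.conj_mem (mul_mem hg hk) hz) (by
      rw [hπ _ (mul_mem hg hk) z hz, ← conj_conj', ← conj_conj', Equiv.Perm.mul_apply, hπ g hg _ (t.conj_mem hk hz), hπ k hk z hz])
  have cls : ∀ g ∈ closure X, ∀ z ∈ X, ∀ p ∈ cl X z, π g p = π g z := fun g hg z hz p hp =>
    Equiv.ext fun i => ei _ (t.conj_mem hg hz) (by
      rw [hπ g hg z hz, cl.eq (t.cl_conj hg hp).2, hπ g hg p hp.1, cl.eq hp.2])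
  have triv : ∀ g ∈ closure X, ∀ z ∈ X, (∀ p ∈ cl X z, Commute g p) → π g z = 1 := fun g hg z hz c =>
    Equiv.ext fun i => ei z hz (by
      have := hπ g hg z hz i
      rwa [conj_eq_self_iff.2 (c z (cl.self hz)), conj_eq_self_iff.2 (c _ (em z hz i))] at this)
  have triv' : ∀ g ∈ X, ∀ z ∈ X, Commute z g → π g z = 1 := fun g hg z hz c =>
    triv g (subset_closure hg) z hz fun p hp => ((cl.comm hp hg).2 c).symm
  have sc := @subset_closure G _ X
  have inv2 : ∀ y ∈ X, ∀ z ∈ X, π y (y * z * y) * π y z = 1 := fun y hy z hz => by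
    have := mul y (sc hy) y (sc hy) z hz
    rw [t.inv hy, t.sq hy, triv 1 (one_mem _) z hz fun p _ => Commute.one_left p] at this
    exact this.symm
  obtain ⟨o, ho⟩ := t.h1 (fun a ha b hb => by
      by_cases q : Commute a b
      · by_cases e : a = b
        · obtain ⟨c, hc, n⟩ := nc a ha; exact ⟨c, hc, n, e ▸ (n ·.symm)⟩
        · obtain ⟨c, hc, n1, n2⟩ := t.diam tr ha hb e q; exact ⟨c, hc, (n1 ·.symm), n2⟩
      · exact ⟨_, t.conj a ha b hb, t.not_commute_third ha q, (t.not_commute_third' ha hb q ·.symm)⟩)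
    (fun a b => Equiv.Perm.sign (π (a * b * a) a)) (fun a ha b hb n => by
      have := inv2 _ (t.conj a ha b hb) a ha
      rw [t.swap_third ha hb n] at this
      rw [← t.braid ha hb n, mul_comm, ← map_mul, this, map_one]) (fun a ha b hb c hc n1 n2 n3 => by
      have w1 := t.conj a ha b hb
      have w2 := t.conj b hb c hc
      have w3 := t.conj c hc a ha
      have g1 := mul _ (sc w2) _ (sc w1) a ha
      have g2 := mul _ (sc w3) _ (mul_mem (sc w2) (sc w1)) a ha
      have f1 : b * c * b * (a * b * a) * a * (b * c * b * (a * b * a))⁻¹ = c := by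
        rw [← conj_conj', t.inv w1, t.inv w2, t.swap_third ha hb n1, t.swap_third hb hc n2]
      have f2 : Commute (c * a * c * (b * c * b * (a * b * a))) a := conj_eq_self_iff.1 (by
        rw [← conj_conj', f1, t.inv w3, t.swap_third hc ha (n3 ·.symm)])
      rw [t.inv w1, t.swap_third ha hb n1] at g1
      rw [f1, g1] at g2
      have g3 := inv2 _ w3 a ha
      rw [← t.braid ha hc n3, t.swap_third ha hc n3, t.braid ha hc n3] at g3
      have g4 : Equiv.Perm.sign (π (c * a * c * (b * c * b * (a * b * a))) a) = 1 := by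
        by_cases q : Commute c (a * b * a)
        · rw [triv' _ (mul_assoc (c * a * c) _ _ ▸ t.hol ha hb hc n1 n2 n3 q) a ha f2.symm, map_one]
        have m := mul_mem (sc w3) (mul_mem (sc w2) (sc w1))
        generalize hg : c * a * c * (b * c * b * (a * b * a)) = g at *
        have m' := mul_mem (sc ha) m
        have f3 : a * g * a * (a * g)⁻¹ = a := conj_eq_self_iff.2 ((Commute.refl a).mul_left f2)
        have c3 : a * g * (a * g * (a * g)) = 1 := by
          simpa [← hg, mul_assoc] using t.plw hc ha hb (n3 ·.symm) (n2 ·.symm) n1 q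
            [1, 0, 1, 0, 2, 0, 2, 1, 2, 1, 1, 0, 1, 0, 2, 0, 2, 1, 2, 1, 1, 0, 1, 0, 2, 0, 2, 1, 2, 1] [] (by decide +kernel)
        have k1 := mul _ m' _ (mul_mem m' m') a ha
        rw [c3, triv 1 (one_mem _) a ha fun p _ => Commute.one_left p, ← conj_conj', f3, f3, mul _ m' _ m' a ha, f3,
          mul _ (sc ha) _ m a ha, conj_eq_self_iff.2 f2, triv' a ha a ha (Commute.refl a), one_mul] at k1
        simpa using (congrArg Equiv.Perm.sign k1).symm
      rw [g2, map_mul, map_mul] at g4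
      rw [t.braid ha hc n3, mul_comm, ← mul_right_inj (Equiv.Perm.sign (π (c * a * c) c)), g4, ← map_mul, g3, map_one])
  have ho' : ∀ y ∈ X, ∀ z ∈ X, o z * Equiv.Perm.sign (π y z) = o (y * z * y) := fun y hy z hz => by
    by_cases q : Commute y z
    · rw [triv' y hy z hz q.symm, (t.conj_eq_iff hy).2 q, map_one, mul_one]
    · simpa only [t.third_third hz hy (q ·.symm)] using ho z hz _ (t.conj y hy z hz) (t.not_commute_third' hy hz q)
  have oc : ∀ z ∈ X, ∀ p ∈ cl X z, o p = o z := fun z hz p hp => by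
    by_cases e : p = z
    · rw [e]
    obtain ⟨b, hb, n⟩ := nc z hz
    have n' : ¬ Commute p b := fun c => n ((cl.comm hp hb).1 c)
    have w := t.conj z hz b hb
    have w' := t.conj p hp.1 b hb
    have r : RV X (z * b * z) (p * b * p) := t.rv_op hz hp.1 hb hp.2 (RV.refl b)
    have ne : p * b * p ≠ z * b * z := fun q => e (t.third_inj hb hp.1 hz (n' ·.symm) (n ·.symm) q)
    have cc := (r.commute w').symm
    have m := TT.mul_mem2 w' w
    have f : p * b * p * (z * b * z) * b * (p * b * p * (z * b * z))⁻¹ ∈ cl X b := by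
      have := t.cl_conj (sc w') (show z ∈ cl X p from ⟨hz, hp.2.symm⟩)
      rw [t.inv w', t.swap_third hp.1 hb n'] at this
      rwa [← conj_conj', t.inv w, t.inv w', t.braid hz hb n, t.swap_third hb hz (n ·.symm)]
    have s : Equiv.Perm.sign (π (p * b * p * (z * b * z)) b) = 1 := inv4 _ (by
      have := mul _ m _ m b hb
      rwa [t.sq_mul' w' w cc, triv 1 (one_mem _) b hb fun p _ => Commute.one_left p, cls _ m b hb _ f, eq_comm] at this)
      fun i q => by
        have := hπ _ m b hb i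
        rw [q, ← cl.eq f.2] at this
        exact t.not_commute_third' hz hb n ((cl.comm (em b hb i) w).1
          ((t.commute_mul_iff w' w (em b hb i).1 ne cc).1 (conj_eq_self_iff.1 this.symm).symm).2)
    rw [mul _ (sc w') _ (sc w) b hb, t.inv w, t.braid hz hb n, t.swap_third hb hz (n ·.symm), map_mul,
      ← cls _ (sc w') z hz p hp] at s
    have a1 := ho p hp.1 b hb n'
    have a2 := ho b hb z hz (n ·.symm)
    rw [← a2, ← a1, mul_assoc, s, mul_one]
  obtain ⟨ω, hω⟩ := F4.exists_omega hσ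
  let e : Fin 4 → F := ![0, 1, ω, ω + 1]
  have h2 := F4.two hσ
  have ex : ∀ i j, e (x4 i j) = e i + e j := fun i j => by fin_cases i <;> fin_cases j <;> simp [e, x4] <;> grind
  have emu : ∀ k j, e (m4 k j) = ω ^ (k : ℕ) * e j := fun k j => by fin_cases k <;> fin_cases j <;> simp [e, m4] <;> grind
  have eb : Function.Bijective e := by
    have := hσ.finite
    refine (Nat.bijective_iff_surjective_and_card e).2 ⟨fun a => ?_, by simp [hσ.card]⟩
    rcases F4.cases hσ hω a with rfl | rfl | rfl | rfl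
    exacts [⟨0, rfl⟩, ⟨1, rfl⟩, ⟨2, rfl⟩, ⟨3, rfl⟩]
  let ρ : G → Equiv.Perm (Fin 4) := fun z => if o z = 1 then 1 else Equiv.swap 2 3
  have hρ : ∀ z, Equiv.Perm.sign (ρ z) = o z := fun z => by
    rcases Int.units_eq_one_or (o z) with q | q <;> simp [ρ, q]
  let ℓ : G → F := fun p => e (ρ p (Function.invFun (en (cl X p)) p))
  have hℓ : ∀ z ∈ X, ∀ i, ℓ (en (cl X z) i) = e (ρ z i) := fun z hz i => by
    simp only [ℓ, ρ, ← cl.eq (em z hz i).2, oc z hz _ (em z hz i), Function.leftInverse_invFun (ei z hz) i]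
  refine ⟨ℓ, fun y hy => ⟨fun _ _ => trivial, fun p hp q hq a => ?_, fun a _ => ?_⟩, fun y hy z hz => ?_⟩
  · obtain ⟨i, rfl⟩ := es y hy p hp
    obtain ⟨j, rfl⟩ := es y hy q hq
    rw [hℓ y hy, hℓ y hy] at a
    rw [(ρ y).injective (eb.1 a)]
  · obtain ⟨i, rfl⟩ := (eb.2.comp (ρ y).surjective) a
    exact ⟨_, em y hy i, hℓ y hy i⟩
  obtain ⟨k, hk⟩ := even4 (ρ (y * z * y) * π y z * (ρ z)⁻¹) (by
    rw [map_mul, map_mul, map_inv, hρ, hρ, ← ho' y hy z hz, mul_assoc (o z), Int.units_mul_self, mul_one, mul_inv_cancel])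
  refine ⟨ω ^ (k : ℕ), pow_ne_zero _ (F4.ω_ne hω), fun p hp q hq => ?_⟩
  obtain ⟨i, rfl⟩ := es z hz p hp
  obtain ⟨j, rfl⟩ := es z hz q hq
  have a := fun i => hπ y (sc hy) z hz i
  simp only [t.inv hy] at a
  rw [← a, ← a, hℓ _ (t.conj y hy z hz), hℓ _ (t.conj y hy z hz), hℓ z hz, hℓ z hz, ← ex, ← ex, ← emu, ← hk]
  simp

end Cfsg.Lib.Known2
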