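import Cfsg.Agent.Lib.Known2.F6

/-! Fischer's theorem, VII: the hermitian Gram matrix in the case `V`. -/

set_option autoImplicit false

namespace Cfsg.Lib.Known2

open Subgroup Cfsg.Lib.Forms

variable {G : Type*} [Group G] {X Y : Set G} {F : Type*} [Field F] {σ : F →+* F}

namespace F4
variable (h : IsConj σ 2)
include h
theorem cube {a : F} (ha : a ≠ 0) : a ^ 3 = 1 := by have := pow_four h a; grind
theorem om {a : F} (ha : a ≠ 0) (h1 : a ≠ 1) : a * a = a + 1 := by have := pow_four h a; have := two h; grind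
theorem add_zero_iff {a b : F} : a + b = 0 ↔ a = b := by have := two h; grind
end F4

open Classical in
noncomputable def al (ℓ : G → F) (y : G) (S : Set G) : F :=
  epsilon fun α => α ≠ 0 ∧ ∀ p ∈ S, ∀ q ∈ S, ℓ (y * p * y) + ℓ (y * q * y) = α * (ℓ p + ℓ q)
open Classical in
noncomputable def mu (x : G) (S : Set G) : G := epsilon fun p => p ∈ S ∧ Commute x p
open Classical in
noncomputable def gg (Y : Set G) (d : G) (ℓ : G → F) (x y : G) : F := if y = d then 1 else ℓ (mu x (cl (Dd Y d) y)) + ℓ y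
noncomputable def kk (Y : Set G) (d : G) (ℓ : G → F) (y z : G) : F := al ℓ (y * z * y) (cl (Dd Y d) y)
open Classical in
noncomputable def ss (Y : Set G) (d : G) (ℓ : G → F) (x z : G) : F := epsilon fun s => s * s = s + 1 ∧
  ∀ y ∈ Dd Y d, gg Y d ℓ (x * z * x) y = s * gg Y d ℓ z y + (1 + s) * gg Y d ℓ x y
open Classical in
noncomputable def hh (σ : F →+* F) (Y : Set G) (d : G) (ℓ : G → F) (x y : G) : F :=
  if Commute x y then 0 else if Commute d x then (if Commute d y then kk Y d ℓ x y else σ (gg Y d ℓ y x))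
  else if Commute d y then gg Y d ℓ x y else if Commute d (x * y * x) then 1 else σ (ss Y d ℓ x y)

structure UD (σ : F →+* F) (Y : Set G) (d : G) (ℓ : G → F) : Prop where
  s : IsConj σ 2
  r : R3 Y
  v : VC Y
  hd : d ∈ Y
  bij : ∀ y ∈ Dd Y d, Set.BijOn ℓ (cl (Dd Y d) y) Set.univ
  aff : ∀ y ∈ Dd Y d, ∀ z ∈ Dd Y d, ∃ α ≠ 0, ∀ p ∈ cl (Dd Y d) z, ∀ q ∈ cl (Dd Y d) z,
    ℓ (y * p * y) + ℓ (y * q * y) = α * (ℓ p + ℓ q)

namespace UD
variable [Finite G] {d : G} {ℓ : G → F} (U : UD σ Y d ℓ)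
include U

local notation "𝐗" => Dd Y d
local notation "g" => gg Y d ℓ
local notation "k" => kk Y d ℓ
local notation "H" => hh σ Y d ℓ

theorem mu_spec {x y : G} (hx : x ∈ Y) (n : ¬ Commute d x) (hy : y ∈ 𝐗) : mu x (cl 𝐗 y) ∈ cl 𝐗 y ∧ Commute x (mu x (cl 𝐗 y)) :=
  Classical.epsilon_spec (p := fun p => p ∈ cl 𝐗 y ∧ Commute x p) (let ⟨p, a, b, c⟩ := U.r.one' U.v U.hd hy hx n; ⟨p, ⟨a, b⟩, c⟩)

theorem mu_eq {x y p : G} (hx : x ∈ Y) (n : ¬ Commute d x) (hy : y ∈ 𝐗) (hp : p ∈ cl 𝐗 y) (c : Commute x p) : mu x (cl 𝐗 y) = p := by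
  obtain ⟨a, b⟩ := U.mu_spec hx n hy
  by_contra e
  exact n (U.r.ln_perp U.hd hy (R3.ln_of_rv hp.1 hp.2) (R3.ln_of_rv a.1 a.2) e hx c.symm b.symm).1

omit [Finite G] in
theorem al_spec {y z : G} (hy : y ∈ 𝐗) (hz : z ∈ 𝐗) : al ℓ y (cl 𝐗 z) ≠ 0 ∧ ∀ p ∈ cl 𝐗 z, ∀ q ∈ cl 𝐗 z,
    ℓ (y * p * y) + ℓ (y * q * y) = al ℓ y (cl 𝐗 z) * (ℓ p + ℓ q) :=
  Classical.epsilon_spec (p := fun α => α ≠ 0 ∧ ∀ p ∈ cl 𝐗 z, ∀ q ∈ cl 𝐗 z, ℓ (y * p * y) + ℓ (y * q * y) = α * (ℓ p + ℓ q))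
    (U.aff y hy z hz)

omit [Finite G] in
theorem lab {y : G} (hy : y ∈ 𝐗) (c : F) : ∃ p ∈ cl 𝐗 y, ℓ p + ℓ y = c := by
  obtain ⟨p, hp, e⟩ := (U.bij y hy).surjOn (Set.mem_univ (c - ℓ y))
  exact ⟨p, hp, by rw [e]; ring⟩

omit [Finite G] in
theorem clc {y z p : G} (hy : y ∈ 𝐗) (hp : p ∈ cl 𝐗 z) : y * p * y ∈ cl 𝐗 (y * z * y) := by
  simpa only [(U.r.tt.dd d).inv hy] using (U.r.tt.dd d).cl_conj (subset_closure hy) hp

omit [Finite G] in
theorem al_inv {y z : G} (hy : y ∈ 𝐗) (hz : z ∈ 𝐗) : al ℓ y (cl 𝐗 (y * z * y)) * al ℓ y (cl 𝐗 z) = 1 := by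
  obtain ⟨p, hp, e⟩ := U.lab hz 1
  have t := U.r.tt.dd d
  have := (U.al_spec hy (t.conj y hy z hz)).2 _ (U.clc hy hp) _ (U.clc hy (cl.self hz))
  rw [t.conj_conj hy, t.conj_conj hy, (U.al_spec hy hz).2 p hp z (cl.self hz), e] at this
  rw [this, mul_one]

omit [Finite G] in
theorem al_rv {y y' z : G} (hy : y ∈ 𝐗) (hy' : y' ∈ cl 𝐗 y) (hz : z ∈ 𝐗) : al ℓ y' (cl 𝐗 z) = al ℓ y (cl 𝐗 z) := by
  have t := U.r.tt.dd d
  have hw := t.conj y hy z hz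
  have m : ∀ p ∈ cl 𝐗 (y * z * y), y' * (y * p * y) * y' ∈ cl 𝐗 (y * z * y) := fun p hp =>
    ⟨t.conj _ hy'.1 _ (t.conj _ hy _ hp.1), hp.2.trans (by
      simpa only [t.conj_conj hy'.1] using (t.rv_conj hy'.1 (t.rv_op hy hy'.1 hp.1 hy'.2 (RV.refl p))).symm)⟩
  have f : ∀ p ∈ cl 𝐗 (y * z * y), ∀ q ∈ cl 𝐗 (y * z * y), ℓ (y' * (y * p * y) * y') + ℓ (y' * (y * q * y) * y') =
      al ℓ y' (cl 𝐗 z) * al ℓ y (cl 𝐗 (y * z * y)) * (ℓ p + ℓ q) := fun p hp q hq => by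
    rw [(U.al_spec hy'.1 hz).2 _ (t.conj_conj hy z ▸ U.clc hy hp) _ (t.conj_conj hy z ▸ U.clc hy hq), (U.al_spec hy hw).2 p hp q hq,
      mul_assoc (al ℓ y' _)]
  obtain ⟨p, hp, e⟩ := U.lab hw 1
  have c := hy'.2.commute hy'.1
  have i : ∀ p, y' * (y * (y' * (y * p * y) * y') * y) * y' = p := fun p => by
    simp only [mul_assoc, c.left_comm, c.eq, t.cancel hy, t.cancel hy'.1, t.sq hy, mul_one, t.sq hy'.1]
  have := f _ (m p hp) _ (m _ (cl.self hw))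
  rw [i, i, f p hp _ (cl.self hw), e] at this
  have a := U.al_inv hy hz
  have := F4.two U.s
  grind

omit [Finite G] in
theorem step {y z p : G} (hy : y ∈ 𝐗) (hz : z ∈ 𝐗) (n : ¬ Commute y z) (hp : p ∈ cl 𝐗 y) :
    y * z * y * p * (y * z * y) ∈ cl 𝐗 z ∧ ℓ (y * z * y * p * (y * z * y)) + ℓ z = k y z * (ℓ p + ℓ y) ∧
      p * (y * z * y * p * (y * z * y)) * p = y * z * y := by
  have t := U.r.tt.dd d
  have hw := t.conj y hy z hz
  have := (U.al_spec hw hy).2 p hp y (cl.self hy)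
  rw [t.swap_third hy hz n] at this
  exact ⟨by simpa only [t.swap_third hy hz n] using U.clc hw hp, this, t.third_third hp.1 hw fun c => t.not_commute_third hy n ((cl.comm hp hw).1 c)⟩

omit [Finite G] in
theorem kk_ne {y z : G} (hy : y ∈ 𝐗) (hz : z ∈ 𝐗) : k y z ≠ 0 := (U.al_spec ((U.r.tt.dd d).conj y hy z hz) hy).1

omit [Finite G] in
theorem kk_inv {y z : G} (hy : y ∈ 𝐗) (hz : z ∈ 𝐗) (n : ¬ Commute y z) : k z y * k y z = 1 := by
  have t := U.r.tt.dd d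
  have := U.al_inv (t.conj y hy z hz) hy
  rwa [t.swap_third hy hz n, t.braid hy hz n, ← kk, ← t.braid hy hz n] at this

omit [Finite G] in
theorem kk_cl {y z p : G} (hy : y ∈ 𝐗) (hp : p ∈ cl 𝐗 z) (hz : z ∈ 𝐗) : k y p = k y z :=
  U.al_rv ((U.r.tt.dd d).conj y hy z hz) (U.clc hy hp) hy

omit [Finite G] in
theorem kk_eq {y z : G} (hy : y ∈ 𝐗) (hz : z ∈ 𝐗) (n : ¬ Commute y z) : al ℓ y (cl 𝐗 z) * k y z = al ℓ z (cl 𝐗 y) := by
  have t := U.r.tt.dd d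
  obtain ⟨p, hp, e⟩ := U.lab hy 1
  obtain ⟨a, b, -⟩ := U.step hy hz n hp
  have c := (U.al_spec hy hz).2 _ a z (cl.self hz)
  have f : y * (y * z * y * p * (y * z * y)) * y = z * p * z := by
    simp only [mul_assoc, t.cancel hy, t.sq hy, mul_one, (hp.2.commute hp.1).left_comm]
  rw [f, b, t.braid hy hz n, (U.al_spec hz hy).2 p hp y (cl.self hy), e] at c
  rw [mul_one, mul_one] at c
  exact c.symm

omit [Finite G] U in
theorem gg_X {x y : G} (hy : y ∈ 𝐗) : g x y = ℓ (mu x (cl 𝐗 y)) + ℓ y := if_neg hy.2.1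
omit [Finite G] U in
theorem gg_d {x : G} : g x d = 1 := if_pos rfl

theorem gg_eq {x z y : G} (hx : x ∈ Y) (n : ¬ Commute d x) (hz : z ∈ Y) (n' : ¬ Commute d z) (hy : y ∈ 𝐗) :
    g x y = g z y ↔ ∃ r ∈ cl 𝐗 y, Commute x r ∧ Commute z r := by
  rw [gg_X hy, gg_X hy, add_left_inj, (U.bij y hy).injOn.eq_iff (U.mu_spec hx n hy).1 (U.mu_spec hz n' hy).1]
  exact ⟨fun e => ⟨_, (U.mu_spec hx n hy).1, (U.mu_spec hx n hy).2, e ▸ (U.mu_spec hz n' hy).2⟩,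
    fun ⟨r, a, b, c⟩ => by rw [U.mu_eq hx n hy a b, U.mu_eq hz n' hy a c]⟩

theorem gg_zero {x y : G} (hx : x ∈ Y) (n : ¬ Commute d x) (hy : y ∈ Y) (c : Commute d y) : g x y = 0 ↔ Commute x y := by
  by_cases e : y = d
  · simpa [e, gg_d] using (n ·.symm)
  have hy' : y ∈ 𝐗 := ⟨hy, e, c⟩
  rw [gg_X hy', F4.add_zero_iff U.s, (U.bij y hy').injOn.eq_iff (U.mu_spec hx n hy').1 (cl.self hy')]
  exact ⟨fun e => e ▸ (U.mu_spec hx n hy').2, U.mu_eq hx n hy' (cl.self hy')⟩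

omit [Finite G] in
theorem gg_cl {x y p : G} (hy : y ∈ 𝐗) (hp : p ∈ cl 𝐗 y) : g x p = g x y + (ℓ p + ℓ y) := by
  rw [gg_X hy, gg_X hp.1, ← cl.eq hp.2]; have := F4.two U.s; grind

theorem gg_lin {x y z : G} (hx : x ∈ Y) (n : ¬ Commute d x) (hy : y ∈ 𝐗) (hz : z ∈ 𝐗) (c : ¬ Commute y z) :
    g x (y * z * y) = al ℓ y (cl 𝐗 z) * (g x z + k y z * g x y) := by
  have t := U.r.tt.dd d
  obtain ⟨p1, p2⟩ := U.mu_spec hx n hy
  obtain ⟨q1, q2⟩ := U.mu_spec hx n hz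
  rw [gg_X (t.conj y hy z hz), gg_X hy, gg_X hz]
  generalize mu x (cl 𝐗 y) = p at *
  generalize mu x (cl 𝐗 z) = q at *
  rw [U.mu_eq hx n (t.conj y hy z hz) ⟨t.conj p p1.1 q q1.1, t.rv_op hy p1.1 q1.1 p1.2 q1.2⟩ (TT.commute_conj p2 q2)]
  have a := (U.al_spec p1.1 hz).2 q q1 z (cl.self hz)
  have b := (U.al_spec hz hy).2 p p1 y (cl.self hy)
  rw [U.al_rv hy p1 hz, t.braid p1.1 hz fun e => c ((cl.comm p1 hz).1 e)] at a
  rw [← t.braid hy hz c, ← U.kk_eq hy hz c] at b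
  have := F4.two U.s
  grind

theorem sep {x z : G} (hx : x ∈ Y) (n : ¬ Commute d x) (hz : z ∈ Y) (n' : ¬ Commute d z) (e1 : z ≠ x) (e2 : z ≠ d * x * d) :
    ∃ q ∈ 𝐗, Commute x q ∧ ¬ Commute z q := by
  by_contra c
  push Not at c
  exact (U.r.two_of_vc U.v d U.hd x hx z hz n n' c).elim e1 e2

theorem sep' {x z : G} (hx : x ∈ Y) (n : ¬ Commute d x) (hz : z ∈ Y) (n' : ¬ Commute d z) (c : ¬ Commute x z)
    (n2 : ¬ Commute d (x * z * x)) : ∃ q ∈ 𝐗, g x q = 0 ∧ g z q ≠ 0 := by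
  obtain ⟨q, hq, a, b⟩ := U.sep hx n hz n' (fun e => c (e ▸ Commute.refl _)) fun e => n2 (by
    rw [e, U.r.tt.third_third hx U.hd (n ·.symm)])
  exact ⟨q, hq, (U.gg_zero hx n hq.1 hq.2.2).2 a, fun e => b ((U.gg_zero hz n' hq.1 hq.2.2).1 e)⟩

theorem ss_spec {x z : G} (hx : x ∈ Y) (n : ¬ Commute d x) (hz : z ∈ Y) (n' : ¬ Commute d z) (c : ¬ Commute x z)
    (n2 : ¬ Commute d (x * z * x)) : ss Y d ℓ x z * ss Y d ℓ x z = ss Y d ℓ x z + 1 ∧
      ∀ y ∈ 𝐗, g (x * z * x) y = ss Y d ℓ x z * g z y + (1 + ss Y d ℓ x z) * g x y := by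
  refine Classical.epsilon_spec (p := fun s => s * s = s + 1 ∧ ∀ y ∈ 𝐗, g (x * z * x) y = s * g z y + (1 + s) * g x y) ?_
  have t := U.r.tt
  have tx := t.dd d
  have h2 := F4.two U.s
  have hw := t.conj x hx z hz
  have z0 : ∀ q ∈ 𝐗, g z q = 0 ↔ Commute z q := fun q hq => U.gg_zero hz n' hq.1 hq.2.2
  have w0 : ∀ q ∈ 𝐗, Commute x q → (g (x * z * x) q = 0 ↔ Commute z q) := fun q hq a => (U.gg_zero hw n2 hq.1 hq.2.2).trans
    ⟨fun e => (t.comm_third' hx a.symm e.symm).symm, fun e => (TT.commute_conj a.symm e.symm).symm⟩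
  have e1 : ∀ q ∈ 𝐗, Commute x q → ¬ Commute z q → ∃ s, s * s = s + 1 ∧ g (x * z * x) q = s * g z q := fun q hq a b => by
    have b0 : g z q ≠ 0 := fun e => b ((z0 q hq).1 e)
    refine ⟨g (x * z * x) q / g z q, F4.om U.s (div_ne_zero (fun e => b ((w0 q hq a).1 e)) b0) fun e => ?_, by field_simp⟩
    obtain ⟨r, hr, r1, r2⟩ := (U.gg_eq hw n2 hz n' hq).1 ((div_eq_one_iff_eq b0).1 e)
    have := (U.mu_eq hx n hq hr (t.comm_third hx hz c r2.symm r1.symm).symm).symm.trans (U.mu_eq hx n hq (cl.self hq) a)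
    exact b (this ▸ r2)
  choose! s hs using e1
  have e2 : ∀ p ∈ 𝐗, ∀ q ∈ 𝐗, Commute x p → ¬ Commute z p → Commute x q → ¬ Commute z q → ¬ Commute p q → s p = s q :=
    fun p hp q hq a1 a2 b1 b2 m => by
      have h3 := tx.conj p hp q hq
      have c3 := TT.commute_conj a1 b1
      have l1 := U.gg_lin hz n' hp hq m
      have l2 := U.gg_lin hw n2 hp hq m
      obtain ⟨s1, s2⟩ := hs p hp a1 a2
      obtain ⟨s3, s4⟩ := hs q hq b1 b2
      have p0 : g z p ≠ 0 := fun e => a2 ((z0 p hp).1 e)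
      have q0 : g z q ≠ 0 := fun e => b2 ((z0 q hq).1 e)
      have a0 := (U.al_spec hp hq).1
      have k0 := U.kk_ne hp hq
      rw [s2, s4] at l2
      by_cases y : Commute z (p * q * p)
      · rw [(z0 _ h3).2 y] at l1
        rw [(w0 _ h3 c3).2 y] at l2
        grind
      · obtain ⟨s5, s6⟩ := hs _ h3 c3 y
        rw [s6, l1, mul_left_comm, mul_right_inj' a0] at l2
        have : s (p * q * p) = s p ∨ s (p * q * p) = s q ∨ s p = s q := by grind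
        grind
  obtain ⟨q0, hq0, a0, b0⟩ := U.sep hx n hz n' (fun e => c (e ▸ Commute.refl _)) fun e => n2 (by
    rw [e, t.third_third hx U.hd (n ·.symm)])
  have e3 : ∀ q ∈ 𝐗, Commute x q → g (x * z * x) q = s q0 * g z q := fun q hq a => by
    by_cases b : Commute z q
    · rw [(w0 q hq a).2 b, (z0 q hq).2 b, mul_zero]
    rw [(hs q hq a b).2]
    by_cases m : Commute q0 q
    swap
    · rw [e2 q0 hq0 q hq a0 b0 a b m]
    by_cases e : q0 = q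
    · rw [e]
    obtain ⟨r0, hr0, r1, r2⟩ := tx.diam (U.r.tdd d U.hd) hq0 hq e m
    obtain ⟨hr, r3⟩ := U.mu_spec hx n hr0
    generalize mu x (cl 𝐗 r0) = r at *
    have r4 : ¬ Commute r q0 := fun c => r1 ((cl.comm hr hq0).1 c)
    have r5 : ¬ Commute r q := fun c => r2 ((cl.comm hr hq).1 c)
    by_cases y : Commute z r
    · have hr' := tx.conj q0 hq0 r hr.1
      have c1 := TT.commute_conj a0 r3
      have c2 : ¬ Commute z (q0 * r * q0) := tx.braid hq0 hr.1 (r4 ·.symm) ▸ tx.not_commute_conj hr.1 y b0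
      rw [e2 q0 hq0 _ hr' a0 b0 c1 c2 (tx.not_commute_third hq0 (r4 ·.symm)),
        e2 q hq _ hr' a b c1 c2 (tx.not_commute_conj hq0 m.symm (r5 ·.symm))]
    · rw [← e2 r hr.1 q0 hq0 r3 y a0 b0 r4, e2 r hr.1 q hq r3 y a b r5]
  refine ⟨s q0, (hs q0 hq0 a0 b0).1, fun y hy => ?_⟩
  obtain ⟨hq, c1⟩ := U.mu_spec hx n hy
  have f1 := e3 _ hq.1 c1
  have f2 := (U.gg_zero hx n hq.1.1 hq.1.2.2).2 c1
  rw [U.gg_cl hy hq] at f2
  rw [U.gg_cl hy hq, U.gg_cl hy hq] at f1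
  grind

theorem ss_eq {x z : G} (hx : x ∈ Y) (n : ¬ Commute d x) (hz : z ∈ Y) (n' : ¬ Commute d z) (c : ¬ Commute x z)
    (n2 : ¬ Commute d (x * z * x)) {s : F} (e : ∀ y ∈ 𝐗, g (x * z * x) y = s * g z y + (1 + s) * g x y) : ss Y d ℓ x z = s := by
  obtain ⟨q, hq, a, b⟩ := U.sep' hx n hz n' c n2
  have := (U.ss_spec hx n hz n' c n2).2 q hq
  rw [e q hq, a] at this
  simpa [b] using this.symm

omit [Finite G] U in
theorem hh_0 {x y : G} (c : Commute x y) : H x y = 0 := if_pos c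
omit [Finite G] U in
theorem hh_DD {x y : G} (c : ¬ Commute x y) (a : Commute d x) (b : Commute d y) : H x y = k x y := by simp [hh, *]
omit [Finite G] U in
theorem hh_DA {x y : G} (c : ¬ Commute x y) (a : Commute d x) (b : ¬ Commute d y) : H x y = σ (g y x) := by simp [hh, *]
omit [Finite G] U in
theorem hh_AD {x y : G} (c : ¬ Commute x y) (a : ¬ Commute d x) (b : Commute d y) : H x y = g x y := by simp [hh, *]
omit [Finite G] U in
theorem hh_1 {x y : G} (c : ¬ Commute x y) (a : ¬ Commute d x) (b : ¬ Commute d y) (e : Commute d (x * y * x)) : H x y = 1 := by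
  simp [hh, *]
omit [Finite G] U in
theorem hh_AA {x y : G} (c : ¬ Commute x y) (a : ¬ Commute d x) (b : ¬ Commute d y) (e : ¬ Commute d (x * y * x)) :
    H x y = σ (ss Y d ℓ x y) := by simp [hh, *]

theorem hh_AD' {x y : G} (hx : x ∈ Y) (hy : y ∈ Y) (a : ¬ Commute d x) (b : Commute d y) : H x y = g x y := by
  by_cases c : Commute x y
  exacts [(hh_0 c).trans ((U.gg_zero hx a hy b).2 c).symm, hh_AD c a b]

theorem hh_ne {x y : G} (hx : x ∈ Y) (hy : y ∈ Y) (c : ¬ Commute x y) : H x y ≠ 0 := by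
  by_cases a : Commute d x <;> by_cases b : Commute d y
  · rw [hh_DD c a b]; exact U.kk_ne (mem_Dd_of_nc hx c a.symm b) (mem_Dd_of_nc hy (c ·.symm) b.symm a)
  · rw [hh_DA c a b, map_ne_zero]; exact fun e => c ((U.gg_zero hy b hx a).1 e).symm
  · rw [hh_AD c a b]; exact fun e => c ((U.gg_zero hx a hy b).1 e)
  by_cases e : Commute d (x * y * x)
  · rw [hh_1 c a b e]; exact one_ne_zero
  · rw [hh_AA c a b e, map_ne_zero]; exact F4.ω_ne (U.ss_spec hx a hy b c e).1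

theorem hh_symm {x y : G} (hx : x ∈ Y) (hy : y ∈ Y) : H y x = σ (H x y) := by
  by_cases c : Commute x y
  · rw [hh_0 c, hh_0 c.symm, map_zero]
  have c' : ¬ Commute y x := (c ·.symm)
  by_cases a : Commute d x <;> by_cases b : Commute d y
  · have h1 := mem_Dd_of_nc hx c a.symm b
    have h2 := mem_Dd_of_nc hy c' b.symm a
    rw [hh_DD c a b, hh_DD c' b a, ← mul_left_inj' (U.kk_ne h1 h2), U.kk_inv h1 h2 c, F4.norm' U.s (U.kk_ne h1 h2)]
  · rw [hh_DA c a b, hh_AD c' b a, U.s.kind.σσ]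
  · rw [hh_DA c' b a, hh_AD c a b]
  have br := U.r.tt.braid hx hy c
  by_cases e : Commute d (x * y * x)
  · rw [hh_1 c a b e, hh_1 c' b a (br ▸ e), map_one]
  · obtain ⟨s1, s2⟩ := U.ss_spec hx a hy b c e
    rw [hh_AA c a b e, hh_AA c' b a (br ▸ e), U.ss_eq hy b hx a c' (br ▸ e) (s := σ (ss Y d ℓ x y)) fun q hq => by
      rw [← br, s2 q hq, F4.σω U.s s1]; have := F4.two U.s; grind]

theorem hh_norm {x y : G} (hx : x ∈ Y) (hy : y ∈ Y) (c : ¬ Commute x y) : H x y * H y x = 1 := by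
  rw [U.hh_symm hx hy, F4.norm U.s (U.hh_ne hx hy c)]

end UD

end Cfsg.Lib.Known2
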