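import Cfsg.Agent.Lib.Known2.F7

/-! Fischer's theorem, VIII: triangles of the hermitian Gram matrix. -/

set_option autoImplicit false

namespace Cfsg.Lib.Known2

open Subgroup Cfsg.Lib.Forms

variable {G : Type*} [Group G] {X Y : Set G} {F : Type*} [Field F] {σ : F →+* F}

theorem F4.three (h : IsConj σ 2) {r u v : F} (a : r ^ 3 = 1) (b : u ^ 3 = 1) (c : v ^ 3 = 1) (d : r + u ≠ 0) (e : r + v ≠ 0)
    (f : u + v ≠ 0) : r = u + v := by
  have := F4.two h
  have : r ^ 2 + r * u + u ^ 2 = 0 := by grind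
  have : r ^ 2 + r * v + v ^ 2 = 0 := by grind
  grind

structure HG (σ : F →+* F) (Y : Set G) (H : G → G → F) : Prop where
  s : IsConj σ 2
  t : TT Y
  z : ∀ {x y}, Commute x y → H x y = 0
  ne : ∀ {x y}, x ∈ Y → y ∈ Y → ¬ Commute x y → H x y ≠ 0
  symm : ∀ {x y}, x ∈ Y → y ∈ Y → H y x = σ (H x y)

def PP (H : G → G → F) (x y z : G) : Prop :=
  ¬ Commute x y → ¬ Commute y z → ¬ Commute z x → (H x y * H y z * H z x = 1 ↔ Commute z (x * y * x))

namespace HG
variable {H : G → G → F} (U : HG σ Y H) {x y z : G} (hx : x ∈ Y) (hy : y ∈ Y) (hz : z ∈ Y)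
include U hx hy

theorem sq : H y x = H x y ^ 2 := by rw [U.symm hx hy, U.s.apply]
theorem cube (c : ¬ Commute x y) : H x y ^ 3 = 1 := F4.cube U.s (U.ne hx hy c)

include hz

theorem cyc (p : PP H x y z) : PP H y z x := fun a b c => by
  rw [U.t.braid hy hz a, ← U.t.s4_swap hx hy hz c (a ·.symm), ← p c a b, mul_comm, ← mul_assoc]

theorem rev (p : PP H x y z) : PP H y x z := fun a b c => by
  rw [U.t.braid hy hx a, ← p (a ·.symm) (c ·.symm) (b ·.symm), U.symm hx hy, U.symm hz hx, U.symm hy hz, ← map_mul, ← map_mul,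
    σ.injective.eq_iff' (map_one σ), mul_right_comm]

theorem ag (c : ¬ Commute x y) (p : PP H x y z) : H z y + H x y * H z x = 0 ↔ Commute z (x * y * x) := by
  have t := U.t
  by_cases a : Commute z x <;> by_cases b : Commute z y
  · simp [U.z a, U.z b, TT.commute_conj a b]
  · simp [U.z a, U.ne hz hy b, t.not_commute_conj hx a b]
  · simp [U.z b, U.ne hz hx a, U.ne hx hy c, t.braid hx hy c, t.not_commute_conj hy b a]
  rw [← p c (b ·.symm) a, U.sq hz hy]
  have := U.cube hz hy b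
  have := F4.two U.s
  grind

theorem lin (c : ¬ Commute x y) (p1 : PP H x y z) (p2 : PP H y (x * y * x) z) (p3 : PP H x (x * y * x) z)
    (p4 : PP H x y (x * y * x)) : H z (x * y * x) = H y (x * y * x) * (H z y + H x y * H z x) := by
  have t := U.t
  have hw := t.conj x hx y hy
  have c1 := t.not_commute_third hx c
  have c2 := t.not_commute_third' hx hy c
  have q1 := U.ag hx hy hz c p1
  have q2 := U.ag hy hw hz c2 p2
  have q3 := U.ag hx hw hz c1 p3
  have q4 := (p4 c c2 (c1 ·.symm)).2 (Commute.refl _)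
  rw [t.third_third hy hx (c ·.symm)] at q2
  rw [t.conj_conj hx] at q3
  rw [U.sq hx hw] at q4
  have k1 := U.cube hx hw c1
  have k2 := U.cube hx hy c
  have k3 := U.cube hy hw c2
  have h2 := F4.two U.s
  have e : H x (x * y * x) = H x y * H y (x * y * x) := by grind
  rw [e] at q3
  by_cases a : Commute z x
  · have := q2.2 a; rw [U.z a]; grind
  by_cases b : Commute z y
  · have := q3.2 b; rw [U.z b]; grind
  by_cases d : Commute z (x * y * x)
  · rw [U.z d, q1.2 d, mul_zero]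
  have k4 := U.cube hz hx a
  have k5 := U.cube hz hy b
  have k6 := U.cube hz hw d
  simp only [a, b, d, iff_false] at q1 q2 q3
  rw [mul_add]
  refine F4.three U.s k6 (by rw [mul_pow, k3, k5, one_mul]) (by rw [mul_pow, mul_pow, k3, k2, k4, one_mul, one_mul]) q2
    (by rwa [← mul_assoc, mul_comm (H y _)]) ?_
  rw [← mul_add]; exact mul_ne_zero (U.ne hy hw c2) q1

end HG

namespace UD
variable [Finite G] {d : G} {ℓ : G → F} (U : UD σ Y d ℓ)
include U

local notation "𝐗" => Dd Y d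
local notation "g" => gg Y d ℓ
local notation "k" => kk Y d ℓ
local notation "H" => hh σ Y d ℓ

theorem hg : HG σ Y H := ⟨U.s, U.r.tt, hh_0, U.hh_ne, U.hh_symm⟩

omit [Finite G] in
theorem pDDD {a b c : G} (ha : a ∈ Y) (hb : b ∈ Y) (hc : c ∈ Y) (da : Commute d a) (db : Commute d b) (dc : Commute d c) :
    PP H a b c := fun n1 n2 n3 => by
  have t := U.r.tt.dd d
  replace ha := mem_Dd_of_nc ha n1 da.symm db
  replace hb := mem_Dd_of_nc hb n2 db.symm dc
  replace hc := mem_Dd_of_nc hc n3 dc.symm da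
  rw [hh_DD n1 da db, hh_DD n2 db dc, hh_DD n3 dc da]
  have key : ∀ p ∈ cl 𝐗 a, ∃ q ∈ cl 𝐗 b, ∃ r ∈ cl 𝐗 c, ∃ s ∈ cl 𝐗 a, ℓ s + ℓ a = k a b * k b c * k c a * (ℓ p + ℓ a) ∧
      p * q * p = a * b * a ∧ q * r * q = b * c * b ∧ r * s * r = c * a * c ∧
      s = c * a * c * (b * c * b) * (a * b * a) * p * (c * a * c * (b * c * b) * (a * b * a))⁻¹ := fun p hp => by
    obtain ⟨a1, a2, a3⟩ := U.step ha hb n1 hp
    obtain ⟨b1, b2, b3⟩ := U.step hb hc n2 a1
    obtain ⟨c1, c2, c3⟩ := U.step hc ha n3 b1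
    exact ⟨_, a1, _, b1, _, c1, by rw [c2, b2, a2]; ring, a3, b3, c3, by
      simp only [mul_inv_rev, t.inv ha, t.inv hb, t.inv hc, mul_assoc]⟩
  obtain ⟨p, hp, e⟩ := U.lab ha 1
  obtain ⟨q, hq, r, hr, s, hs, e1, e2, e3, e4, e5⟩ := key p hp
  rw [e, mul_one] at e1
  refine ⟨fun T => by_contra fun n => ?_, fun n => ?_⟩
  · obtain rfl : s = p := (U.bij a ha).injOn hs hp (by rw [T, ← e] at e1; exact add_right_cancel e1)
    have id : ∀ a ∈ 𝐗, ∀ b ∈ 𝐗, ∀ c ∈ 𝐗, ¬ Commute a b → ¬ Commute b c → ¬ Commute c a → ¬ Commute c (a * b * a) →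
        a = a * b * a * (c * a * c) * (a * b * a) * (b * c * b) * (a * b * a * (c * a * c) * (a * b * a)) :=
      fun a ha b hb c hc n1 n2 n3 n => by
        simpa [mul_assoc] using t.plw hc ha hb n3 (n2 ·.symm) n1 n [1]
          [1, 2, 1, 0, 1, 0, 1, 2, 1, 2, 0, 2, 1, 2, 1, 0, 1, 0, 1, 2, 1] (by decide +kernel)
    have := id s hp.1 q hq.1 r hr.1 (fun c => n1 ((cl.comm hq ha).1 ((cl.comm hp hq.1).1 c).symm).symm)
      (fun c => n2 ((cl.comm hr hb).1 ((cl.comm hq hr.1).1 c).symm).symm)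
      (fun c => n3 ((cl.comm hp hc).1 ((cl.comm hr hp.1).1 c).symm).symm)
      (e2 ▸ fun c => n ((cl.comm hr (t.conj a ha b hb)).1 c))
    rw [e2, e3, e4, ← id a ha b hb c hc n1 n2 n3 n] at this
    rw [this, F4.add_self U.s] at e
    exact zero_ne_one e
  · have m := t.hol ha hb hc n1 n2 (n3 ·.symm) n
    obtain ⟨-, -, -, -, s', hs', f1, -, -, -, f5⟩ := key a (cl.self ha)
    rw [F4.add_self U.s, mul_zero, F4.add_zero_iff U.s] at f1
    rw [(U.bij a ha).injOn hs' (cl.self ha) f1] at f5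
    rw [conj_eq_self_iff.2 ((cl.comm hp m).2 (conj_eq_self_iff.1 f5.symm).symm).symm] at e5
    rw [← e1, e5, e]

theorem pDDA {a b x : G} (ha : a ∈ Y) (hb : b ∈ Y) (hx : x ∈ Y) (da : Commute d a) (db : Commute d b) (dx : ¬ Commute d x) :
    PP H a b x := fun n1 n2 n3 => by
  have t := U.r.tt.dd d
  replace ha := mem_Dd_of_nc ha n1 da.symm db
  replace hb := mem_Dd_of_nc hb (n1 ·.symm) db.symm da
  have hw := t.conj a ha b hb
  rw [hh_DD n1 da db, hh_DA n2 db dx, hh_AD n3 dx da, ← U.gg_zero hx dx hw.1 hw.2.2, U.gg_lin hx dx ha hb n1,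
    mul_eq_zero, or_iff_right (U.al_spec ha hb).1, U.s.apply]
  have := F4.cube U.s (a := g x b) fun e => n2 ((U.gg_zero hx dx hb.1 db).1 e).symm
  have := F4.two U.s
  grind

theorem pAAD {x z y : G} (hx : x ∈ Y) (hz : z ∈ Y) (hy : y ∈ Y) (dx : ¬ Commute d x) (dz : ¬ Commute d z) (dy : Commute d y) :
    PP H x z y := fun n1 n2 n3 => by
  have t := U.r.tt
  have hw := t.conj x hx z hz
  rw [hh_AD n2 dz dy, hh_DA n3 dy dx, U.s.apply]
  have h2 := F4.two U.s
  have c3 := F4.cube U.s (a := g x y) fun e => n3 ((U.gg_zero hx dx hy dy).1 e).symm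
  by_cases e : y = d
  · subst e
    rw [gg_d, gg_d]
    by_cases q : Commute y (x * z * x)
    · simp [hh_1 n1 dx dz q, q]
    · have := (U.ss_spec hx dx hz dz n1 q).1
      rw [hh_AA n1 dx dz q, U.s.apply]; simp only [q, iff_false]; grind
  have hy' : y ∈ 𝐗 := ⟨hy, e, dy⟩
  by_cases q : Commute d (x * z * x)
  · rw [hh_1 n1 dx dz q, show 1 * g z y * g x y ^ 2 = 1 ↔ g x y = g z y by grind, U.gg_eq hx dx hz dz hy']
    refine ⟨fun ⟨r, hr, a, b⟩ => (R3.ln_of_rv hy' hr.2.symm).2 _ hw q (TT.commute_conj a.symm b.symm), fun c => ?_⟩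
    obtain ⟨a, b⟩ := U.mu_spec hx dx hy'
    exact ⟨_, a, b, (t.comm_third' hx b.symm ((R3.ln_of_rv a.1 a.2).2 _ hw q c)).symm⟩
  · obtain ⟨s1, s2⟩ := U.ss_spec hx dx hz dz n1 q
    rw [hh_AA n1 dx dz q, U.s.apply, Commute.symm_iff, ← U.gg_zero hw q hy dy, s2 y hy']
    grind

theorem gg_conj {x y z : G} (hx : x ∈ Y) (dx : ¬ Commute d x) (hy : y ∈ Y) (dy : Commute d y) (hz : z ∈ 𝐗) :
    ∃ α, ∀ x ∈ Y, ¬ Commute d x → g (y * x * y) z = α * g x (y * z * y) := by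
  have t := U.r.tt
  by_cases e : y = d
  · refine ⟨1, fun x hx dx => ?_⟩
    obtain ⟨a, b⟩ := U.mu_spec hx dx hz
    rw [e, (t.conj_eq_iff U.hd).2 hz.2.2, one_mul, U.gg_eq (t.conj d U.hd x hx) (t.not_commute_third U.hd dx) hx dx hz]
    exact ⟨_, a, (TT.commute_conj a.1.2.2.symm b.symm).symm, b⟩
  have hy' : y ∈ 𝐗 := ⟨hy, e, dy⟩
  have hw := (t.dd d).conj y hy' z hz
  refine ⟨al ℓ y (cl 𝐗 (y * z * y)), fun x hx dx => ?_⟩
  obtain ⟨a, b⟩ := U.mu_spec hx dx hw
  rw [gg_X hz, gg_X hw, ← (U.al_spec hy' hw).2 _ a _ (cl.self hw), t.conj_conj hy, U.mu_eq (t.conj y hy x hx)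
    (t.not_commute_conj hy dy dx) hz (by simpa only [t.conj_conj hy] using U.clc hy' a) ((t.commute_conj_iff hy).2 b)]

theorem hh_conj {x z y : G} (hx : x ∈ Y) (hz : z ∈ Y) (hy : y ∈ Y) (dx : ¬ Commute d x) (dz : ¬ Commute d z) (dy : Commute d y) :
    H (y * x * y) (y * z * y) = H x z := by
  have t := U.r.tt
  by_cases c : Commute x z
  · rw [hh_0 c, hh_0 ((t.commute_conj_iff hy).2 c)]
  have c' : ¬ Commute (y * x * y) (y * z * y) := fun e => c ((t.commute_conj_iff hy).1 e)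
  have e : y * x * y * (y * z * y) * (y * x * y) = y * (x * z * x) * y := by simp only [mul_assoc, t.cancel hy]
  have a := t.not_commute_conj hy dy dx
  have b := t.not_commute_conj hy dy dz
  by_cases q : Commute d (x * z * x)
  · rw [hh_1 c dx dz q, hh_1 c' a b (e ▸ TT.commute_conj dy q)]
  have q' := e ▸ t.not_commute_conj hy dy q
  rw [hh_AA c dx dz q, hh_AA c' a b q', U.ss_eq (t.conj y hy x hx) a (t.conj y hy z hz) b c' q' (s := ss Y d ℓ x z) fun p hp => ?_]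
  obtain ⟨α, hα⟩ := U.gg_conj hx dx hy dy hp
  have m : y * p * y ∈ 𝐗 := by
    simpa only [t.inv hy, (t.conj_eq_iff hy).2 dy.symm] using t.conj_Dd hy hp
  rw [e, hα _ (t.conj x hx z hz) q, hα x hx dx, hα z hz dz, (U.ss_spec hx dx hz dz c q).2 _ m]; ring

theorem pnA {x y z : G} (hx : x ∈ Y) (hy : y ∈ Y) (hz : z ∈ Y) (c : Commute d x ∨ Commute d y ∨ Commute d z) : PP H x y z := by
  have V := U.hg
  have k1 : ∀ {x y z}, x ∈ Y → y ∈ Y → z ∈ Y → Commute d z → PP H x y z := fun {x y z} hx hy hz c => by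
    by_cases a : Commute d x <;> by_cases b : Commute d y
    exacts [U.pDDD hx hy hz a b c, V.cyc hz hx hy (U.pDDA hz hx hy c a b),
      V.cyc hz hx hy (V.cyc hy hz hx (U.pDDA hy hz hx b c a)), U.pAAD hx hy hz a b c]
  rcases c with c | c | c
  exacts [V.cyc hz hx hy (V.cyc hy hz hx (k1 hy hz hx c)), V.cyc hz hx hy (k1 hz hx hy c), k1 hx hy hz c]

theorem pS {y z w : G} (hy : y ∈ Y) (hz : z ∈ Y) (hw : w ∈ Y) (dy : Commute d y) (dz : ¬ Commute d z) (c : ¬ Commute y z) :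
    PP H z (y * z * y) w := fun n1 n2 n3 => by
  by_cases dw : Commute d w
  · exact U.pnA hz (U.r.tt.conj y hy z hz) hw (Or.inr (Or.inr dw)) n1 n2 n3
  have t := U.r.tt
  have tx := t.dd d
  have V := U.hg
  have h2 := F4.two U.s
  have hz' := t.conj y hy z hz
  have dz' := t.not_commute_conj hy dy dz
  have e := t.third_third hz hy (c ·.symm)
  rw [e, hh_1 n1 dz dz' (e.symm ▸ dy), V.sq hw hz', show 1 * H w (y * z * y) ^ 2 * H w z = 1 ↔ H w z = H w (y * z * y) by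
    have := V.cube hw hz' (n2 ·.symm); grind]
  refine ⟨fun T => by_contra fun n => ?_, fun n => by rw [← U.hh_conj hw hz hy dw dz dy, (t.conj_eq_iff hy).2 n.symm]⟩
  have ha := t.conj w hw z hz
  have ha' := t.conj w hw _ hz'
  have e3 : w * z * w * (w * (y * z * y) * w) * (w * z * w) = w * y * w := by
    rw [← congrArg (fun u => w * u * w) e]; simp only [mul_assoc, t.cancel hw]
  have k3 : ∀ r, Commute r (w * z * w) → Commute r (w * (y * z * y) * w) → Commute r y → Commute r w := fun r a b c =>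
    t.comm_third hw hy n c (e3 ▸ TT.commute_conj a b)
  have one : ∀ z ∈ Y, ¬ Commute d z → ¬ Commute w z → (H w z = 1 ↔ Commute d (w * z * w)) := fun z hz dz n => by
    simpa [hh_AD (dz ·.symm) dz (Commute.refl d), hh_DA dw (Commute.refl d) dw, gg_d] using
      U.pAAD hw hz U.hd dw dz (Commute.refl d) n (dz ·.symm) dw
  have da : ¬ Commute d (w * z * w) := fun q =>
    dw (k3 d q ((one _ hz' dz' (n2 ·.symm)).1 (T ▸ (one z hz dz n3).2 q)) dy)
  have da' : ¬ Commute d (w * (y * z * y) * w) := fun q => da ((one z hz dz n3).1 (T ▸ (one _ hz' dz' (n2 ·.symm)).2 q))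
  obtain ⟨s1, s2⟩ := U.ss_spec hw dw hz dz n3 da
  obtain ⟨-, s3⟩ := U.ss_spec hw dw hz' dz' (n2 ·.symm) da'
  rw [hh_AA n3 dw dz da, hh_AA (n2 ·.symm) dw dz' da', σ.injective.eq_iff] at T
  rw [← T] at s3
  generalize ss Y d ℓ w z = s at *
  have f1 : ∀ q ∈ 𝐗, Commute q y → ∃ r ∈ cl 𝐗 q, Commute w r ∧ Commute z r := fun q hq cq => by
    obtain ⟨a, b⟩ := U.mu_spec hz dz hq
    have ry : ∀ r ∈ cl 𝐗 q, Commute r y := fun r hr => (R3.ln_of_rv hr.1 hr.2).2 y hy dy cq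
    obtain ⟨r, hr, r1, r2⟩ := (U.gg_eq ha da ha' da' hq).1 (by
      rw [s2 q hq, s3 q hq, (U.gg_eq hz dz hz' dz' hq).2 ⟨_, a, b, (TT.commute_conj (ry _ a) b.symm).symm⟩])
    have := k3 r r1.symm r2.symm (ry r hr)
    exact ⟨r, hr, this.symm, (t.comm_third' hw this r1.symm).symm⟩
  have f2 : ∀ q ∈ 𝐗, Commute q y → Commute w q → Commute z q := fun q hq a b => by
    obtain ⟨r, hr, r1, r2⟩ := f1 q hq a
    rwa [← U.mu_eq hw dw hq (cl.self hq) b, U.mu_eq hw dw hq hr r1]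
  have sp : ∀ z ∈ Y, ¬ Commute d z → ¬ Commute w z → ¬ Commute d (w * z * w) → ∃ q ∈ 𝐗, Commute w q ∧ ¬ Commute z q :=
    fun z hz dz n m => U.sep hw dw hz dz (fun e => n (e ▸ Commute.refl _)) fun e => m (by
      rw [e, t.third_third hw U.hd (dw ·.symm)])
  obtain ⟨q1, hq1, a1, b1⟩ := sp z hz dz n3 da
  obtain ⟨q2, hq2, a2, b2⟩ := sp _ hz' dz' (n2 ·.symm) da'
  have hy' : y ∈ 𝐗 := ⟨hy, fun e => b1 (f2 q1 hq1 (e ▸ hq1.2.2.symm) a1), dy⟩
  obtain ⟨p, hp, p1, p2⟩ := f1 y hy' (Commute.refl y)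
  have p3 : Commute (y * z * y) p := (TT.commute_conj (hp.2.commute hp.1).symm p2.symm).symm
  obtain ⟨q, hq, a, b, b'⟩ : ∃ q ∈ 𝐗, Commute w q ∧ ¬ Commute z q ∧ ¬ Commute (y * z * y) q := by
    by_contra m
    push Not at m
    have m1 := m q1 hq1 a1 b1
    have key : ∀ q ∈ 𝐗, Commute w q → Commute z q → ¬ Commute (y * z * y) q → Commute q q1 := fun q hq a b c => by
      by_contra r
      by_cases u : Commute z (q * q1 * q)
      · exact b1 (t.comm_third' hq.1 b u)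
      · exact c (t.comm_third hq.1 hq1.1 r m1 (m _ (tx.conj q hq q1 hq1) (TT.commute_conj a a1) u))
    have m2 : Commute z q2 := by_contra fun u => b2 (m q2 hq2 a2 u)
    have u1 := key q2 hq2 a2 m2 b2
    have u2 := key _ (tx.conj p hp.1 q2 hq2) (TT.commute_conj p1 a2) (TT.commute_conj p2 m2) (t.not_commute_conj hp.1.1 p3 b2)
    have u3 : ¬ Commute p q2 := fun u => b2 (TT.commute_conj ((cl.comm hp hq2).1 u).symm m2.symm).symm
    exact b1 (f2 q1 hq1 ((cl.comm hp hq1).1 (t.comm_third hp.1.1 hq2.1 u3 u1.symm u2.symm).symm).symm a1)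
  have qy : ¬ Commute q y := fun u => b (f2 q hq u a)
  have ln : ∀ x ∈ Y, ¬ Commute d x → ¬ Commute y x → g (y * x * y) q = g x q + g x y * k y q := fun x hx dx n => by
    have hx' := t.conj y hy x hx
    have dx' := t.not_commute_conj hy dy dx
    have := V.lin hy hx hq.1 n (U.pnA hy hx hq.1 (Or.inl dy)) (U.pnA hx hx' hq.1 (Or.inr (Or.inr hq.2.2)))
      (U.pnA hy hx' hq.1 (Or.inl dy)) (U.pnA hy hx hx' (Or.inl dy))
    rw [hh_1 (t.not_commute_third' hy hx n) dx dx' ((t.third_third hx hy (n ·.symm)).symm ▸ dy), one_mul, V.symm hx' hq.1,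
      V.symm hx hq.1, V.symm hx hy, V.symm hy hq.1, ← map_mul, ← map_add, σ.injective.eq_iff, U.hh_AD' hx' hq.1 dx' hq.2.2,
      U.hh_AD' hx hq.1 dx hq.2.2, U.hh_AD' hx hy dx dy, hh_DD (qy ·.symm) dy hq.2.2] at this
    exact this
  have l1 := ln z hz dz c
  have l2 := ln w hw dw (n ·.symm)
  have hw' := t.conj y hy w hw
  have dw' := t.not_commute_conj hy dy dw
  rw [(U.gg_eq hw dw hz dz hy').2 ⟨p, hp, p1, p2⟩, (U.gg_zero hw dw hq.1 hq.2.2).2 a, zero_add] at l2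
  have l3 := s2 q hq
  have l4 := s3 q hq
  rw [(U.gg_zero hw dw hq.1 hq.2.2).2 a, mul_zero, add_zero] at l3 l4
  have z1 := F4.cube U.s fun e => b ((U.gg_zero hz dz hq.1 hq.2.2).1 e)
  have z2 := F4.cube U.s fun e => b' ((U.gg_zero hz' dz' hq.1 hq.2.2).1 e)
  have z3 := F4.cube U.s fun e => t.not_commute_conj hw a.symm qy (t.braid hy hw (n ·.symm) ▸
    ((U.gg_zero hw' dw' hq.1 hq.2.2).1 e).symm)
  have br : y * w * y = w * z * w * (w * (y * z * y) * w) * (w * z * w) := by rw [e3, t.braid hy hw (n ·.symm)]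
  have na : ¬ Commute (w * z * w) (w * (y * z * y) * w) := fun u => n1 ((t.commute_conj_iff hw).1 u)
  have d0 : g (w * z * w) q ≠ g (w * (y * z * y) * w) q := by rw [l3, l4]; grind
  have d1 : g (y * w * y) q ≠ g (w * z * w) q := fun u => by
    obtain ⟨r, hr, r1, r2⟩ := (U.gg_eq hw' dw' ha da hq).1 u
    exact d0 ((U.gg_eq ha da ha' da' hq).2 ⟨r, hr, r2, (t.comm_third' ha r2.symm (br ▸ r1.symm)).symm⟩)
  have d2 : g (y * w * y) q ≠ g (w * (y * z * y) * w) q := fun u => by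
    obtain ⟨r, hr, r1, r2⟩ := (U.gg_eq hw' dw' ha' da' hq).1 u
    exact d0 ((U.gg_eq ha da ha' da' hq).2 ⟨r, hr, (t.comm_third ha ha' na r2.symm (br ▸ r1.symm)).symm, r2⟩)
  rw [l3] at d1
  rw [l4] at d2
  rw [← l2] at l1
  have := F4.three U.s (r := s * g z q) (by grind) z1 z3 (by grind) (by grind)
  grind

end UD

end Cfsg.Lib.Known2
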