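import Cfsg.Agent.Lib.Known2.NS

/-! Fusion of the central involution of a double cover of `U₆(2)` or `Fi₂₂`. -/

set_option autoImplicit false
set_option linter.unusedSectionVars false

namespace Cfsg.Lib.Known2

open Subgroup Cfsg.Lib.Comp Cd Cfsg.Lib.Transfer

/-- Orbit enumeration under linear maps. -/
noncomputable def bfs (n : ℕ) (gs : List ℕ) (f : ℕ) : List ℕ → ℕ → ℕ :=
  Nat.rec (motive := fun _ => List ℕ → ℕ → ℕ) (fun _ M => M) (fun _ ih st M =>
    List.rec (motive := fun _ => ℕ) M (fun x st _ =>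
      List.rec (motive := fun _ => List ℕ → ℕ → ℕ) ih (fun g _ r st M => force (lin (look g 12) n x) fun y =>
        cnd (bt M y) (r st M) (force (Nat.lor M (Nat.shiftLeft 1 y)) fun M' => r (y :: st) M')) gs st M) st) f

theorem bfs_spec {n : ℕ} {gs : List ℕ} {P : ℕ → Prop} (h : ∀ g ∈ gs, ∀ x, P x → P (lin (look g 12) n x)) (f : ℕ)
    {st : List ℕ} {M : ℕ} (h1 : ∀ x ∈ st, P x) (h2 : ∀ x, M.testBit x = true → P x) :
    ∀ x, (bfs n gs f st M).testBit x = true → P x := by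
  induction f generalizing st M with
  | zero => exact h2
  | succ f ih =>
    obtain _ | ⟨x, st⟩ := st
    · exact h2
    have hx := h1 x List.mem_cons_self
    replace h1 := fun y hy => h1 y (List.mem_cons_of_mem _ hy)
    have : ∀ l : List ℕ, (∀ g ∈ l, g ∈ gs) → ∀ {st M}, (∀ x ∈ st, P x) → (∀ x, M.testBit x = true → P x) → ∀ z,
        (List.rec (motive := fun _ => List ℕ → ℕ → ℕ) (bfs n gs f) (fun g _ r st M => force (lin (look g 12) n x) fun y =>
        cnd (bt M y) (r st M) (force (Nat.lor M (Nat.shiftLeft 1 y)) fun M' => r (y :: st) M')) l st M).testBit z = true →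
        P z := fun l hl => by
      induction l with
      | nil => exact ih
      | cons g l ih' =>
        intro st M a b
        have i := @ih' fun g hg => hl g (List.mem_cons_of_mem _ hg)
        have c := h g (hl g List.mem_cons_self) x hx
        change ∀ z, (cnd _ _ _ : ℕ).testBit z = true → _
        rw [cnd_eq]
        split_ifs
        · exact i a b
        · refine i (List.forall_mem_cons.2 ⟨c, a⟩) fun z hz => ?_
          rw [lor_eq', shl_eq, Nat.one_shiftLeft, Nat.testBit_or, Bool.or_eq_true, Nat.testBit_two_pow, decide_eq_true_eq] at hz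
          exact hz.elim (b z) (· ▸ c)
    exact this gs (fun _ a => a) h1 h2

noncomputable def cf (S y N : ℕ) : ℕ :=
  Nat.rec (motive := fun _ => ℕ) 0 (fun x ih => force ih fun a => cnd (bt S x) (cnd (bt S (Nat.xor x y)) (Nat.succ a) a) a) N

theorem cf_eq (S y N : ℕ) : cf S y N = {x | x < N ∧ S.testBit x = true ∧ S.testBit (x ^^^ y) = true}.ncard := by
  have : cf S y N = Nat.count (fun x => S.testBit x = true ∧ S.testBit (x ^^^ y) = true) N := by
    induction N with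
    | zero => rfl
    | succ N ih =>
      rw [Nat.count_succ, ← ih]
      change cnd _ (cnd _ (Nat.succ (cf S y N)) (cf S y N)) (cf S y N) = _
      simp only [cnd_eq, bt_eq, xor_eq']
      split_ifs <;> simp_all
  rw [this, Nat.count_eq_card_filter_range, ← Set.ncard_coe_finset]
  congr 1; ext; simp

noncomputable def orbB (n : ℕ) (gs : List ℕ) (x : ℕ) : ℕ := bfs n gs (2 ^ n) [x] (Nat.shiftLeft 1 x)

/-- The possible unions of orbits on which the pair count is constant. -/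
noncomputable def fuB (n K t : ℕ) (gs l : List ℕ) : Bool :=
  force (orbB n gs 1) fun M1 => force (orbB n gs (Nat.xor 1 K)) fun M2 => force (orbB n gs (Nat.xor 3 K)) fun M3 =>
    force (orbB n gs t) fun M4 => cnd (Nat.beq M1 (msk l) && Nat.beq M2 (msk (l.map (Nat.xor · K))) &&
      Nat.beq (Nat.lor (Nat.lor (Nat.lor (Nat.lor M1 M2) (Nat.lor M3 M4)) (orbB n gs 3)) (msk [0, K])) (ones (2 ^ n)))
      ([false, true].all fun a => [false, true].all fun b => [false, true].all fun p => [false, true].all fun q =>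
        force (Nat.lor (Nat.lor (Nat.lor (cnd a M1 0) (cnd b M2 0)) (Nat.lor (cnd p M3 0) (cnd q M4 0))) (msk [K])) fun S =>
        cnd (!p && !q && !(a && b)) true (force (cf S K (2 ^ n)) fun f =>
          [(q, t), (p, Nat.xor 3 K), (a, 1)].any fun z => z.1 && !Nat.beq f (cf S z.2 (2 ^ n)))) false

theorem fuB_spec {n K t : ℕ} {gs l : List ℕ} (h : fuB n K t gs l = true) {s : ℕ → Prop}
    (hg : ∀ g ∈ gs, ∀ x < 2 ^ n, lin (look g 12) n x < 2 ^ n ∧ (s (lin (look g 12) n x) ↔ s x))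
    (hn : ∀ x ∈ [1, 3, K, t], x < 2 ^ n) (h0 : ¬ s 0) (hK : s K) (h3 : ¬ s 3)
    (hf : ∀ y < 2 ^ n, s y → {x | x < 2 ^ n ∧ s x ∧ s (x ^^^ K)}.ncard = {x | x < 2 ^ n ∧ s x ∧ s (x ^^^ y)}.ncard) :
    ¬ (s 1 ∧ s (1 ^^^ K)) ∧ ∀ x < 2 ^ n, s x → x = K ∨ x ∈ l ∨ x ^^^ K ∈ l := by
  classical
  have o : ∀ y < 2 ^ n, ∀ x, (orbB n gs y).testBit x = true → (s x ↔ s y) := fun y hy x hx =>
    (bfs_spec (P := fun x => x < 2 ^ n ∧ (s x ↔ s y)) (fun g a x b => ⟨(hg g a x b.1).1, (hg g a x b.1).2.trans b.2⟩) _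
      (by simpa using hy) (fun x hx => by
        rw [shl_eq, Nat.one_shiftLeft, Nat.testBit_two_pow, decide_eq_true_eq] at hx; exact hx ▸ ⟨hy, Iff.rfl⟩) x hx).2
  simp only [List.mem_cons, List.not_mem_nil, or_false, forall_eq_or_imp, forall_eq] at hn
  have o1 := o 1 hn.1
  have o2 := o _ (Nat.xor_lt_two_pow hn.1 hn.2.2.1)
  have o3 := o _ (Nat.xor_lt_two_pow hn.2.1 hn.2.2.1)
  have o4 := o t hn.2.2.2
  have o5 := o 3 hn.2.1
  simp only [fuB, force_eq, cnd_tt, Bool.and_eq_true, beq_tt, List.all_eq_true, xor_eq'] at h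
  obtain ⟨⟨⟨e1, e2⟩, e3⟩, h⟩ := h
  have b : ∀ a : Bool, a ∈ [false, true] := by decide
  replace h := h (decide (s 1)) (b _) (decide (s (1 ^^^ K))) (b _) (decide (s (3 ^^^ K))) (b _) (decide (s t)) (b _)
  have cv : ∀ x < 2 ^ n, _ := fun x hx => by
    have := congrArg (·.testBit x) e3
    simp only [lor_eq', Nat.testBit_or, testBit_ones, hx, decide_true, Bool.or_eq_true, testBit_msk, List.mem_cons,
      List.not_mem_nil, or_false] at this
    exact this
  generalize hS : Nat.lor _ (msk [K]) = S at h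
  have e : ∀ x < 2 ^ n, (S.testBit x = true ↔ s x) := fun x hx => by
    have := cv x hx
    have a1 := o1 x; have a2 := o2 x; have a3 := o3 x; have a4 := o4 x; have a5 := o5 x
    simp only [← hS, lor_eq', Nat.testBit_or, Bool.or_eq_true, testBit_msk, List.mem_singleton, cnd_eq, decide_eq_true_eq,
      apply_ite (Nat.testBit · x), Nat.zero_testBit, Bool.ite_eq_true_distrib, Bool.false_eq_true, if_false_right]
    grind
  have e' : ∀ y < 2 ^ n, s y → cf S K (2 ^ n) = cf S y (2 ^ n) := fun y hy a => by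
    have k : ∀ y < 2 ^ n, cf S y (2 ^ n) = {x | x < 2 ^ n ∧ s x ∧ s (x ^^^ y)}.ncard := fun y hy => by
      rw [cf_eq]; congr 1
      exact Set.ext fun x => and_congr_right fun b => by rw [e _ b, e _ (Nat.xor_lt_two_pow b hy)]
    rw [k _ hy, k _ hn.2.2.1, hf y hy a]
  rw [cnd_eq] at h
  split_ifs at h with c
  · simp only [Bool.and_eq_true, Bool.not_eq_true', decide_eq_false_iff_not, ← Bool.decide_and] at c
    refine ⟨c.2, fun x hx a => ?_⟩
    have := cv x hx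
    have a3 := o3 x; have a4 := o4 x; have a5 := o5 x
    rw [e1, e2, testBit_msk, testBit_msk, List.mem_map] at this
    rcases this with (((b | ⟨y, b, rfl⟩) | b) | b) | b
    · exact Or.inr (Or.inl b)
    · exact Or.inr (Or.inr (by simpa using b))
    all_goals grind
  · simp only [List.any_cons, List.any_nil, Bool.or_false, Bool.or_eq_true, Bool.and_eq_true, decide_eq_true_eq,
      Bool.not_eq_true'] at h
    rcases h with h | h | h <;> rw [← e' _ (by first | exact hn.1 | exact hn.2.2.2 | exact Nat.xor_lt_two_pow hn.2.1 hn.2.2.1)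
      h.1, Nat.beq_refl] at h <;> exact absurd h.2 (by simp)

noncomputable def cp (k : ℕ) (c : ℕ → ℕ) (φ j : ℕ) : ℕ := Nat.xor (c j) (cnd (bt (Nat.shiftLeft φ k) j) (2 ^ k) 0)
noncomputable def colp (k : ℕ) (c : ℕ → ℕ) (φ σ i : ℕ) : ℕ := cnd (Nat.blt i k) (cp k c φ (look σ 5 i)) (2 ^ k)
noncomputable def pck (f : ℕ → ℕ) (n : ℕ) : ℕ :=
  Nat.rec (motive := fun _ => ℕ) 0 (fun i ih => force ih fun a => Nat.add a (Nat.shiftLeft (f i) (Nat.mul 12 i))) n
noncomputable def spB (r k : ℕ) (c : ℕ → ℕ) (φ δ : ℕ) : Bool :=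
  allN r fun j => Nat.beq (lin (fun i => Nat.xor (cp k c φ i) δ) k (c j)) (Nat.xor (cp k c φ j) δ)

/-- Every invariant relation functional is split or has the expected fusion. -/
noncomputable def fusB (r k t : ℕ) (c : ℕ → ℕ) (N : List ℕ) : Bool :=
  cnd (Nat.ble 2 k && Nat.blt t (2 ^ k)) (allN (2 ^ (r - k)) fun φ =>
    cnd (allL N fun σ => allN r fun j => Nat.beq (lin (colp k c φ σ) (k + 1) (cp k c φ j)) (cp k c φ (look σ 5 j)))
      (cnd (spB r k c φ 0) true (cnd (spB r k c φ (2 ^ k)) true (mapK (fun σ => pck (colp k c φ σ) (k + 1)) N fun gs =>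
        mapK (cp k c φ) (List.range r) fun l => cnd (allL N fun σ => allN (k + 1) fun i =>
          Nat.beq (look (pck (colp k c φ σ) (k + 1)) 12 i) (colp k c φ σ i)) (fuB (k + 1) (2 ^ k) t gs l) false))) true) false

theorem BU.fus : fusB 21 9 11 BU.c (BU.N.map (·.2.2)) = true := by decide +kernel
theorem BF.fus : fusB 22 10 7 BF.c (BF.N.map (·.2.2)) = true := by decide +kernel

variable {C Q G : Type*} [Group C] [Group Q] [Group G] {π : C →* Q} {d : C} {X : Set C} {Y : Set Q} {r k : ℕ} {c : ℕ → ℕ}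
  {b : ℕ → Q} {N : List ℕ}

theorem mem_Bs_conj {g x : Q} : x ∈ closure (Bs (fun i => g * b i * g⁻¹) r) ↔ g⁻¹ * x * g ∈ closure (Bs b r) := by
  rw [show closure (Bs (fun i => g * b i * g⁻¹) r) = _ from (map_Bs (MulAut.conj g).toMonoidHom b r).symm, mem_map_equiv]; simp

theorem R3.sq_pair [Finite C] (h : R3 X) (hX : closure X = ⊤) {x y : C} (hx : x ∈ X) (hy : y ∈ Dd X x) : ∃ g, g * g = x * y := by
  obtain ⟨z, hz, n⟩ := h.nc x hx
  obtain ⟨w, hw, n'⟩ : ∃ w ∈ Dd X x, w ∉ Dd X z := by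
    by_contra! a
    exact n (h.rw x hx z hz (rw_of_subset (class_of_trans ⟨h.tt.set, fun g a ha => h.tt.conj_mem (hX ▸ mem_top g) ha, hX⟩ hx
      fun a ha b hb => (h.tr a ha b hb).imp fun _ a => a.2) hx hz a) ▸ Commute.refl x)
  have n2 : ¬ Commute z w := fun e => n' ⟨hw.1, fun e' => n (e' ▸ hw.2.2), e⟩
  have n1 : ¬ Commute z x := fun e => n e.symm
  obtain ⟨g, -, e1, e2⟩ := h.tr_dd (h.tt.conj x hx z hz) hx ⟨h.tt.conj w hw.1 z hz,
    (h.tt.s4_ne hx hz hw.1 hw.2.1.symm n1 n2).symm, h.tt.s4a hx hz hw.1 hw.2.2 n1 n2⟩ hy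
  refine ⟨g * (x * z * w) * g⁻¹, ?_⟩
  conv_rhs => rw [← e1, ← e2]
  simp only [mul_assoc, inv_mul_cancel_left, hw.2.2.symm.left_comm]

theorem QP.conj (P : QP Y r k c b N) (g : Q) : QP Y r k c (fun i => g * b i * g⁻¹) N := by
  obtain ⟨B, hY, T, u⟩ := P.jb
  refine ⟨P.r3, P.top, P.ctr, ⟨B.conj hY g, hY, g • T, map_Bs (MulAut.conj g).toMonoidHom b r ▸ u.map (MulAut.conj g).injective⟩,
    P.fac, P.od, P.rel, fun σ hσ => ?_⟩
  obtain ⟨x, a⟩ := P.cN σ hσ
  exact ⟨g * x * g⁻¹, fun i hi => ⟨(a.1 i hi).1, by beta_reduce; rw [← (a.1 i hi).2]; group⟩, a.2⟩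

theorem Lf.isConj (L : Lf π X Y) (h : Cov π d) (R : R3 Y) {x y : C} (hx : x ∈ X) (hy : y ∈ X) : IsConj x y := by
  obtain ⟨g, -, e⟩ := R.tr _ (L.map x hx) _ (L.map y hy)
  obtain ⟨g, rfl⟩ := h.surj g
  exact isConj_iff.2 ⟨g, L.inj _ (L.conj g x hx) _ hy (by simpa using e)⟩

variable [Finite C] [Finite Q] (P : QP Y r k c b N) (h : Cov π d) (L : Lf π X Y)
include P h L

theorem QP.uq (S : Sylow 2 C) : ∃ g, Uq (k + 1) S ((closure (Bs (fun i => g * b i * g⁻¹) r)).comap π) := by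
  obtain ⟨g, u⟩ := P.jb.all (S.mapSurjective h.surj)
  have hd : d ∈ (S : Subgroup C) := IsPGroup.le_sylow_of_normal (N := π.ker)
    (fun x => ⟨1, Subtype.ext (by rcases (h.ker x).1 x.2 with e | e <;> simp [e, _root_.sq, h.sq])⟩) S h.map_d
  have sq : ∀ x ∈ (closure (Bs (fun i => g * b i * g⁻¹) r)).comap π, x * x = 1 := fun x hx =>
    L.sq_of_fac h P.fac (by rw [← _root_.sq, u.2.1.2 _ hx])
  have hc := h.card_comap (closure (Bs (fun i => g * b i * g⁻¹) r))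
  rw [u.2.2.1, ← pow_succ'] at hc
  refine ⟨g, h.comap_map hd ▸ comap_mono u.1, elAb_iff.2 ⟨fun x hx y hy => ?_, fun x hx => by rw [_root_.sq, sq x hx]⟩, hc,
    fun A a1 a2 a3 => eq_of_le_of_card_ge ?_ (hc ▸ a3)⟩
  · rw [← inv_eq_of_mul_eq_one_right (sq _ (mul_mem hx hy)), mul_inv_rev, inv_eq_of_mul_eq_one_right (sq x hx),
      inv_eq_of_mul_eq_one_right (sq y hy)]
  · have := card_le_of_le (le_comap_map π A)
    rw [h.card_comap] at this
    rw [← u.2.2.2 (A.map π) (map_mono a1) (elAb_map a2 π) (by omega)]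
    exact le_comap_map π A

theorem QP.trans [Finite G] {ι : C →* G} (h1 : Function.Injective ι) (h2 : ι.range = centralizer {ι d}) {y : G}
    (hy : y ∈ ((closure (Bs b r)).comap π).map ι) (e : IsConj (ι d) y) :
    ∃ n ∈ normalizer ((((closure (Bs b r)).comap π).map ι : Subgroup G) : Set G), n * ι d * n⁻¹ = y := by
  obtain ⟨g, rfl⟩ := isConj_iff.1 e
  obtain ⟨x0, u0⟩ := P.uq h L default
  set E := (closure (Bs b r)).comap π
  have k : ∀ x, (closure (Bs (fun i => π x * b i * (π x)⁻¹) r)).comap π = E.map (MulAut.conj x).toMonoidHom := fun x =>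
    Subgroup.ext fun y => by rw [mem_map_equiv, mem_comap, mem_Bs_conj, mem_comap]; simp
  obtain ⟨x0, rfl⟩ := h.surj x0
  rw [k] at u0
  have a1 := (elAb_map_iff_of_injective (MulAut.conj x0).injective).1 u0.2.1
  have a2 := (card_map_of_injective (MulAut.conj x0).injective).symm.trans u0.2.2.1
  set A := (E.map ι).map (MulAut.conj g⁻¹).toMonoidHom
  have a3 : (A.comap ι).map ι = A := map_comap_eq_self (by
    rw [h2]
    rintro _ ⟨z, hz, rfl⟩
    have := elAb_comm (elAb_map a1 ι) hz hy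
    exact mem_centralizer_singleton_iff.2 (commute_conj_left_iff.2 (by rw [inv_inv]; exact this)))
  have a4 := elAb_comap_of_injective (elAb_map (elAb_map a1 ι) (MulAut.conj g⁻¹).toMonoidHom) h1
  obtain ⟨S, hS⟩ := (elAb_isPGroup a4).exists_le_sylow
  obtain ⟨x, u⟩ := P.uq h L S
  obtain ⟨x, rfl⟩ := h.surj x
  have a5 := u.2.2.2 _ hS a4 (by
    rw [← card_map_of_injective h1, a3, card_map_of_injective (MulAut.conj g⁻¹).injective, card_map_of_injective h1, a2])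
  rw [k] at a5
  refine ⟨g * ι x, fun z => ?_, by rw [mul_inv_rev, mul_assoc g, mul_assoc g, ← map_mul, (h.comm x).eq]; simp [mul_assoc]⟩
  have : ι x * z * (ι x)⁻¹ ∈ A ↔ g * ι x * z * (g * ι x)⁻¹ ∈ E.map ι := by rw [mem_map_equiv]; simp [mul_assoc]
  rw [SetLike.mem_coe, SetLike.mem_coe, ← this, ← a3, a5, map_map]
  refine ⟨fun ⟨w, a, e⟩ => ⟨w, a, by simp [← e]⟩, fun ⟨w, a, e⟩ => ⟨w, a, by simpa using e⟩⟩

theorem QP.spl {β : ℕ → C} (hβ : ∀ j < r, β j ∈ X ∧ π (β j) = b j ∧ β j = evb β k (c j)) : Spl X d := fun l l1 l2 e => by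
  have B := P.jb.1
  obtain ⟨g, hg⟩ := P.jb.two (Z := π '' {x | x ∈ l}) (by rintro _ ⟨x, a, rfl⟩; exact L.map x (l1 x a))
    (by rintro _ ⟨x, a, rfl⟩ _ ⟨y, b, rfl⟩; exact (l2 x a y b).map π)
  obtain ⟨g, rfl⟩ := h.surj g
  have A : EA β k := ⟨fun i hi => L.tt.sq (hβ i (hi.trans_le B.kr.1)).1, fun i hi j hj => by
    have a := hβ i (hi.trans_le B.kr.1)
    have b := hβ j (hj.trans_le B.kr.1)
    exact L.comm _ _ (L.map _ a.1) (L.map _ b.1) (by rw [a.2.1, b.2.1]; exact B.ea.comm i hi j hj)⟩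
  have : l.prod ∈ closure (Bs (fun i => g * β i * g⁻¹) r) := list_prod_mem fun x hx => by
    obtain ⟨i, hi, e⟩ := hg ⟨x, hx, rfl⟩
    exact subset_closure ⟨i, hi, L.inj _ (L.conj g _ (hβ i hi).1) _ (l1 x hx) (by simpa [(hβ i hi).2.1] using e)⟩
  rw [e, mem_Bs_conj, (h.comm _).eq, inv_mul_cancel_right] at this
  obtain ⟨m, a, e⟩ := A.surj (S := Bs β r) (fun _ ⟨i, hi, e⟩ => ⟨_, (B.co i hi).1, e ▸ (hβ i hi).2.2.symm⟩) this
  rw [B.inj m a (by rw [← h.map_d, ← e, map_evb]; exact evb_congr' (fun i hi => (hβ i (hi.trans_le B.kr.1)).2.1.symm) m),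
    evb_zero] at e
  exact h.ne e.symm

theorem QP.coord : ∃ e : ℕ → C, ∃ φ < 2 ^ (r - k), EA e (k + 1) ∧ (∀ m < 2 ^ (k + 1), evb e (k + 1) m = 1 → m = 0) ∧
    (∀ x, π x ∈ closure (Bs b r) ↔ ∃ m < 2 ^ (k + 1), evb e (k + 1) m = x) ∧ e k = d ∧ (∀ i < k, cp k c φ i = 2 ^ i) ∧
    ∀ j < r, cp k c φ j < 2 ^ (k + 1) ∧ evb e (k + 1) (cp k c φ j) ∈ X ∧ π (evb e (k + 1) (cp k c φ j)) = b j := by
  classical
  have B := P.jb.1
  choose! β hβ using fun i (hi : i < r) => L.surj _ (B.mem i hi)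
  have hβ' := fun i (hi : i < k) => hβ i (hi.trans_le B.kr.1)
  set e : ℕ → C := fun i => if i < k then β i else d
  have ek : e k = d := if_neg (lt_irrefl k)
  have ei : ∀ i < k, e i = β i := fun i hi => if_pos hi
  have pe : ∀ m, π (evb e (k + 1) m) = evb b k m := fun m => by
    rw [evb, map_mul, map_evb, evb_congr' fun i hi => (congrArg π (ei i hi)).trans (hβ' i hi).2]
    split_ifs <;> simp [ek, h.map_d]
  have A : EA e (k + 1) := ⟨fun i _ => ?_, fun i _ j _ => ?_⟩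
  rotate_left
  · simp only [e]; split_ifs with a; exacts [L.tt.sq (hβ' i a).1, h.sq]
  · simp only [e]; split_ifs with a b
    exacts [L.comm _ _ (L.map _ (hβ' i a).1) (L.map _ (hβ' j b).1) (by rw [(hβ' i a).2, (hβ' j b).2]; exact B.ea.comm i a j b),
      h.comm _, (h.comm _).symm, Commute.refl _]
  have lt : ∀ m < 2 ^ k, m < 2 ^ (k + 1) := fun m a => a.trans (Nat.pow_lt_pow_right one_lt_two (by omega))
  have K : 2 ^ k < 2 ^ (k + 1) := Nat.pow_lt_pow_right one_lt_two (by omega)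
  have xd : ∀ m, evb e (k + 1) (m ^^^ 2 ^ k) = evb e (k + 1) m * d := fun m => by rw [A.xor, evb_pow e (by omega), ek]
  have ci : ∀ i < k, c i = 2 ^ i := fun i hi => B.ea.inj B.inj (B.co i (hi.trans_le B.kr.1)).1
    (Nat.pow_lt_pow_right one_lt_two hi) (by rw [evb_pow b hi, ← (B.co i (hi.trans_le B.kr.1)).2])
  refine ⟨e, Nat.ofBits fun i : Fin (r - k) => decide (β (i + k) ≠ evb e (k + 1) (c (i + k))), Nat.ofBits_lt_two_pow _, A,
    fun m hm a => ?_, fun x => ⟨fun hx => ?_, ?_⟩, ek, fun i hi => ?_, fun j hj => ?_⟩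
  · have a1 : m % 2 ^ k = 0 := B.inj _ (Nat.mod_lt _ (Nat.two_pow_pos k)) (by
      rw [← map_one π, ← a, pe]; exact evb_congr fun i hi => by simp [hi])
    have a2 : ∀ i < k, m.testBit i = false := fun i hi => by simpa [hi] using congrArg (·.testBit i) a1
    rw [evb, evb_congr (n := 0) (by simpa using a2), evb_zero, one_mul, ek] at a
    refine Nat.eq_of_testBit_eq fun i => ?_
    rcases lt_trichotomy i k with a3 | rfl | a3
    · simp [a2 i a3]
    · by_contra a3; exact h.ne (by simpa [show m.testBit i = true by simpa using a3] using a)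
    · simp [Nat.testBit_lt_two_pow (hm.trans_le (Nat.pow_le_pow_right two_pos a3))]
  · obtain ⟨m, a, e⟩ := B.surj hx
    rcases h.eq_iff.1 ((pe m).trans e).symm with rfl | rfl
    exacts [⟨m, lt m a, rfl⟩, ⟨_, Nat.xor_lt_two_pow (lt m a) K, xd m⟩]
  · rintro ⟨m, -, rfl⟩
    rw [pe]; exact evb_mem (fun i hi => Subgroup.subset_closure (by exact ⟨i, hi.trans_le B.kr.1, rfl⟩)) m
  · simp [cp, cnd_eq, bt_eq, shl_eq, xor_eq', hi.not_ge, ci i hi]
  suffices cp k c _ j < 2 ^ (k + 1) ∧ evb e (k + 1) (cp k c _ j) = β j from ⟨this.1, this.2 ▸ hβ j hj⟩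
  have a := lt _ (B.co j hj).1
  rw [cp, cnd_eq, bt_eq, shl_eq, xor_eq', Nat.testBit_shiftLeft]
  by_cases hk : j < k
  · simp [hk.not_ge, ci j hk, evb_pow e (hk.trans k.lt_succ_self), ei j hk, lt _ (Nat.pow_lt_pow_right one_lt_two hk)]
  rw [Nat.testBit_ofBits_lt _ _ (by omega), Nat.sub_add_cancel (not_lt.1 hk)]
  split_ifs with a1
  · exact ⟨Nat.xor_lt_two_pow a K, (xd _).trans ((h.eq_iff.1 (by rw [pe, (hβ j hj).2, ← (B.co j hj).2])).resolve_left
      (by simpa [not_lt.1 hk] using a1)).symm⟩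
  · exact ⟨by simpa using a, Eq.symm (by simpa [not_lt.1 hk] using a1)⟩

theorem QP.fuse [Finite G] {t : ℕ} (hb : fusB r k t c N = true) (hp : _root_.commutator C = ⊤)
    (ns : ∀ X, Lf π X Y → ¬ Spl X d) {ι : C →* G} (h1 : Function.Injective ι) (h2 : ι.range = centralizer {ι d})
    (hs : ¬ ∃ g, g ^ 2 = ι d) (hn : ∃ x, x ≠ d ∧ IsConj (ι d) (ι x)) :
    ∃ X, Lf π X Y ∧ ∀ x, IsConj (ι d) (ι x) ↔ x = d ∨ x ∈ X := by
  obtain ⟨e, φ, hφ, A, inj, sj, ek, ci, hc⟩ := P.coord h L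
  have B := P.jb.1
  have K : 2 ^ k < 2 ^ (k + 1) := Nat.pow_lt_pow_right one_lt_two (by omega)
  have xd : ∀ m, evb e (k + 1) (m ^^^ 2 ^ k) = evb e (k + 1) m * d := fun m => by rw [A.xor, evb_pow e (by omega), ek]
  have ei : ∀ i < k, evb e (k + 1) (cp k c φ i) = e i := fun i hi => by rw [ci i hi, evb_pow e (by omega)]
  have hg : ∀ σ ∈ N, ∃ g : C, (∀ i < k + 1, colp k c φ σ i < 2 ^ (k + 1) ∧ g * e i * g⁻¹ = evb e (k + 1) (colp k c φ σ i)) ∧
      ∀ j < r, lin (colp k c φ σ) (k + 1) (cp k c φ j) = cp k c φ (look σ 5 j) := fun σ hσ => by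
    obtain ⟨g, a⟩ := P.cN σ hσ
    obtain ⟨g, rfl⟩ := h.surj g
    have a1 : ∀ j < r, g * evb e (k + 1) (cp k c φ j) * g⁻¹ = evb e (k + 1) (cp k c φ (look σ 5 j)) := fun j hj =>
      L.inj _ (L.conj g _ (hc j hj).2.1) _ (hc _ (a.1 j hj).1).2.1 (by
        rw [map_mul, map_mul, map_inv, (hc j hj).2.2, (hc _ (a.1 j hj).1).2.2, (a.1 j hj).2])
    have a2 : ∀ i < k + 1, colp k c φ σ i < 2 ^ (k + 1) ∧ g * e i * g⁻¹ = evb e (k + 1) (colp k c φ σ i) := fun i hi => by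
      simp only [colp, cnd_eq, Nat.blt_eq]
      split_ifs with a2
      · exact ⟨(hc _ (a.1 i (a2.trans_le B.kr.1)).1).1, by rw [← ei i a2, a1 i (a2.trans_le B.kr.1)]⟩
      · exact ⟨K, by rw [show i = k by omega, evb_pow e k.lt_succ_self, ek, (h.comm g).eq, mul_inv_cancel_right]⟩
    exact ⟨g, a2, fun j hj => A.inj inj (lin_lt (fun i hi => (a2 i hi).1) _) (hc _ (a.1 j hj).1).1 (by
      rw [← A.conj fun i hi => (a2 i hi).2, a1 j hj])⟩
  have sp : ∀ δ X', Lf π X' Y → (∀ j < r, evb e (k + 1) (cp k c φ j ^^^ δ) ∈ X' ∧ π (evb e (k + 1) (cp k c φ j ^^^ δ)) = b j) →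
      spB r k c φ δ ≠ true := fun δ X' L' a a' => ns X' L' (P.spl h L' (β := fun j => evb e (k + 1) (cp k c φ j ^^^ δ))
        fun j hj => ⟨(a j hj).1, (a j hj).2, by
          rw [A.lin (col := fun i => cp k c φ i ^^^ δ) fun _ _ => rfl]
          exact congrArg _ (beq_tt.1 (allN_iff.1 a' j hj)).symm⟩)
  simp only [fusB, cnd_tt, Bool.and_eq_true, ble_tt, Nat.blt_eq, allN_iff] at hb
  have hf := hb.2 φ hφ
  rw [cnd_eq, if_pos (allL_iff.2 fun σ hσ => allN_iff.2 fun j hj => beq_tt.2 ((hg σ hσ).choose_spec.2 j hj)), cnd_eq,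
    if_neg (sp 0 X L fun j hj => by simpa using (hc j hj).2), cnd_eq, if_neg (sp _ _ (L.mul h) fun j hj => by
      rw [xd]; exact ⟨⟨_, (hc j hj).2.1, rfl⟩, by rw [map_mul, h.map_d, mul_one, (hc j hj).2.2]⟩), mapK_eq, mapK_eq,
    cnd_tt] at hf
  have k2 : 2 ^ 2 ≤ 2 ^ k := Nat.pow_le_pow_right two_pos hb.1.1
  have r2 : 1 < r := by have := B.kr.1; omega
  have e1 : evb e (k + 1) 1 ∈ X := by simpa [ci 0 (by omega)] using (hc 0 (by omega)).2.1
  obtain ⟨f1, f2⟩ := fuB_spec hf.2 (s := fun m => IsConj (ι d) (ι (evb e (k + 1) m))) (fun g a x hx => by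
      obtain ⟨σ, hσ, rfl⟩ := List.mem_map.1 a
      obtain ⟨g, a, -⟩ := hg σ hσ
      have := fun i hi => beq_tt.1 (allN_iff.1 (allL_iff.1 hf.1 σ hσ) i hi)
      refine ⟨lin_lt (fun i hi => this i hi ▸ (a i hi).1) _, ?_⟩
      rw [← A.conj (g := g) fun i hi => this i hi ▸ (a i hi).2]
      have := ι.map_isConj (isConj_iff.2 ⟨g, (rfl : g * evb e (k + 1) x * g⁻¹ = _)⟩)
      exact ⟨fun a => a.trans this.symm, fun a => a.trans this⟩)
    (by simp only [List.mem_cons, List.not_mem_nil, or_false, forall_eq_or_imp, forall_eq]; omega)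
    (fun a => h.ne (h1 (by simpa [evb_zero] using a))) (by rw [evb_pow e (by omega), ek]) (fun a => by
      obtain ⟨g, a1⟩ := (L.corr.symm.r3 P.r3).sq_pair (L.top h hp P.top) (hc 0 (by omega)).2.1
        ⟨(hc 1 r2).2.1, fun e => one_ne_zero (B.binj 1 r2 0 (by omega) (by rw [← (hc 1 r2).2.2, e, (hc 0 (by omega)).2.2])),
          by rw [ei 0 (by omega), ei 1 (by omega)]; exact A.comm 0 (by omega) 1 (by omega)⟩
      rw [← A.xor, ci 0 (by omega), ci 1 (by omega)] at a1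
      obtain ⟨u, a⟩ := isConj_iff.1 a.symm
      exact hs ⟨u * ι g * u⁻¹, by rw [conj_pow, _root_.sq, ← map_mul, a1]; exact a⟩) fun y hy a => by
    obtain ⟨n, n1, n2⟩ := P.trans h L h1 h2 ⟨_, (sj _).2 ⟨y, hy, rfl⟩, rfl⟩ a
    have A' : EA (fun i => ι (e i)) (k + 1) :=
      ⟨fun i hi => by rw [← map_mul, A.sq i hi, map_one], fun i hi j hj => (A.comm i hi j hj).map ι⟩
    have k : ∀ y, {x | x < 2 ^ (k + 1) ∧ IsConj (ι d) (ι (evb e (k + 1) x)) ∧ IsConj (ι d) (ι (evb e (k + 1) (x ^^^ y)))}.ncard =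
        {z | z ∈ ((closure (Bs b r)).comap π).map ι ∧ IsConj (ι d) z ∧ IsConj (ι d) (z * ι (evb e (k + 1) y))}.ncard := fun y => by
      refine Eq.trans ?_ (A'.ncard (fun m a b => inj m a (h1 (by rw [map_evb, b, map_one]))) fun x hx =>
        let ⟨z, a, e⟩ := hx.1; ((sj z).1 a).imp fun m a => ⟨a.1, by rw [← map_evb, a.2, e]⟩).symm
      congr 1
      refine Set.ext fun x => and_congr_right fun a => ?_
      rw [Set.mem_ofPred_eq, ← map_evb, ← map_mul, ← A.xor]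
      exact (and_iff_right ⟨_, (sj _).2 ⟨x, a, rfl⟩, rfl⟩).symm
    rw [k, k, evb_pow e (by omega), ek, ← n2]
    have c : ∀ z, IsConj (ι d) z ↔ IsConj (ι d) (n * z * n⁻¹) := fun z =>
      have := isConj_iff.2 ⟨n, (rfl : n * z * n⁻¹ = _)⟩; ⟨fun a => a.trans this, fun a => a.trans this.symm⟩
    exact ncard_conj_eq n fun z => and_congr (n1 z) (and_congr (c z) (by rw [conj_mul]; exact c _))
  have f3 : ∀ x, IsConj (ι d) (ι x) → x = d ∨ x ∈ X ∨ x ∈ (· * d) '' X := fun x a => by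
    obtain ⟨Z, z1, z2, z3⟩ := P.fac (π x) (by
      obtain ⟨u, a⟩ := isConj_iff.1 a
      rw [← map_mul, h1 (a₁ := x * x) (a₂ := 1) (by rw [map_mul, ← a, conj_mul, ← map_mul, h.sq]; simp), map_one])
    obtain ⟨g, z4⟩ := P.jb.two z1 z2
    obtain ⟨g, rfl⟩ := h.surj g
    obtain ⟨m, hm, e'⟩ := (sj (g⁻¹ * x * g)).1 (by simpa using mem_Bs_conj.1 (closure_mono z4 z3))
    obtain rfl : x = g * evb e (k + 1) m * g⁻¹ := by rw [e']; group
    rcases f2 m hm (a.trans (isConj_iff.2 ⟨ι g⁻¹, by simp [mul_assoc]⟩)) with rfl | a | a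
    · left; rw [evb_pow e (by omega), ek, (h.comm g).eq, mul_inv_cancel_right]
    · obtain ⟨j, hj, rfl⟩ := List.mem_map.1 a
      exact Or.inr (Or.inl (L.conj g _ (hc j (List.mem_range.1 hj)).2.1))
    · obtain ⟨j, hj, e⟩ := List.mem_map.1 a
      exact Or.inr (Or.inr ((L.mul h).conj g _ ⟨_, (hc j (List.mem_range.1 hj)).2.1, by
        beta_reduce; rw [← xd, e, Nat.xor_xor_cancel_right]⟩))
  have f4 : ∀ {X x y}, Lf π X Y → x ∈ X → y ∈ X → IsConj (ι d) (ι x) → IsConj (ι d) (ι y) := fun L a b c =>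
    c.trans (ι.map_isConj (L.isConj h P.r3 a b))
  have e2 : evb e (k + 1) (1 ^^^ 2 ^ k) ∈ (· * d) '' X := ⟨_, e1, (xd 1).symm⟩
  obtain ⟨x, x1, x2⟩ := hn
  rcases (f3 x x2).resolve_left x1 with a | a
  · exact ⟨X, L, fun y => ⟨fun b => (f3 y b).imp_right (·.resolve_right fun c => f1 ⟨f4 L a e1 x2, f4 (L.mul h) c e2 b⟩),
      fun b => b.elim (· ▸ IsConj.refl _) fun b => f4 L a b x2⟩⟩
  · exact ⟨_, L.mul h, fun y => ⟨fun b => (f3 y b).imp_right (·.resolve_left fun c => f1 ⟨f4 L c e1 b, f4 (L.mul h) a e2 x2⟩),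
      fun b => b.elim (· ▸ IsConj.refl _) fun b => f4 (L.mul h) a b x2⟩⟩

theorem QP.thompson [Finite G] {ι : C →* G} (h1 : Function.Injective ι) (h2 : ι.range = centralizer {ι d})
    (hX : ∀ x, IsConj (ι d) (ι x) ↔ x = d ∨ x ∈ X) (S : Sylow 2 C) {A : Subgroup G}
    (hA : A = (thompsonSubgroupOf 2 (S : Subgroup C)).map ι) : IsElementaryAbelian 2 A ∧ Nat.card A = 2 ^ (k + 1) ∧
      {x | x ∈ A ∧ IsConj (ι d) x}.ncard = r + 1 ∧
      ∀ x ∈ A, ∀ y ∈ A, IsConj (ι d) x → IsConj (ι d) y → ∃ n ∈ normalizer (A : Set G), n * x * n⁻¹ = y := by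
  obtain ⟨g, u⟩ := P.uq h L S
  rw [hA, u.thompson]
  have P' := P.conj g
  have B := P'.jb.1
  generalize (fun i => g * b i * g⁻¹) = b at *
  refine ⟨elAb_map u.2.1 ι, (card_map_of_injective h1).trans u.2.2.1, ?_, fun x hx y hy a b => ?_⟩
  · rw [show {x | x ∈ ((closure (Bs b r)).comap π).map ι ∧ IsConj (ι d) x} = ι '' insert d {x | x ∈ X ∧ π x ∈ closure (Bs b r)} from
      Set.ext fun x => ⟨fun ⟨⟨y, a, e⟩, b⟩ => ⟨y, ((hX y).1 (e ▸ b)).imp_right fun c => ⟨c, a⟩, e⟩, fun ⟨y, a, e⟩ =>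
        e ▸ ⟨⟨y, a.elim (fun e => by rw [e, SetLike.mem_coe, mem_comap, h.map_d]; exact one_mem _) (·.2), rfl⟩,
          (hX y).2 (a.imp_right (·.1))⟩⟩, Set.ncard_image_of_injective _ h1,
      Set.ncard_insert_of_notMem fun a => L.tY.ne_one (L.map d a.1) h.map_d,
      ← Set.InjOn.ncard_image (f := π) fun x a y b => L.inj x a.1 y b.1,
      show π '' {x | x ∈ X ∧ π x ∈ closure (Bs b r)} = b '' Set.Iio r from
        Eq.trans (Set.ext fun y => ⟨fun ⟨x, a, e⟩ => e ▸ ⟨L.map x a.1, a.2⟩, fun a =>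
          let ⟨x, a1, e⟩ := L.surj y a.1; ⟨x, ⟨a1, e ▸ a.2⟩, e⟩⟩) (B.inter (elAb_isPGroup B.elemAb) le_rfl),
      Set.InjOn.ncard_image (s := Set.Iio r) B.binj, Set.ncard_Iio_nat]
  · obtain ⟨n, n1, rfl⟩ := P'.trans h L h1 h2 hx a
    obtain ⟨m, m1, rfl⟩ := P'.trans h L h1 h2 hy b
    exact ⟨m * n⁻¹, mul_mem m1 (inv_mem n1), by group⟩

omit h L [Finite C] in
theorem QP.fuse' [Finite G] {d : G} (hd : orderOf d = 2) [((zpowers d).subgroupOf (centralizer {d})).Normal]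
    (hq : IsQuasisimple (centralizer {d})) {π : centralizer {d} →* Q} (h : Cov π ⟨d, mem_centralizer_singleton_iff.2 rfl⟩)
    {t : ℕ} (hb : fusB r k t c N = true) (ns : ∀ X, Lf π X Y → Spl X ⟨d, mem_centralizer_singleton_iff.2 rfl⟩ →
      _root_.commutator (centralizer {d}) ≠ ⊤) (hn : ∃ g : G, g * d * g⁻¹ ∈ centralizer {d} ∧ g * d * g⁻¹ ≠ d) :
    ∃ X, Lf π X Y ∧ ∀ x : centralizer {d}, IsConj d x ↔ x = ⟨d, mem_centralizer_singleton_iff.2 rfl⟩ ∨ x ∈ X := by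
  obtain ⟨X, L⟩ := P.lift h
  obtain ⟨g, a, b⟩ := hn
  exact P.fuse h L hb hq.1.commutator_eq_top (fun X a b => ns X a b hq.1.commutator_eq_top) (subtype_injective _)
    (range_subtype _) (lift_res hd h L P.fac).2 ⟨⟨_, a⟩, fun e => b (congrArg Subtype.val e), isConj_iff.2 ⟨g, rfl⟩⟩

end Cfsg.Lib.Known2
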