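import Cfsg.Agent.Lib.Known2.LE

/-! Hyperplanes of elementary abelian 2-sections. -/

set_option autoImplicit false

namespace Cfsg.Lib.Known2

open Subgroup Cfsg.Lib.Core Cfsg.Lib.Amalg

variable {G : Type*} [Group G]

/-- If `R/D` is an elementary abelian 2-group and `x ∈ R \ D`, some subgroup of index 2 of `R`
contains `D` and not `x`. -/
theorem exists_hyper [Finite G] {R D : Subgroup G} (hD : D ≤ R) (hsq : ∀ y ∈ R, y * y ∈ D) {x : G}
    (hx : x ∈ R) (hxD : x ∉ D) : ∃ M, D ≤ M ∧ M ≤ R ∧ x ∉ M ∧ M.relIndex R = 2 := by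
  obtain ⟨M, hAM, ⟨hMQ, hxM⟩, hmax⟩ := exists_maximal_ge (fun M : Subgroup G => M ≤ R ∧ x ∉ M) ⟨hD, hxD⟩
  have hsq' : ∀ y ∈ R, y * y ∈ M := fun y hy => hAM (hsq y hy)
  have hn : ∀ y ∈ R, ∀ m ∈ M, y * m * y⁻¹ ∈ M := by
    intro y hy m hm
    have := mul_mem (mul_mem (hsq' _ (mul_mem hy (hMQ hm))) (inv_mem hm))
      (inv_mem (hsq' _ hy))
    convert this using 1; group
  have key : ∀ y ∈ R, y ∉ M → x * y ∈ M := by
    intro y hy hyM
    let M' : Subgroup G :=
      { carrier := {w | w ∈ M ∨ w * y ∈ M}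
        one_mem' := Or.inl (one_mem _)
        mul_mem' := by
          rintro a b (ha | ha) (hb | hb)
          · exact Or.inl (mul_mem ha hb)
          · right; rw [mul_assoc]; exact mul_mem ha hb
          · right
            have : a * b * y = (a * y) * (y⁻¹ * b * y⁻¹⁻¹) := by group
            rw [this]; exact mul_mem ha (hn _ (inv_mem hy) _ hb)
          · left
            have : a * b = (a * y) * (y⁻¹ * (b * y) * y⁻¹⁻¹) * (y * y)⁻¹ := by group
            rw [this]; exact mul_mem (mul_mem ha (hn _ (inv_mem hy) _ hb)) (inv_mem (hsq' y hy))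
        inv_mem' := by
          rintro a (ha | ha)
          · exact Or.inl (inv_mem ha)
          · right
            have : a⁻¹ * y = (y⁻¹ * ((y * y) * (a * y)⁻¹) * y⁻¹⁻¹) := by group
            rw [this]; exact hn _ (inv_mem hy) _ (mul_mem (hsq' y hy) (inv_mem ha)) }
    by_contra hxy
    have hM' : M' = M := hmax M' ⟨by
      rintro w (hw | hw)
      · exact hMQ hw
      · simpa using mul_mem (hMQ hw) (inv_mem hy), by
      rintro (hw | hw)
      · exact hxM hw
      · exact hxy hw⟩ (fun w hw => Or.inl hw)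
    apply hyM
    rw [← hM']
    exact Or.inr (hsq' y hy)
  refine ⟨M, hAM, hMQ, hxM, index_eq_two_iff'.2 ⟨⟨x, hx⟩, fun y => ?_⟩⟩
  by_cases e : (y : G) ∈ M
  · exact Or.inr ⟨e, fun e' => hxM ((M.mul_mem_cancel_right e).1 e')⟩
  · exact Or.inl ⟨key y y.2 e, e⟩

end Cfsg.Lib.Known2
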