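import Cfsg.Agent.Lib.Known2.LE
import Cfsg.Agent.Lib.Layer.CompAction
import Cfsg.Agent.Lib.Invol.Transfer2

/-! Structure of a group with a large extraspecial 2-subgroup. -/

set_option autoImplicit false

namespace Cfsg.Lib.Known2

open Subgroup Cfsg.Lib.Core Cfsg.Lib.Amalg Cfsg.Lib.Layer
open scoped commutatorElement

variable {G : Type*} [Group G]

/-- `l` is the `L`-component of `e` -/
def PrC (L : Subgroup G) (e l : G) : Prop := l ∈ L ∧ l⁻¹ * e ∈ 𝐂 L

namespace PrC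
variable {L : Subgroup G}

theorem of_mem {l : G} (h : l ∈ L) : PrC L l l := ⟨h, by simp⟩

theorem of_cent {c : G} (h : c ∈ 𝐂 L) : PrC L c 1 := ⟨one_mem _, by simpa using h⟩

theorem mul {e l e' l' : G} (h : PrC L e l) (h' : PrC L e' l') : PrC L (e * e') (l * l') := by
  refine ⟨mul_mem h.1 h'.1, ?_⟩
  have := mem_centralizer_comm.1 h.2 _ (inv_mem h'.1)
  have e1 : (l * l')⁻¹ * (e * e') = (l'⁻¹ * (l⁻¹ * e)) * l' * (l'⁻¹ * e') := by group
  rw [e1, this, mul_assoc (l⁻¹ * e), inv_mul_cancel, mul_one]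
  exact mul_mem h.2 h'.2

theorem inv {e l : G} (h : PrC L e l) : PrC L e⁻¹ l⁻¹ := by
  refine ⟨inv_mem h.1, ?_⟩
  have := mem_centralizer_comm.1 (inv_mem h.2) _ h.1
  have e1 : l⁻¹⁻¹ * e⁻¹ = l * (l⁻¹ * e)⁻¹ * l⁻¹ := by group
  rw [e1, this, mul_inv_cancel_right]
  exact inv_mem h.2

theorem uniq (hL : L ⊓ 𝐂 L = ⊥) {e l l' : G} (h : PrC L e l) (h' : PrC L e l') : l = l' := by
  have : l⁻¹ * l' ∈ L ⊓ 𝐂 L := ⟨L.mul_mem (L.inv_mem h.1) h'.1, by
    have := mul_mem h.2 (inv_mem h'.2)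
    simpa using this⟩
  rw [hL, mem_bot] at this
  exact inv_mul_eq_one.1 this

theorem conj {e l : G} (h : PrC L e l) (g : G) : PrC (cj g L) (g * e * g⁻¹) (g * l * g⁻¹) := by
  refine ⟨conj_mem_cj g h.1, ?_⟩
  rw [← cj_centralizer]
  convert conj_mem_cj g h.2 using 1; group

theorem comm_iff {e l x : G} (h : PrC L e l) (hx : x ∈ L) : x * e = e * x ↔ x * l = l * x := by
  have h1 := mem_centralizer_comm.1 h.2 x hx
  have e1 : e = l * (l⁻¹ * e) := by group
  generalize l⁻¹ * e = c at *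
  rw [e1, mul_assoc, ← h1, ← mul_assoc, ← mul_assoc, mul_left_inj]

theorem exists_of_layer (hL : IsComponent L) {e : G} (he : e ∈ layer G) : ∃ l, PrC L e l := by
  have : layer G ≤ L ⊔ 𝐂 L := layer_le fun K hK => by
    by_cases e : K = L
    · rw [e]; exact le_sup_left
    · exact (comm_eq_bot_iff.1 ((Layer.IsComponent.commutator_eq_bot_of_ne hK) hL e)).trans le_sup_right
  obtain ⟨a, ha, c, hc, rfl⟩ := (mem_sup_of_le_normalizer' (cent_le_norm L)).1 (this he)
  exact ⟨a, ha, by simpa using hc⟩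

end PrC

theorem not_syl_order_two {L : Type*} [Group L] [Finite L] [IsSimpleGroup L]
    (hL : ¬ IsMulCommutative L) {t : L} (ht : orderOf t = 2) : ¬ Odd (zpowers t).index := by
  intro h
  obtain ⟨g, hg⟩ := Invol.thompson_transfer' (G := L) (fun K hK => by
    have := normal_of_index_eq_two hK
    rcases this.eq_bot_or_eq_top with e | e
    · rw [e, index_bot] at hK
      have : Fact (Nat.Prime 2) := ⟨Nat.prime_two⟩
      have := isCyclic_of_prime_card hK
      exact hL inferInstance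
    · rw [e, index_top] at hK; omega) h (M := ⊥) (by rw [relIndex_bot_left, Nat.card_zpowers, ht]) ht
  rw [mem_bot] at hg
  exact ne_one_of_orderOf_two ht (by simpa using hg)

theorem LS.structure [Finite G] {Q : Subgroup G} {z : G} (h : LS Q z)
    (hK : ∀ K : Subgroup G, Odd (Nat.card K) → Q ≤ 𝐍 K → K = ⊥) :
    (IsMulCommutative (normalClosure ({z} : Set G)) ∧ generalizedFittingSubgroup G = pCore 2 G) ∨
    (normalClosure ({z} : Set G) = generalizedFittingSubgroup G ∧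
      IsSimpleGroup (normalClosure ({z} : Set G)) ∧ ¬ IsMulCommutative (normalClosure ({z} : Set G))) ∨
    (normalClosure ({z} : Set G) = generalizedFittingSubgroup G ∧ ∃ (L : Subgroup G) (u : G), u ∈ Q ∧
      IsSimpleGroup L ∧ ¬ IsMulCommutative L ∧ L ⊓ cj u L = ⊥ ∧ (∀ x ∈ L, ∀ y ∈ cj u L, x * y = y * x) ∧
      L ⊔ cj u L = normalClosure ({z} : Set G) ∧ ∃ z₁ ∈ L, z = z₁ * (u * z₁ * u⁻¹) ∧
      (∃ R : Sylow 2 L, (R : Subgroup L) = (centralizer ({z₁} : Set G)).subgroupOf L ∧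
        (frattini (R : Subgroup L)).map ((L.subtype).comp (R : Subgroup L).subtype) ≤ zpowers z₁) ∧
      Q ≠ pCoreOf 2 (centralizer ({z} : Set G))) := by
  have : Fact (Nat.Prime 2) := ⟨Nat.prime_two⟩
  have hO : pPrimeCore 2 G = ⊥ := hK _ (odd_card_oddCore G) le_normalizer_of_normal'
  obtain ⟨T, hT, hQT, hTz⟩ := h.exists_syl
  have hzC : ∀ L : Subgroup G, IsComponent L → z ∉ 𝐂 L := by
    intro L hL hz
    have h1 : L ≤ 𝐍 Q := fun x hx => h.mem_norm (mem_centralizer_comm.1 hz x hx)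
    have h2 := comm_eq_bot_iff.1 ((Layer.IsComponent.commutator_eq_bot_of_isSolvable hL)
      (Coprime.isSolvable_of_isPGroup h.toES.isPGroup) h1)
    apply (Layer.IsQuasisimple.not_le_centralizer hL.2)
    intro x hx
    rcases h.selfc x (fun y hy => (mem_centralizer_comm.1 (h2 hx) y hy).symm) with rfl | rfl
    · exact one_mem _
    · exact hz
  by_cases h2 : pCore 2 G = ⊥
  swap
  · left
    have hzO : z ∈ pCore 2 G := h.mem_of_two (isPGroup_pCore 2 G) le_normalizer_of_normal' h2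
    have hzZ : z ∈ pCore 2 G ⊓ 𝐂 (pCore 2 G) :=
      ⟨hzO, mem_centralizer_comm.2 fun x hx => mem_cent_single.1 (hTz (hT.pCore_le hx))⟩
    have hM : normalClosure ({z} : Set G) ≤ pCore 2 G ⊓ 𝐂 (pCore 2 G) :=
      normalClosure_le_normal (by simpa using hzZ)
    refine ⟨⟨⟨fun x y => Subtype.ext (mem_centralizer_comm.1 (hM y.2).2 _ (hM x.2).1)⟩⟩, ?_⟩
    rw [fstar_eq_pCore_iff']
    refine ⟨hO, layer_eq_bot_iff.2 fun L hL => hzC L hL ?_⟩
    exact mem_centralizer_comm.2 fun x hx =>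
      (mem_centralizer_comm.1 (layer_le_centralizer_pCore ((Layer.IsComponent.le_layer hL) hx)) z hzO).symm
  right
  have hfit : fittingSubgroup G = ⊥ := by rw [fit_eq_pCore hO, h2]
  have hF := fstar_eq_layer hfit
  have : Nontrivial G := ⟨⟨z, 1, h.ne⟩⟩
  have hE : layer G ≠ ⊥ := hF ▸ fstar_ne_bot
  have := layer_normal (G := G)
  have hinv : ∀ K : Subgroup G, K ≠ ⊥ → Q ≤ 𝐍 K → z ∈ K := fun K h1 h2 =>
    h.mem_of_even h2 fun ho => h1 (hK K ho h2)
  have hzE : z ∈ layer G := hinv _ hE le_normalizer_of_normal'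
  have hM : normalClosure ({z} : Set G) = layer G := by
    refine le_antisymm (normalClosure_le_normal (by simpa using hzE)) (layer_le fun L hL => ?_)
    rcases (Layer.IsComponent.le_or_commutator_eq_bot_of_normal hL) (normalClosure ({z} : Set G)) with e | e
    · exact e
    · exact absurd (comm_eq_bot_iff'.1 e (subset_normalClosure rfl)) (hzC L hL)
  have hZL : ∀ L : Subgroup G, IsComponent L → L ⊓ 𝐂 L = ⊥ := fun L hL =>
    eq_bot_iff.2 (hfit ▸ inf_centralizer_le_fit hL.1)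
  have hsimp : ∀ L : Subgroup G, IsComponent L → IsSimpleGroup L := fun L hL =>
    (Layer.IsQuasisimple.isSimpleGroup hL.2) (by
      rw [← map_eq_bot_iff_of_injective _ L.subtype_injective, Core.map_subtype_center, hZL L hL])
  have hcc : ∀ L K : Subgroup G, IsComponent L → IsComponent K → K ≠ L → K ≤ 𝐂 L :=
    fun L K hL hK e => comm_eq_bot_iff.1 ((Layer.IsComponent.commutator_eq_bot_of_ne hK) hL e)
  obtain ⟨L, hL⟩ := exists_component_of_layer_ne_bot hE
  rw [hM, hF]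
  by_cases hn : Q ≤ 𝐍 L
  · left
    have hzL := hinv L (Layer.IsComponent.ne_bot hL) hn
    have : layer G = L := le_antisymm (layer_le fun K hK => by
      by_contra hne
      exact hzC K hK (hcc K L hK hL (fun e => hne e.ge) hzL)) (Layer.IsComponent.le_layer hL)
    rw [this]
    exact ⟨rfl, hsimp L hL, (Layer.IsQuasisimple.not_isMulCommutative hL.2)⟩
  right
  obtain ⟨u, hu, hu'⟩ := SetLike.not_le_iff_exists.1 hn
  rw [← cj_eq_self_iff] at hu'
  have hL2 := (Layer.IsComponent.conj hL) u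
  obtain ⟨z1, hz1⟩ := PrC.exists_of_layer hL hzE
  have uL := hZL L hL
  have z1z : z1 * z1 = 1 := PrC.uniq uL (hz1.mul hz1) (by rw [h.sq]; exact PrC.of_mem (one_mem L))
  have z11 : z1 ≠ 1 := fun e => hzC L hL (by simpa [e] using hz1.2)
  have pz : ∀ e l, PrC L e l → (e = 1 ∨ e = z) → l = 1 ∨ l = z1 := by
    rintro e l he (rfl | rfl)
    · exact Or.inl (PrC.uniq uL he (PrC.of_mem (one_mem L)))
    · exact Or.inr (PrC.uniq uL he hz1)
  have hw : ∀ x ∈ L, x * z1 = z1 * x → x * (u * x⁻¹ * u⁻¹) ∈ Q ∧ PrC L (x * (u * x⁻¹ * u⁻¹)) x := by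
    intro x hx e
    constructor
    · have := mul_mem (h.norm x ((hz1.comm_iff hx).2 e) u hu) (inv_mem hu)
      simpa [mul_assoc] using this
    · simpa using (PrC.of_mem hx).mul (PrC.of_cent (hcc L _ hL hL2 hu' (conj_mem_cj u (inv_mem hx))))
  have hsq : ∀ x ∈ L, x * z1 = z1 * x → x * x = 1 ∨ x * x = z1 := fun x hx e =>
    pz _ _ ((hw x hx e).2.mul (hw x hx e).2) (h.sq_mem _ (hw x hx e).1)
  have h4 : ∀ x ∈ L, x * z1 = z1 * x → x ^ 2 ^ 2 = 1 := by
    intro x hx e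
    have : x ^ 2 ^ 2 = (x * x) * (x * x) := by norm_num [pow_succ, mul_assoc]
    rw [this]
    rcases hsq x hx e with e' | e' <;> rw [e']
    · simp
    · exact z1z
  have hcm : ∀ x ∈ L, x * z1 = z1 * x → ∀ y ∈ L, y * z1 = z1 * y →
      x * y * x⁻¹ * y⁻¹ = 1 ∨ x * y * x⁻¹ * y⁻¹ = z1 := fun x hx e y hy e' =>
    pz _ _ ((((hw x hx e).2.mul (hw y hy e').2).mul (hw x hx e).2.inv).mul (hw y hy e').2.inv)
      (h.toES.mem_zp.1 (h.toES.commutator_mem (hw x hx e).1 (hw y hy e').1))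
  have hR : Syl 2 (centralizer {z1} ⊓ L) L := by
    have s1 := (hT.inf_normal_top (layer G)).inf_normal (Layer.IsComponent.le_layer hL) (Layer.IsComponent.layer_le_normalizer hL)
    have s2 : T ⊓ layer G ⊓ L ≤ centralizer {z1} ⊓ L := fun x hx =>
      ⟨mem_cent_single.2 ((hz1.comm_iff hx.2).1 (mem_cent_single.1 (hTz hx.1.1))), hx.2⟩
    rw [s1.eq_of_le _ s2 inf_le_right
      (isPGroup_iff_mem.2 fun x hx => ⟨2, h4 x hx.2 (mem_cent_single.1 hx.1)⟩)]
    exact s1
  obtain ⟨x, hx, hxz, hx1⟩ : ∃ x ∈ L, x * z1 = z1 * x ∧ ¬ (x = 1 ∨ x = z1) := by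
    by_contra hc
    push Not at hc
    have := hsimp L hL
    apply not_syl_order_two (Layer.IsQuasisimple.not_isMulCommutative hL.2) (t := ⟨z1, hz1.1⟩)
      (by rw [← orderOf_coe]; exact orderOf_eq_two_of z1z z11)
    have e : zpowers (⟨z1, hz1.1⟩ : L) = (centralizer {z1} ⊓ L).subgroupOf L := by
      refine le_antisymm (zpowers_le_of_mem ⟨mem_cent_single.2 rfl, hz1.1⟩) fun y hy => ?_
      rcases hc y y.2 (mem_cent_single.1 hy.1) with e | e
      · rw [show y = 1 from Subtype.ext e]; exact one_mem _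
      · rw [show y = ⟨z1, hz1.1⟩ from Subtype.ext e]; exact mem_zpowers _
    rw [e]
    exact Nat.odd_iff.2 (Nat.two_dvd_ne_zero.1 hR.not_dvd_relIndex)
  have horb : ∀ v ∈ Q, cj v L = L ∨ cj v L = cj u L := by
    intro v hv
    by_contra hc
    push Not at hc
    apply hx1
    have hL3 := (Layer.IsComponent.conj hL) v
    have p1 : PrC (cj v L) (x * (u * x⁻¹ * u⁻¹))⁻¹ 1 :=
      PrC.of_cent (inv_mem (mul_mem (hcc _ _ hL3 hL hc.1.symm hx)
        (hcc _ _ hL3 hL2 hc.2.symm (conj_mem_cj u (inv_mem hx)))))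
    have p2 := (((hw x hx hxz).2.conj v).mul p1).conj v⁻¹
    rw [cj_inv_cj] at p2
    have := pz _ _ p2 (by
      rcases h.toES.mem_zp.1 (h.toES.commutator_mem hv (hw x hx hxz).1) with e | e <;> rw [e]
      · left; group
      · right; exact conj_eq_of_comm (h.cen _ (inv_mem hv)))
    simpa [mul_assoc] using this
  have hzK : z ∈ L ⊔ cj u L := by
    refine hinv _ (fun e => (Layer.IsComponent.ne_bot hL) (eq_bot_iff.2 (e ▸ le_sup_left)))
      (le_normalizer_of_cj_le fun v hv => ?_)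
    rw [cj_sup, ← cj_mul]
    refine sup_le ?_ ?_
    · rcases horb v hv with e | e <;> rw [e]
      exacts [le_sup_left, le_sup_right]
    · rcases horb _ (mul_mem hv hu) with e | e <;> rw [e]
      exacts [le_sup_left, le_sup_right]
  have hEq : L ⊔ cj u L = layer G := by
    refine le_antisymm (sup_le (Layer.IsComponent.le_layer hL) (Layer.IsComponent.le_layer hL2)) (layer_le fun K hK => ?_)
    by_cases e1 : L = K
    · rw [← e1]; exact le_sup_left
    by_cases e2 : cj u L = K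
    · rw [← e2]; exact le_sup_right
    exact absurd (sup_le (hcc K L hK hL e1) (hcc K _ hK hL2 e2) hzK) (hzC K hK)
  have c12 := hcc L _ hL hL2 hu'
  have c21 := hcc _ L hL2 hL (Ne.symm hu')
  have dec : ∀ e ∈ layer G, ∃ a ∈ L, ∃ c ∈ cj u L, a * c = e ∧ PrC L e a ∧ PrC (cj u L) e c := by
    intro e he
    rw [← hEq] at he
    obtain ⟨a, ha, c, hc, rfl⟩ := (mem_sup_of_le_normalizer' (c12.trans (Amalg.cent_le_norm L))).1 he
    exact ⟨a, ha, c, hc, rfl, by simpa using (PrC.of_mem ha).mul (PrC.of_cent (c12 hc)),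
      by simpa using (PrC.of_cent (c21 ha)).mul (PrC.of_mem hc)⟩
  have hz2 := hz1.conj u
  rw [conj_eq_of_comm (h.cen u hu)] at hz2
  refine ⟨rfl, L, u, hu, hsimp L hL, (Layer.IsQuasisimple.not_isMulCommutative hL.2),
    eq_bot_iff.2 (uL ▸ inf_le_inf_left L c12), fun a ha c hc => mem_centralizer_comm.1 (c12 hc) a ha,
    hEq, z1, hz1.1, ?_, ⟨hR.toSylow, by rw [hR.coe_toSylow, inf_subgroupOf_right], ?_⟩, ?_⟩
  · obtain ⟨a, ha, c, hc, e, p1, p2⟩ := dec z hzE
    rw [← PrC.uniq (hZL _ hL2) p2 hz2, ← PrC.uniq uL p1 hz1, e]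
  · rw [← map_map, map_le_iff_le_comap, frattiniOf_le_iff hR.toSylow.isPGroup', hR.coe_toSylow,
      commutator_le]
    refine ⟨fun a ha b hb => ?_, fun a ha => ?_⟩
    · exact (mem_zpowers_invol z1z).2 (hcm a a.2 (mem_cent_single.1 ha.1) b b.2 (mem_cent_single.1 hb.1))
    · refine (mem_zpowers_invol z1z).2 ?_
      simpa [pow_two] using hsq a a.2 (mem_cent_single.1 ha.1)
  · intro hQ
    apply hx1
    have hxQ : x ∈ Q := by
      rw [hQ]
      refine le_op (K := centralizer {z} ⊓ layer G) inf_le_left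
        (le_normalizer_inf le_normalizer le_normalizer_of_normal') (isPGroup_iff_mem.2 ?_)
        ⟨mem_cent_single.2 ((hz1.comm_iff hx).2 hxz), (Layer.IsComponent.le_layer hL) hx⟩
      rintro e ⟨he1, he2⟩
      obtain ⟨a, ha, c, hc, rfl, p1, p2⟩ := dec e he2
      have k := mem_cent_single.1 he1
      have k1 : a * z1 = z1 * a := PrC.uniq uL (p1.mul hz1) (k ▸ hz1.mul p1)
      have k2 : c * (u * z1 * u⁻¹) = (u * z1 * u⁻¹) * c :=
        PrC.uniq (hZL _ hL2) (p2.mul hz2) (k ▸ hz2.mul p2)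
      obtain ⟨c', hc', rfl⟩ := mem_cj'.1 hc
      rw [conj_mul, conj_mul, mul_left_inj, mul_right_inj] at k2
      refine ⟨2, ?_⟩
      rw [Commute.mul_pow (mem_centralizer_comm.1 (c12 hc) a ha), h4 a ha k1, conj_pow, h4 c' hc' k2]
      group
    refine pz _ _ (hw x hx hxz).2 ?_
    have := h.toES.mem_zp.1 (h.toES.commutator_mem hxQ hu)
    simpa [mul_assoc] using this

/-- the hypothesis `F*(C(z)) = Q` extraspecial gives `LS Q z` and `Q = O₂(C(z))` -/
theorem ls_of_fstar [Finite G] {z : G} (hz : orderOf z = 2) {Q : Subgroup G}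
    (hF : (generalizedFittingSubgroup (centralizer ({z} : Set G))).map
      (centralizer ({z} : Set G)).subtype = Q) (hQ : IsExtraspecial 2 Q) :
    LS Q z ∧ Q = pCoreOf 2 (centralizer ({z} : Set G)) := by
  have : Fact (Nat.Prime 2) := ⟨Nat.prime_two⟩
  obtain ⟨w, -, h⟩ := exists_ES hQ
  have hQC : Q ≤ centralizer {z} := hF ▸ map_subtype_le _
  have h1 : Q = pCoreOf 2 (centralizer ({z} : Set G)) := by
    rw [← hF, op_def, fstar_eq_pCore_iff_isPGroup.2
      (Amalg.isPGroup_map_subtype_iff.1 (hF ▸ h.isPGroup))]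
  have h2 : ∀ g, g * z = z * g → (∀ x ∈ Q, g * x = x * g) → g ∈ Q := by
    intro g hg hc
    have := inf_centralizer_fstarOf_le (centralizer ({z} : Set G))
      ⟨mem_cent_single.2 hg, by rw [hF]; exact mem_centralizer_comm.2 fun x hx => (hc x hx).symm⟩
    rw [← hF]; exact map_mono fit_le_fstar this
  have hzc : ∀ x ∈ Q, z * x = x * z := fun x hx => (mem_cent_single.1 (hQC hx)).symm
  have : z = w := (h.of_cen z (h2 z rfl hzc) hzc).resolve_left (ne_one_of_orderOf_two hz)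
  subst this
  refine ⟨⟨h, fun g hg => h.of_cen g (h2 g (hg z h.mem) hg) hg, fun g hg x hx => ?_⟩, h1⟩
  rw [h1] at hx ⊢
  exact (mem_normalizer_iff.1 (le_norm_op _ (mem_cent_single.2 hg)) x).1 hx

/-- Frattini argument -/
theorem LS.sup_cent [Finite G] {Q : Subgroup G} {z : G} (h : LS Q z) (L : Subgroup G) [L.Normal]
    (hz : z ∈ L) : L ⊔ centralizer {z} = ⊤ ∨ ¬ Q ≤ L := by
  by_cases hQL : Q ≤ L
  swap
  · exact Or.inr hQL
  left
  have : Fact (Nat.Prime 2) := ⟨Nat.prime_two⟩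
  obtain ⟨T, hT, hQT⟩ := exists_syl_ge h.toES.isPGroup hQL
  have hne := inf_center_ne_bot hT.isPGroup le_rfl le_normalizer
    (fun e => h.ne (mem_bot.1 (e ▸ hQT h.mem)))
  obtain ⟨⟨t, ht1, ht2⟩, ht⟩ := ne_bot_iff_exists_ne_one.1 hne
  have key : ∀ s ∈ 𝐂 T, s ≠ 1 → s = z := fun s hs h1 =>
    (h.selfc s fun x hx => (mem_centralizer_comm.1 hs x (hQT hx)).symm).resolve_left h1
  have e := key t ht2 (fun e => ht (Subtype.ext e))
  rw [eq_top_iff]
  intro g _
  obtain ⟨n, hn, a, ha, rfl⟩ := hT.frattini_mem (g := g) (le_normalizer_of_normal (mem_top g))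
  refine mul_mem_sup hn (mem_cent_single.2 (comm_of_conj_eq (key _ ?_ (by simpa using h.ne))))
  rw [← cj_of_mem_normalizer ha, ← cj_centralizer]
  exact conj_mem_cj _ (e ▸ ht2)

/-- simplicity criterion -/
theorem LS.simple [Finite G] {Q : Subgroup G} {z : G} (h : LS Q z)
    (hK : ∀ K : Subgroup G, Odd (Nat.card K) → Q ≤ 𝐍 K → K = ⊥)
    (hQ : Q = pCoreOf 2 (centralizer ({z} : Set G)))
    (hC : centralizer {z} ≤ normalClosure ({z} : Set G)) : IsSimpleGroup G := by
  have hQM := h.toES.le_cent.trans hC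
  rcases h.structure hK with ⟨h1, -⟩ | ⟨-, h1, -⟩ | ⟨-, L, u, -, -, -, -, -, -, z1, -, -, -, h1⟩
  · obtain ⟨x, hx, y, hy, e⟩ := h.nonab
    exact absurd (congrArg Subtype.val (h1.1.1 ⟨x, hQM hx⟩ ⟨y, hQM hy⟩)) e
  · have := (h.sup_cent _ (hQM h.mem)).resolve_right (not_not.2 hQM)
    rw [sup_eq_left.2 hC] at this
    rw [this] at h1
    exact topEquiv.symm.isSimpleGroup
  · exact absurd hQ h1

end Cfsg.Lib.Known2
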