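import Cfsg.Agent.Lib.Known2.LE4

/-! Images of extraspecial subgroups; centralisers of odd order automorphism groups. -/

set_option autoImplicit false

namespace Cfsg.Lib.Known2

open Subgroup Cfsg.Lib.Core Cfsg.Lib.Amalg
open scoped commutatorElement

variable {G : Type*} [Group G]

/-- image of a subgroup `P` of an extraspecial group under a homomorphism not killing `z` -/
theorem es_map {Q P H : Subgroup G} {z : G} (h : ES Q z) (hP : P ≤ Q) (hz : z ∈ P) (hzH : z ∈ H)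
    {K : Type*} [Group K] (π : H →* K) (hπ : π ⟨z, hzH⟩ ≠ 1)
    (hc : ∀ x : H, (x : G) ∈ P → (∀ y : H, (y : G) ∈ P → (x : G) * y = y * x) → π x = 1 ∨ π x = π ⟨z, hzH⟩)
    (hn : ∃ x : H, (x : G) ∈ P ∧ ∃ y : H, (y : G) ∈ P ∧ (x : G) * y ≠ y * x) :
    ES ((P.subgroupOf H).map π) (π ⟨z, hzH⟩) := by
  have key : ∀ x y : H, (x : G) ∈ P → (y : G) ∈ P → π x * π y = π y * π x → (x : G) * y = y * x := by
    intro x y hx hy e
    by_contra hne
    have : x * y = y * x * ⟨z, hzH⟩ := Subtype.ext (h.anti (hP hx) (hP hy) hne)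
    rw [← map_mul, this, map_mul, map_mul] at e
    exact hπ (by simpa using e)
  refine ⟨⟨_, hz, rfl⟩, hπ, by rw [← map_mul, ← map_one π]; congr 1; exact Subtype.ext h.sq,
    ?_, ?_, ?_, ?_, ?_⟩
  · rintro _ ⟨x, hx, rfl⟩
    rw [← map_mul, ← map_mul]; congr 1; exact Subtype.ext (h.cen x (hP hx))
  · rintro _ ⟨x, hx, rfl⟩ H
    exact hc x hx fun y hy => key x y hx hy (H _ ⟨y, hy, rfl⟩)
  · rintro _ ⟨x, hx, rfl⟩ _ ⟨y, hy, rfl⟩
    simp only [← map_mul]
    rcases h.comm x (hP hx) y (hP hy) with e | e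
    · left; congr 1; exact Subtype.ext e
    · right; congr 1; exact Subtype.ext e
  · rintro _ ⟨x, hx, rfl⟩
    rw [← map_mul]
    rcases h.sq_mem x (hP hx) with e | e
    · left; rw [← map_one π]; congr 1; exact Subtype.ext e
    · right; congr 1; exact Subtype.ext e
  · obtain ⟨x, hx, y, hy, e⟩ := hn
    exact ⟨_, ⟨x, hx, rfl⟩, _, ⟨y, hy, rfl⟩, fun e' => e (key x y hx hy e')⟩

/-- the centre of `C_Q(A)` lies in `Z(Q)` for `A` of odd order -/
theorem ES.cent_odd_center [Finite G] {Q A : Subgroup G} {z : G} (h : ES Q z) (hA : A ≤ 𝐍 Q)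
    (hAodd : Odd (Nat.card A)) {x : G} (hx : x ∈ Q ⊓ 𝐂 A) (H : ∀ y ∈ Q ⊓ 𝐂 A, x * y = y * x) :
    x = 1 ∨ x = z := by
  have : Fact (Nat.Prime 2) := ⟨Nat.prime_two⟩
  have hcop : (Nat.card A).Coprime (Nat.card Q) :=
    Coprime.coprime_card_of_isPGroup h.isPGroup (Nat.coprime_two_right.2 hAodd)
  have hsup := Coprime.commutator_sup_centralizer hA hcop
      (Or.inr (Coprime.isSolvable_of_isPGroup h.isPGroup))
  have : ⁅Q, A⁆ ≤ centralizer {x} := by
    rw [commutator_le]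
    intro q hq a ha
    rw [mem_cent_single, eq_comm, commutatorElement_def, mul_assoc, mul_assoc, ← mul_assoc a]
    have m : a * q⁻¹ * a⁻¹ ∈ Q := (mem_normalizer_iff.1 (hA ha) _).1 (inv_mem hq)
    rw [h.mul_comm_iff hx.1 hq m]
    have k : x * q⁻¹ = q⁻¹ * x ↔ (a * x * a⁻¹) * (a * q⁻¹ * a⁻¹) = (a * q⁻¹ * a⁻¹) * (a * x * a⁻¹) := by
      simp only [conj_mul, mul_left_inj, mul_right_inj]
    rw [conj_eq_of_comm (mem_centralizer_comm.1 hx.2 a ha)] at k
    rw [← k]
    exact ⟨fun e => ((show Commute x q from e).inv_right).eq,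
      fun e => by simpa using ((show Commute x q⁻¹ from e).inv_right).eq⟩
  refine h.of_cen x hx.1 fun y hy => ?_
  have h2 : Q ≤ centralizer {x} := hsup ▸ sup_le this fun s hs => mem_cent_single.2 (H s hs).symm
  exact (mem_cent_single.1 (h2 hy)).symm

end Cfsg.Lib.Known2
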