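import Cfsg.Agent.Lib.Known2.BJ
import Cfsg.Agent.Lib.Known2.Odd

/-! Lifting classes of 3-transpositions to double covers. -/

set_option autoImplicit false

namespace Cfsg.Lib.Known2

open Subgroup commutatorElement Cfsg.Lib.Fi

variable {C Q : Type*} [Group C] [Group Q] {π : C →* Q} {d : C} {X : Set C} {Y : Set Q}

/-- Every involution is a product of commuting members of `Y`. -/
def FAC (Y : Set Q) : Prop :=
  ∀ u : Q, u * u = 1 → ∃ Z ⊆ Y, (∀ a ∈ Z, ∀ b ∈ Z, Commute a b) ∧ u ∈ closure Z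

/-- A quotient map with kernel `{1, d}`. -/
structure Cov (π : C →* Q) (d : C) : Prop where
  surj : Function.Surjective π
  ker : ∀ x, π x = 1 ↔ x = 1 ∨ x = d
  ne : d ≠ 1

/-- `X` is an invariant lift of `Y`. -/
structure Lf (π : C →* Q) (X : Set C) (Y : Set Q) : Prop where
  tY : TT Y
  conj : ∀ g, ∀ x ∈ X, g * x * g⁻¹ ∈ X
  sq : ∀ x, π x ∈ Y → x * x = 1
  comm : ∀ x x', π x ∈ Y → π x' ∈ Y → Commute (π x) (π x') → Commute x x'
  map : ∀ x ∈ X, π x ∈ Y
  surj : ∀ y ∈ Y, ∃ x ∈ X, π x = y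
  inj : ∀ x ∈ X, ∀ x' ∈ X, π x = π x' → x = x'

theorem sq_of_mem_closure {Z : Set C} (h1 : ∀ a ∈ Z, a * a = 1) (h2 : ∀ a ∈ Z, ∀ b ∈ Z, Commute a b) {x : C}
    (hx : x ∈ closure Z) : x * x = 1 := by
  induction hx using closure_induction with
  | mem x hx => exact h1 x hx
  | one => exact mul_one 1
  | mul x y hx hy a b =>
    rw [(commute_of_mem_closure (fun z hz => (commute_of_mem_closure (h2 z hz) hy).symm) hx).mul_mul_mul_comm, a, b, mul_one]
  | inv x _ a => rw [← mul_inv_rev, a, inv_one]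

theorem cov_mk {G : Type*} [Group G] [Finite G] {d : G} (hd : orderOf d = 2)
    [((zpowers d).subgroupOf (centralizer {d})).Normal] :
    Cov (QuotientGroup.mk' ((zpowers d).subgroupOf (centralizer {d}))) ⟨d, mem_centralizer_singleton_iff.2 rfl⟩ := by
  refine ⟨QuotientGroup.mk'_surjective _, fun x => ?_, fun e => by simp [show d = 1 from congrArg Subtype.val e] at hd⟩
  classical
  rw [QuotientGroup.mk'_apply, QuotientGroup.eq_one_iff, mem_subgroupOf, mem_zpowers_iff_mem_range_orderOf, hd,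
    Subtype.ext_iff, Subtype.ext_iff]
  simp [Finset.range_add_one, or_comm]

namespace Cov

variable (h : Cov π d)
include h

theorem map_d : π d = 1 := (h.ker d).2 (Or.inr rfl)

theorem sq : d * d = 1 := ((h.ker _).1 (by rw [map_mul, h.map_d, mul_one])).resolve_right fun e => h.ne (by simpa using e)

theorem comm (x : C) : Commute x d :=
  conj_eq_self_iff.1 (((h.ker _).1 (by simp [h.map_d])).resolve_left fun e => h.ne (by simpa using e))

theorem eq_iff {x y : C} : π x = π y ↔ x = y ∨ x = y * d := by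
  rw [eq_comm, ← inv_mul_eq_one, ← map_inv, ← map_mul, h.ker, inv_mul_eq_one, inv_mul_eq_iff_eq_mul, eq_comm]

theorem comm_of {x y x' : C} (e : π x = π y) (c : Commute y x') : Commute x x' := by
  rcases h.eq_iff.1 e with rfl | rfl
  exacts [c, c.mul_left (h.comm x').symm]

theorem pow_odd {n : ℕ} (hn : Odd n) : d ^ n = d := by
  obtain ⟨m, rfl⟩ := hn
  rw [pow_succ, pow_mul, _root_.sq, h.sq, one_pow, one_mul]

theorem lift (R : R3 Y) (hY : ∀ g, ∀ y ∈ Y, g * y * g⁻¹ ∈ Y) {z : Q} (hz : z ∈ Y) {l : List Q}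
    (l1 : ∀ y ∈ l, y ∈ Dd Y z) (l2 : ∀ a ∈ l, ∀ b ∈ l, Commute a b) (l3 : l.prod = 1) (l4 : Odd l.length) [Finite C]
    {a : Q} (ha : a ∈ Y) (ho : Odd ((closure {y | y ∈ Y ∧ Commute a y}).relIndex (centralizer {a}))) :
    ∃ X, Lf π X Y := by
  obtain ⟨s, hs⟩ := h.surj.hasRightInverse
  have l5 : (l.map s).prod = 1 ∨ (l.map s).prod = d := (h.ker _).1 (by
    rw [map_list_prod, List.map_map, show π ∘ s = id from funext hs, List.map_id, l3])
  have c : ∀ x x', π x ∈ Y → π x' ∈ Y → Commute (π x) (π x') → Commute x x' := fun x x' a1 a2 a3 => by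
    by_contra n
    have k : ∀ y ∈ l, s z * s y = s y * d * s z := fun y hy => by
      obtain ⟨g, -, e1, e2⟩ := R.tr_dd a1 hz ⟨a2, fun e => n (h.comm_of e (Commute.refl x)).symm, a3⟩ (l1 y hy)
      obtain ⟨g, rfl⟩ := h.surj g
      rw [← mul_inv_eq_iff_eq_mul]
      refine (h.eq_iff.1 (by simpa [hs z, hs y] using conj_eq_self_iff.2 (l1 y hy).2.2)).resolve_left fun e => n ?_
      exact commute_conj_conj_iff.1 (h.comm_of (by simpa [hs z] using e1)
        (h.comm_of (x := g * x' * g⁻¹) (by simpa [hs y] using e2) (conj_eq_self_iff.1 e).symm).symm)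
    have k2 : s z * (l.map s).prod = (l.map s).prod * d ^ l.length * s z := by
      clear l1 l2 l3 l4 l5
      induction l with
      | nil => simp
      | cons y l ih =>
        rw [List.map_cons, List.prod_cons, ← mul_assoc, k y List.mem_cons_self, mul_assoc,
          ih fun y hy => k y (List.mem_cons_of_mem _ hy), List.length_cons, pow_succ']
        simp only [mul_assoc, ← (h.comm (l.map s).prod).left_comm]
    rw [h.pow_odd l4] at k2
    rcases l5 with e | e <;> rw [e] at k2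
    · exact h.ne (by simpa using k2)
    · rw [h.sq, (h.comm _).eq] at k2; exact h.ne (by simpa using k2)
  have sq : ∀ x, π x ∈ Y → x * x = 1 := fun x hx => by
    by_contra n
    have k : ∀ y ∈ l, s y * s y = d := fun y hy => by
      refine ((h.ker _).1 (by rw [map_mul, hs y, R.tt.sq (l1 y hy).1])).resolve_left fun e => n ?_
      obtain ⟨g, -, e1⟩ := R.tr y (l1 y hy).1 _ hx
      obtain ⟨g, rfl⟩ := h.surj g
      have e2 : g * s y * g⁻¹ * (g * s y * g⁻¹) = 1 := by rw [conj_mul, e]; simp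
      rcases (h.eq_iff (x := x) (y := g * s y * g⁻¹)).1 (by simpa [hs y] using e1.symm) with rfl | rfl
      exacts [e2, by rw [(h.comm _).symm.mul_mul_mul_comm, e2, h.sq, mul_one]]
    have k2 : (l.map s).prod * (l.map s).prod = d ^ l.length := by
      clear l3 l4 l5
      induction l with
      | nil => simp
      | cons y l ih =>
        have m := fun {a} => List.mem_cons_of_mem y (l := l) (a := a)
        rw [List.map_cons, List.prod_cons, (Commute.list_prod_left _ _ fun x hx => ?_).mul_mul_mul_comm,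
          k y List.mem_cons_self, ih (fun y hy => l1 y (m hy)) (fun a ha b hb => l2 a (m ha) b (m hb))
          fun y hy => k y (m hy), List.length_cons, pow_succ']
        obtain ⟨w, hw, rfl⟩ := List.mem_map.1 hx
        exact c _ _ (by rw [hs]; exact (l1 w (m hw)).1) (by rw [hs]; exact (l1 y List.mem_cons_self).1)
          (by rw [hs, hs]; exact l2 w (m hw) y List.mem_cons_self)
    rw [h.pow_odd l4] at k2
    rcases l5 with e | e <;> rw [e] at k2
    exacts [h.ne (by simpa using k2.symm), h.ne (h.sq ▸ k2).symm]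
  obtain ⟨a, rfl⟩ := h.surj a
  have nc : ∀ g, g * a * g⁻¹ ≠ a * d := fun g e => by
    have e1 : {y | ∃ x ∈ (centralizer {π a}).comap π, x * a * x⁻¹ = y} = {a, a * d} := by
      refine Set.ext fun y => ⟨fun ⟨x, hx, e⟩ => h.eq_iff.1 ?_, ?_⟩
      · rw [← e, map_mul, map_mul, map_inv, mem_centralizer_singleton_iff.1 hx, mul_inv_cancel_right]
      · rintro (rfl | rfl)
        · exact ⟨1, one_mem _, by simp⟩
        · exact ⟨g, mem_centralizer_singleton_iff.2 (mul_inv_eq_iff_eq_mul.1 (by simpa [h.map_d] using congrArg π e)), e⟩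
    have e2 := ncard_conj_orbit ((centralizer {π a}).comap π) a
    rw [e1, Set.ncard_pair (by simpa using h.ne)] at e2
    refine ho.not_two_dvd_nat ?_
    rw [← map_comap_eq_self_of_surjective h.surj (centralizer _), ← relIndex_comap, e2]
    refine relIndex_dvd_of_le_left _ fun x hx => ?_
    have : closure {y | y ∈ Y ∧ Commute (π a) y} ≤ (centralizer {a}).map π := (closure_le _).2 fun y hy =>
      ⟨s y, mem_centralizer_singleton_iff.2 (c _ _ ha (by rw [hs]; exact hy.1) (by rw [hs]; exact hy.2)).symm, hs y⟩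
    obtain ⟨y, hy, e⟩ := this hx
    exact mem_centralizer_singleton_iff.2 (h.comm_of e.symm (mem_centralizer_singleton_iff.1 hy))
  refine ⟨conjugatesOf a, R.tt, fun g x hx => hx.trans (isConj_iff.2 ⟨g, rfl⟩), sq, c, fun x hx => ?_, fun y hy => ?_,
    fun x hx x' hx' e => (h.eq_iff.1 e).resolve_right fun e => ?_⟩
  · obtain ⟨g, rfl⟩ := isConj_iff.1 hx
    simpa using hY (π g) _ ha
  · obtain ⟨g, -, rfl⟩ := R.tr _ ha y hy
    exact ⟨_, isConj_iff.2 ⟨s g, rfl⟩, by simp [hs g]⟩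
  · obtain ⟨g, rfl⟩ := isConj_iff.1 hx
    obtain ⟨k, rfl⟩ := isConj_iff.1 hx'
    refine nc (k⁻¹ * g) ?_
    calc _ = k⁻¹ * (g * a * g⁻¹) * k := by group
      _ = _ := by rw [e, mul_assoc, mul_assoc, ← (h.comm k).eq]; group

end Cov

namespace Lf

variable (L : Lf π X Y)
include L

theorem tt : TT X := by
  have o : ∀ x ∈ X, x⁻¹ = x := fun x hx => inv_eq_of_mul_eq_one_right (L.sq x (L.map x hx))
  have cj : ∀ a ∈ X, ∀ b ∈ X, a * b * a ∈ X := fun a ha b hb => by simpa [o a ha] using L.conj a b hb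
  refine ⟨⟨fun x hx => orderOf_eq_prime (by rw [_root_.sq, L.sq x (L.map x hx)]) fun e => L.tY.ne_one (L.map x hx)
    (by rw [e, map_one]), fun a ha b hb => ?_⟩, cj⟩
  by_cases c : Commute (π a) (π b)
  · left
    rw [(L.comm _ _ (L.map a ha) (L.map b hb) c).mul_pow, _root_.sq, _root_.sq, L.sq a (L.map a ha), L.sq b (L.map b hb), mul_one]
  · right
    have := L.inj _ (cj a ha b hb) _ (cj b hb a ha) (by simpa using L.tY.braid (L.map a ha) (L.map b hb) c)
    calc (a * b) ^ 3 = (a * b * a) * (b * a * b) := by rw [pow_three]; group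
      _ = 1 := by rw [← this, L.sq _ (L.map _ (cj a ha b hb))]

theorem corr : Corr X Y fun x y => x ∈ X ∧ π x = y := by
  refine ⟨L.tt, L.tY, fun x y a => ⟨a.1, a.2 ▸ L.map x a.1⟩, fun x hx => ⟨_, hx, rfl⟩, L.surj, ?_, ?_⟩
  · rintro x _ x' _ ⟨a, rfl⟩ ⟨b, rfl⟩; exact ⟨congrArg π, L.inj x a x' b⟩
  · rintro x _ x' _ ⟨a, rfl⟩ ⟨b, rfl⟩; exact ⟨L.tt.conj x a x' b, by simp⟩

theorem mul (h : Cov π d) : Lf π ((· * d) '' X) Y := by
  refine ⟨L.tY, ?_, L.sq, L.comm, ?_, fun y hy => ?_, ?_⟩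
  · rintro g _ ⟨x, hx, rfl⟩
    exact ⟨_, L.conj g x hx, by simp only [mul_assoc, (h.comm g⁻¹).eq]⟩
  · rintro _ ⟨x, hx, rfl⟩; simpa [h.map_d] using L.map x hx
  · obtain ⟨x, hx, rfl⟩ := L.surj y hy; exact ⟨_, ⟨x, hx, rfl⟩, by simp [h.map_d]⟩
  · rintro _ ⟨x, hx, rfl⟩ _ ⟨x', hx', rfl⟩ e
    rw [L.inj x hx x' hx' (by simpa [h.map_d] using e)]

theorem map_closure : (closure X).map π = closure Y := by
  rw [MonoidHom.map_closure]
  congr 1
  exact Set.ext fun y => ⟨fun ⟨x, a, e⟩ => e ▸ L.map x a, L.surj y⟩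

theorem top (h : Cov π d) (hp : _root_.commutator C = ⊤) (hY : closure Y = ⊤) : closure X = ⊤ := by
  have k : ∀ g, ∃ x ∈ closure X, g = x ∨ g = x * d := fun g => by
    obtain ⟨x, a, e⟩ : π g ∈ (closure X).map π := by rw [L.map_closure, hY]; exact mem_top _
    exact ⟨x, a, h.eq_iff.1 e.symm⟩
  rw [eq_top_iff, ← hp, _root_.commutator, commutator_le]
  intro a _ b _
  obtain ⟨x, hx, e⟩ := k a
  obtain ⟨y, hy, e'⟩ := k b
  have : ⁅a, b⁆ = ⁅x, y⁆ := by
    have i : d⁻¹ = d := inv_eq_of_mul_eq_one_right h.sq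
    have c : ∀ u v, d * (u * v) = u * (d * v) := fun u v => (h.comm u).symm.left_comm v
    have c' : ∀ v, d * (d * v) = v := fun v => by rw [← mul_assoc, h.sq, one_mul]
    rcases e with e | e <;> rcases e' with e' | e' <;>
      simp only [e, e', commutatorElement_def, mul_inv_rev, i, mul_assoc, c x, c y, c x⁻¹, c']
  rw [this, commutatorElement_def]
  exact mul_mem (mul_mem (mul_mem hx hy) (inv_mem hx)) (inv_mem hy)

theorem sq_of_fac (h : Cov π d) (hF : FAC Y) {x : C} (hx : π x * π x = 1) : x * x = 1 := by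
  obtain ⟨Z, z1, z2, z3⟩ := hF _ hx
  obtain ⟨y, a, e⟩ : π x ∈ (closure {x | x ∈ X ∧ π x ∈ Z}).map π := (closure_le _).2 (fun z hz => by
    obtain ⟨y, a, rfl⟩ := L.surj z (z1 hz); exact ⟨y, subset_closure ⟨a, hz⟩, rfl⟩) z3
  have := sq_of_mem_closure (fun a ha => L.sq a (z1 ha.2))
    (fun a ha b hb => L.comm a b (z1 ha.2) (z1 hb.2) (z2 _ ha.2 _ hb.2)) a
  rcases h.eq_iff.1 e.symm with rfl | rfl
  exacts [this, by rw [(h.comm _).symm.mul_mul_mul_comm, this, h.sq, mul_one]]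

end Lf

theorem Cov.comp {Q' : Type*} [Group Q'] (h : Cov π d) (e : Q ≃* Q') : Cov (e.toMonoidHom.comp π) d :=
  ⟨e.surjective.comp h.surj, fun x => by simpa using h.ker x, h.ne⟩

theorem Cov.center (h : Cov π d) (hZ : center Q = ⊥) {x : C} (hx : x ∈ center C) : x = 1 ∨ x = d :=
  (h.ker x).1 (mem_bot.1 (hZ ▸ mem_center_iff.2 fun g => by
    obtain ⟨g, rfl⟩ := h.surj g; rw [← map_mul, mem_center_iff.1 hx, map_mul]))

theorem Cov.prim [Finite Q] (h : Cov π d) (hq : IsQuasisimple C) (hY : IsThreeTranspositionClass Y)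
    (ht : IsOfTypeM22 Q Y) : Prim Y := by
  have e : Subgroup.center C = π.ker := le_antisymm (fun x hx => (h.ker x).2 (h.center ht.1 hx)) fun x hx => by
    rcases (h.ker x).1 hx with rfl | rfl
    exacts [one_mem _, mem_center_iff.2 fun g => h.comm g]
  have := hq.2
  have := ((QuotientGroup.quotientMulEquivOfEq e).trans (QuotientGroup.quotientKerEquivOfSurjective π h.surj)).symm.isSimpleGroup
  obtain ⟨h1, ⟨a, -, rfl⟩, -⟩ := hY
  obtain ⟨-, x, -, y, -, n, -⟩ := ht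
  refine (prim_conj (fun p => n ?_) h1).1
  have := Fact.mk p
  exact (isCyclic_of_prime_card rfl).isMulCommutative.is_comm.comm x y

theorem lift_res {G : Type*} [Group G] [Finite G] {d : G} (hd : orderOf d = 2)
    [((zpowers d).subgroupOf (centralizer {d})).Normal] {π : centralizer {d} →* Q} {X : Set (centralizer {d})}
    (h : Cov π ⟨d, mem_centralizer_singleton_iff.2 rfl⟩) (L : Lf π X Y) (hF : FAC Y) :
    (∀ x : centralizer {d} ⧸ (zpowers d).subgroupOf (centralizer {d}), orderOf x = 2 →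
      ∃ y : centralizer {d}, orderOf y = 2 ∧ QuotientGroup.mk y = x) ∧ ¬ ∃ g : G, g ^ 2 = d := by
  have h' := cov_mk hd
  refine ⟨fun x hx => ?_, fun ⟨g, e⟩ => h.ne ?_⟩
  · obtain ⟨y, rfl⟩ := QuotientGroup.mk_surjective x
    refine ⟨y, orderOf_eq_prime (by
      rw [_root_.sq, L.sq_of_fac h hF (by rw [← map_mul, h.ker, ← h'.ker, ← _root_.sq y, map_pow, ← hx]; exact pow_orderOf_eq_one _)])
      (by rintro rfl; simp at hx), rfl⟩
  · have hg : g ∈ centralizer {d} := mem_centralizer_singleton_iff.2 (by rw [← e]; group)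
    have e' : (⟨g, hg⟩ : centralizer {d}) * ⟨g, hg⟩ = ⟨d, mem_centralizer_singleton_iff.2 rfl⟩ :=
      Subtype.ext ((_root_.sq g).symm.trans e)
    rw [← e', L.sq_of_fac h hF (by rw [← map_mul, e', h.map_d])]

/-! ### The quotients -/

variable {r k : ℕ} {c : ℕ → ℕ} {b : ℕ → Q}

/-- An odd relation between the members of the base. -/
def odB (r : ℕ) (c : ℕ → ℕ) (l : List ℕ) : Bool :=
  l.all (fun i => Nat.blt 0 i && Nat.blt i r) && (l.length % 2 == 1 && (l.map c).foldr Nat.xor 0 == 0)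

theorem BM.rel (h : BM Y r k c b) {l : List ℕ} (hl : odB r c l = true) :
    (∀ i ∈ l, 0 < i ∧ i < r) ∧ (l.map b).prod = 1 ∧ Odd (l.map b).length := by
  simp only [odB, Bool.and_eq_true, List.all_eq_true, Nat.blt_eq, beq_iff_eq] at hl
  refine ⟨hl.1, ?_, by rw [List.length_map, Nat.odd_iff, hl.2.1]⟩
  rw [← evb_zero b k, ← hl.2.2]
  have := hl.1
  clear hl
  induction l with
  | nil => exact (evb_zero b k).symm
  | cons i l ih =>
    rw [List.map_cons, List.prod_cons, ih fun j hj => this j (List.mem_cons_of_mem _ hj),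
      (h.co i (this i List.mem_cons_self).2).2, ← h.ea.xor]; rfl

/-- The facts used on `U₆(2)` and `Fi₂₂`. -/
structure QP (Y : Set Q) (r k : ℕ) (c : ℕ → ℕ) (b : ℕ → Q) (N : List ℕ) : Prop where
  r3 : R3 Y
  top : closure Y = ⊤
  ctr : center Q = ⊥
  jb : JB Y r k c b
  fac : FAC Y
  od : ∃ a ∈ Y, Odd ((closure {y | y ∈ Y ∧ Commute a y}).relIndex (centralizer {a}))
  rel : ∃ l, odB r c l = true
  cN : ∀ σ ∈ N, ∃ g, Cod b r g σ

theorem QP.lift [Finite C] {N : List ℕ} (P : QP Y r k c b N) (h : Cov π d) : ∃ X, Lf π X Y := by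
  obtain ⟨l, hl⟩ := P.rel
  obtain ⟨a, ha, ho⟩ := P.od
  have B := P.jb.1
  obtain ⟨l1, l2, l3⟩ := B.rel hl
  have r0 : 0 < r := by
    obtain _ | ⟨i, l⟩ := l
    exacts [by simp at l3, (l1 i List.mem_cons_self).1.trans (l1 i List.mem_cons_self).2]
  refine h.lift P.r3 P.jb.2.1 (B.mem 0 r0) (fun y hy => ?_) (fun x hx y hy => ?_) l2 l3 ha ho
  · obtain ⟨i, hi, rfl⟩ := List.mem_map.1 hy
    exact ⟨B.mem i (l1 i hi).2, fun e => (l1 i hi).1.ne' (B.binj _ (l1 i hi).2 _ r0 e), B.comm _ r0 _ (l1 i hi).2⟩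
  · obtain ⟨i, hi, rfl⟩ := List.mem_map.1 hx
    obtain ⟨j, hj, rfl⟩ := List.mem_map.1 hy
    exact B.comm _ (l1 i hi).2 _ (l1 j hj).2

theorem FAC.of_conj (hY : ∀ g, ∀ y ∈ Y, g * y * g⁻¹ ∈ Y) {x y z : Q} (hx : x ∈ Y) (hy : y ∈ Y) (hz : z ∈ Y)
    (c1 : Commute x y) (c2 : Commute x z) (c3 : Commute y z)
    (h : ∀ t, orderOf t = 2 → IsConj t x ∨ IsConj t (x * y) ∨ IsConj t (x * y * z)) : FAC Y := fun u hu => by
  by_cases e : u = 1
  · exact ⟨∅, Set.empty_subset _, by simp, e ▸ one_mem _⟩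
  obtain ⟨v, hv, e⟩ : ∃ v ∈ closure {x, y, z}, IsConj v u := by
    have a1 : x ∈ closure ({x, y, z} : Set Q) := subset_closure (by simp)
    have a2 : y ∈ closure ({x, y, z} : Set Q) := subset_closure (by simp)
    rcases h u (orderOf_eq_prime (by rw [_root_.sq, hu]) e) with a | a | a
    exacts [⟨_, a1, a.symm⟩, ⟨_, mul_mem a1 a2, a.symm⟩, ⟨_, mul_mem (mul_mem a1 a2) (subset_closure (by simp)), a.symm⟩]
  obtain ⟨g, rfl⟩ := isConj_iff.1 e
  refine ⟨MulAut.conj g '' {x, y, z}, ?_, ?_, ?_⟩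
  · rintro _ ⟨w, rfl | rfl | rfl, rfl⟩ <;> exact hY g _ ‹_›
  · rintro _ ⟨w, rfl | rfl | rfl, rfl⟩ _ ⟨w', rfl | rfl | rfl, rfl⟩ <;> refine commute_conj_conj_iff.2 ?_ <;>
      first | assumption | exact Commute.refl _ | exact Commute.symm ‹_›
  · exact (MonoidHom.map_closure (MulAut.conj g).toMonoidHom _).le ⟨v, hv, rfl⟩

theorem s22_fac [Finite Q] (S : S22 Q) : FAC S.M.D := by
  obtain ⟨-, -, -, h2, -⟩ := S.M.fac3 B22.j3_fac
  exact FAC.of_conj (md_conj S.M) (S.M.v_mem_D _) (S.M.v_mem_D _) (S.M.v_mem_D _) (h2 _ (by simp) _ (by simp))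
    (h2 _ (by simp) _ (by simp)) (h2 _ (by simp) _ (by simp)) fun t ht => S.j2_eq ▸ S.j3_eq ▸ S.invol ht

theorem s23_fac [Finite Q] (S : S23 Q) : FAC S.M.D := by
  obtain ⟨-, -, -, h2, -⟩ := S.M.fac3 B23.j3_fac
  exact FAC.of_conj (md_conj S.M) (S.M.v_mem_D _) (S.M.v_mem_D _) (S.M.v_mem_D _) (h2 _ (by simp) _ (by simp))
    (h2 _ (by simp) _ (by simp)) (h2 _ (by simp) _ (by simp)) fun t ht => S.j2_eq ▸ S.j3_eq ▸ S.invol ht

theorem qp22 [Finite Q] (hP : Prim Y) (ht : IsOfTypeM22 Q Y) : ∃ b, QP Y 22 10 BF.c b (BF.N.map (·.2.2)) := by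
  obtain ⟨S, rfl⟩ := s22 hP.grp hP.prim ht
  refine ⟨_, hP.r3, hP.grp.2.2, ht.1, s22_jb S hP.tt, s22_fac S, ⟨S.a, S.M.v_mem_D _, ?_⟩,
    ⟨[2, 3, 4, 6, 8, 9, 12], by decide +kernel⟩, fun σ hσ => ?_⟩
  · rw [relIndex_eq_one.2 (S.cent_a.trans S.cl_Dd.symm ▸ closure_mono fun y hy => ⟨hy.1, hy.2.2⟩)]; exact odd_one
  · obtain ⟨x, hx, rfl⟩ := List.mem_map.1 (prs_snd S.M.τ (pt par22) _ ▸ hσ)
    exact ⟨_, ((md_ai S.M hP.tt).cods BF.cN x hx).2⟩

theorem U6.r3 [Finite Q] (h : U6 Y) : R3 Y := by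
  obtain ⟨t, H⟩ := h.cm
  refine R3.of_vw h.vw (fun a ha b hb => H.tr ha hb) fun a ha b hb n => ?_
  obtain ⟨y, hy⟩ := h.vw.dd a ha
  obtain ⟨w, ⟨⟨a1, -⟩, a2⟩, -⟩ := h.mu_unique ha hb n hy
  exact ⟨w, a1.1, a1.2.2, a2.symm⟩

theorem U6.qp [Finite Q] (h : U6 Y) (h1 : closure Y = ⊤) (h2 : center Q = ⊥) (h3 : FAC Y) :
    ∃ b, QP Y 21 9 BU.c b (BU.N.map (·.2.2)) := by
  obtain ⟨t, H⟩ := h.cm
  have B := H.bm h1 h2
  have hc : Nat.card Q = 2 ^ (9 + 6) * 280665 := by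
    obtain ⟨F, _, _, a, ⟨e⟩⟩ := h.psu
    obtain ⟨e'⟩ := qx_top h1 h2
    rw [← Nat.card_congr e'.toEquiv, Nat.card_congr e.toEquiv, card_psu6 a]; rfl
  obtain ⟨P, p1, p2, p3, p4⟩ := B.sylow (H.ai.cods BU.cT) (by rw [prs_snd]; exact BU.sy) hc (by decide)
  refine ⟨_, h.r3, h1, h2, ⟨B, fun g y hy => H.tt.conj_mem (h1 ▸ mem_top g) hy, P, p3, B.elemAb, B.card, p4⟩, h3,
    ⟨t 3, H.mem (by decide), ?_⟩, ⟨[1, 3, 5, 8, 15], by decide +kernel⟩, fun σ hσ => ?_⟩
  · have : (P : Subgroup Q) ≤ closure {y | y ∈ Y ∧ Commute (t 3) y} := p2.trans ((closure_le _).2 ?_)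
    · refine Odd.of_dvd_nat ?_ ((relIndex_dvd_of_le_left _ this).trans (relIndex_dvd_index_of_le
        (this.trans ((closure_le _).2 fun y hy => mem_centralizer_singleton_iff.2 hy.2.symm))))
      exact Nat.not_even_iff_odd.1 fun e => P.not_dvd_index e.two_dvd
    rintro _ (⟨i, hi, rfl⟩ | ⟨_, hx, rfl⟩)
    · exact subset_closure ⟨B.mem i hi, B.comm 0 (by norm_num) i hi⟩
    · obtain ⟨x, hx', rfl⟩ := List.mem_map.1 hx
      have := (by decide +kernel : ∀ x ∈ BU.T, ∀ u ∈ [x.1, x.2.1], Cd.iso u = true ∧ Cd.hc 3 u = 0) x hx'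
      have k := fun u hu => subset_closure (k := {y | y ∈ Y ∧ Commute (t 3) y})
        ⟨H.mem (this u hu).1, (H.comm_iff (by decide) (this u hu).1).2 (this u hu).2⟩
      exact mul_mem (k _ (by simp)) (k _ (by simp))
  · obtain ⟨x, hx, rfl⟩ := List.mem_map.1 (prs_snd t (fun u => u) _ ▸ hσ)
    exact ⟨_, (H.ai.cods BU.cN x hx).2⟩

section PSU

open Cfsg.Lib.Forms Module Form

variable {F : Type*} [Field F] {σ : F →+* F} {h : IsConj σ 2} {V : Type*} [AddCommGroup V] [Module F V]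
  [FiniteDimensional F V] {D : Form h.kind V}

theorem mem_closure_tS [Finite V] (hD : D.Nondeg) (g : D.det.ker) (hg : g * g = 1) :
    g ∈ closure {x | ∃ v, Is D v ∧ (∃ w, g.1.1 w + w = v) ∧ tS D v = x} := by
  induction hn : {x | g.1.1 x ≠ x}.ncard using Nat.strong_induction_on generalizing g with | _ n ih =>
  have gg : ∀ x, g.1.1 (g.1.1 x) = x := fun x => by rw [← S_mul, hg]; rfl
  set N : V →ₗ[F] V := (g.1.1 : V →ₗ[F] V) + LinearMap.id with hNd
  have Nx : ∀ x, N x = g.1.1 x + x := fun x => rfl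
  have hN : ∀ u v, D.B (N u) v = D.B u (N v) := fun u v => by
    rw [Nx, Nx, D.B_add_left, D.B_add_right, ← Form.B_isom g.1 (g.1.1 u) v, gg]
  have N0 : ∀ x, N x = 0 ↔ g.1.1 x = x := fun x => by
    rw [Nx, add_eq_zero_iff_eq_neg, neg_eq_of_add_eq_zero_right (vadd_self h x)]
  by_cases e : N = 0
  · rw [show g = 1 from S_ext fun x => (N0 x).1 (by rw [e]; rfl)]; exact one_mem _
  obtain ⟨w, hw⟩ := exists_B_self_eq_one hD hN e
  have gv : g.1.1 (N w) = N w := by rw [Nx, map_add, gg, add_comm]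
  have hv : Is D (N w) := ⟨fun e => by simp [e] at hw, by rw [Q_eq, hN, (N0 _).2 gv, map_zero]⟩
  have c : Commute g (tS D (N w)) := conj_eq_self_iff.1 (by rw [tS_conj g hv.2, gv])
  have ap : ∀ x, (g * tS D (N w)).1.1 x = g.1.1 x + D.B (N w) x • N w := fun x => by
    rw [S_mul, tS_apply hv.2, tvF, map_add, map_smul, gv]
  refine (mul_mem_cancel_right (x := tS D (N w)) (Subgroup.subset_closure (by exact ⟨_, hv, ⟨w, rfl⟩, rfl⟩))).1 (closure_mono ?_ (ih _ (hn ▸ Set.ncard_lt_ncard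
    (s := {x | (g * tS D (N w)).1.1 x ≠ x}) ⟨fun x hx e => hx ?_, fun s => ?_⟩)
    (g * tS D (N w)) (by rw [c.symm.mul_mul_mul_comm, hg, tS_sq hv.2, mul_one]) rfl))
  · rintro _ ⟨_, a, ⟨x, rfl⟩, rfl⟩
    refine ⟨_, a, ⟨x + D.B (N w) x • w, ?_⟩, rfl⟩
    rw [← Nx, map_add, map_smul, ap, Nx x, add_right_comm]
  · rw [ap, hN, (N0 x).2 e, map_zero, zero_smul, add_zero, e]
  · refine s (a := w) (fun e => hv.1 ((N0 w).2 e)) ?_
    rw [ap, hN, hw, one_smul, Nx, ← add_assoc, vadd_self h, zero_add]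

theorem fac_tP [Finite V] (hD : D.Nondeg) (hn : 3 ≤ finrank F V) : FAC {x | ∃ v, Is D v ∧ tP D v = x} := by
  intro x x2
  obtain ⟨g0, rfl⟩ := QuotientGroup.mk_surjective x
  obtain ⟨c, hc⟩ := (mk_eq_one_iff hD (by omega) (g0 * g0)).1 x2
  obtain ⟨e, f, hef⟩ := Herm.exists_isHyp hD (by omega)
  have c3 : c * (c * c) = 1 := by
    have := hef.norm_of_smul hc
    rwa [h.3, _root_.sq] at this
  obtain ⟨g, g2, e1⟩ : ∃ g : D.det.ker, g * g = 1 ∧ (QuotientGroup.mk g : D.det.ker ⧸ center _) = QuotientGroup.mk g0 := by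
    refine ⟨g0 * g0 * g0, ?_, by rw [QuotientGroup.mk_mul, QuotientGroup.mk_mul, x2, one_mul]⟩
    rw [show g0 * g0 * g0 * (g0 * g0 * g0) = (g0 * g0) * ((g0 * g0) * (g0 * g0)) by group]
    refine S_ext fun x => ?_
    rw [S_mul, S_mul (g0 * g0), hc, hc, hc, smul_smul, smul_smul, mul_assoc, c3, one_smul]; rfl
  refine ⟨{x | ∃ v, Is D v ∧ (∃ w, g.1.1 w + w = v) ∧ tP D v = x}, fun x ⟨v, a, _, b⟩ => ⟨v, a, b⟩, ?_, ?_⟩
  · rintro _ ⟨_, a, ⟨u, rfl⟩, rfl⟩ _ ⟨_, b, ⟨v, rfl⟩, rfl⟩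
    have gg : ∀ x, g.1.1 (g.1.1 x) = x := fun x => by rw [← S_mul, g2]; rfl
    rw [(um_tP hD hn).comm_iff a b]
    simp only [D.B_add_left, D.B_add_right, B_isom]
    rw [← B_isom g.1 (g.1.1 u) v, gg, add_comm (D.B u (g.1.1 v)), F4.add_self h]
  · rw [← e1]
    refine closure_mono ?_ ((MonoidHom.map_closure (QuotientGroup.mk' _) _).le ⟨g, mem_closure_tS hD g g2, rfl⟩)
    rintro _ ⟨_, ⟨v, a, b, rfl⟩, rfl⟩
    exact ⟨v, a, b, rfl⟩

end PSU

open Cfsg.Lib.Forms in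
theorem qp6 {K : Type} [Field K] [Fintype K] (hK : Fintype.card K = 4) :
    ∃ (Q : Type) (_ : Group Q) (_ : PSU 6 K 2 ≃* Q) (_ : Finite Q) (Y : Set Q) (b : ℕ → Q),
      U6 Y ∧ QP Y 21 9 BU.c b (BU.N.map (·.2.2)) := by
  obtain ⟨σ, h⟩ := isConj_of_card (q := 2) hK
  have hD := stdHerm_nondeg h (Fin 6)
  have U := u6_tP h
  have hs := (Herm.normal_and_simple hD (by simp) (by simp)).2
  obtain ⟨a, ha⟩ := U.vw.ne
  obtain ⟨b, hb, hn⟩ := U.vw.nc a ha
  have : Finite (PSU 6 K 2) := Nat.finite_of_card_ne_zero (by rw [card_psu6 hK]; norm_num)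
  have := Finite.of_equiv _ (psuEquiv h 6).toEquiv
  refine ⟨_, _, psuEquiv h 6, this, _, (U.qp ?_ ((hs.eq_bot_or_eq_top_of_normal _ inferInstance).resolve_right
    fun e => hn (mem_center_iff.1 (e ▸ mem_top b) a)) (fac_tP hD (by simp))).imp fun _ x => ⟨U, x⟩⟩
  refine (hs.eq_bot_or_eq_top_of_normal _ (normal_closure_of_conj ?_)).resolve_left fun e =>
    U.vw.tt.ne_one ha (mem_bot.1 (e ▸ subset_closure ha))
  rintro g _ ⟨v, hv, rfl⟩
  obtain ⟨g, rfl⟩ := QuotientGroup.mk_surjective g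
  exact ⟨g.1.1 v, ⟨by simpa using hv.1, by rw [Form.Q_isom, hv.2]⟩, by rw [tP, ← tS_conj g hv.2]; rfl⟩

end Cfsg.Lib.Known2
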