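import Cfsg.Prelude.Def_AxialAlgebras

/-! Majorana axes: eigenvector decomposition and fusion rules, elementwise. -/

set_option autoImplicit false

namespace Cfsg.Lib.Known2.Maj

open Cfsg.Axial

variable {V : Type*} [AddCommGroup V] [Module ℝ V] {mul : V →ₗ[ℝ] V →ₗ[ℝ] V}
  {B : LinearMap.BilinForm ℝ V}

theorem mem_eigen {a v : V} {c : ℝ} : v ∈ eigen mul a c ↔ mul a v = c • v :=
  Module.End.mem_eigenspace_iff

theorem eigenSum_insert (a : V) (c : ℝ) (S : Set ℝ) :
    eigenSum mul a (insert c S) = eigen mul a c ⊔ eigenSum mul a S := iSup_insert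

theorem eigenSum_single (a : V) (c : ℝ) : eigenSum mul a {c} = eigen mul a c := iSup_singleton

/-- elementwise form of a Majorana pair with an axis of length one -/
structure Ax (mul : V →ₗ[ℝ] V →ₗ[ℝ] V) (B : LinearMap.BilinForm ℝ V) (μ : V ≃ₗ[ℝ] V) (a : V) : Prop where
  hmul : ∀ u v, μ (mul u v) = mul (μ u) (μ v)
  hB : ∀ u v, B (μ u) (μ v) = B u v
  idem : mul a a = a
  len : B a a = 1
  dec : ∀ v, ∃ x y z, mul a x = 0 ∧ mul a y = (1 / 4 : ℝ) • y ∧ mul a z = (1 / 32 : ℝ) • z ∧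
    v = B a v • a + x + y + z ∧ μ v = B a v • a + x + y - z
  f00 : ∀ x y, mul a x = 0 → mul a y = 0 → mul a (mul x y) = 0
  f04 : ∀ x y, mul a x = 0 → mul a y = (1 / 4 : ℝ) • y → mul a (mul x y) = (1 / 4 : ℝ) • mul x y
  f44 : ∀ x y, mul a x = (1 / 4 : ℝ) • x → mul a y = (1 / 4 : ℝ) • y →
    mul a (mul x y) = B a (mul x y) • a

theorem ax_of (hV : IsMajoranaAmbient mul B) {μ : V ≃ₗ[ℝ] V} {a : V} (h : IsMajoranaPair mul B μ a)
    (h1 : B a a = 1) : Ax mul B μ a := by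
  obtain ⟨h2, h3, ⟨⟨-, hi, hs, hf⟩, hp⟩, hm1, hm2⟩ := h
  obtain ⟨hc, hsym, -, hass, -⟩ := hV
  have orth : ∀ (c : ℝ) x, c ≠ 1 → mul a x = c • x → B a x = 0 := by
    intro c x hc' e
    have := hass a a x
    rw [hi, e, map_smul, smul_eq_mul] at this
    have : (c - 1) * B a x = 0 := by linarith
    exact (mul_eq_zero.1 this).resolve_left (sub_ne_zero.2 hc')
  have one : ∀ w, w ∈ eigen mul a 1 → ∃ c : ℝ, w = c • a := fun w hw => by
    rw [hp, Submodule.mem_span_singleton] at hw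
    obtain ⟨c, rfl⟩ := hw; exact ⟨c, rfl⟩
  have m0 : (0 : ℝ) ∈ majoranaSpectrum := by simp [majoranaSpectrum]
  have m4 : (1 / 4 : ℝ) ∈ majoranaSpectrum := by simp [majoranaSpectrum]
  refine ⟨h2, h3, hi, h1, fun v => ?_, fun x y hx hy => ?_, fun x y hx hy => ?_, fun x y hx hy => ?_⟩
  · have : v ∈ eigenSum mul a majoranaSpectrum := hs ▸ Submodule.mem_top
    rw [majoranaSpectrum, eigenSum_insert, eigenSum_insert, eigenSum_insert, eigenSum_single] at this
    obtain ⟨w, hw, r, hr, rfl⟩ := Submodule.mem_sup.1 this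
    obtain ⟨x, hx, r2, hr2, rfl⟩ := Submodule.mem_sup.1 hr
    obtain ⟨y, hy, z, hz, rfl⟩ := Submodule.mem_sup.1 hr2
    have e1 : μ (w + x + y) = w + x + y := hm1 _ (by
      rw [eigenSum_insert, eigenSum_insert, eigenSum_single, add_assoc]
      exact Submodule.add_mem_sup hw (Submodule.add_mem_sup hx hy))
    have e2 : μ z = -z := hm2 z hz
    obtain ⟨c, rfl⟩ := one w hw
    rw [mem_eigen] at hx hy hz
    have e3 : B a (c • a + (x + (y + z))) = c := by
      simp [h1, orth 0 x (by norm_num) hx, orth _ y (by norm_num) hy, orth _ z (by norm_num) hz]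
    refine ⟨x, y, z, by simpa using hx, hy, hz, by rw [e3]; abel, ?_⟩
    rw [e3, ← add_assoc, ← add_assoc, map_add, e1, e2]; abel
  · have := hf 0 m0 0 m0 x (mem_eigen.2 (by simpa using hx)) y (mem_eigen.2 (by simpa using hy))
    rw [show monsterLaw (1 / 4 : ℝ) (1 / 32) 0 0 = {0} by simp [monsterLaw], eigenSum_single,
      mem_eigen] at this
    simpa using this
  · have := hf 0 m0 _ m4 x (mem_eigen.2 (by simpa using hx)) y (mem_eigen.2 hy)
    rw [show monsterLaw (1 / 4 : ℝ) (1 / 32) 0 (1 / 4) = {1 / 4} by norm_num [monsterLaw],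
      eigenSum_single, mem_eigen] at this
    exact this
  · have := hf _ m4 _ m4 x (mem_eigen.2 hx) y (mem_eigen.2 hy)
    rw [show monsterLaw (1 / 4 : ℝ) (1 / 32) (1 / 4) (1 / 4) = {1, 0} by norm_num [monsterLaw],
      eigenSum_insert, eigenSum_single] at this
    obtain ⟨w, hw, r, hr, e⟩ := Submodule.mem_sup.1 this
    obtain ⟨c, rfl⟩ := one w hw
    rw [mem_eigen] at hr
    rw [← e]
    simp [h1, hi, hr, orth 0 r (by norm_num) hr]

theorem Ax.uniq {μ ν : V ≃ₗ[ℝ] V} {a : V} (h : Ax mul B μ a) (h' : Ax mul B ν a) : μ = ν := by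
  ext v
  obtain ⟨x, y, z, h1, h2, h3, h4, h5⟩ := h.dec v
  obtain ⟨x', y', z', h1', h2', h3', h4', h5'⟩ := h'.dec v
  have e0 : x + y + z = x' + y' + z' := by linear_combination (norm := module) h4' - h4
  have e1 := congrArg (mul a) e0
  simp only [map_add, h1, h2, h3, h1', h2', h3'] at e1
  have e2 := congrArg (mul a) e1
  simp only [map_add, map_smul, map_zero, h2, h3, h2', h3'] at e2
  rw [h5, h5']
  linear_combination (norm := module) e0 + (512 / 7 : ℝ) • ((4 : ℝ) • e2 - e1)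

theorem Ax.sq {μ : V ≃ₗ[ℝ] V} {a : V} (h : Ax mul B μ a) (v : V) : μ (μ v) = v := by
  obtain ⟨x, y, z, h1, h2, h3, h4, h5⟩ := h.dec v
  obtain ⟨x', y', z', h1', h2', h3', h4', h5'⟩ := h.dec (μ v)
  have eB : B a (μ v) = B a v := by
    obtain ⟨x', y', z', h1', h2', h3', h4', h5'⟩ := h.dec a
    have e1 := congrArg (mul a) h4'
    simp only [map_add, map_smul, h1', h2', h3', h.idem, h.len] at e1
    have e2 := congrArg (mul a) e1
    simp only [map_add, map_smul, map_zero, h2', h3', h.idem] at e2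
    have : μ a = a := by
      rw [h.len] at h4' h5'
      linear_combination (norm := module) h5' - h4' - (2048 / 7 : ℝ) • (e2 - (1 / 4 : ℝ) • e1)
    conv_lhs => rw [← this, h.hB]
  rw [eB] at h4' h5'
  have e0 : x + y - z = x' + y' + z' := by linear_combination (norm := module) h4' - h5
  have e1 := congrArg (mul a) e0
  simp only [map_add, map_sub, h1, h2, h3, h1', h2', h3'] at e1
  have e2 := congrArg (mul a) e1
  simp only [map_add, map_sub, map_smul, map_zero, h2, h3, h2', h3'] at e2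
  linear_combination (norm := module) h5' - h4 - e0 - (512 / 7 : ℝ) • ((4 : ℝ) • e2 - e1)

/-- the `0`- and `1/4`-components of a vector -/
theorem Ax.comp {μ : V ≃ₗ[ℝ] V} {a : V} (h : Ax mul B μ a) (v : V) :
    mul a (v - μ v) = (1 / 32 : ℝ) • (v - μ v) ∧
    mul a ((1 / 2 : ℝ) • (v + μ v) + (3 * B a v) • a - (4 : ℝ) • mul a v + (1 / 16 : ℝ) • (v - μ v)) = 0 ∧
    mul a ((4 : ℝ) • mul a v - (4 * B a v) • a - (1 / 16 : ℝ) • (v - μ v)) =
      (1 / 4 : ℝ) • ((4 : ℝ) • mul a v - (4 * B a v) • a - (1 / 16 : ℝ) • (v - μ v)) := by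
  obtain ⟨x, y, z, h1, h2, h3, h4, h5⟩ := h.dec v
  generalize B a v = c at *
  have e1 : mul a v = c • a + (1 / 4 : ℝ) • y + (1 / 32 : ℝ) • z := by
    rw [h4]; simp [h1, h2, h3, h.idem]
  have ez : v - μ v = (2 : ℝ) • z := by linear_combination (norm := module) h4 - h5
  have ey : (4 : ℝ) • mul a v - (4 * c) • a - (1 / 16 : ℝ) • (v - μ v) = y := by
    rw [ez, e1]; module
  have ex : (1 / 2 : ℝ) • (v + μ v) + (3 * c) • a - (4 : ℝ) • mul a v + (1 / 16 : ℝ) • (v - μ v) = x := by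
    rw [ez, e1]; linear_combination (norm := module) (1 / 2 : ℝ) • (h4 + h5)
  rw [ex, ey, ez]
  exact ⟨by rw [map_smul, h3, smul_comm], h1, h2⟩

theorem pair_conj {μ φ : V ≃ₗ[ℝ] V} {a : V} (h : IsMajoranaPair mul B μ a)
    (h1 : ∀ u v, φ (mul u v) = mul (φ u) (φ v)) (h2 : ∀ u v, B (φ u) (φ v) = B u v) :
    IsMajoranaPair mul B (φ * μ * φ⁻¹) (φ a) := by
  obtain ⟨k2, k3, ⟨⟨h0, hi, hs, hf⟩, hp⟩, hm1, hm2⟩ := h
  have h1' : ∀ u v, φ.symm (mul u v) = mul (φ.symm u) (φ.symm v) := fun u v =>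
    φ.injective (by simp [h1])
  have h2' : ∀ u v, B (φ.symm u) (φ.symm v) = B u v := fun u v => by rw [← h2]; simp
  have ap : ∀ v, (φ * μ * φ⁻¹) v = φ (μ (φ.symm v)) := fun v => rfl
  have e1 : ∀ c, eigen mul (φ a) c = (eigen mul a c).map (φ : V →ₗ[ℝ] V) := by
    intro c
    ext v
    rw [Submodule.mem_map_equiv, mem_eigen, mem_eigen, ← φ.injective.eq_iff (a := mul a _), h1]
    simp
  have e2 : ∀ S, eigenSum mul (φ a) S = (eigenSum mul a S).map (φ : V →ₗ[ℝ] V) := by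
    intro S
    simp only [eigenSum, e1, Submodule.map_iSup]
  refine ⟨fun u v => by simp only [ap, h1, h1', k2], fun u v => by simp only [ap, h2, h2', k3],
    ⟨⟨by simpa using h0, by rw [← h1, hi], by rw [e2, hs, Submodule.map_top, LinearEquiv.range], ?_⟩,
      by rw [e1, hp, Submodule.map_span]; simp⟩, ?_, ?_⟩
  · intro c hc d hd u hu v hv
    rw [e1, Submodule.mem_map_equiv] at hu hv
    rw [e2, Submodule.mem_map_equiv, h1']
    exact hf c hc d hd _ hu _ hv
  · intro v hv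
    rw [e2, Submodule.mem_map_equiv] at hv
    have : μ (φ.symm v) = φ.symm v := hm1 _ hv
    show φ (μ (φ.symm v)) = v
    rw [this]; simp
  · intro v hv
    rw [e1, Submodule.mem_map_equiv] at hv
    have : μ (φ.symm v) = -φ.symm v := hm2 _ hv
    show φ (μ (φ.symm v)) = -v
    rw [this]; simp

end Cfsg.Lib.Known2.Maj
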