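import Mathlib.GroupTheory.SpecificGroups.Alternating.Simple
import Mathlib.Tactic

/-! The outer automorphism of `S₆` and small facts on `S₃ × S₆`. -/

set_option autoImplicit false

namespace Cfsg.Lib.N9

open Equiv Equiv.Perm

abbrev S6 := Perm (Fin 6)
abbrev S36 := Perm (Fin 3) × Perm (Fin 6)

def e0 : S6 := swap 0 1 * swap 2 3
def e1 : S6 := swap 0 2 * swap 1 3
def e2 : S6 := swap 0 1 * swap 4 5
def c3 : Perm (Fin 3) := swap 0 1 * swap 1 2

theorem conj_e0 (k : S6) (h1 : k * k = 1) (h2 : k ≠ 1) (h3 : sign k = 1) :
    ∃ h : S6, sign h = 1 ∧ h * k * h⁻¹ = e0 := by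
  have hc : k.cycleType = {2, 2} := by
    have ho : orderOf k = 2 := orderOf_eq_prime (by rw [pow_two, h1]) h2
    obtain ⟨n, hn⟩ := cycleType_prime_order (ho ▸ Nat.prime_two)
    rw [ho] at hn
    have h4 := sum_cycleType_le k
    have h5 := sign_of_cycleType k
    rw [hn] at h4 h5 ⊢
    simp at h4 h5
    rw [h3] at h5
    have : n ≤ 2 := by omega
    interval_cases n
    · revert h5; decide
    · rfl
    · revert h5; decide
  have : IsConj k e0 := isConj_iff_cycleType_eq.2 (by rw [hc]; decide)
  obtain ⟨h, hh⟩ := isConj_iff.1 this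
  rcases Int.units_eq_one_or (sign h) with e | e
  · exact ⟨h, e, hh⟩
  · refine ⟨swap 0 1 * h, by simp [e], ?_⟩
    rw [show swap 0 1 * h * k * (swap 0 1 * h)⁻¹ = swap 0 1 * (h * k * h⁻¹) * (swap 0 1)⁻¹ by group, hh]
    decide

def code : Fin 6 → ℕ := ![834274258279723598588890059448788148333284279765966409037721905925033018966342253618112787884738153041744008745797251013154571013656851304887501712148877617245821949954118552810396823422935236608,
  834274258279181246461062060698434610281816826238239178610612996419043812560644719905943717695984185817659216271555893981282615686150198755394827810819220347138738823513724919658183257176999723008,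
  834274250546074398236296476684153638743870740390950024397866975902537529766661946201981226375880847921605179369657070343641172771724068544240357377206442787655322770303753064128127188429401489408,
  834274250546354422288610007515586358360698622795235465230785565003446591637624928722793342902611536662339945888981017573469658934543730416425292526593536454486421546099553760735579636275697942528,
  834274269820009878158730227207631188183406515326122163574065812605617238782353306476867706913555376441557500257025289750090049042307914102043638888020604497200883848464470713981445608439330111488,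
  834274269819747551859529057933601865027956596558638317490881925831427055630869176849403427577554269543812177093856924103721207067160936800634160881246870432106730599194519625618248501420783566848]

/-- the six synthematic totals -/
def Tt (n i j k : Fin 6) : Fin 6 := Fin.ofNat 6 (code n / 8 ^ (36 * i.1 + 6 * j.1 + k.1) % 8)

def Rel (g h : S6) : Prop := ∀ n i j k, g (Tt n i j k) = Tt (h n) (g i) (g j) (g k)

instance (g h : S6) : Decidable (Rel g h) := by unfold Rel; infer_instance

theorem Rel.mul {g h g' h' : S6} (a : Rel g h) (b : Rel g' h') : Rel (g * g') (h * h') := by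
  intro n i j k
  simp only [Perm.mul_apply]
  rw [b, a]

theorem Tt_inj : ∀ n m, Tt n 0 1 2 = Tt m 0 1 2 → Tt n 0 2 1 = Tt m 0 2 1 → n = m := by decide +kernel

theorem Rel.uniq {g h h' : S6} (a : Rel g h) (b : Rel g h') : h = h' := by
  ext1 n
  have : ∀ i j k, Tt (h n) i j k = Tt (h' n) i j k := fun i j k => by
    have h1 := a n (g⁻¹ i) (g⁻¹ j) (g⁻¹ k)
    rw [b] at h1
    simpa using h1.symm
  exact Tt_inj _ _ (this _ _ _) (this _ _ _)

def tr (a b c d e f : Fin 6) : S6 := swap a b * swap c d * swap e f

def im : Fin 5 → S6 := ![tr 0 3 1 2 4 5, tr 0 4 1 5 2 3, tr 0 2 1 3 4 5, tr 0 4 1 2 3 5, tr 0 1 2 3 4 5]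
def pre : Fin 5 → S6 := ![tr 4 5 0 2 1 3, tr 3 4 0 1 2 5, tr 4 5 1 2 0 3, tr 1 3 2 5 0 4, tr 4 5 0 1 2 3]

theorem rel_im : ∀ i : Fin 5, Rel (swap i.castSucc i.succ) (im i) ∧ sign (im i) = -1 ∧
    Rel (pre i) (swap i.castSucc i.succ) := by decide +kernel

theorem rel_e : Rel e0 e0 ∧ Rel e2 e1 := by decide +kernel

theorem exists_rel (g : S6) : ∃ h, Rel g h ∧ sign h = sign g := by
  have hg : g ∈ Submonoid.closure (Set.range fun i : Fin 5 ↦ swap i.castSucc i.succ) := by
    rw [mclosure_swap_castSucc_succ]; trivial
  induction hg using Submonoid.closure_induction with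
  | mem x hx =>
    obtain ⟨i, rfl⟩ := hx
    exact ⟨im i, (rel_im i).1, by rw [(rel_im i).2.1, sign_swap (Fin.castSucc_lt_succ).ne]⟩
  | one => exact ⟨1, fun _ _ _ _ => rfl, rfl⟩
  | mul x y _ _ hx hy =>
    obtain ⟨h, h1, h2⟩ := hx
    obtain ⟨h', h1', h2'⟩ := hy
    exact ⟨h * h', h1.mul h1', by simp [h2, h2']⟩

theorem exists_tau : ∃ τ : S6 ≃* S6, (∀ g, sign (τ g) = sign g) ∧ τ e0 = e0 ∧ τ e2 = e1 := by
  choose t ht hs using exists_rel
  let τ : S6 →* S6 := MonoidHom.mk' t fun a b => (ht _).uniq ((ht a).mul (ht b))
  have hsur : Function.Surjective τ := by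
    intro g
    have hg : g ∈ Submonoid.closure (Set.range fun i : Fin 5 ↦ swap i.castSucc i.succ) := by
      rw [mclosure_swap_castSucc_succ]; trivial
    induction hg using Submonoid.closure_induction with
    | mem x hx =>
      obtain ⟨i, rfl⟩ := hx
      exact ⟨pre i, (ht _).uniq (rel_im i).2.2⟩
    | one => exact ⟨1, map_one τ⟩
    | mul x y _ _ hx hy =>
      obtain ⟨h, rfl⟩ := hx
      obtain ⟨h', rfl⟩ := hy
      exact ⟨h * h', map_mul τ _ _⟩
  exact ⟨MulEquiv.ofBijective τ ⟨Finite.injective_iff_surjective.2 hsur, hsur⟩, hs,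
    (ht _).uniq rel_e.1, (ht _).uniq rel_e.2⟩

end Cfsg.Lib.N9
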