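import Cfsg.Agent.Lib.Known2.N9a

/-! Orthogonal `𝔽₂`-spaces of order `2⁸` with a group of isometries: basic lemmas. -/

set_option autoImplicit false
set_option linter.unusedSectionVars false

namespace Cfsg.Lib.N9

open Equiv Equiv.Perm

theorem z2 (a : ZMod 2) : a = 0 ∨ a = 1 := by revert a; decide

theorem ncard_two {α : Type*} [Finite α] {S T : Set α} (f : α → α) (h : ∀ w ∈ T, w ∈ S ∨ ∃ s ∈ S, f s = w) :
    T.ncard ≤ 2 * S.ncard := by
  refine (Set.ncard_le_ncard (t := S ∪ f '' S) fun w hw => h w hw).trans ((Set.ncard_union_le _ _).trans ?_)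
  have := Set.ncard_image_le (s := S) (f := f)
  omega

theorem half2 {H : Type*} [Group H] [Finite H] (B N : Subgroup H)
    (h : ∀ s ∈ B, ∀ t ∈ B, s ∈ N ∨ t ∈ N ∨ s * t ∈ N) : Nat.card B ≤ 2 * Nat.card ↥(B ⊓ N) := by
  by_cases h1 : B ≤ N
  · rw [inf_eq_left.2 h1]; omega
  · obtain ⟨s, hs, hsN⟩ := SetLike.not_le_iff_exists.1 h1
    show (B : Set H).ncard ≤ 2 * ((B ⊓ N : Subgroup H) : Set H).ncard
    refine ncard_two (fun w => s⁻¹ * w) fun w hw => ?_
    rcases h s hs w hw with e | e | e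
    · exact absurd e hsN
    · exact Or.inl ⟨hw, e⟩
    · exact Or.inr ⟨s * w, ⟨mul_mem hs hw, e⟩, by simp⟩

theorem half {H : Type*} [Group H] [Finite H] (B : Subgroup H) (f : H →* ℤˣ) :
    Nat.card B ≤ 2 * Nat.card ↥(B ⊓ f.ker) := by
  refine half2 B _ fun s _ t _ => ?_
  simp only [MonoidHom.mem_ker, map_mul]
  rcases Int.units_eq_one_or (f s) with e | e <;> rcases Int.units_eq_one_or (f t) with e' | e' <;> simp [e, e']

variable {H V : Type*} [Group H] [AddCommGroup V] [DistribMulAction H V] [Finite H] [Finite V]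

theorem two_le {S T : AddSubgroup V} (h : S ≤ T) {v : V} (hv : v ∈ T) (hn : v ∉ S) :
    2 * Nat.card S ≤ Nat.card T := by
  obtain ⟨k, hk⟩ := AddSubgroup.card_dvd_of_le h
  have h0 : 0 < Nat.card T := Nat.card_pos
  have h1 : k ≠ 1 := by
    rintro rfl
    exact hn (AddSubgroup.eq_of_le_of_card_ge h (by omega) ▸ hv)
  have h2 : k ≠ 0 := by rintro rfl; omega
  rw [hk, mul_comm]
  exact Nat.mul_le_mul_left _ (by omega)

abbrev ad (S : AddSubgroup V) (v : V) : AddSubgroup V := S ⊔ AddSubgroup.zmultiples v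

theorem le_ad {S : AddSubgroup V} {v w : V} (h : w ∈ S) : w ∈ ad S v := AddSubgroup.mem_sup_left h
theorem self_ad (S : AddSubgroup V) (v : V) : v ∈ ad S v :=
  AddSubgroup.mem_sup_right (AddSubgroup.mem_zmultiples v)
theorem ad_le {S T : AddSubgroup V} {v : V} (h : S ≤ T) (hv : v ∈ T) : ad S v ≤ T :=
  sup_le h (AddSubgroup.zmultiples_le_of_mem hv)
theorem card_ad {S : AddSubgroup V} {v : V} (hn : v ∉ S) : 2 * Nat.card S ≤ Nat.card (ad S v) :=
  two_le le_sup_left (self_ad S v) hn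

/-- kernel of the action -/
abbrev KK (H V : Type*) [Group H] [AddCommGroup V] [DistribMulAction H V] : Subgroup H :=
  (MulAction.toPermHom H V).ker

theorem mem_KK {g : H} : g ∈ KK H V ↔ ∀ v : V, g • v = v := by
  rw [MonoidHom.mem_ker, Equiv.ext_iff]; rfl

/-- fixed points of an element -/
def Fix (V : Type*) [AddCommGroup V] [DistribMulAction H V] (g : H) : AddSubgroup V where
  carrier := {v | g • v = v}
  zero_mem' := smul_zero g
  add_mem' := fun {a b} ha hb => by
    show g • (a + b) = a + b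
    rw [smul_add, show g • a = a from ha, show g • b = b from hb]
  neg_mem' := fun {a} ha => by
    show g • (-a) = -a
    rw [smul_neg, show g • a = a from ha]

theorem mem_Fix {g : H} {v : V} : v ∈ Fix V g ↔ g • v = v := Iff.rfl

theorem inv_fix {g : H} {v : V} (h : g • v = v) : g⁻¹ • v = v := by
  conv_lhs => rw [← h]
  rw [inv_smul_smul]

structure Sp (H : Type*) [Group H] [DistribMulAction H V] (q : V → ZMod 2) (β : V → V → ZMod 2) : Prop where
  two : ∀ v : V, v + v = 0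
  qa : ∀ v w, q (v + w) = q v + q w + β v w
  bl : ∀ u v w, β (u + v) w = β u w + β v w
  qs : ∀ (g : H) v, q (g • v) = q v
  sep : ∀ (S : AddSubgroup V) v, v ∉ S → ∃ w, (∀ s ∈ S, β s w = 0) ∧ β v w = 1
  bd : ∀ S T : AddSubgroup V, (∀ s ∈ S, ∀ t ∈ T, β s t = 0) → Nat.card S * Nat.card T ≤ 256
  card : Nat.card V = 256

variable {q : V → ZMod 2} {β : V → V → ZMod 2}

namespace Sp
variable (h : Sp H q β)
include h

theorem bs (v w : V) : β v w = β w v := by
  have h1 := h.qa v w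
  have h2 := h.qa w v
  rw [add_comm w v] at h2
  grind
theorem b0 (w : V) : β 0 w = 0 := by
  have := h.bl 0 0 w
  rw [add_zero] at this
  grind
theorem b0' (w : V) : β w 0 = 0 := by rw [h.bs, h.b0]
theorem q0 : q 0 = 0 := by
  have := h.qa 0 0
  rw [add_zero, h.b0] at this
  grind
theorem bvv (v : V) : β v v = 0 := by
  have := h.qa v v
  rw [h.two, h.q0] at this
  grind
theorem br (u v w : V) : β u (v + w) = β u v + β u w := by rw [h.bs, h.bl, h.bs v, h.bs w]
theorem bsm (g : H) (v w : V) : β (g • v) (g • w) = β v w := by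
  have h1 := h.qa (g • v) (g • w)
  rw [← smul_add, h.qs, h.qs, h.qs, h.qa] at h1
  grind
theorem badj (g : H) (v w : V) : β (g • v) w = β v (g⁻¹ • w) := by rw [← h.bsm g v, smul_inv_smul]
theorem neg (v : V) : -v = v := neg_eq_of_add_eq_zero_left (h.two v)
theorem eq_of {v w : V} (e : v + w = 0) : v = w := by rw [← h.neg w]; exact eq_neg_of_add_eq_zero_left e
theorem dp {S : AddSubgroup V} {v : V} (e : ∀ w, (∀ s ∈ S, β s w = 0) → β v w = 0) : v ∈ S := by
  by_contra hn
  obtain ⟨w, h1, h2⟩ := h.sep S v hn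
  rw [e w h1] at h2
  exact zero_ne_one h2
theorem nd {v : V} (hv : v ≠ 0) : ∃ w, β v w = 1 := by
  obtain ⟨w, -, h2⟩ := h.sep ⊥ v (by simpa using hv)
  exact ⟨w, h2⟩

theorem mem_ad {S : AddSubgroup V} {v w : V} : w ∈ ad S v ↔ w ∈ S ∨ w + v ∈ S := by
  constructor
  · intro hw
    obtain ⟨s, hs, _, ⟨n, rfl⟩, rfl⟩ := AddSubgroup.mem_sup.1 hw
    have h2 : ∀ k : ℤ, (2 * k) • v = 0 := fun k => by rw [mul_comm, mul_smul, two_smul, h.two, smul_zero]
    rcases Int.even_or_odd' n with ⟨k, rfl | rfl⟩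
    · left; simpa [h2] using hs
    · right; simpa [add_smul, h2, add_assoc, h.two] using hs
  · rintro (e | e)
    · exact le_ad e
    · have : w = w + v + v := by rw [add_assoc, h.two, add_zero]
      rw [this]; exact add_mem (le_ad e) (self_ad S v)

theorem mem_ad0 {v w : V} : w ∈ ad ⊥ v ↔ w = 0 ∨ w = v := by
  rw [h.mem_ad, AddSubgroup.mem_bot, AddSubgroup.mem_bot]
  exact or_congr_right ⟨h.eq_of, fun e => by rw [e, h.two]⟩

theorem mem_ad2 {u v w : V} : w ∈ ad (ad ⊥ u) v ↔ w = 0 ∨ w = u ∨ w = v ∨ w = u + v := by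
  rw [h.mem_ad, h.mem_ad0, h.mem_ad0, or_assoc]
  have := h.two v
  refine or_congr_right (or_congr_right (or_congr ⟨h.eq_of, fun e => by rw [e, h.two]⟩ ⟨?_, ?_⟩)) <;> grind

theorem card_ad_le (S : AddSubgroup V) (v : V) : Nat.card (ad S v) ≤ 2 * Nat.card S := by
  show (ad S v : Set V).ncard ≤ 2 * (S : Set V).ncard
  refine ncard_two (· + v) fun w hw => (h.mem_ad.1 hw).imp_right fun e => ⟨_, e, ?_⟩
  rw [add_assoc, h.two, add_zero]

/-- the perp of a vector -/
def pp (v : V) : AddSubgroup V where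
  carrier := {s | β s v = 0}
  zero_mem' := h.b0 v
  add_mem' := fun {a b} ha hb => by
    show β (a + b) v = 0
    rw [h.bl, show β a v = 0 from ha, show β b v = 0 from hb, add_zero]
  neg_mem' := fun {a} ha => by rwa [h.neg]

theorem perp_ad {S : AddSubgroup V} {v u : V} (h1 : ∀ s ∈ S, β s u = 0) (h2 : β v u = 0) :
    ∀ s ∈ ad S v, β s u = 0 := ad_le (T := h.pp u) h1 h2

theorem iso_ad {S : AddSubgroup V} {v : V} (h1 : ∀ s ∈ S, ∀ t ∈ S, β s t = 0) (h2 : ∀ s ∈ S, β s v = 0) :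
    ∀ s ∈ ad S v, ∀ t ∈ ad S v, β s t = 0 := fun s hs t ht => by
  refine h.perp_ad (fun s hs => ?_) ?_ s hs <;> rw [h.bs]
  · exact h.perp_ad (fun t ht => h1 t ht s hs) (by rw [h.bs]; exact h2 s hs) t ht
  · exact h.perp_ad h2 (h.bvv v) t ht

theorem perp_bot (u : V) : ∀ s ∈ (⊥ : AddSubgroup V), β s u = 0 := fun s hs => by
  rw [AddSubgroup.mem_bot.1 hs, h.b0]

theorem sing_iso {T : AddSubgroup V} (hq : ∀ r ∈ T, q r = 0) : ∀ s ∈ T, ∀ t ∈ T, β s t = 0 := fun s hs t ht => by
  have := h.qa s t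
  rw [hq _ (add_mem hs ht), hq s hs, hq t ht] at this
  grind

theorem sg1 {T : AddSubgroup V} (hq : ∀ r ∈ T, q r = 0) {t : H} (ht : ∀ v, t • v + v ∈ T) (v : V) :
    β v (t • v + v) = 0 := by
  have h1 := h.qa v (t • v + v)
  have h2 : v + (t • v + v) = t • v := by have := h.two v; grind
  rw [h2, h.qs, hq _ (ht v)] at h1
  grind

theorem sg2 {T : AddSubgroup V} (hq : ∀ r ∈ T, q r = 0) {t : H} (ht : ∀ v, t • v + v ∈ T) (v w : V) :
    β v (t • w + w) = β w (t • v + v) := by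
  have h1 := h.sg1 hq ht (v + w)
  rw [smul_add, add_add_add_comm, h.bl, h.br v, h.br w, h.sg1 hq ht v, h.sg1 hq ht w] at h1
  grind

theorem siegel {T : AddSubgroup V} (hT : Nat.card T ≤ 4) (hq : ∀ r ∈ T, q r = 0) {s t : H}
    (hs : ∀ v, s • v + v ∈ T) (ht : ∀ v, t • v + v ∈ T) :
    (∀ v : V, s • v = v) ∨ (∀ v : V, t • v = v) ∨ ∀ v : V, s • v = t • v := by
  by_cases h0 : ∀ v : V, s • v = v
  · exact Or.inl h0
  right
  push Not at h0
  obtain ⟨v1, hv1⟩ := h0
  obtain ⟨v2, hv2⟩ := h.nd (v := s • v1 + v1) fun e => hv1 (h.eq_of e)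
  set c := s • v1 + v1 with hc
  set d := s • v2 + v2 with hd
  have a1 : β v1 c = 0 := h.sg1 hq hs v1
  have a2 : β v2 d = 0 := h.sg1 hq hs v2
  have a3 : β v2 c = 1 := by rw [h.bs, hv2]
  have a4 : β v1 d = 1 := by rw [hd, h.sg2 hq hs, a3]
  have hc0 : c ∉ (⊥ : AddSubgroup V) := fun e => by
    rw [AddSubgroup.mem_bot.1 e, h.b0'] at a3; exact zero_ne_one a3
  have hd0 : d ∉ ad ⊥ c := fun e => by
    rcases h.mem_ad0.1 e with e | e <;> rw [e] at a4
    · rw [h.b0'] at a4; exact zero_ne_one a4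
    · rw [a1] at a4; exact zero_ne_one a4
  have hT' : ad (ad ⊥ c) d = T := by
    refine AddSubgroup.eq_of_le_of_card_ge (ad_le (ad_le bot_le (hs v1)) (hs v2)) ?_
    have := card_ad hc0
    have := card_ad hd0
    rw [AddSubgroup.card_bot] at *
    omega
  have key : ∀ u ∈ T, ∀ u' ∈ T, β v1 u = β v1 u' → β v2 u = β v2 u' → u = u' := by
    intro u hu u' hu' e1 e2
    have := add_mem hu hu'
    rw [← hT', h.mem_ad2] at this
    have b1 := h.br v1 u u'
    have b2 := h.br v2 u u'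
    rcases this with e | e | e | e
    · exact h.eq_of e
    · rw [e] at b2; grind
    · rw [e] at b1; grind
    · rw [e, h.br] at b1; grind
  have k2 : ∀ r : H, (∀ v, r • v + v ∈ T) → (∀ v, t • v + v ∈ T) → β v2 (r • v1 + v1) = β v2 (t • v1 + v1) →
      ∀ v : V, r • v = t • v := by
    intro r hr ht e v
    have e1 : r • v1 + v1 = t • v1 + v1 := key _ (hr _) _ (ht _) (by rw [h.sg1 hq hr, h.sg1 hq ht]) e
    have e2 : r • v2 + v2 = t • v2 + v2 := key _ (hr _) _ (ht _)
      (by rw [h.sg2 hq hr, h.sg2 hq ht, e]) (by rw [h.sg1 hq hr, h.sg1 hq ht])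
    exact add_right_cancel (key _ (hr v) _ (ht v) (by rw [h.sg2 hq hr, h.sg2 hq ht, e1])
      (by rw [h.sg2 hq hr, h.sg2 hq ht, e2]))
  rcases z2 (β v2 (t • v1 + v1)) with e | e
  · left
    intro v
    rw [← k2 1 (fun v => by rw [one_smul, h.two]; exact zero_mem _) ht (by rw [one_smul, h.two, h.b0', e]), one_smul]
  · exact Or.inr (k2 s hs ht (by rw [e, a3]))

theorem perp_fix {y : H} {v0 u : V} (h0 : y • v0 = v0) (hu : u + y • u + y • y • u = 0) : β u v0 = 0 := by
  have h1 := h.bsm y u v0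
  have h2 := h.bsm y (y • u) v0
  have h3 := h.b0 v0
  rw [h0] at h1 h2
  rw [← hu, h.bl, h.bl] at h3
  grind

theorem y3 {y : H} {u : V} (hu : u + y • u + y • y • u = 0) : y • y • y • u = u := by
  have := congrArg (y • ·) hu
  simp only [smul_add, smul_zero] at this
  have := h.two u
  have := h.two (y • u)
  have := h.two (y • y • u)
  grind

theorem y_ne {y : H} {u : V} (hu : u + y • u + y • y • u = 0) (h0 : u ≠ 0) : y • u ≠ u := fun e => by
  rw [e, e, h.two, zero_add] at hu; exact h0 hu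

theorem five_aux {y f : H} (hc : ∀ v : V, f • y • v = y • f • v) (h5 : ∀ v : V, f • f • f • f • f • v = v)
    {w v0 : V} (hw : w + y • w + y • y • w = 0) (h0 : w ≠ 0) (hf : f • f • w = y • f • w + w)
    (hv : v0 ≠ 0) (hv0 : y • v0 = v0) : False := by
  have hw' : f • w + y • f • w + y • y • f • w = 0 := by rw [← hc, ← hc, ← smul_add, ← smul_add, hw, smul_zero]
  have f4 : f • f • f • f • w = y • w + f • w := by
    have := congrArg (fun v => f • f • f • f • v) hf
    simp only [smul_add, hc, h5] at this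
    have := h.two (y • w)
    grind
  have yy : y • y • w = w + y • w := (h.eq_of hw).symm
  have b1 : β w (y • w) = 0 := by
    have h1 := h.bsm f w (f • f • f • f • w)
    rw [h5, f4, h.br, h.bs (f • w)] at h1
    grind
  have q1 : q w = 0 := by
    have h1 := h.qa w (y • w)
    rw [← yy, h.qs, h.qs] at h1
    grind
  have b2 : β w (y • f • w) = 0 := by
    have h1 := h.qa (y • f • w) w
    rw [← hf, h.qs, h.qs, h.qs, h.qs, h.bs] at h1
    grind
  have b3 : β (y • w) (f • w) = 0 := by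
    have h1 := h.qa (y • w) (f • w)
    rw [← f4] at h1
    simp only [h.qs] at h1
    grind
  have b4 : β w (f • w) = 0 := by
    have h1 := h.bsm y (y • w) (f • w)
    rw [yy, h.bl, h.bsm] at h1
    grind
  have b5 : β (y • w) (y • f • w) = 0 := by rw [h.bsm, b4]
  have b6 : β (f • w) (y • f • w) = 0 := by rw [← hc, h.bsm, b1]
  have hyw : y • w + y • y • w + y • y • y • w = 0 := by rw [← smul_add, ← smul_add, hw, smul_zero]
  have hyf : y • f • w + y • y • f • w + y • y • y • f • w = 0 := by rw [← smul_add, ← smul_add, hw', smul_zero]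
  have i1 := h.iso_ad (v := w) (fun s _ t ht => by rw [h.bs]; exact h.perp_bot s t ht) (h.perp_bot w)
  have i2 := h.iso_ad i1 (h.perp_ad (h.perp_bot _) b1)
  have i3 := h.iso_ad i2 (h.perp_ad (h.perp_ad (h.perp_bot _) b4) b3)
  have i4 := h.iso_ad i3 (h.perp_ad (h.perp_ad (h.perp_ad (h.perp_bot _) b2) b5) b6)
  have i5 := h.iso_ad i4 (h.perp_ad (h.perp_ad (h.perp_ad (h.perp_ad (h.perp_bot _) (h.perp_fix hv0 hw))
    (h.perp_fix hv0 hyw)) (h.perp_fix hv0 hw')) (h.perp_fix hv0 hyf))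
  have hb := h.bd _ _ i5
  have n1 : w ∉ (⊥ : AddSubgroup V) := by simpa using h0
  have n2 : y • w ∉ ad ⊥ w := by
    rw [h.mem_ad0]; rintro (e | e)
    exacts [h0 (by simpa [smul_eq_zero_iff_eq] using e), h.y_ne hw h0 e]
  have inv : ∀ u ∈ ad (ad ⊥ w) (y • w), y • u ∈ ad (ad ⊥ w) (y • w) := by
    intro u hu
    rw [h.mem_ad2] at hu ⊢
    rcases hu with e | e | e | e <;> rw [e]
    · simp
    · simp
    · simp [yy]
    · rw [← yy, h.y3 hw]; simp
  have n3 : f • w ∉ ad (ad ⊥ w) (y • w) := by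
    rw [h.mem_ad2]; rintro (e | e | e | e)
    · exact h0 (by simpa [smul_eq_zero_iff_eq] using e)
    · rw [e, e] at hf; exact h0 (by simpa [smul_eq_zero_iff_eq] using hf)
    · rw [← e, h.two] at f4; exact h0 (by simpa [smul_eq_zero_iff_eq] using f4)
    · rw [← yy] at e
      rw [e, hc, hc, e, h.y3 hw, h.two] at hf
      exact h0 (by simpa [smul_eq_zero_iff_eq] using hf)
  have n4 : y • f • w ∉ ad (ad (ad ⊥ w) (y • w)) (f • w) := by
    rw [h.mem_ad]; rintro (e | e)
    · have := inv _ (inv _ e)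
      rw [h.y3 hw'] at this; exact n3 this
    · have := inv _ e
      rw [add_comm, h.eq_of hw', h.y3 hw'] at this; exact n3 this
  have n5 : v0 ∉ ad (ad (ad (ad ⊥ w) (y • w)) (f • w)) (y • f • w) := fun e => by
    let W : AddSubgroup V := (AddMonoidHom.id V + DistribSMul.toAddMonoidHom V y +
      DistribSMul.toAddMonoidHom V (y * y)).ker
    have hW : ∀ u, u ∈ W ↔ u + y • u + y • y • u = 0 := fun u => by simp [W, mul_smul]
    have := (hW _).1 (ad_le (T := W) (ad_le (ad_le (ad_le bot_le ((hW _).2 hw)) ((hW _).2 hyw)) ((hW _).2 hw'))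
      ((hW _).2 hyf) e)
    exact h.y_ne this hv hv0
  have c1 := card_ad n1
  have c2 := card_ad n2
  have c3 := card_ad n3
  have c4 := card_ad n4
  have c5 := card_ad n5
  rw [AddSubgroup.card_bot] at c1
  nlinarith

end Sp

end Cfsg.Lib.N9
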