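import Cfsg.Agent.Lib.Known2.N9b

/-! The element of order three acts without fixed points. -/

set_option autoImplicit false
set_option linter.unusedSectionVars false

namespace Cfsg.Lib.N9

open Equiv Equiv.Perm

variable {H V : Type*} [Group H] [AddCommGroup V] [DistribMulAction H V] [Finite H] [Finite V]
variable {q : V → ZMod 2} {β : V → V → ZMod 2}

structure Pi (V : Type*) [AddCommGroup V] [DistribMulAction H V] (π : H →* S36) (x : H) : Prop where
  ker : ∀ g, π g = 1 ↔ ∀ v : V, g • v = v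
  sur : ∀ k : S6, sign k = 1 → ∃ g, π g = (1, k)
  hx : π x = (c3, 1)

structure PD (q : V → ZMod 2) (β : V → V → ZMod 2) (a : V) (A : Subgroup H) (R : AddSubgroup V) : Prop where
  ne : a ≠ 0
  mem : a ∈ R
  sing : ∀ r ∈ R, q r = 0
  fix : ∀ t ∈ A, t • a = a
  cm : ∀ t ∈ A, ∀ v, β v a = 0 → t • v + v ∈ R
  sq : ∀ t ∈ A, ∀ v : V, t • t • v = v
  com : ∀ s ∈ A, ∀ t ∈ A, ∀ v : V, s • t • v = t • s • v
  cA : Nat.card A = 256
  cR : Nat.card ↥(A ⊓ KK H V) = 2 * Nat.card R
  cb : ∀ (S : AddSubgroup V) (B : Subgroup H), S ≤ R → a ∈ S → B ≤ A → (∀ t ∈ B, ∀ s ∈ S, t • s = s) →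
    Nat.card S * Nat.card B ≤ 512
  nor : ∀ g : H, g • a = a → (∀ t ∈ A, ∃ t' ∈ A, ∀ v : V, t' • g • v = g • t • v) ∧ ∀ r ∈ R, g • r ∈ R
  odd : ∀ g : H, g • a = a → (∀ v : V, g • g • g • v = v) → (∀ r ∈ R, g • r = r) →
    (∀ t ∈ A, ∀ v : V, g • t • v = t • g • v) → ∀ v : V, g • v = v

/-- elements centralising `x` modulo the kernel -/
abbrev ZZ (π : H →* S36) : Subgroup H := (sign.comp ((MonoidHom.fst _ _).comp π)).ker
abbrev ZE (π : H →* S36) : Subgroup H := (sign.comp ((MonoidHom.snd _ _).comp π)).ker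

theorem mem_ZZ {π : H →* S36} {t : H} : t ∈ ZZ π ↔ sign (π t).1 = 1 := Iff.rfl
theorem mem_ZE {π : H →* S36} {t : H} : t ∈ ZE π ↔ sign (π t).2 = 1 := Iff.rfl

theorem s3a : ∀ σ : Perm (Fin 3), sign σ = 1 → σ * c3 = c3 * σ := by decide
theorem s3b : ∀ σ : Perm (Fin 3), sign σ ≠ 1 → σ * c3 = c3 * (c3 * σ) := by decide
theorem s3c : ∀ σ : Perm (Fin 3), sign σ = 1 → σ * σ = 1 → σ = 1 := by decide
theorem s3d : ∀ σ τ : Perm (Fin 3), τ * c3 = c3 * σ → σ * τ = τ * σ → sign σ = 1 := by decide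

namespace Pi
variable {π : H →* S36} {x : H} (p : Pi V π x)
include p

theorem act {g g' : H} (e : π g = π g') (v : V) : g • v = g' • v := by
  have := (p.ker (g'⁻¹ * g)).1 (by simp [e]) v
  rw [mul_smul, inv_smul_eq_iff] at this; exact this
theorem pi_eq {g g' : H} (e : ∀ v : V, g • v = g' • v) : π g = π g' := by
  have := (p.ker (g'⁻¹ * g)).2 fun v => by rw [mul_smul, e, inv_smul_smul]
  rw [map_mul, map_inv, inv_mul_eq_one] at this; exact this.symm
theorem x3 (v : V) : x • x • x • v = v := by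
  rw [← mul_smul, ← mul_smul]
  exact (p.ker _).1 (by rw [map_mul, map_mul, p.hx]; decide) v
theorem cx {t : H} (ht : t ∈ ZZ π) (v : V) : t • x • v = x • t • v := by
  rw [← mul_smul, ← mul_smul]
  exact p.act (by rw [map_mul, map_mul, p.hx]; exact Prod.ext (s3a _ ht) (by simp)) v
theorem ix {t : H} (ht : t ∉ ZZ π) (v : V) : t • x • v = x • x • t • v := by
  rw [← mul_smul, ← mul_smul, ← mul_smul]
  exact p.act (by
    rw [map_mul, map_mul, map_mul, p.hx]; exact Prod.ext (by simpa [mul_assoc] using s3b _ ht) (by simp)) v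
theorem zz {t : H} {k : S6} (e : π t = (1, k)) : t ∈ ZZ π := by rw [mem_ZZ, e]; simp
theorem xne : ¬ ∀ v : V, x • v = v := fun e => by
  have := (p.ker x).2 e
  rw [p.hx] at this; revert this; decide
theorem pi1 {t : H} (ht : t ∈ ZZ π) (h2 : ∀ v : V, t • t • v = v) : π t = (1, (π t).2) ∧ (π t).2 * (π t).2 = 1 := by
  have := (p.ker (t * t)).2 fun v => by rw [mul_smul, h2]
  rw [map_mul] at this
  exact ⟨Prod.ext (s3c _ ht (congrArg Prod.fst this)) rfl, congrArg Prod.snd this⟩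

theorem twist (τ : S6 ≃* S6) (hτ : ∀ g, sign (τ g) = sign g) :
    Pi V ((MonoidHom.prodMap (MonoidHom.id _) τ.toMonoidHom).comp π) x where
  ker g := by
    rw [← p.ker]
    simp [Prod.ext_iff]
  sur k hk := by
    obtain ⟨g, hg⟩ := p.sur (τ.symm k) (by rw [← hτ]; simpa using hk)
    exact ⟨g, by simp [hg]⟩
  hx := by simp [p.hx]

variable (h : Sp H q β)
include h

theorem five {f : H} {k : S6} (e : π f = (1, k)) (hk : k * (k * (k * (k * k))) = 1) {v0 : V} (hv : v0 ≠ 0)
    (hv0 : x • v0 = v0) {v : V} (hw : v + x • v + x • x • v = 0) : f • v = v := by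
  have hc := p.cx (p.zz e)
  have h5 : ∀ v : V, f • f • f • f • f • v = v := fun v => by
    simp only [← mul_smul]
    exact (p.ker _).1 (by simp only [map_mul, e, Prod.mk_mul_mk, mul_assoc, hk]; rfl) v
  by_contra hn
  set w := f • v + v with hw0
  have h0 : w ≠ 0 := fun e => hn (h.eq_of e)
  have hw1 : w + x • w + x • x • w = 0 := by
    have := congrArg (f • ·) hw
    simp only [smul_add, hc, smul_zero, hw0] at this ⊢
    grind
  have hN : f • f • f • f • w + f • f • f • w + f • f • w + f • w + w = 0 := by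
    simp only [hw0, smul_add, h5]
    have := h.two v
    have := h.two (f • v)
    have := h.two (f • f • v)
    have := h.two (f • f • f • v)
    have := h.two (f • f • f • f • v)
    grind
  by_cases h1 : f • f • w + (x • f • w + w) = 0
  · exact h.five_aux hc h5 hw1 h0 (h.eq_of h1) hv hv0
  · refine h.five_aux (y := x * x) (f := f) (fun v => by simp only [mul_smul, hc]) h5 ?_ h1 ?_ hv
      (by rw [mul_smul, hv0, hv0])
    · have a1 := congrArg (f • ·) hw1
      have a2 := congrArg (f • f • ·) hw1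
      have a3 := congrArg (x • f • ·) hw1
      simp only [smul_add, hc, smul_zero, mul_smul, p.x3] at a1 a2 a3 ⊢
      grind
    · have a1 := congrArg (f • ·) hw1
      have a3 := congrArg (f • f • f • ·) hw1
      simp only [smul_add, hc, smul_zero, mul_smul, p.x3] at a1 a3 ⊢
      have := h.two (f • f • w)
      have := h.two (x • f • f • f • w)
      have := h.two (x • x • f • f • f • w)
      have := h.two (x • f • w)
      have := h.two (x • x • f • w)
      have := h.two w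
      grind

theorem allA6 {t : H} {k : S6} (e : π t = (1, k)) (hk : k * k = 1) (hs : sign k = 1) {v0 : V} (hv : v0 ≠ 0)
    (hv0 : x • v0 = v0) {v : V} (hw : v + x • v + x • x • v = 0) : t • v = v := by
  by_cases h1 : k = 1
  · exact (p.ker t).1 (by rw [e, h1]; rfl) v
  obtain ⟨u, hu, hk'⟩ := conj_e0 k hk h1 hs
  have key : ∀ f : S6, sign f = 1 → f * (f * (f * (f * f))) = 1 → ∃ g, π g = (1, u⁻¹ * f * u) ∧ g • v = v := by
    intro f h1 h2
    obtain ⟨g, hg⟩ := p.sur (u⁻¹ * f * u) (by simp [h1])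
    refine ⟨g, hg, p.five h hg ?_ hv hv0 hw⟩
    rw [show u⁻¹ * f * u * (u⁻¹ * f * u * (u⁻¹ * f * u * (u⁻¹ * f * u * (u⁻¹ * f * u)))) =
      u⁻¹ * (f * (f * (f * (f * f)))) * u by group, h2]; group
  obtain ⟨g1, a1, b1⟩ := key (swap 0 2 * swap 0 1 * swap 0 3 * swap 0 4) (by decide) (by decide)
  obtain ⟨g2, a2, b2⟩ := key (swap 0 4 * swap 0 2 * swap 0 1 * swap 0 3) (by decide) (by decide)
  rw [p.act (g' := g1 * g2), mul_smul, b2, b1]
  rw [map_mul, a1, a2, e, Prod.mk_mul_mk, one_mul]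
  congr 1
  rw [show k = u⁻¹ * e0 * u by rw [← hk']; group, show e0 = (swap 0 2 * swap 0 1 * swap 0 3 * swap 0 4) *
    (swap 0 4 * swap 0 2 * swap 0 1 * swap 0 3) by decide]
  group

end Pi

namespace PD
variable {a : V} {A : Subgroup H} {R : AddSubgroup V} (d : PD q β a A R) (h : Sp H q β)
include d h

theorem iso : ∀ s ∈ R, ∀ t ∈ R, β s t = 0 := h.sing_iso d.sing

theorem a4 {t : H} (ht : t ∈ A) {v : V} (hv : ∀ r ∈ R, β r v = 0) : t • v + v = 0 ∨ t • v + v = a := by
  rw [← h.mem_ad0]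
  refine h.dp fun w hw => ?_
  rw [h.bl, h.badj, ← h.br, h.bs]
  exact hv _ (d.cm _ (inv_mem ht) w (by rw [h.bs]; exact hw a (self_ad _ _)))

theorem cR16 : Nat.card R ≤ 16 := by
  have := h.bd _ _ (d.iso h)
  nlinarith

theorem small {B : Subgroup H} (hB : B ≤ A) {T : AddSubgroup V} (hT : Nat.card T ≤ 4) (hq : ∀ r ∈ T, q r = 0)
    (hc : ∀ t ∈ B, ∀ v, t • v + v ∈ T) : Nat.card B ≤ 4 * Nat.card R := by
  have h1 := half2 B (KK H V) fun s hs t ht => by
    simp only [mem_KK]
    refine (h.siegel hT hq (hc s hs) (hc t ht)).imp_right (Or.imp_right fun e v => ?_)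
    rw [mul_smul, e, d.sq t (hB ht)]
  have h2 : Nat.card ↥(B ⊓ KK H V) ≤ Nat.card ↥(A ⊓ KK H V) := Subgroup.card_le_of_le (inf_le_inf_right _ hB)
  rw [d.cR] at h2
  omega

theorem big {B : Subgroup H} (hB : B ≤ A) (hc : 64 < Nat.card B) {r s : V} (hr : r ∈ R) (hs : s ∈ R)
    (h1 : r ∉ ad ⊥ a) (h2 : s ∉ ad (ad ⊥ a) r) (hf : ∀ t ∈ B, t • r = r ∧ t • s = s) : False := by
  have := d.cb (ad (ad (ad ⊥ a) r) s) B (ad_le (ad_le (ad_le bot_le d.mem) hr) hs) (le_ad (le_ad (self_ad _ _))) hB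
    fun t ht => ad_le (T := Fix V t) (ad_le (ad_le bot_le (d.fix t (hB ht))) (hf t ht).1) (hf t ht).2
  have c1 := card_ad (S := ⊥) (v := a) (by simpa using d.ne)
  have c2 := card_ad h1
  have c3 := card_ad h2
  rw [AddSubgroup.card_bot] at c1
  nlinarith

variable {π : H →* S36} {x : H} (p : Pi V π x)
include p

theorem cA0 : 128 ≤ Nat.card ↥(A ⊓ ZZ π) := by
  have := half A (sign.comp ((MonoidHom.fst _ _).comp π))
  rw [d.cA] at this
  exact Nat.le_of_mul_le_mul_left (c := 2) this two_pos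
theorem cA1 : 64 ≤ Nat.card ↥(A ⊓ ZZ π ⊓ ZE π) := by
  have : _ ≤ 2 * Nat.card ↥(A ⊓ ZZ π ⊓ ZE π) := half (A ⊓ ZZ π) (sign.comp ((MonoidHom.snd _ _).comp π))
  have := d.cA0 h p
  omega

theorem xa_ne : x • a ≠ a := by
  intro hxa
  obtain ⟨n1, n2⟩ := d.nor x hxa
  have hZ : ∀ t ∈ A, t ∈ ZZ π := by
    intro t ht
    obtain ⟨t', ht', e⟩ := n1 t ht
    have e1 := p.pi_eq (g := t' * x) (g' := x * t) fun v => by rw [mul_smul, mul_smul, e]
    have e2 := p.pi_eq (g := t * t') (g' := t' * t) fun v => by rw [mul_smul, mul_smul, d.com t ht t' ht']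
    simp only [map_mul, p.hx] at e1 e2
    exact s3d _ _ (congrArg Prod.fst e1) (congrArg Prod.fst e2)
  have hf : ∀ r ∈ R, r + x • r + x • x • r = 0 → ∀ t ∈ A, t • r = r := by
    intro r hr e t ht
    rcases d.a4 h ht (fun s hs => d.iso h s hs r hr) with e1 | e1
    · exact h.eq_of e1
    · refine absurd hxa (h.y_ne ?_ d.ne)
      have := congrArg (t • ·) e
      simp only [smul_add, p.cx (hZ t ht), smul_zero, ← e1] at this ⊢
      grind
  have h0 : ∀ r ∈ R, r + x • r + x • x • r = 0 → r = 0 := by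
    intro r hr e
    by_contra hn
    have e' : x • r + x • x • r + x • x • x • r = 0 := by rw [← smul_add, ← smul_add, e, smul_zero]
    have hra : r ≠ a := fun e1 => h.y_ne e hn (by rw [e1, hxa])
    refine d.big h le_rfl (by rw [d.cA]; norm_num) hr (n2 r hr) (by rw [h.mem_ad0]; tauto) ?_
      fun t ht => ⟨hf r hr e t ht, hf _ (n2 r hr) e' t ht⟩
    rw [h.mem_ad2]
    rintro (e1 | e1 | e1 | e1)
    · exact hn (by simpa [smul_eq_zero_iff_eq] using e1)
    · exact hra (by rw [← p.x3 r, e1, hxa, hxa])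
    · exact h.y_ne e hn e1
    · rw [e1, smul_add, hxa, e1] at e
      have := h.two a
      have := h.two r
      have : a = r := by grind
      exact hra this.symm
  refine p.xne (d.odd x hxa p.x3 (fun r hr => ?_) fun t ht v => (p.cx (hZ t ht) v).symm)
  have := h0 _ (add_mem (n2 r hr) (n2 _ (n2 r hr))) (by
    simp only [smul_add, p.x3]
    have := h.two r
    have := h.two (x • r)
    have := h.two (x • x • r)
    grind)
  exact (smul_left_cancel x (h.eq_of this)).symm

theorem fpf0 {v0 : V} (hv0 : x • v0 = v0) : v0 = 0 := by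
  by_contra hv
  set B := A ⊓ ZZ π ⊓ ZE π with hB
  have hBA : B ≤ A := inf_le_left.trans inf_le_left
  have h1 : ∀ t ∈ B, ∀ v, t • v + v ∈ Fix V x := by
    intro t ht v
    obtain ⟨e1, e2⟩ := p.pi1 ht.1.2 (d.sq t ht.1.1)
    have e3 := p.allA6 h e1 e2 ht.2 hv hv0 (v := x • v + x • x • v) (by
      simp only [smul_add, p.x3]
      have := h.two v
      have := h.two (x • v)
      have := h.two (x • x • v)
      grind)
    have e4 := congrArg (x • ·) e3
    rw [mem_Fix]
    simp only [smul_add, p.cx ht.1.2, p.x3] at e3 e4 ⊢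
    have := h.two (x • x • t • v)
    have := h.two (x • t • v)
    have := h.two (x • x • v)
    have := h.two (x • v)
    have := h.two v
    grind
  have h2 : ∀ t ∈ B, ∀ v, (∀ r ∈ R, β r v = 0) → t • v = v := by
    intro t ht v hv
    rcases d.a4 h (hBA ht) hv with e | e
    · exact h.eq_of e
    · exact absurd (e ▸ h1 t ht v : a ∈ Fix V x) (d.xa_ne h p)
  have h3 := d.cb R B le_rfl d.mem hBA fun t ht s hs => h2 t ht s fun r hr => d.iso h r hr s hs
  have h4 := d.cA1 h p
  rw [← hB] at h4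
  have h5 : Nat.card R ≤ 8 := by nlinarith
  have h6 := two_le (S := R ⊓ Fix V x) inf_le_left d.mem fun e => d.xa_ne h p e.2
  have := d.small h hBA (T := R ⊓ Fix V x) (by omega) (fun r hr => d.sing r hr.1) fun t ht v =>
    ⟨h.dp fun w hw => by rw [h.bl, h.badj, h2 _ (inv_mem ht) w hw]; grind, h1 t ht v⟩
  omega

theorem fpf (v : V) : v + x • v + x • x • v = 0 :=
  d.fpf0 h p (by simp only [smul_add, p.x3]; abel)

end PD

end Cfsg.Lib.N9
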