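import Cfsg.Agent.Lib.Known2.N9c

/-! The unitary structure: fixed spaces of the four-groups. -/

set_option autoImplicit false
set_option linter.unusedSectionVars false

namespace Cfsg.Lib.N9

open Equiv Equiv.Perm

variable {H V : Type*} [Group H] [AddCommGroup V] [DistribMulAction H V] [Finite H] [Finite V]
variable {q : V → ZMod 2} {β : V → V → ZMod 2}

/-- the `𝔽₄`-span -/
abbrev F4 (x : H) (a : V) : AddSubgroup V := ad (ad ⊥ a) (x • a)

/-- fixed by the lifts of `(1, k)` -/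
def Fx (π : H →* S36) (k : S6) (v : V) : Prop := ∀ g, π g = (1, k) → g • v = v

/-- `x` acts as a cube root of unity -/
def Om (V : Type*) [AddCommGroup V] [DistribMulAction H V] (x : H) : Prop := ∀ v : V, v + x • v + x • x • v = 0

namespace Sp
variable (h : Sp H q β) {x : H} (o : Om V x)
include h o

theorem xx (v : V) : x • x • v = v + x • v := (h.eq_of (o v)).symm
theorem sx {v : V} (e : q v = 0) : β v (x • v) = 0 := by
  have := h.qa v (x • v)
  rw [← h.xx o, h.qs, h.qs, e] at this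
  grind
theorem bx (v w : V) : β (x • v) w = β v w + β v (x • w) := by
  rw [← h.br, ← h.xx o, ← h.bsm x v, h.y3 (o w)]
theorem mem_F4 {a v : V} : v ∈ F4 x a ↔ v = 0 ∨ v = a ∨ v = x • a ∨ v = x • x • a := by rw [h.mem_ad2, h.xx o]
theorem F4_x {a v : V} (hv : v ∈ F4 x a) : x • v ∈ F4 x a := by
  rw [h.mem_F4 o] at hv ⊢
  rcases hv with e | e | e | e <;> rw [e]
  · simp
  · simp
  · simp
  · rw [h.y3 (o a)]; simp
theorem card_F4 (a : V) : Nat.card (F4 x a) ≤ 4 := by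
  have : Nat.card (F4 x a) ≤ _ := h.card_ad_le (ad ⊥ a) (x • a)
  have := h.card_ad_le ⊥ a
  rw [AddSubgroup.card_bot] at this
  omega
theorem sing_F4 {a : V} (e0 : q a = 0) : ∀ r ∈ F4 x a, q r = 0 := by
  intro r hr
  rcases (h.mem_F4 o).1 hr with e | e | e | e <;> rw [e]
  · exact h.q0
  · exact e0
  · rw [h.qs, e0]
  · rw [h.qs, h.qs, e0]
theorem xa_nm {a : V} (ha : a ≠ 0) : x • a ∉ ad ⊥ a := by
  rw [h.mem_ad0]; rintro (e | e)
  exacts [ha (by simpa [smul_eq_zero_iff_eq] using e), h.y_ne (o a) ha e]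
theorem fix_of_F4 {g : H} (hc : ∀ v : V, g • x • v = x • g • v) (h2 : ∀ v : V, g • g • v = v) {a : V} (ha : a ≠ 0)
    (e : g • a ∈ F4 x a) : g • a = a := by
  rcases (h.mem_F4 o).1 e with e | e | e | e
  · exact absurd (by simpa [smul_eq_zero_iff_eq] using e) ha
  · exact e
  · have := h2 a
    rw [e, hc, e] at this
    have h3 := h.y3 (o a)
    rw [this] at h3
    exact absurd h3 (h.y_ne (o a) ha)
  · have := h2 a
    rw [e, hc, hc, e, h.y3 (o _)] at this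
    exact absurd this (h.y_ne (o a) ha)
theorem fix_F4 {g : H} (hc : ∀ v : V, g • x • v = x • g • v) {a : V} (e : g • a = a) : ∀ v ∈ F4 x a, g • v = v :=
  ad_le (T := Fix V g) (ad_le bot_le e) (by rw [mem_Fix, hc, e])

end Sp

namespace PD
variable {a : V} {A : Subgroup H} {R : AddSubgroup V} (d : PD q β a A R) (h : Sp H q β)
variable {π : H →* S36} {x : H} (p : Pi V π x)
include d h p

theorem om : Om V x := d.fpf h p

theorem b0x {v : V} (h1 : β v a = 0) (h2 : β v (x • a) = 0) : β (x • v) a = 0 ∧ β (x • v) (x • a) = 0 :=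
  ⟨by rw [h.bx (d.om h p), h1, h2, add_zero], by rw [h.bsm, h1]⟩

theorem l1 {t : H} (ht : t ∈ A ⊓ ZZ π) {v : V} (h1 : β v a = 0) (h2 : β v (x • a) = 0) :
    t • v + v ∈ R ∧ x • (t • v + v) ∈ R :=
  ⟨d.cm t ht.1 v h1, by rw [smul_add, ← p.cx ht.2]; exact d.cm t ht.1 _ (d.b0x h p h1 h2).1⟩

theorem l2 {t : H} (ht : t ∈ A ⊓ ZZ π) {v : V} (h1 : ∀ r ∈ R, β r v = 0) (h2 : ∀ r ∈ R, β r (x • v) = 0) :
    t • v = v := by
  rcases d.a4 h ht.1 h1 with e | e
  · exact h.eq_of e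
  · have := d.a4 h ht.1 h2
    rw [p.cx ht.2, ← smul_add, e, ← h.mem_ad0] at this
    exact absurd this (h.xa_nm (d.om h p) d.ne)

theorem l3 {t : H} (ht : t ∈ A ⊓ ZZ π) {r : V} (h1 : r ∈ R) (h2 : x • r ∈ R) : t • r = r :=
  d.l2 h p ht (fun s hs => d.iso h s hs r h1) fun s hs => d.iso h s hs _ h2

theorem not_cB (hc : ∀ t ∈ A ⊓ ZZ π, ∀ v, β v a = 0 → β v (x • a) = 0 → t • v = v) : False := by
  have := d.small h (B := A ⊓ ZZ π) inf_le_left (h.card_F4 (d.om h p) a) (h.sing_F4 (d.om h p) (d.sing a d.mem))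
    fun t ht v => h.dp fun w hw => by
      rw [h.bl, h.badj, hc _ (inv_mem ht) w (by rw [h.bs]; exact hw _ (le_ad (self_ad _ _)))
        (by rw [h.bs]; exact hw _ (self_ad _ _))]
      grind
  have := d.cA0 h p
  have := d.cR16 h
  omega

theorem xa_mem : x • a ∈ R := by
  have o := d.om h p
  by_contra hn
  refine d.not_cB h p fun t ht v h1 h2 => h.eq_of ?_
  obtain ⟨h3, h4⟩ := d.l1 h p ht h1 h2
  generalize t • v + v = r at h3 h4
  by_contra hr
  have h5 : x • x • r ∈ R := by rw [h.xx o]; exact add_mem h3 h4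
  refine d.big h (B := A ⊓ ZZ π) inf_le_left (by have := d.cA0 h p; omega) h3 h4 ?_ ?_
    fun t ht => ⟨d.l3 h p ht h3 h4, d.l3 h p ht h4 h5⟩
  · rw [h.mem_ad0]; rintro (e | e)
    exacts [hr e, hn (e ▸ h4)]
  · rw [h.mem_ad2]; rintro (e | e | e | e)
    · exact hr (by simpa [smul_eq_zero_iff_eq] using e)
    · exact hn (e ▸ h5)
    · exact h.y_ne (o r) hr e
    · have : x • x • r = a := by rw [h.xx o, e]; have := h.two r; grind
      rw [← this, h.y3 (o r)] at hn; exact hn h3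

theorem F4_le : F4 x a ≤ R := ad_le (ad_le bot_le d.mem) (d.xa_mem h p)

theorem mem_F4_of {r : V} (hr : r ∈ R) (hf : ∀ t ∈ A ⊓ ZZ π, t • r = r) : r ∈ F4 x a := by
  by_contra hn
  exact d.big h (B := A ⊓ ZZ π) inf_le_left (by have := d.cA0 h p; omega) (d.xa_mem h p) hr
    (h.xa_nm (d.om h p) d.ne) hn fun t ht => ⟨by rw [p.cx ht.2, d.fix t ht.1], hf t ht⟩

theorem b0_of {r : V} (hr : r ∈ R) : β r a = 0 ∧ β r (x • a) = 0 :=
  ⟨d.iso h r hr a d.mem, d.iso h r hr _ (d.xa_mem h p)⟩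

theorem not_le_ad {ρ : V} (hρ : ρ ∈ R) : ¬ R ≤ ad (F4 x a) ρ := by
  have o := d.om h p
  intro hle
  have h1 : ρ ∈ F4 x a := d.mem_F4_of h p hρ fun t ht => d.l2 h p ht (fun r hr => d.iso h r hr ρ hρ) fun r hr => by
    obtain ⟨e1, e2⟩ := d.b0x h p (d.b0_of h p hρ).1 (d.b0_of h p hρ).2
    exact h.perp_ad (h.perp_ad (h.perp_ad (h.perp_bot _) (by rw [h.bs, e1])) (by rw [h.bs, e2]))
      (h.sx o (d.sing ρ hρ)) r (hle hr)
  have h2 : R ≤ F4 x a := hle.trans (ad_le le_rfl h1)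
  have h3 : ∀ v, β v a = 0 → β v (x • a) = 0 → ∀ r ∈ R, β r v = 0 := fun v e1 e2 r hr =>
    h.perp_ad (h.perp_ad (h.perp_bot _) (by rw [h.bs, e1])) (by rw [h.bs, e2]) r (h2 hr)
  exact d.not_cB h p fun t ht v e1 e2 => d.l2 h p ht (h3 v e1 e2)
    (h3 _ (d.b0x h p e1 e2).1 (d.b0x h p e1 e2).2)

theorem card16 {r s : V} (h1 : r ∉ F4 x a) (h2 : s ∉ ad (F4 x a) r) : 16 ≤ Nat.card (ad (ad (F4 x a) r) s) := by
  have c1 := card_ad (S := ⊥) (v := a) (by simpa using d.ne)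
  have c2 : _ ≤ Nat.card (F4 x a) := card_ad (h.xa_nm (d.om h p) d.ne)
  have c3 := card_ad h1
  have c4 := card_ad h2
  rw [AddSubgroup.card_bot] at c1
  omega

theorem cR_eq : Nat.card R = 16 := by
  obtain ⟨r, hr, h1⟩ := SetLike.not_le_iff_exists.1 (d.not_le_ad h p (zero_mem R))
  obtain ⟨s, hs, h2⟩ := SetLike.not_le_iff_exists.1 (d.not_le_ad h p hr)
  exact le_antisymm (d.cR16 h) ((d.card16 h p (fun e => h1 (le_ad e)) h2).trans
    (AddSubgroup.card_le_of_le (ad_le (ad_le (d.F4_le h p) hr) hs)))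

theorem triv {t : H} (ht : t ∈ A) (hf : ∀ r ∈ R, t • r = r) (v : V) : t • v = v := by
  let B : Subgroup H := A ⊓ fixingSubgroup H (R : Set V)
  have hB : ∀ t, t ∈ B ↔ t ∈ A ∧ ∀ r ∈ R, t • r = r := fun t => by simp [B, mem_fixingSubgroup_iff]
  have h1 := d.cb R B le_rfl d.mem inf_le_left fun t ht => ((hB t).1 ht).2
  have h2 := d.cR
  rw [d.cR_eq h p] at h1 h2
  have h3 : A ⊓ KK H V = B := Subgroup.eq_of_le_of_card_ge
    (fun t ht => (hB t).2 ⟨ht.1, fun r _ => mem_KK.1 ht.2 r⟩) (by omega)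
  exact mem_KK.1 (h3 ▸ (hB t).2 ⟨ht, hf⟩ : t ∈ A ⊓ KK H V).2 v

theorem perp_mem {w : V} (hw : ∀ r ∈ R, β r w = 0) : w ∈ R := by
  by_contra hn
  have h1 := h.bd _ _ (h.iso_ad (d.iso h) hw)
  have h2 := card_ad hn
  rw [d.cR_eq h p] at h2
  nlinarith

theorem dec {v : V} (h1 : β v a = 0) (h2 : β v (x • a) = 0) : ∃ r ∈ R, ∃ s ∈ R, v = r + x • s := by
  have o := d.om h p
  have : v ∈ R ⊔ R.map (DistribSMul.toAddMonoidHom V x) := h.dp fun w hw => by
    have a1 : w ∈ R := d.perp_mem h p fun r hr => hw r (AddSubgroup.mem_sup_left hr)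
    have a2 : x • w ∈ R := d.perp_mem h p fun r hr => by
      have := hw (x • r) (AddSubgroup.mem_sup_right ⟨r, hr, rfl⟩)
      rwa [h.bx o, d.iso h r hr w a1, zero_add] at this
    rw [h.bs]
    exact h.perp_ad (h.perp_ad (h.perp_bot _) (by rw [h.bs, h1])) (by rw [h.bs, h2]) w
      (d.mem_F4_of h p a1 fun t ht => d.l3 h p ht a1 a2)
  obtain ⟨r, hr, _, ⟨s, hs, rfl⟩, rfl⟩ := AddSubgroup.mem_sup.1 this
  exact ⟨r, hr, s, hs, rfl⟩

theorem b0_fix {t : H} (ht : t ∈ A ⊓ ZZ π) (hn : ¬ ∀ v : V, t • v = v) {v : V} (hv : t • v = v) :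
    β v a = 0 ∧ β v (x • a) = 0 := by
  have : ∃ r ∈ R, t • r ≠ r := by
    by_contra! hc
    exact hn (d.triv h p ht.1 hc)
  obtain ⟨r, hr, e⟩ := this
  have e1 := (d.a4 h ht.1 fun s hs => d.iso h s hs r hr).resolve_left fun e1 => e (h.eq_of e1)
  have key : ∀ v, t • v = v → β v a = 0 := fun v hv => by
    rw [← e1, h.bs, h.bl, h.badj, inv_fix hv]; grind
  have := key (x • v) (by rw [p.cx ht.2, hv])
  rw [h.bx (d.om h p), key v hv, zero_add] at this
  exact ⟨key v hv, this⟩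

theorem split {t : H} (ht : t ∈ A ⊓ ZZ π) {r s : V} (hr : r ∈ R) (hs : s ∈ R) {S : Set V}
    (h1 : x • a ∉ S) (h2 : a + x • a ∉ S) (e : t • (r + x • s) + (r + x • s) ∈ S) : t • s = s := by
  rcases d.a4 h ht.1 fun u hu => d.iso h u hu s hs with e2 | e2
  · exact h.eq_of e2
  · rw [smul_add, p.cx ht.2, add_add_add_comm, ← smul_add, e2] at e
    rcases d.a4 h ht.1 fun u hu => d.iso h u hu r hr with e1 | e1 <;> rw [e1] at e
    · exact absurd (by simpa using e) h1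
    · exact absurd e h2

theorem split' {t : H} (ht : t ∈ A ⊓ ZZ π) {r s : V} (hr : r ∈ R) (hs : s ∈ R)
    (e : t • (r + x • s) = r + x • s) : t • r = r ∧ t • s = s := by
  have o := d.om h p
  have := d.split h p ht hr hs (S := {0}) (by simpa [smul_eq_zero_iff_eq] using d.ne)
    (by simpa [← h.xx o, smul_eq_zero_iff_eq] using d.ne) (by rw [e, h.two]; rfl)
  rw [smul_add, p.cx ht.2, this] at e
  exact ⟨add_right_cancel e, this⟩

theorem exists_e : ∃ t ∈ A ⊓ ZZ π ⊓ ZE π, ¬ ∀ v : V, t • v = v := by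
  by_contra! hc
  have h1 : A ⊓ ZZ π ⊓ ZE π ≤ A ⊓ KK H V := fun t ht => ⟨ht.1.1, mem_KK.2 (hc t ht)⟩
  have := Subgroup.card_le_of_le h1
  rw [d.cR, d.cR_eq h p] at this
  have := d.cA1 h p
  omega

theorem cA0_le {v : V} (hv : ∀ t ∈ A ⊓ ZZ π, t • v = v) : v ∈ F4 x a := by
  obtain ⟨t, ht, hn⟩ := d.exists_e h p
  obtain ⟨h1, h2⟩ := d.b0_fix h p ht.1 hn (hv t ht.1)
  obtain ⟨r, hr, s, hs, rfl⟩ := d.dec h p h1 h2
  exact add_mem (d.mem_F4_of h p hr fun t ht => (d.split' h p ht hr hs (hv t ht)).1)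
    (h.F4_x (d.om h p) (d.mem_F4_of h p hs fun t ht => (d.split' h p ht hr hs (hv t ht)).2))

theorem m8 {t : H} (ht : t ∈ A ⊓ ZZ π) (hn : ¬ ∀ v : V, t • v = v) {g : H} (hg : g ∈ ZZ π) (hga : g • a = a)
    {v : V} (hv : t • v = v) (hv' : g • v = v) (hvF : v ∉ F4 x a) {w : V} (hw : t • w = w) : g • w = w := by
  have o := d.om h p
  have hF := h.fix_F4 o (p.cx hg) hga
  have tF := h.fix_F4 o (p.cx ht.2) (d.fix t ht.1)
  have k1 : ∀ r ∈ R, t • r = r → r ∉ F4 x a → ∀ s ∈ R, t • s = s → s ∈ ad (F4 x a) r := by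
    intro r hr e hrF s hs e'
    by_contra hn'
    have : ad (ad (F4 x a) r) s = R := AddSubgroup.eq_of_le_of_card_ge (ad_le (ad_le (d.F4_le h p) hr) hs)
      (by rw [d.cR_eq h p]; exact d.card16 h p hrF hn')
    exact hn (d.triv h p ht.1 (this ▸ ad_le (T := Fix V t) (ad_le tF e) e'))
  have k2 : ∃ r ∈ R, t • r = r ∧ r ∉ F4 x a ∧ g • r = r := by
    obtain ⟨h1, h2⟩ := d.b0_fix h p ht hn hv
    obtain ⟨r, hr, s, hs, rfl⟩ := d.dec h p h1 h2
    obtain ⟨e1, e2⟩ := d.split' h p ht hr hs hv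
    rw [smul_add, p.cx hg] at hv'
    by_cases a1 : r ∈ F4 x a
    · rw [hF r a1] at hv'
      exact ⟨s, hs, e2, fun a2 => hvF (add_mem a1 (h.F4_x o a2)), smul_left_cancel x (add_left_cancel hv')⟩
    · refine ⟨r, hr, e1, a1, ?_⟩
      rcases h.mem_ad.1 (k1 r hr e1 a1 s hs e2) with a2 | a2
      · rw [hF s a2] at hv'; exact add_right_cancel hv'
      · have a3 := congrArg (x • ·) (hF _ a2)
        simp only [smul_add] at a3
        apply smul_left_cancel x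
        apply smul_left_cancel x
        rw [h.xx o, h.xx o]
        have := h.two (x • g • s)
        have := h.two (x • s)
        grind
  obtain ⟨ρ, b1, b2, b3, b4⟩ := k2
  have k3 : ∀ s ∈ R, t • s = s → g • s = s := fun s hs e => ad_le (T := Fix V g) hF b4 (k1 ρ b1 b2 b3 s hs e)
  obtain ⟨h1, h2⟩ := d.b0_fix h p ht hn hw
  obtain ⟨r, hr, s, hs, rfl⟩ := d.dec h p h1 h2
  obtain ⟨e1, e2⟩ := d.split' h p ht hr hs hw
  rw [smul_add, p.cx hg, k3 r hr e1, k3 s hs e2]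

end PD

end Cfsg.Lib.N9
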