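import Cfsg.Agent.Lib.Known2.N9d

/-! The duad model of the four-dimensional `A₆`-module and the local theorem. -/

set_option autoImplicit false
set_option linter.unusedSectionVars false

namespace Cfsg.Lib.N9

open Equiv Equiv.Perm

theorem t_comm : ∀ k : S6, k * e0 = e0 * k →
    (e1⁻¹ * k * e1 = k ∨ e1⁻¹ * k * e1 = k * e0) ∧ (e2⁻¹ * k * e2 = k ∨ e2⁻¹ * k * e2 = k * e0) := by decide +kernel
def LL : List S6 := [1, e0, e1, e0 * e1, swap 0 1 * swap 4 5, swap 0 2 * swap 4 5, swap 0 3 * swap 4 5,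
  swap 1 2 * swap 4 5, swap 1 3 * swap 4 5, swap 2 3 * swap 4 5]
theorem stab_dec : ∀ k : S6, (k 4 = 4 ∧ k 5 = 5 ∨ k 4 = 5 ∧ k 5 = 4) → sign k = 1 → ∃ s ∈ LL, ∃ t ∈ LL, k = s * t := by
  decide +kernel
theorem LL_spec : ∀ s ∈ LL, sign s = 1 ∧ s * s = 1 ∧ s⁻¹ * e0 * s ∈ [e0, e1, e0 * e1] ∧ s⁻¹ * e1 * s ∈ [e0, e1, e0 * e1] := by
  decide +kernel
theorem ex2a : ∀ i j : Fin 6, i ≠ j → (swap 4 i * swap 5 (swap 4 i j)) 4 = i ∧ (swap 4 i * swap 5 (swap 4 i j)) 5 = j := by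
  decide +kernel
theorem ex3 : ∀ i j k : Fin 6, i ≠ j → i ≠ k → j ≠ k → ∃ l m n, [i, j, k, l, m, n].Nodup := by decide +kernel
theorem ex4 : ∀ i j k l : Fin 6, (i = j ∨ k = l ∨ i = k ∨ i = l ∨ j = k ∨ j = l) ∨ ∃ m n, [i, j, k, l, m, n].Nodup := by
  decide +kernel
theorem ex45 : ∀ i j : Fin 6, i ≠ j → (e0 i = i ∧ e0 j = j ∨ e0 i = j ∧ e0 j = i) → (e1 i = i ∧ e1 j = j ∨ e1 i = j ∧ e1 j = i) →
    (i = 4 ∧ j = 5 ∨ i = 5 ∧ j = 4) := by decide +kernel
theorem ex6 {i j k l m n : Fin 6} (h : [i, j, k, l, m, n].Nodup) :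
    ∃ σ : S6, σ 0 = i ∧ σ 1 = j ∧ σ 2 = k ∧ σ 3 = l ∧ σ 4 = m ∧ σ 5 = n := by
  have : Function.Injective ![i, j, k, l, m, n] := List.nodup_ofFn.1 (by simpa using h)
  exact ⟨Equiv.ofBijective _ (Finite.injective_iff_bijective.1 this), rfl, rfl, rfl, rfl, rfl, rfl⟩
def y1 : S6 := swap 0 1 * swap 1 2
def y2 : S6 := swap 0 2 * swap 2 4 * swap 1 3 * swap 3 5
def g0 : S6 := swap 0 4 * swap 3 5

theorem ex6e {i j k l m n : Fin 6} (h : [i, j, k, l, m, n].Nodup) :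
    ∃ σ : S6, sign σ = 1 ∧ σ 0 = i ∧ σ 1 = j ∧ σ 2 = k ∧ σ 3 = l ∧ (σ 4 = m ∧ σ 5 = n ∨ σ 4 = n ∧ σ 5 = m) := by
  obtain ⟨σ, a, b, c, d, e, f⟩ := ex6 h
  rcases Int.units_eq_one_or (sign σ) with s | s
  · exact ⟨σ, s, a, b, c, d, Or.inl ⟨e, f⟩⟩
  · exact ⟨σ * swap 4 5, by simp [s], a, b, c, d, Or.inr ⟨f, e⟩⟩

theorem ex2 {i j : Fin 6} (h : i ≠ j) : ∃ k : S6, sign k = 1 ∧ k 4 = i ∧ k 5 = j := by
  obtain ⟨a, b⟩ := ex2a i j h
  generalize swap 4 i * swap 5 (swap 4 i j) = σ at a b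
  rcases Int.units_eq_one_or (sign σ) with s | s
  · exact ⟨σ, s, a, b⟩
  · exact ⟨σ * swap 0 1, by simp [s], a, b⟩

theorem idx16 : Fintype.card {p : Fin 6 × Fin 6 // p.1 < p.2 ∨ p = (0, 0)} = 16 := by decide +kernel
theorem idx_inj : ∀ i j k l : Fin 6, (i < j ∨ (i, j) = (0, 0)) → (k < l ∨ (k, l) = (0, 0)) →
    (i = j ∧ k = l ∨ i = k ∧ j = l ∨ i = l ∧ j = k) → (i, j) = (k, l) := by decide +kernel

variable {H V : Type*} [Group H] [AddCommGroup V] [DistribMulAction H V] [Finite H] [Finite V]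
variable {q : V → ZMod 2} {β : V → V → ZMod 2} {π : H →* S36} {x : H}

abbrev tw (π : H →* S36) (τ : S6 ≃* S6) : H →* S36 := (MonoidHom.prodMap (MonoidHom.id _) τ.toMonoidHom).comp π

theorem tw_eq {τ : S6 ≃* S6} {g : H} {k : S6} : tw π τ g = (1, k) ↔ π g = (1, τ.symm k) := by
  simp [Prod.ext_iff, MulEquiv.eq_symm_apply]

theorem fx_tw {τ : S6 ≃* S6} {k : S6} {v : V} : Fx (tw π τ) k v ↔ Fx π (τ.symm k) v := by
  simp only [Fx, tw_eq]

namespace Pi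
variable (p : Pi V π x)
include p

theorem fx_of {g : H} {k : S6} (e : π g = (1, k)) {v : V} (hv : g • v = v) : Fx π k v := fun g' e' => by
  rw [p.act (e'.trans e.symm), hv]
theorem fx_conj {u : H} {y k : S6} (e : π u = (1, y)) {v : V} (hv : Fx π (y⁻¹ * k * y) v) : Fx π k (u • v) := by
  intro g hg
  have := hv (u⁻¹ * g * u) (by simp [e, hg])
  rwa [mul_smul, mul_smul, inv_smul_eq_iff] at this
theorem fx_mul {k k' : S6} (h1 : sign k = 1) (h2 : sign k' = 1) {v : V} (a : Fx π k v) (b : Fx π k' v) :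
    Fx π (k * k') v := by
  obtain ⟨g, hg⟩ := p.sur k h1
  obtain ⟨g', hg'⟩ := p.sur k' h2
  exact p.fx_of (g := g * g') (by simp [hg, hg']) (by rw [mul_smul, b g' hg', a g hg])
theorem sq_of {g : H} {k : S6} (e : π g = (1, k)) (hk : k * k = 1) (v : V) : g • g • v = v := by
  rw [← mul_smul]; exact (p.ker _).1 (by simp [e, hk]) v

end Pi

namespace PD
variable {a : V} {A : Subgroup H} {R : AddSubgroup V} (d : PD q β a A R) (h : Sp H q β) (p : Pi V π x)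
include d h p

theorem nor' {g t : H} {k l : S6} (ht : t ∈ A) (e : π t = (1, l)) (hg : π g = (1, k)) (ha : g • a = a) :
    ∃ t' ∈ A, π t' = (1, k * l * k⁻¹) := by
  obtain ⟨t', ht', e'⟩ := (d.nor g ha).1 t ht
  have := p.pi_eq (g := t' * g) (g' := g * t) fun v => by rw [mul_smul, mul_smul, e']
  rw [map_mul, map_mul, ← eq_mul_inv_iff_mul_eq, e, hg] at this
  exact ⟨t', ht', by simpa using this⟩

theorem nofix {t : H} (ht : t ∈ A) (e : π t = (1, e0)) {k : S6} (hk : sign k = 1)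
    (hn : k * e0 * k⁻¹ * e0 ≠ e0 * (k * e0 * k⁻¹)) : ¬ Fx π k a := fun hf => by
  obtain ⟨g, hg⟩ := p.sur k hk
  obtain ⟨t', ht', e'⟩ := d.nor' h p ht e hg (hf g hg)
  have := p.pi_eq (g := t' * t) (g' := t * t') fun v => by rw [mul_smul, mul_smul, d.com t' ht' t ht]
  rw [map_mul, map_mul, e, e'] at this
  exact hn (congrArg Prod.snd this)

theorem exists_t : ∃ t ∈ A, ∃ u : S6, sign u = 1 ∧ tw π (MulAut.conj u) t = (1, e0) := by
  obtain ⟨t, ht, hn⟩ := d.exists_e h p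
  obtain ⟨e1, e2⟩ := p.pi1 ht.1.2 (d.sq t ht.1.1)
  obtain ⟨u, hu, e⟩ := conj_e0 _ e2 (fun e3 => hn ((p.ker t).1 (by rw [e1, e3]; rfl))) ht.2
  exact ⟨t, ht.1.1, u, hu, by rw [tw_eq, e1, ← e]; simp [mul_assoc]⟩

theorem step3 {t0 : H} (ht : t0 ∈ A) (e : π t0 = (1, e0)) : Fx π e1 a ∧ Fx π e2 a ∧
    ((∀ v, Fx π e0 v → Fx π e1 v → v ∈ F4 x a) ∨ ∀ v, Fx π e0 v → Fx π e2 v → v ∈ F4 x a) := by
  have o := d.om h p
  have key : ∀ s : S6, s * s = 1 → (∀ k : S6, k * e0 = e0 * k → s⁻¹ * k * s = k ∨ s⁻¹ * k * s = k * e0) →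
      Fx π s a := by
    intro s h2 hs g hg
    refine h.fix_of_F4 o (p.cx (p.zz hg)) (p.sq_of hg h2) d.ne (d.cA0_le h p fun t ht' => ?_)
    obtain ⟨e1, -⟩ := p.pi1 ht'.2 (d.sq t ht'.1)
    have e2 := p.pi_eq (g := t * t0) (g' := t0 * t) fun v => by rw [mul_smul, mul_smul, d.com t ht'.1 t0 ht]
    rw [map_mul, map_mul, e, e1] at e2
    refine p.fx_conj hg ?_ t e1
    rcases hs _ (congrArg Prod.snd e2) with e3 | e3 <;> rw [e3]
    · exact p.fx_of e1 (d.fix t ht'.1)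
    · exact p.fx_of (g := t * t0) (by rw [map_mul, e, e1]; simp) (d.fix _ (mul_mem ht'.1 ht))
  have f1 := key e1 (by decide) fun k hk => (t_comm k hk).1
  have f2 := key e2 (by decide) fun k hk => (t_comm k hk).2
  refine ⟨f1, f2, ?_⟩
  by_contra! hc
  obtain ⟨⟨v1, a1, a2, a3⟩, v2, b1, b2, b3⟩ := hc
  have hn : ¬ ∀ v : V, t0 • v = v := fun e1 => by
    have := (p.ker t0).2 e1
    rw [e] at this; revert this; decide
  have m1 : ∀ w, Fx π e0 w → Fx π e1 w := fun w hw g hg =>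
    d.m8 h p ⟨ht, p.zz e⟩ hn (p.zz hg) (f1 g hg) (a1 t0 e) (a2 g hg) a3 (hw t0 e)
  have m2 : ∀ w, Fx π e0 w → Fx π e2 w := fun w hw g hg =>
    d.m8 h p ⟨ht, p.zz e⟩ hn (p.zz hg) (f2 g hg) (b1 t0 e) (b2 g hg) b3 (hw t0 e)
  obtain ⟨u1, hu1⟩ := p.sur y1 (by decide)
  obtain ⟨u2, hu2⟩ := p.sur y2 (by decide)
  have c1 : Fx π e0 (u1 • a) := p.fx_conj hu1 (by rwa [show y1⁻¹ * e0 * y1 = e1 by decide])
  have c2 : Fx π e0 (u2 • u1 • a) := p.fx_conj hu2 (by rw [show y2⁻¹ * e0 * y2 = e2 by decide]; exact m2 _ c1)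
  have c3 := p.fx_conj (u := (u2 * u1)⁻¹) (y := (y2 * y1)⁻¹) (k := (y2 * y1)⁻¹ * e1 * (y2 * y1)) (by simp [hu1, hu2])
    (v := u2 • u1 • a) (by rw [show (y2 * y1)⁻¹⁻¹ * ((y2 * y1)⁻¹ * e1 * (y2 * y1)) * (y2 * y1)⁻¹ = e1 by group]; exact m1 _ c2)
  rw [← mul_smul u2, inv_smul_smul] at c3
  exact d.nofix h p ht e (by decide +kernel) (by decide +kernel) c3

end PD

/-- type one configuration -/
structure T1 (π : H →* S36) (x : H) (a : V) : Prop where
  ne : a ≠ 0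
  f0 : Fx π e0 a
  f1 : Fx π e1 a
  cv : ∀ v, Fx π e0 v → Fx π e1 v → v ∈ F4 x a

namespace T1
variable {a : V} (T : T1 π x a) (h : Sp H q β) (p : Pi V π x) (o : Om V x)
include T h p o

theorem stab {k : S6} (hk : sign k = 1) (e : k 4 = 4 ∧ k 5 = 5 ∨ k 4 = 5 ∧ k 5 = 4) : Fx π k a := by
  have h3 : ∀ l ∈ [e0, e1, e0 * e1], Fx π l a := by
    simp only [List.mem_cons, List.not_mem_nil, or_false, forall_eq_or_imp, forall_eq]
    exact ⟨T.f0, T.f1, p.fx_mul (by decide) (by decide) T.f0 T.f1⟩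
  have key : ∀ s ∈ LL, Fx π s a := fun s hs g hg => by
    obtain ⟨-, a2, a3, a4⟩ := LL_spec s hs
    exact h.fix_of_F4 o (p.cx (p.zz hg)) (p.sq_of hg a2) T.ne (T.cv _ (p.fx_conj hg (h3 _ a3)) (p.fx_conj hg (h3 _ a4)))
  obtain ⟨s, hs, t, ht, rfl⟩ := stab_dec k e hk
  exact p.fx_mul (LL_spec s hs).1 (LL_spec t ht).1 (key s hs) (key t ht)

theorem exists_v : ∃ v : Fin 6 → Fin 6 → V, (∀ i, v i i = 0) ∧ (∀ i j, v i j = v j i) ∧ v 4 5 = a ∧
    (∀ g k, π g = (1, k) → sign k = 1 → ∀ i j, g • v i j = v (k i) (k j)) ∧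
    ∀ i j, i ≠ j → ∃ g k, π g = (1, k) ∧ sign k = 1 ∧ k 4 = i ∧ k 5 = j ∧ v i j = g • a := by
  classical
  let P : Fin 6 → Fin 6 → H → Prop := fun i j g => ∃ k, π g = (1, k) ∧ sign k = 1 ∧ k 4 = i ∧ k 5 = j
  let v : Fin 6 → Fin 6 → V := fun i j => if hh : ∃ g, P i j g then hh.choose • a else 0
  have k1 : ∀ g g' k k', π g = (1, k) → π g' = (1, k') → sign k = 1 → sign k' = 1 →
      (k 4 = k' 4 ∧ k 5 = k' 5 ∨ k 4 = k' 5 ∧ k 5 = k' 4) → g • a = g' • a := by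
    intro g g' k k' a1 a2 a3 a4 a5
    have := T.stab h p o (k := k'⁻¹ * k) (by simp [a3, a4]) (by
      simp only [Perm.mul_apply, Perm.inv_eq_iff_eq]; exact a5) (g'⁻¹ * g) (by simp [a1, a2])
    rwa [mul_smul, inv_smul_eq_iff] at this
  have k2 : ∀ i j g, P i j g → v i j = g • a := by
    intro i j g hg
    have hh : ∃ g, P i j g := ⟨g, hg⟩
    obtain ⟨k, a1, a2, a3, a4⟩ := hg
    obtain ⟨k', b1, b2, b3, b4⟩ := hh.choose_spec
    simp only [v, dif_pos hh]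
    exact k1 _ _ _ _ b1 a1 b2 a2 (Or.inl ⟨b3.trans a3.symm, b4.trans a4.symm⟩)
  have k3 : ∀ i j, i ≠ j → ∃ g, P i j g := fun i j hij => by
    obtain ⟨k, a1, a2, a3⟩ := ex2 hij
    obtain ⟨g, hg⟩ := p.sur k a1
    exact ⟨g, k, hg, a1, a2, a3⟩
  have k4 : ∀ i, v i i = 0 := fun i => dif_neg (by
    rintro ⟨g, k, -, -, a3, a4⟩
    exact absurd (k.injective (a3.trans a4.symm)) (by decide))
  refine ⟨v, k4, fun i j => ?_, ?_, fun g k a1 a2 i j => ?_, fun i j hij => ?_⟩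
  · by_cases hij : i = j
    · rw [hij]
    · obtain ⟨g, hg⟩ := k3 i j hij
      obtain ⟨g', hg'⟩ := k3 j i (Ne.symm hij)
      rw [k2 _ _ _ hg, k2 _ _ _ hg']
      obtain ⟨k, a1, a2, a3, a4⟩ := hg
      obtain ⟨k', b1, b2, b3, b4⟩ := hg'
      exact k1 _ _ _ _ a1 b1 a2 b2 (Or.inr ⟨a3.trans b4.symm, a4.trans b3.symm⟩)
  · rw [k2 4 5 1 ⟨1, map_one π, by simp, rfl, rfl⟩, one_smul]
  · by_cases hij : i = j
    · rw [hij, k4, k4, smul_zero]
    · obtain ⟨g', k', b1, b2, b3, b4⟩ := k3 i j hij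
      rw [k2 _ _ g' ⟨k', b1, b2, b3, b4⟩, ← mul_smul,
        k2 _ _ (g * g') ⟨k * k', by simp [a1, b1], by simp [a2, b2], by simp [b3], by simp [b4]⟩]
  · obtain ⟨g, k, a1, a2, a3, a4⟩ := k3 i j hij
    exact ⟨g, k, a1, a2, a3, a4, k2 _ _ _ ⟨k, a1, a2, a3, a4⟩⟩

theorem exists_U (hq : q a = 0) (hg : ¬ Fx π g0 a) : ∃ U : AddSubgroup V, a ∈ U ∧ (∀ u ∈ U, u ≠ 0 → ∃ g : H, u = g • a) ∧
    (∀ g k, π g = (1, k) → sign k = 1 → ∀ u ∈ U, g • u ∈ U) ∧ (∀ u ∈ U, x • u ∈ U → u = 0) ∧ Nat.card U = 16 ∧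
    ∃ b ∈ U, ∃ c ∈ U, b ≠ 0 ∧ c ≠ 0 ∧ b ≠ c ∧ Fx π e0 b ∧ Fx π e2 b ∧ Fx π e0 c ∧ Fx π e2 c := by
  obtain ⟨v, v0, vs, va, ve, vg⟩ := T.exists_v h p o
  have vn : ∀ i j, i ≠ j → v i j ≠ 0 := fun i j hij e => by
    obtain ⟨g, -, -, -, -, -, e'⟩ := vg i j hij
    exact T.ne (by simpa [e', smul_eq_zero_iff_eq] using e)
  obtain ⟨γ, hγ⟩ := p.sur g0 (by decide)
  have n03 : v 0 3 ≠ a := fun e => hg (p.fx_of hγ (by
    have := ve γ g0 hγ (by decide) 4 5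
    rw [va] at this; exact this.trans e))
  obtain ⟨u2, hu2⟩ := p.sur y2 (by decide)
  have base : v 0 1 + v 2 3 + v 4 5 = 0 := by
    have a1 : u2 • v 0 1 = v 2 3 := ve _ _ hu2 (by decide) 0 1
    have a2 : u2 • v 2 3 = v 4 5 := ve _ _ hu2 (by decide) 2 3
    have a3 : u2 • v 4 5 = v 0 1 := ve _ _ hu2 (by decide) 4 5
    have hc := p.cx (p.zz hu2)
    have t1 := h.two (v 0 1)
    have t2 := h.two (v 2 3)
    have t3 := h.two (v 4 5)
    rcases (h.mem_F4 o).1 (T.cv (v 0 1 + v 2 3) (fun g hg => by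
      rw [smul_add, ve g _ hg (by decide), ve g _ hg (by decide)]
      exact congrArg₂ _ (vs 1 0) (vs 3 2)) (fun g hg => by
      rw [smul_add, ve g _ hg (by decide), ve g _ hg (by decide)]
      exact add_comm _ _)) with e | e | e | e
    · obtain ⟨σ, s, b0, b1, b2, b3, -⟩ := ex6e (show [0, 3, 4, 5, 1, 2].Nodup by decide)
      obtain ⟨g, hg⟩ := p.sur σ s
      have := congrArg (g • ·) (h.eq_of e)
      simp only [ve g σ hg s, b0, b1, b2, b3] at this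
      exact absurd (this.trans va) n03
    · rw [e, va, h.two]
    · rw [← va] at e
      have e1 := congrArg (u2 • ·) e
      have e2 := congrArg (u2 • ·) e1
      simp only [smul_add, hc, a1, a2, a3] at e1 e2
      apply smul_left_cancel x
      simp only [smul_add, smul_zero]
      grind
    · rw [← va] at e
      have e1 := congrArg (u2 • ·) e
      have e2 := congrArg (u2 • ·) e1
      simp only [smul_add, hc, a1, a2, a3] at e1 e2
      apply smul_left_cancel x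
      apply smul_left_cancel x
      simp only [smul_add, smul_zero]
      grind
  have R1 : ∀ i j k l m n, [i, j, k, l, m, n].Nodup → v i j + v k l + v m n = 0 := by
    intro i j k l m n hn
    obtain ⟨σ, s, b0, b1, b2, b3, b4⟩ := ex6e hn
    obtain ⟨g, hg⟩ := p.sur σ s
    have := congrArg (g • ·) base
    simp only [smul_add, smul_zero, ve g σ hg s, b0, b1, b2, b3] at this
    rcases b4 with ⟨b4, b5⟩ | ⟨b4, b5⟩ <;> rw [b4, b5] at this
    · exact this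
    · rwa [vs m]
  have c0 : v 0 1 + v 0 2 + v 1 2 = 0 := by
    have r1 := R1 0 2 1 3 4 5 (by decide)
    have r2 := R1 1 2 0 3 4 5 (by decide)
    have r3 := R1 0 1 2 4 3 5 (by decide)
    have r4 := R1 0 2 1 4 3 5 (by decide)
    have t1 := h.two (v 0 1)
    have t2 := h.two (v 0 2)
    have t3 := h.two (v 4 5)
    have t4 := h.two (v 1 2)
    have t5 := h.two (v 3 5)
    have hc := p.cx (p.zz hγ)
    have f : γ • (v 0 1 + v 0 2 + v 1 2) = v 0 1 + v 0 2 + v 1 2 := by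
      simp only [smul_add, ve γ _ hγ (by decide)]
      show v 4 1 + v 4 2 + v 1 2 = _
      rw [vs 4 1, vs 4 2]; linear_combination (norm := abel) r3 + r4 - t5 - t1 - t2
    have ha : γ • a ≠ a := fun e => hg (p.fx_of hγ e)
    rcases (h.mem_F4 o).1 (T.cv (v 0 1 + v 0 2 + v 1 2) (fun g hg => by
      simp only [smul_add, ve g _ hg (by decide)]
      show v 1 0 + v 1 3 + v 0 3 = _
      rw [vs 1 0]; linear_combination (norm := abel) r1 + r2 - t3 - t2 - t4) (fun g hg => by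
      simp only [smul_add, ve g _ hg (by decide)]
      show v 2 3 + v 2 0 + v 3 0 = _
      rw [vs 2 0, vs 3 0]; linear_combination (norm := abel) base + r2 - t3 - t1 - t4)) with e | e | e | e
    · exact e
    · exact absurd (e ▸ f) ha
    · rw [e, hc] at f; exact absurd (smul_left_cancel x f) ha
    · rw [e, hc, hc] at f; exact absurd (smul_left_cancel x (smul_left_cancel x f)) ha
  have Rc : ∀ i j k, v i j + v i k = v j k := by
    intro i j k
    by_cases hij : i = j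
    · rw [hij, v0, zero_add]
    by_cases hik : i = k
    · rw [hik, v0, add_zero, vs]
    by_cases hjk : j = k
    · rw [hjk, v0, h.two]
    obtain ⟨l, m, n, hn⟩ := ex3 i j k hij hik hjk
    obtain ⟨σ, s, b0, b1, b2, -⟩ := ex6e hn
    obtain ⟨g, hg⟩ := p.sur σ s
    have := congrArg (g • ·) c0
    simp only [smul_add, smul_zero, ve g σ hg s, b0, b1, b2] at this
    exact h.eq_of this
  have cl : ∀ i j k l, ∃ m n, v i j + v k l = v m n ∧ (m = n → i = j ∧ k = l ∨ i = k ∧ j = l ∨ i = l ∧ j = k) := by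
    intro i j k l
    rcases ex4 i j k l with (rfl | rfl | rfl | rfl | rfl | rfl) | ⟨m, n, hn⟩
    · exact ⟨k, l, by rw [v0, zero_add], by tauto⟩
    · exact ⟨i, j, by rw [v0, add_zero], by tauto⟩
    · exact ⟨j, l, Rc _ _ _, by tauto⟩
    · exact ⟨j, k, by rw [vs k, Rc], by tauto⟩
    · exact ⟨i, l, by rw [vs i, Rc], by tauto⟩
    · exact ⟨i, k, by rw [vs i, vs k, Rc], by tauto⟩
    · exact ⟨m, n, h.eq_of (R1 _ _ _ _ _ _ hn), fun e => by simp [e] at hn⟩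
  have vi : ∀ i j k l, v i j = v k l → i = j ∧ k = l ∨ i = k ∧ j = l ∨ i = l ∧ j = k := fun i j k l e => by
    obtain ⟨m, n, e1, e2⟩ := cl i j k l
    rw [e, h.two] at e1
    exact e2 (by_contra fun hn => vn m n hn e1.symm)
  let U : AddSubgroup V :=
    { carrier := {u | ∃ i j, u = v i j}
      zero_mem' := ⟨0, 0, (v0 0).symm⟩
      add_mem' := by
        rintro _ _ ⟨i, j, rfl⟩ ⟨k, l, rfl⟩
        obtain ⟨m, n, e, -⟩ := cl i j k l
        exact ⟨m, n, e⟩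
      neg_mem' := fun {u} hu => by rwa [h.neg] }
  have U1 : ∀ u ∈ U, u ≠ 0 → ∃ g : H, u = g • a := by
    rintro _ ⟨i, j, rfl⟩ hn
    obtain ⟨g, -, -, -, -, -, e⟩ := vg i j (by rintro rfl; exact hn (v0 i))
    exact ⟨g, e⟩
  refine ⟨U, ⟨4, 5, va.symm⟩, U1, ?_, ?_, le_antisymm ?_ ?_, v 0 1, ⟨0, 1, rfl⟩, v 2 3, ⟨2, 3, rfl⟩, vn _ _ (by decide),
    vn _ _ (by decide), fun e => absurd (vi _ _ _ _ e) (by decide), fun g hg => ?_, fun g hg => ?_, fun g hg => ?_,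
    fun g hg => ?_⟩
  · rintro g k a1 a2 _ ⟨i, j, rfl⟩
    exact ⟨_, _, ve g k a1 a2 i j⟩
  · rintro _ ⟨i, j, rfl⟩ ⟨k, l, e⟩
    by_contra hn
    have hkl : k ≠ l := by
      rintro rfl
      rw [v0] at e; exact hn (by simpa [smul_eq_zero_iff_eq] using e)
    obtain ⟨g, σ, a1, a2, -, -, e'⟩ := vg k l hkl
    have e2 : x • v (σ⁻¹ i) (σ⁻¹ j) = a := by
      rw [← ve g⁻¹ σ⁻¹ (by simp [a1]) (by simp [a2]), ← p.cx (inv_mem (p.zz a1)), e, e', inv_smul_smul]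
    have hij : σ⁻¹ i ≠ σ⁻¹ j := fun e3 => T.ne (by rw [← e2, e3, v0, smul_zero])
    generalize σ⁻¹ i = i at e2 hij
    generalize σ⁻¹ j = j at e2 hij
    have key : ∀ s : S6, sign s = 1 → Fx π s a → (s i = i ∧ s j = j ∨ s i = j ∧ s j = i) := by
      intro s hs hf
      obtain ⟨g, hg⟩ := p.sur s hs
      have := hf g hg
      rw [← e2, p.cx (p.zz hg), ve g s hg hs] at this
      exact (vi _ _ _ _ (smul_left_cancel x this)).resolve_left fun e => hij e.2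
    rcases ex45 i j hij (key e0 (by decide) T.f0) (key e1 (by decide) T.f1) with ⟨rfl, rfl⟩ | ⟨rfl, rfl⟩
    · rw [va] at e2; exact h.y_ne (o a) T.ne e2
    · rw [vs, va] at e2; exact h.y_ne (o a) T.ne e2
  · have := h.bd U U (h.sing_iso fun u hu => by
      by_cases e : u = 0
      · rw [e, h.q0]
      · obtain ⟨g, rfl⟩ := U1 u hu e
        rw [h.qs, hq])
    nlinarith
  · rw [← idx16, ← Nat.card_eq_fintype_card]
    refine Nat.card_le_card_of_injective (fun r => (⟨v r.1.1 r.1.2, _, _, rfl⟩ : U)) ?_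
    rintro ⟨⟨i, j⟩, h1⟩ ⟨⟨k, l⟩, h2⟩ e
    exact Subtype.ext (idx_inj i j k l h1 h2 (vi _ _ _ _ (congrArg Subtype.val e)))
  · rw [ve g _ hg (by decide)]; exact vs 1 0
  · rw [ve g _ hg (by decide)]; exact vs 1 0
  · rw [ve g _ hg (by decide)]; exact vs 3 2
  · rw [ve g _ hg (by decide)]; rfl

end T1

structure Loc (q : V → ZMod 2) (β : V → V → ZMod 2) (x : H) (a : V) (U : AddSubgroup V) : Prop where
  mem : a ∈ U
  orb : ∀ u ∈ U, u ≠ 0 → ∃ g : H, u = g • a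
  card : Nat.card U = 16
  dj : ∀ u ∈ U, x • u ∈ U → u = 0
  dec : ∀ v, ∃ u ∈ U, ∃ u' ∈ U, v = u + x • u'
  pd : ∀ (b : V) (A : Subgroup H) (R : AddSubgroup V), PD q β b A R →
    (∃ u ∈ U, b ∈ F4 x u) ∧ (b ∈ U → ∀ u ∈ U, β u (x • b) = 0 → u ∈ R)

theorem Sp.F4_symm (h : Sp H q β) (o : Om V x) {a b : V} (ha : a ≠ 0) (e : a ∈ F4 x b) : b ∈ F4 x a := by
  rw [h.mem_F4 o] at e ⊢
  rcases e with e | e | e | e
  · exact absurd e ha
  · simp [e]
  · rw [e, h.y3 (o b)]; simp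
  · rw [e, h.y3 (o b)]; simp

namespace PD
variable {a : V} {A : Subgroup H} {R : AddSubgroup V} (d : PD q β a A R) (h : Sp H q β) (p : Pi V π x)
include d h p

theorem loc1 {t0 : H} (ht : t0 ∈ A) (e : π t0 = (1, e0)) (cv : ∀ v, Fx π e0 v → Fx π e1 v → v ∈ F4 x a) :
    ∃ U, Loc q β x a U := by
  have o := d.om h p
  have T : T1 π x a := ⟨d.ne, p.fx_of e (d.fix _ ht), (d.step3 h p ht e).1, cv⟩
  obtain ⟨U, U0, U1, U2, U3, U4, b1, hb1, b2, hb2, n1, n2, n3, f1, f2, f3, f4⟩ := T.exists_U h p o (d.sing a d.mem)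
    (d.nofix h p ht e (by decide) (by decide))
  have U5 : ∀ u ∈ U, x • x • u ∈ U → u = 0 := fun u hu e => U3 u hu (by
    have := add_mem hu e
    rwa [h.xx o, ← add_assoc, h.two, zero_add] at this)
  refine ⟨U, U0, U1, U4, U3, fun v => ?_, fun b A' R' d' => ?_⟩
  · have : Function.Bijective fun r : U × U => (r.1 : V) + x • (r.2 : V) := by
      refine (Nat.bijective_iff_injective_and_card _).2 ⟨?_, by rw [Nat.card_prod, U4, h.card]⟩
      rintro ⟨u1, u2⟩ ⟨w1, w2⟩ e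
      simp only at e
      have e1 : x • ((u2 : V) + w2) = u1 + w1 := by
        rw [smul_add]
        linear_combination (norm := abel) e - h.two (u1 : V) + h.two (x • (w2 : V))
      have e2 := h.eq_of (U3 _ (add_mem u2.2 w2.2) (e1 ▸ add_mem u1.2 w1.2))
      rw [e2] at e
      exact Prod.ext (Subtype.ext (add_right_cancel e)) (Subtype.ext e2)
    obtain ⟨⟨u1, u2⟩, rfl⟩ := this.2 v
    exact ⟨u1, u1.2, u2, u2.2, rfl⟩
  · obtain ⟨t, ht', u, hu, e'⟩ := d'.exists_t h p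
    have p' := p.twist (MulAut.conj u) fun g => by simp [hu]
    obtain ⟨g, hg⟩ := p.sur u⁻¹ (by simpa using hu)
    have hf : ∀ k v, Fx π k v → Fx (tw π (MulAut.conj u)) k (g • v) := fun k v hv =>
      fx_tw.2 (p.fx_conj hg (by simpa [mul_assoc] using hv))
    have hU : ∀ v ∈ U, g • v ∈ U := U2 g _ hg (by simpa using hu)
    obtain ⟨s1, -, s3 | s3⟩ := d'.step3 h p' ht' e'
    · refine ⟨⟨g • a, hU a U0, h.F4_symm o (by simpa [smul_eq_zero_iff_eq] using d.ne)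
        (s3 _ (hf _ _ T.f0) (hf _ _ T.f1))⟩, fun hb w hw hbw => ?_⟩
      have T' : T1 (tw π (MulAut.conj u)) x b := ⟨d'.ne, p'.fx_of e' (d'.fix _ ht'), s1, s3⟩
      obtain ⟨y, hy⟩ := p'.sur (swap 1 2 * swap 4 5) (by decide)
      obtain ⟨t1, ht1, e1'⟩ := d'.nor' h p' ht' e' hy (T'.stab h p' o (by decide) (by decide) y hy)
      rw [show swap 1 2 * swap 4 5 * e0 * (swap 1 2 * swap 4 5)⁻¹ = e1 by decide] at e1'
      have iso := h.sing_iso (T := U) fun u hu => by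
        by_cases e : u = 0
        · rw [e, h.q0]
        · obtain ⟨g, rfl⟩ := U1 u hu e
          rw [h.qs, d.sing a d.mem]
      obtain ⟨r, hr, s, hs, rfl⟩ := d'.dec h p (iso w hw b hb) hbw
      have key : ∀ t ∈ A', ∀ k, sign k = 1 → tw π (MulAut.conj u) t = (1, k) → Fx (tw π (MulAut.conj u)) k s := by
        intro t ht k hk e
        refine p'.fx_of e (d'.split h p' ⟨ht, p'.zz e⟩ hr hs (S := U) (fun e => d'.ne (U3 b hb e))
          (fun e => d'.ne (U5 b hb (by rwa [h.xx o]))) ?_)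
        exact add_mem (U2 t _ (tw_eq.1 e) (by simp [hu, hk]) _ hw) hw
      exact add_mem hr (d'.F4_le h p (h.F4_x o (s3 s (key t ht' _ (by decide) e') (key t1 ht1 _ (by decide) e1'))))
    · exfalso
      have a1 := s3 _ (hf _ _ f1) (hf _ _ f2)
      have a2 := s3 _ (hf _ _ f3) (hf _ _ f4)
      have m1 : g • b1 ≠ 0 := by simpa [smul_eq_zero_iff_eq] using n1
      have m2 : g • b2 ≠ 0 := by simpa [smul_eq_zero_iff_eq] using n2
      have a3 : g • b2 ∈ F4 x (g • b1) := by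
        have a4 := h.F4_symm o m1 a1
        exact ad_le (ad_le bot_le a4) (h.F4_x o a4) a2
      rcases (h.mem_F4 o).1 a3 with e | e | e | e
      · exact m2 e
      · exact n3 (smul_left_cancel g e).symm
      · exact m1 (U3 _ (hU _ hb1) (e ▸ hU _ hb2))
      · exact m1 (U5 _ (hU _ hb1) (e ▸ hU _ hb2))

theorem loc : ∃ U, Loc q β x a U := by
  obtain ⟨t, ht, u, hu, e⟩ := d.exists_t h p
  have p' := p.twist (MulAut.conj u) fun g => by simp [hu]
  obtain ⟨-, -, s3 | s3⟩ := d.step3 h p' ht e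
  · exact d.loc1 h p' ht e s3
  · obtain ⟨τ, h1, h2, h3⟩ := exists_tau
    have a0 : τ.symm e0 = e0 := by rw [MulEquiv.symm_apply_eq, h2]
    have a1 : τ.symm e1 = e2 := by rw [MulEquiv.symm_apply_eq, h3]
    refine d.loc1 h (p'.twist τ h1) ht (tw_eq.2 (by rw [a0]; exact e)) fun v f0 f1 => s3 v ?_ ?_
    · exact a0 ▸ fx_tw.1 f0
    · exact a1 ▸ fx_tw.1 f1

end PD

namespace Loc
variable {a : V} {U : AddSubgroup V} (L : Loc q β x a U) (h : Sp H q β) (o : Om V x)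
include L h o

theorem c6 {b c : V} (hb : b ∈ U) (b0 : b ≠ 0) (hc : ∃ u ∈ U, c ∈ F4 x u) (hd : ∃ u ∈ U, b + c ∈ F4 x u) :
    c ∈ U ∨ c = x • b ∨ c = x • x • b := by
  obtain ⟨u, hu, hc⟩ := hc
  obtain ⟨w, hw, hd⟩ := hd
  have k0 : b + c ∈ U → c ∈ U := fun e => by
    have := add_mem hb e
    rwa [← add_assoc, h.two, zero_add] at this
  have t1 := h.two b
  have t2 := h.two u
  have t3 := h.two w
  have t4 := h.two (x • u)
  have t5 := h.two (x • w)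
  have k1 : ∀ z ∈ U, x • (u + w) = z → u = w := fun z hz e => h.eq_of (L.dj _ (add_mem hu hw) (e ▸ hz))
  rw [h.mem_F4 o] at hc hd
  rcases hc with rfl | rfl | hc | hc
  · exact Or.inl (zero_mem _)
  · exact Or.inl hu
  · rcases hd with e | e | e | e
    · exact Or.inl (k0 (e ▸ zero_mem _))
    · exact Or.inl (k0 (e ▸ hw))
    · obtain rfl := k1 b hb (by rw [smul_add]; grind)
      exact absurd (by grind) b0
    · rw [h.xx o] at e
      obtain rfl := k1 _ (add_mem hb hw) (by rw [smul_add]; grind)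
      have : b = u := by grind
      exact Or.inr (Or.inl (by rw [hc, this]))
  · rcases hd with e | e | e | e
    · exact Or.inl (k0 (e ▸ zero_mem _))
    · exact Or.inl (k0 (e ▸ hw))
    · have hc' := hc
      rw [h.xx o] at hc'
      obtain rfl := k1 _ (add_mem hb hu) (by rw [smul_add]; grind)
      have : b = u := by grind
      exact Or.inr (Or.inr (by rw [hc, this]))
    · rw [h.xx o] at hc e
      obtain rfl := k1 _ (add_mem (add_mem hb hu) hw) (by rw [smul_add]; grind)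
      exact absurd (by grind) b0

theorem inv (p : Pi V π x) {s : H} (hs : ∀ u ∈ U, s • u = u) (hn : ¬ ∀ v : V, s • v = v) {b : V} (hb : b ∈ U)
    (b0 : b ≠ 0) : s • x • b ≠ x • b := by
  by_cases hz : s ∈ ZZ π
  · refine absurd (fun v => ?_) hn
    obtain ⟨u, hu, w, hw, rfl⟩ := L.dec v
    rw [smul_add, p.cx hz, hs u hu, hs w hw]
  · rw [p.ix hz, hs b hb]
    exact fun e => h.y_ne (o b) b0 (smul_left_cancel x e)

end Loc

end Cfsg.Lib.N9
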