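import Cfsg.Agent.Lib.Known2.N9e
import Cfsg.Agent.Lib.Known2.LE2
import Cfsg.Agent.Lib.Known2.LE3
import Cfsg.Agent.Lib.Push.LXe

/-! The orthogonal space `Q/⟨z⟩` of a large extraspecial group of order `2⁹`. -/

set_option autoImplicit false
set_option linter.unusedSectionVars false

namespace Cfsg.Lib.N9

open Subgroup Cfsg.Lib.Core Cfsg.Lib.Amalg Cfsg.Lib.Known2

universe u
variable {G : Type u} [Group G] [Finite G] {Q : Subgroup G} {z : G}

structure Md0 (Q : Subgroup G) (z : G) {V : Type*} [AddCommGroup V] (pr : G → V) : Prop where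
  add : ∀ x ∈ Q, ∀ y ∈ Q, pr (x * y) = pr x + pr y
  zero : ∀ x ∈ Q, pr x = 0 ↔ x = 1 ∨ x = z
  sur : ∀ v, ∃ x ∈ Q, pr x = v

theorem exists_md0 (h : ES Q z) : ∃ (V : Type u) (_ : AddCommGroup V) (_ : Finite V) (pr : G → V), Md0 Q z pr := by
  classical
  let N : Subgroup Q := (zpowers z).subgroupOf Q
  have hN : ∀ x : Q, x ∈ N ↔ (x : G) = 1 ∨ (x : G) = z := fun x => h.mem_zp
  haveI : N.Normal := ⟨fun n hn g => by
    rw [hN] at hn ⊢
    show (g : G) * n * (g : G)⁻¹ = 1 ∨ (g : G) * n * (g : G)⁻¹ = z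
    rcases hn with e | e <;> rw [e]
    · left; group
    · right; exact conj_eq_of_comm (h.cen g g.2)⟩
  letI : CommGroup (Q ⧸ N) := { QuotientGroup.Quotient.group N with
    mul_comm := by
      rintro ⟨a⟩ ⟨b⟩
      show ((a * b : Q) : Q ⧸ N) = ((b * a : Q) : Q ⧸ N)
      rw [eq_comm, QuotientGroup.eq, hN]
      show ((b : G) * a)⁻¹ * (a * b) = 1 ∨ ((b : G) * a)⁻¹ * (a * b) = z
      rcases h.comm a a.2 b b.2 with e | e <;> rw [e]
      · left; group
      · right; group }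
  refine ⟨Additive (Q ⧸ N), inferInstance, inferInstanceAs (Finite (Q ⧸ N)),
    fun x => if hx : x ∈ Q then Additive.ofMul ((⟨x, hx⟩ : Q) : Q ⧸ N) else 0, fun x hx y hy => ?_, fun x hx => ?_, ?_⟩
  · rw [dif_pos hx, dif_pos hy, dif_pos (mul_mem hx hy)]; rfl
  · rw [dif_pos hx, ofMul_eq_zero, QuotientGroup.eq_one_iff, hN]
  · rintro ⟨x⟩
    exact ⟨x, x.2, by rw [dif_pos x.2]; rfl⟩

namespace Md0
variable {V : Type*} [AddCommGroup V] {pr : G → V} (m : Md0 Q z pr)
include m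

theorem one : pr 1 = 0 := (m.zero 1 (one_mem _)).2 (Or.inl rfl)
theorem inv {x : G} (hx : x ∈ Q) : pr x⁻¹ = -pr x := by
  rw [eq_neg_iff_add_eq_zero, ← m.add _ (inv_mem hx) _ hx, inv_mul_cancel, m.one]
theorem eq_iff {x y : G} (hx : x ∈ Q) (hy : y ∈ Q) : pr x = pr y ↔ x = y ∨ x = y * z := by
  rw [← neg_add_eq_zero, ← m.inv hx, ← m.add _ (inv_mem hx) _ hy, ← neg_eq_zero, ← m.inv (mul_mem (inv_mem hx) hy),
    m.zero _ (inv_mem (mul_mem (inv_mem hx) hy)), mul_inv_rev, inv_inv, inv_mul_eq_one, inv_mul_eq_iff_eq_mul, eq_comm]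

/-- preimage of a subspace -/
def Y (S : AddSubgroup V) : Subgroup G where
  carrier := {y | y ∈ Q ∧ pr y ∈ S}
  one_mem' := ⟨one_mem _, by rw [m.one]; exact zero_mem _⟩
  mul_mem' := fun {a b} ha hb => ⟨mul_mem ha.1 hb.1, by rw [m.add _ ha.1 _ hb.1]; exact add_mem ha.2 hb.2⟩
  inv_mem' := fun {a} ha => ⟨inv_mem ha.1, by rw [m.inv ha.1]; exact neg_mem ha.2⟩

theorem mem_Y {S : AddSubgroup V} {y : G} : y ∈ m.Y S ↔ y ∈ Q ∧ pr y ∈ S := Iff.rfl

theorem z_Y (h : ES Q z) (S : AddSubgroup V) : z ∈ m.Y S :=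
  ⟨h.mem, by rw [(m.zero z h.mem).2 (Or.inr rfl)]; exact zero_mem _⟩

theorem card_Y (h : ES Q z) (S : AddSubgroup V) : Nat.card (m.Y S) = 2 * Nat.card S := by
  choose s hs hs' using m.sur
  have hz : pr z = 0 := (m.zero z h.mem).2 (Or.inr rfl)
  let f : Bool × S → m.Y S := fun r => if r.1 then ⟨s r.2, hs _, by rw [hs']; exact r.2.2⟩ else
    ⟨s r.2 * z, mul_mem (hs _) h.mem, by rw [m.add _ (hs _) _ h.mem, hs', hz, add_zero]; exact r.2.2⟩
  have hf : ∀ r, pr (f r) = r.2 := by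
    rintro ⟨_ | _, v⟩
    · show pr (s v * z) = v
      rw [m.add _ (hs _) _ h.mem, hs', hz, add_zero]
    · exact hs' _
  rw [← Nat.card_eq_of_bijective f ⟨?_, ?_⟩, Nat.card_prod]
  · simp
  · rintro ⟨b, v⟩ ⟨c, w⟩ e
    have : v = w := Subtype.ext (by rw [← hf (b, v), e, hf])
    subst this
    have e' := congrArg Subtype.val e
    cases b <;> cases c
    · rfl
    · exact absurd (by simpa [f] using e') h.ne
    · exact absurd (by simpa [f] using e') h.ne
    · rfl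
  · rintro ⟨y, hy, hy'⟩
    rcases (m.eq_iff hy (hs (pr y))).1 (hs' _).symm with e | e
    · exact ⟨(true, ⟨_, hy'⟩), Subtype.ext e.symm⟩
    · exact ⟨(false, ⟨_, hy'⟩), Subtype.ext e.symm⟩

end Md0

structure Md (Q : Subgroup G) (z : G) {V : Type*} [AddCommGroup V] [DistribMulAction (centralizer {z}) V]
    (pr : G → V) (q : V → ZMod 2) (β : V → V → ZMod 2) : Prop extends Md0 Q z pr where
  smul : ∀ (g : centralizer {z}), ∀ x ∈ Q, g • pr x = pr (g * x * (g : G)⁻¹)
  hq : ∀ x ∈ Q, q (pr x) = 0 ↔ x * x = 1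
  hb : ∀ x ∈ Q, ∀ y ∈ Q, β (pr x) (pr y) = 0 ↔ x * y = y * x

theorem exists_md (h : LS Q z) : ∃ (V : Type u) (_ : AddCommGroup V) (_ : Finite V)
    (_ : DistribMulAction (centralizer {z}) V) (pr : G → V) (q : V → ZMod 2) (β : V → V → ZMod 2), Md Q z pr q β := by
  classical
  obtain ⟨V, _, _, pr, m⟩ := exists_md0 h.toES
  have hsur := m.sur
  choose s hs hs' using hsur
  have hz : pr z = 0 := (m.zero z h.mem).2 (Or.inr rfl)
  have hn : ∀ g : centralizer {z}, ∀ x ∈ Q, g * x * (g : G)⁻¹ ∈ Q := fun g => h.norm g (mem_cent_single.1 g.2)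
  have key : ∀ g : centralizer {z}, ∀ x ∈ Q, pr (g * s (pr x) * (g : G)⁻¹) = pr (g * x * (g : G)⁻¹) := by
    intro g x hx
    rcases (m.eq_iff (hs _) hx).1 (hs' (pr x)) with e | e <;> rw [e]
    rw [← conj_mul, conj_eq_of_comm (mem_cent_single.1 g.2), m.add _ (hn g x hx) _ h.mem, hz, add_zero]
  letI : DistribMulAction (centralizer {z}) V :=
    { smul := fun g v => pr (g * s v * (g : G)⁻¹)
      one_smul := fun v => by
        show pr (((1 : centralizer {z}) : G) * s v * ((1 : centralizer {z}) : G)⁻¹) = v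
        simpa using hs' v
      mul_smul := fun a b v => by
        show pr (((a * b : centralizer {z}) : G) * s v * ((a * b : centralizer {z}) : G)⁻¹) =
          pr (a * s (pr (b * s v * (b : G)⁻¹)) * (a : G)⁻¹)
        rw [key a _ (hn b _ (hs v))]
        simp [mul_assoc]
      smul_zero := fun g => by
        show pr (g * s 0 * (g : G)⁻¹) = 0
        rw [← m.one, key g 1 (one_mem _)]; simp
      smul_add := fun g v w => by
        show pr (g * s (v + w) * (g : G)⁻¹) = pr (g * s v * (g : G)⁻¹) + pr (g * s w * (g : G)⁻¹)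
        rw [← m.add _ (hn g _ (hs v)) _ (hn g _ (hs w)), conj_mul, ← key g _ (mul_mem (hs v) (hs w)),
          m.add _ (hs v) _ (hs w), hs', hs'] }
  have hzz : ∀ x ∈ Q, ∀ y ∈ Q, x * z * (y * z) = x * y := fun x _ y hy => by
    rw [mul_assoc, ← mul_assoc z, ← h.cen y hy, mul_assoc y, h.sq, mul_one]
  have hc : ∀ x ∈ Q, ∀ y ∈ Q, s (pr x) * y = y * s (pr x) ↔ x * y = y * x := fun x hx y hy => by
    rcases (m.eq_iff (hs _) hx).1 (hs' (pr x)) with e | e <;> rw [e]
    rw [mul_assoc, ← h.cen y hy, ← mul_assoc, ← mul_assoc, mul_left_inj]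
  refine ⟨V, inferInstance, inferInstance, inferInstance, pr, fun v => if s v * s v = 1 then 0 else 1,
    fun v w => if s v * s w = s w * s v then 0 else 1, m, key, fun x hx => ?_, fun x hx y hy => ?_⟩
  · rw [ite_eq_left_iff, imp_iff_not one_ne_zero, not_not]
    rcases (m.eq_iff (hs _) hx).1 (hs' (pr x)) with e | e <;> rw [e]
    rw [hzz x hx x hx]
  · rw [ite_eq_left_iff, imp_iff_not one_ne_zero, not_not, hc x hx _ (hs _), eq_comm, hc y hy x hx, eq_comm]

theorem zm_ext {a b : ZMod 2} (h : a = 0 ↔ b = 0) : a = b := by revert a b; decide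
theorem zm_add {a b : ZMod 2} : a + b = 0 ↔ (a = 0 ↔ b = 0) := by revert a b; decide

theorem two_le' {S T : Subgroup G} (h : S ≤ T) {v : G} (hv : v ∈ T) (hn : v ∉ S) : 2 * Nat.card S ≤ Nat.card T := by
  obtain ⟨k, hk⟩ := Subgroup.card_dvd_of_le h
  have h0 : 0 < Nat.card T := Nat.card_pos
  have h1 : k ≠ 1 := by
    rintro rfl
    exact hn (Subgroup.eq_of_le_of_card_ge h (by omega) ▸ hv)
  have h2 : k ≠ 0 := by rintro rfl; omega
  rw [hk, mul_comm]
  exact Nat.mul_le_mul_left _ (by omega)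

theorem card_sgOf (P M : Subgroup G) : Nat.card (P.subgroupOf M) = Nat.card ↥(P ⊓ M) := by
  rw [← subgroupOf_map_subtype, card_map_subtype]

namespace Md
variable {V : Type*} [AddCommGroup V] [Finite V] [DistribMulAction (centralizer {z}) V] {pr : G → V} {q : V → ZMod 2}
  {β : V → V → ZMod 2} (m : Md Q z pr q β) (h : LS Q z)
include m h

theorem sp (hc : Nat.card Q = 512) : Sp (centralizer {z}) q β where
  two v := by
    obtain ⟨x, hx, rfl⟩ := m.sur v
    rw [← m.add x hx x hx, m.zero _ (mul_mem hx hx)]; exact h.sq_mem x hx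
  qa v w := by
    obtain ⟨x, hx, rfl⟩ := m.sur v
    obtain ⟨y, hy, rfl⟩ := m.sur w
    apply zm_ext
    rw [zm_add, zm_add, ← m.add x hx y hy, m.hq _ (mul_mem hx hy), m.hq x hx, m.hq y hy, m.hb x hx y hy]
    have hz := h.ne
    have hzz := h.sq
    by_cases e : x * y = y * x
    · have : x * y * (x * y) = x * x * (y * y) := by
        rw [mul_assoc, ← mul_assoc y, ← e]; group
      rw [this]
      rcases h.sq_mem x hx with e1 | e1 <;> rcases h.sq_mem y hy with e2 | e2 <;> simp [e, e1, e2, hz, hzz]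
    · have : x * y * (x * y) = x * x * (y * y) * z := by
        rw [mul_assoc, ← mul_assoc y, h.toES.anti hy hx (Ne.symm e), mul_assoc _ z, ← h.cen y hy]; group
      rw [this]
      rcases h.sq_mem x hx with e1 | e1 <;> rcases h.sq_mem y hy with e2 | e2 <;> simp [e, e1, e2, hz, hzz]
  bl u v w := by
    obtain ⟨x, hx, rfl⟩ := m.sur u
    obtain ⟨y, hy, rfl⟩ := m.sur v
    obtain ⟨a, ha, rfl⟩ := m.sur w
    apply zm_ext
    rw [zm_add, ← m.add x hx y hy, m.hb _ (mul_mem hx hy) a ha, m.hb x hx a ha, m.hb y hy a ha, eq_comm,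
      h.toES.mul_comm_iff ha hx hy, eq_comm, eq_comm (a := a * y)]
  qs g v := by
    obtain ⟨x, hx, rfl⟩ := m.sur v
    apply zm_ext
    rw [m.smul g x hx, m.hq _ (h.norm g (mem_cent_single.1 g.2) x hx), m.hq x hx, conj_mul, conj_eq_one_iff]
  sep S v hv := by
    obtain ⟨x, hx, rfl⟩ := m.sur v
    obtain ⟨g, hg, h1, h2⟩ := h.toES.exists_sep (A := m.Y S) (fun _ e => e.1) (m.z_Y h.toES S) hx fun e => hv e.2
    refine ⟨pr g, fun s hs => ?_, (z2 _).resolve_left fun e => h2 ((m.hb x hx g hg).1 e).symm⟩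
    obtain ⟨y, hy, rfl⟩ := m.sur s
    exact (m.hb y hy g hg).2 (h1 y ⟨hy, hs⟩).symm
  bd S T hST := by
    have h1 := h.card_mul_cent (Y := m.Y S) (fun _ e => e.1) (m.z_Y h.toES S)
    have h2 : Nat.card (m.Y T) ≤ Nat.card ↥(Q ⊓ 𝐂 (m.Y S)) := card_le_of_le fun y hy =>
      ⟨hy.1, mem_centralizer_iff.2 fun x hx => (m.hb x hx.1 y hy.1).1 (hST _ hx.2 _ hy.2)⟩
    rw [m.card_Y h.toES] at h1 h2
    nlinarith
  card := by
    have h1 := m.card_Y h.toES ⊤
    rw [show m.Y ⊤ = Q from Subgroup.ext fun x => by simp [m.mem_Y], hc, AddSubgroup.card_top] at h1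
    omega

theorem triv_iff (g : centralizer {z}) : (∀ v : V, g • v = v) ↔ (g : G) ∈ Q := by
  have hg := mem_cent_single.1 g.2
  constructor
  · intro e
    refine h.mem_of_inner hg fun x hx => (m.eq_iff (h.norm g hg x hx) hx).1 ?_
    rw [← m.smul g x hx, e]
  · intro e v
    obtain ⟨x, hx, rfl⟩ := m.sur v
    rw [m.smul g x hx, m.eq_iff (h.norm g hg x hx) hx]
    exact h.toES.conj_eq e hx

end Md

end Cfsg.Lib.N9
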