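import Cfsg.Agent.Lib.Known2.N9f
import Cfsg.Agent.S3300

/-! Nonexistence of a fused large extraspecial `2^{1+8}` with `C(z)/Q` between `3 × A₆` and `S₃ × S₆`. -/

set_option autoImplicit false
set_option linter.unusedSectionVars false

namespace Cfsg.Lib.N9

open Subgroup Cfsg.Lib.Core Cfsg.Lib.Amalg Cfsg.Lib.Known2 Equiv.Perm

universe u
variable {G : Type u} [Group G] [Finite G] {Q P : Subgroup G} {z a : G}

namespace Md
variable {V : Type*} [AddCommGroup V] [Finite V] [DistribMulAction (centralizer {z}) V] {pr : G → V} {q : V → ZMod 2}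
  {β : V → V → ZMod 2} (m : Md Q z pr q β)
include m

/-- the image of a subgroup -/
def RR (P : Subgroup G) : AddSubgroup V where
  carrier := {v | ∃ r ∈ Q, r ∈ P ∧ pr r = v}
  zero_mem' := ⟨1, one_mem _, one_mem _, m.one⟩
  add_mem' := by
    rintro _ _ ⟨r, h1, h2, rfl⟩ ⟨s, h3, h4, rfl⟩
    exact ⟨r * s, mul_mem h1 h3, mul_mem h2 h4, m.add _ h1 _ h3⟩
  neg_mem' := by
    rintro _ ⟨r, h1, h2, rfl⟩
    exact ⟨r⁻¹, inv_mem h1, inv_mem h2, m.inv h1⟩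

theorem mem_RR (hz : z ∈ P) {c : G} (hc : c ∈ Q) : pr c ∈ m.RR P ↔ c ∈ P := by
  refine ⟨?_, fun e => ⟨c, hc, e, rfl⟩⟩
  rintro ⟨r, h1, h2, e⟩
  rcases (m.eq_iff hc h1).1 e.symm with e | e <;> rw [e]
  exacts [h2, mul_mem h2 hz]

theorem pd (l : LP Q P z a) (hP : Nat.card P = 512) : PD q β (pr a) (P.subgroupOf (centralizer {z})) (m.RR P) := by
  have h := l.l
  have hn : ∀ g : centralizer {z}, ∀ x ∈ Q, g * x * (g : G)⁻¹ ∈ Q := fun g => h.norm g (mem_cent_single.1 g.2)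
  have sq1 : ∀ r ∈ Q, r ∈ P → r * r = 1 := fun r h1 h2 =>
    (h.sq_mem r h1).elim id fun e => (l.r.sq_mem r h2).elim id fun e' => absurd (e'.symm.trans e) l.ne
  have adj : ∀ g : centralizer {z}, g • pr a = pr a → ∃ g' : centralizer {z}, (g' : G) * a = a * g' ∧
      ∀ v : V, g' • v = g • v := by
    intro g hg
    rw [m.smul g a l.bQ, m.eq_iff (hn g a l.bQ) l.bQ] at hg
    rcases hg with e | e
    · exact ⟨g, comm_of_conj_eq e, fun _ => rfl⟩
    · obtain ⟨y, hy, e1, e2⟩ := l.exists_y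
      refine ⟨⟨y, h.toES.le_cent hy⟩ * g, comm_of_conj_eq ?_, fun v => by
        rw [mul_smul]; exact (m.triv_iff h _).2 hy _⟩
      show y * g * a * (y * g)⁻¹ = a
      rw [show y * g * a * (y * (g : G))⁻¹ = y * (g * a * (g : G)⁻¹) * y⁻¹ by group, e, ← conj_mul, e1, e2, mul_assoc,
        ← l.zb, l.zzb]
  refine ⟨fun e => ((m.zero a l.bQ).1 e).elim l.r.ne l.ne, ⟨a, l.bQ, l.r.mem, rfl⟩, ?_, fun t ht => ?_,
    fun t ht v hv => ?_, fun t ht v => ?_, fun s hs t ht v => ?_, ?_, ?_, fun S B h1 h2 h3 h4 => ?_, fun g hg => ?_,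
    fun g hg h1 h2 h3 => ?_⟩
  · rintro _ ⟨r, h1, h2, rfl⟩
    exact (m.hq r h1).2 (sq1 r h1 h2)
  · rw [m.smul t a l.bQ, conj_eq_of_comm (l.r.cen t ht)]
  · obtain ⟨y, hy, rfl⟩ := m.sur v
    rw [m.smul t y hy, ← m.add _ (hn t y hy) y hy, m.mem_RR l.zQ (mul_mem (hn t y hy) hy),
      show (t : G) * y * (t : G)⁻¹ * y = t * (y * (t : G)⁻¹ * y⁻¹) * (y * y) by group]
    refine mul_mem (mul_mem ht (l.r.norm y ((m.hb y hy a l.bQ).1 hv) _ (inv_mem ht))) ?_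
    rcases h.sq_mem y hy with e | e <;> rw [e]
    exacts [one_mem _, l.zQ]
  · rw [← mul_smul]
    refine (m.triv_iff h _).2 ?_ v
    show (t : G) * t ∈ Q
    rcases l.r.sq_mem t ht with e | e <;> rw [e]
    exacts [one_mem _, l.bQ]
  · have : ((t * s)⁻¹ * (s * t)) • v = v := by
      refine (m.triv_iff h _).2 ?_ v
      show ((t : G) * s)⁻¹ * (s * t) ∈ Q
      rcases l.r.comm s hs t ht with e | e <;> rw [e]
      · simp
      · rw [inv_mul_cancel_left]; exact l.bQ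
    rwa [mul_smul, inv_smul_eq_iff, mul_smul, mul_smul] at this
  · rw [card_sgOf]
    have h1 := half2 P (centralizer {z}) fun s hs t ht => by
      simp only [mem_cent_single, eq_comm (b := z * _)]
      have := l.r.toES.mul_comm_iff l.zQ hs ht
      tauto
    obtain ⟨y, hy, e⟩ := l.r.toES.exists_anti l.zQ h.ne l.ne.symm
    have h2 := two_le' (S := P ⊓ centralizer {z}) inf_le_left hy fun e' => e (mem_cent_single.1 e'.2).symm
    omega
  · have e1 : P.subgroupOf (centralizer {z}) ⊓ KK (centralizer {z}) V = (P ⊓ Q).subgroupOf (centralizer {z}) := by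
      ext g
      simp only [Subgroup.mem_inf, mem_subgroupOf, mem_KK, m.triv_iff h]
    have e2 : P ⊓ Q ⊓ centralizer {z} = m.Y (m.RR P) := by
      ext c
      rw [m.mem_Y]
      exact ⟨fun e => ⟨e.1.2, (m.mem_RR l.zQ e.1.2).2 e.1.1⟩,
        fun e => ⟨⟨(m.mem_RR l.zQ e.1).1 e.2, e.1⟩, h.toES.le_cent e.1⟩⟩
    rw [e1, card_sgOf, e2, m.card_Y h.toES]
  · have hY : m.Y S ≤ P := fun y hy => (m.mem_RR l.zQ hy.1).1 (h1 hy.2)
    have a1 := l.r.card_mul_cent hY ⟨l.bQ, h2⟩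
    have a2 : Nat.card (B.map (centralizer {z}).subtype) ≤ Nat.card ↥(P ⊓ 𝐂 (m.Y S)) := card_le_of_le (by
      rintro _ ⟨t, ht, rfl⟩
      refine ⟨h3 ht, mem_centralizer_iff.2 fun y hy => (comm_of_conj_eq ?_).symm⟩
      have e := h4 t ht _ hy.2
      rw [m.smul t y hy.1, m.eq_iff (hn t y hy.1) hy.1] at e
      refine e.elim id fun e => (l.r.toES.conj_eq (h3 ht) (hY hy)).elim id fun e' => ?_
      exact absurd (mul_left_cancel (e'.symm.trans e)) l.ne)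
    rw [m.card_Y h.toES, hP] at a1
    rw [card_map_subtype] at a2
    nlinarith
  · obtain ⟨g', h1, h2⟩ := adj g hg
    refine ⟨fun t ht => ⟨g' * t * g'⁻¹, l.r.norm g' h1 t ht, fun v => ?_⟩, ?_⟩
    · rw [mul_smul, mul_smul, ← h2 v, inv_smul_smul, h2]
    · rintro _ ⟨r, h3, h4, rfl⟩
      rw [← h2, m.smul g' r h3]
      exact ⟨_, hn g' r h3, l.r.norm g' h1 r h4, rfl⟩
  · obtain ⟨g', a1, a2⟩ := adj g hg
    have a3 : ∀ v : V, (g' * g' * g') • v = v := fun v => by simp only [mul_smul, a2, h1]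
    have a4 : ∀ v : V, (g' ^ 4) • v = g • v := fun v => by
      rw [show g' ^ 4 = g' * (g' * g' * g') by simp [pow_succ, mul_assoc], mul_smul, a3, a2]
    have a5 : ((g' ^ 4 : centralizer {z}) : G) ^ 3 = 1 := by
      have := h.toES.pow_four ((m.triv_iff h _).1 a3)
      rw [← this, Subgroup.coe_pow, ← pow_mul, show ((g' * g' * g' : centralizer {z}) : G) = (g' : G) ^ 3 by
        simp [pow_succ], ← pow_mul]
      rfl
    have a6 : ((g' ^ 4 : centralizer {z}) : G) * a = a * (g' ^ 4 : centralizer {z}) :=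
      (show Commute (g' : G) a from a1).pow_left 4
    generalize g' ^ 4 = w at a4 a5 a6
    have a7 : (w : G) ∈ P := l.symm.mem_of_cent_P a6 fun t ht e => by
      let t' : centralizer {z} := ⟨t, mem_cent_single.2 e.symm⟩
      have b1 : (w : G) * t * (w : G)⁻¹ * t⁻¹ ∈ P := mul_mem (l.r.norm w a6 t ht) (inv_mem ht)
      have b2 : (w : G) * t * (w : G)⁻¹ * t⁻¹ ∈ Q := (m.triv_iff h (w * t' * w⁻¹ * t'⁻¹)).1 fun v => by
        rw [mul_smul, mul_smul, mul_smul, a4, h3 t' ht, ← a4, smul_inv_smul, smul_inv_smul]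
      have b3 := h2 _ ⟨_, b2, b1, rfl⟩
      rw [← a4, m.smul w _ b2, m.eq_iff (hn w _ b2) b2] at b3
      have b4 := sq1 _ b2 b1
      have b5 : (w : G) * t * (w : G)⁻¹ = (w : G) * t * (w : G)⁻¹ * t⁻¹ * t := by group
      generalize (w : G) * t * (w : G)⁻¹ * t⁻¹ = ρ at b3 b4 b5
      have b6 : ∀ y : G, (w : G) * (w * (w * y * (w : G)⁻¹) * (w : G)⁻¹) * (w : G)⁻¹ = y := fun y => by
        calc _ = (w : G) ^ 3 * y * ((w : G) ^ 3)⁻¹ := by simp [pow_succ, mul_assoc]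
          _ = y := by rw [a5]; simp
      have b7 : (w : G) * z * (w : G)⁻¹ = z := conj_eq_of_comm (mem_cent_single.1 w.2)
      rcases b3 with b3 | b3
      · have := b6 t
        rw [b5, ← conj_mul (a := ρ), b3, b5, ← mul_assoc ρ, b4, one_mul] at this
        exact comm_of_conj_eq this
      · have := b6 ρ
        rw [b3, ← conj_mul (a := ρ), b3, b7, mul_assoc ρ, h.sq, mul_one, b3] at this
        exact absurd (by simpa using this) h.ne
    have a8 : w = 1 := Subtype.ext (by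
      have := l.r.toES.pow_four a7
      rw [show 2 ^ 2 = 3 + 1 by norm_num, pow_succ, a5, one_mul] at this
      exact this)
    intro v
    rw [← a4, a8, one_smul]

end Md

abbrev Qc (t : G) : Subgroup G := pCoreOf 2 (centralizer ({t} : Set G))

structure Hyp (t : G) : Prop where
  ls : LS (Qc t) t
  card : Nat.card (Qc t) = 512
  ex : ∃ π : centralizer ({t} : Set G) →* S36, (∀ g, π g = 1 ↔ (g : G) ∈ Qc t) ∧
    (∀ k : S6, sign k = 1 → ∃ g, π g = (1, k)) ∧ ∃ x, π x = (c3, 1)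

theorem Hyp.conj {t : G} (H : Hyp t) (g : G) : Hyp (g * t * g⁻¹) := by
  obtain ⟨π, h1, h2, x, h3⟩ := H.ex
  have hc : ∀ y : G, y ∈ centralizer ({g * t * g⁻¹} : Set G) ↔ g⁻¹ * y * g ∈ centralizer ({t} : Set G) := fun y => by
    rw [← cj_centralizer_singleton, mem_cj]
  let φ : centralizer ({g * t * g⁻¹} : Set G) →* centralizer ({t} : Set G) :=
    MonoidHom.mk' (fun y => ⟨g⁻¹ * y * g, (hc y).1 y.2⟩) fun a b => Subtype.ext (by simp [mul_assoc])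
  have hφ : ∀ y, ∃ w, φ w = y := fun y => ⟨⟨g * y * g⁻¹, (hc _).2 (by simp [mul_assoc])⟩,
    Subtype.ext (by simp [φ, mul_assoc])⟩
  refine ⟨by rw [Qc, ← cj_Qc]; exact H.ls.conj g, by rw [Qc, ← cj_Qc, card_cj]; exact H.card, π.comp φ,
    fun y => ?_, fun k hk => ?_, ?_⟩
  · rw [MonoidHom.comp_apply, h1, Qc, Qc, ← cj_Qc, mem_cj]; rfl
  · obtain ⟨y, hy⟩ := h2 k hk
    obtain ⟨w, rfl⟩ := hφ y
    exact ⟨w, hy⟩
  · obtain ⟨w, rfl⟩ := hφ x
    exact ⟨w, h3⟩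

structure Good (X : Set G) (t x : G) (U : Subgroup G) : Prop where
  xt : x * t = t * x
  le : U ≤ Qc t
  tm : t ∈ U
  inX : ∀ u ∈ U, u ≠ 1 → u ∈ X
  ab : ∀ u ∈ U, ∀ w ∈ U, u * w = w * u
  card : Nat.card U = 32
  f3 : ∀ b ∈ U, b ≠ 1 → b ≠ t → x * b * x⁻¹ ∈ Qc b
  qb : ∀ b ∈ U, b ≠ 1 → b ≠ t → ∀ u ∈ U, (u ∈ Qc b ↔ x * b * x⁻¹ * u = u * (x * b * x⁻¹))
  c6 : ∀ b ∈ U, b ≠ 1 → b ≠ t → ∀ c ∈ X, c ∈ Qc t → b * c ∈ X →
    c ∈ U ∨ c ∈ ({x * b * x⁻¹, x * b * x⁻¹ * t, b * (x * b * x⁻¹), b * (x * b * x⁻¹) * t} : Set G)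
  dec : ∀ y ∈ Qc t, ∃ u ∈ U, ∃ w ∈ U, y = u * (x * w * x⁻¹)
  inv : ∀ s, (∀ u ∈ U, s * u = u * s) → s ∉ Qc t → ∀ b ∈ U, b ≠ 1 → b ≠ t → s * (x * b * x⁻¹) ≠ x * b * x⁻¹ * s

theorem Hyp.lp {t b : G} (H : Hyp t) (hb : IsConj t b) (h1 : b ∈ Qc t) (h2 : b ≠ t) : LP (Qc t) (Qc b) t b := by
  obtain ⟨g, rfl⟩ := isConj_iff.1 hb
  rw [Qc, Qc, ← cj_Qc]
  exact H.ls.lp h1 h2 (by rw [H.card]; norm_num)

theorem Hyp.of_conj {t b : G} (H : Hyp t) (hb : IsConj t b) : Hyp b := by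
  obtain ⟨g, rfl⟩ := isConj_iff.1 hb
  exact H.conj g

theorem Hyp.good {t a : G} (H : Hyp t) (ha : IsConj t a) (h1 : a ∈ Qc t) (h2 : a ≠ t) :
    ∃ x U, Good {b | IsConj t b} t x U ∧ a ∈ U := by
  have h := H.ls
  obtain ⟨V, _, _, _, pr, q, β, m⟩ := exists_md h
  obtain ⟨π, k1, k2, x, k3⟩ := H.ex
  have sp := m.sp h H.card
  have p : Pi V π x := ⟨fun g => by rw [k1, m.triv_iff h], k2, k3⟩
  have pd : ∀ b, IsConj t b → b ∈ Qc t → b ≠ t → PD q β (pr b) ((Qc b).subgroupOf (centralizer {t})) (m.RR (Qc b)) :=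
    fun b e1 e2 e3 => m.pd (H.lp e1 e2 e3) (H.of_conj e1).card
  have d := pd a ha h1 h2
  have o := d.om sp p
  obtain ⟨U, L⟩ := d.loc sp p
  have hn : ∀ g : centralizer {t}, ∀ x ∈ Qc t, g * x * (g : G)⁻¹ ∈ Qc t := fun g => h.norm g (mem_cent_single.1 g.2)
  have hz : pr t = 0 := (m.zero t h.mem).2 (Or.inr rfl)
  have inX : ∀ u ∈ m.Y U, u ≠ 1 → IsConj t u := by
    intro u hu u1
    by_cases ut : u = t
    · rw [ut]
    obtain ⟨g, hg⟩ := L.orb _ hu.2 fun e => ((m.zero u hu.1).1 e).elim u1 ut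
    rw [m.smul g a h1, m.eq_iff hu.1 (hn g a h1)] at hg
    have c1 : IsConj t (g * a * (g : G)⁻¹) := ha.trans (isConj_iff.2 ⟨g, rfl⟩)
    rcases hg with e | e
    · rwa [e]
    · obtain ⟨y, hy, e'⟩ := h.toES.exists_anti hu.1 u1 ut
      refine c1.trans (isConj_iff.2 ⟨y, ?_⟩)
      have := h.toES.conj_anti hy hu.1 (Ne.symm e')
      rw [e, ← conj_mul, conj_eq_of_comm (h.cen y hy), mul_left_inj] at this
      rw [this, e]
  have n0 : ∀ b ∈ Qc t, b ≠ 1 → b ≠ t → pr b ≠ 0 := fun b hb b1 b2 e => ((m.zero b hb).1 e).elim b1 b2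
  have f3 : ∀ b ∈ m.Y U, b ≠ 1 → b ≠ t → x * b * (x : G)⁻¹ ∈ Qc b := fun b hb b1 b2 => by
    rw [← m.mem_RR (H.lp (inX b hb b1) hb.1 b2).zQ (hn x b hb.1), ← m.smul x b hb.1]
    exact (pd b (inX b hb b1) hb.1 b2).xa_mem sp p
  have cov : ∀ c, IsConj t c → c ∈ Qc t → ∃ u ∈ U, pr c ∈ F4 x u := fun c c1 c2 => by
    by_cases e : c = t
    · exact ⟨0, zero_mem _, by rw [e, hz]; exact zero_mem _⟩
    · exact (L.pd _ _ _ (pd c c1 c2 e)).1
  refine ⟨x, m.Y U, ⟨mem_cent_single.1 x.2, fun _ e => e.1, m.z_Y h.toES U, inX, fun u hu w hw => ?_,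
    by rw [m.card_Y h.toES, L.card], f3, fun b hb b1 b2 u hu => ⟨fun e => ?_, fun e => ?_⟩,
    fun b hb b1 b2 c c1 c2 c3 => ?_, fun y hy => ?_, fun s s1 s2 b hb b1 b2 e => ?_⟩, h1, L.mem⟩
  · refine (m.hb u hu.1 w hw.1).1 (sp.sing_iso (fun v hv => ?_) _ hu.2 _ hw.2)
    by_cases e : v = 0
    · rw [e, sp.q0]
    · obtain ⟨g, rfl⟩ := L.orb v hv e
      rw [sp.qs, d.sing _ d.mem]
  · have l := H.lp (inX b hb b1) hb.1 b2
    exact (h.comm _ (hn x b hb.1) u hu.1).elim id fun e1 => (l.r.comm _ (f3 b hb b1 b2) u e).elim id fun e2 =>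
      absurd (mul_left_cancel (e2.symm.trans e1)) b2
  · rw [← m.mem_RR (H.lp (inX b hb b1) hb.1 b2).zQ hu.1]
    refine (L.pd _ _ _ (pd b (inX b hb b1) hb.1 b2)).2 hb.2 _ hu.2 ?_
    rw [m.smul x b hb.1, m.hb u hu.1 _ (hn x b hb.1), e]
  · rcases L.c6 sp o hb.2 (n0 b hb.1 b1 b2) (cov c c1 c2)
      (by rw [← m.add b hb.1 c c2]; exact cov _ c3 (mul_mem hb.1 c2)) with e | e | e
    · exact Or.inl ⟨c2, e⟩
    · rw [m.smul x b hb.1, m.eq_iff c2 (hn x b hb.1)] at e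
      right; rcases e with e | e <;> simp [e]
    · rw [sp.xx o, m.smul x b hb.1, ← m.add b hb.1 _ (hn x b hb.1), m.eq_iff c2 (mul_mem hb.1 (hn x b hb.1))] at e
      right; rcases e with e | e <;> simp [e]
  · obtain ⟨u, hu, w, hw, e⟩ := L.dec (pr y)
    obtain ⟨u, hu', rfl⟩ := m.sur u
    obtain ⟨w, hw', rfl⟩ := m.sur w
    rw [m.smul x w hw', ← m.add u hu' _ (hn x w hw'), m.eq_iff hy (mul_mem hu' (hn x w hw'))] at e
    rcases e with e | e
    · exact ⟨u, ⟨hu', hu⟩, w, ⟨hw', hw⟩, e⟩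
    · refine ⟨u * t, mul_mem ⟨hu', hu⟩ (m.z_Y h.toES U), w, ⟨hw', hw⟩, ?_⟩
      rw [e, mul_assoc, h.cen _ (hn x w hw'), mul_assoc u]
  · let s' : centralizer {t} := ⟨s, mem_cent_single.2 (s1 t (m.z_Y h.toES U))⟩
    refine L.inv sp o p (s := s') (fun u hu => ?_) (fun e => s2 ((m.triv_iff h s').1 e)) hb.2 (n0 b hb.1 b1 b2) ?_
    · obtain ⟨u, hu', rfl⟩ := m.sur u
      rw [m.smul s' u hu', conj_eq_of_comm (s1 u ⟨hu', hu⟩)]
    · rw [m.smul x b hb.1, m.smul s' _ (hn x b hb.1), conj_eq_of_comm e]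

namespace Good
variable {X : Set G} {t x : G} {U : Subgroup G} (g : Good X t x U) (h : LS (Qc t) t)
include g h

theorem xq {b : G} (hb : b ∈ U) : x * b * x⁻¹ ∈ Qc t := h.norm x g.xt b (g.le hb)

theorem cen {b : G} (hb : b ∈ U) (hc : ∀ u ∈ U, x * b * x⁻¹ * u = u * (x * b * x⁻¹)) : b = 1 ∨ b = t := by
  rcases h.of_cen _ (g.xq h hb) (fun y hy => by
    obtain ⟨u, hu, w, hw, rfl⟩ := g.dec y hy
    rw [← mul_assoc, hc u hu, mul_assoc, conj_mul, g.ab b hb w hw, ← conj_mul, mul_assoc u]) with e | e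
  · exact Or.inl (by simpa using e)
  · right
    rw [← conj_eq_of_comm g.xt] at e
    simpa using e

theorem idx2 {b u w : G} (hb : b ∈ U) (b1 : b ≠ 1) (b2 : b ≠ t) (hu : u ∈ U) (hw : w ∈ U) :
    u * w ∈ Qc b ↔ (u ∈ Qc b ↔ w ∈ Qc b) := by
  rw [g.qb b hb b1 b2 _ (mul_mem hu hw), g.qb b hb b1 b2 _ hu, g.qb b hb b1 b2 _ hw]
  exact h.toES.mul_comm_iff (g.xq h hb) (g.le hu) (g.le hw)

theorem exn {b : G} (hb : b ∈ U) (b1 : b ≠ 1) (b2 : b ≠ t) : ∃ u ∈ U, u ∉ Qc b := by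
  by_contra! hc
  exact (g.cen h hb fun u hu => (g.qb b hb b1 b2 u hu).1 (hc u hu)).elim b1 b2

theorem c16 {b : G} (hb : b ∈ U) (b1 : b ≠ 1) (b2 : b ≠ t) : 16 ≤ Nat.card ↥(U ⊓ Qc b) := by
  have := half2 U (Qc b) fun u hu w hw => by have := g.idx2 h hb b1 b2 hu hw; tauto
  rw [g.card] at this
  omega

theorem gen {a b : G} (ha : a ∈ U) (a1 : a ≠ 1) (a2 : a ≠ t) (hb : b ∈ U) (b1 : b ≠ 1) (b2 : b ≠ t)
    (n1 : a * b ≠ 1) (n2 : a * b ≠ t) {S : Subgroup G} (h1 : U ⊓ Qc a ≤ S) (h2 : U ⊓ Qc b ≤ S) : U ≤ S := by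
  have : ∃ u ∈ U, ¬ (u ∈ Qc a ↔ u ∈ Qc b) := by
    by_contra! hc
    refine (g.cen h (mul_mem ha hb) fun u hu => ?_).elim n1 n2
    have := hc u hu
    rw [g.qb a ha a1 a2 u hu, g.qb b hb b1 b2 u hu, eq_comm, eq_comm (a := x * b * x⁻¹ * u)] at this
    rw [← conj_mul, eq_comm, h.toES.mul_comm_iff (g.le hu) (g.xq h ha) (g.xq h hb), this]
  obtain ⟨u, hu, e⟩ := this
  intro w hw
  by_cases e1 : u ∈ Qc a
  · by_cases e2 : w ∈ Qc b
    · exact h2 ⟨hw, e2⟩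
    · exact (S.mul_mem_cancel_left (h1 ⟨hu, e1⟩)).1 (h2 ⟨mul_mem hu hw, (g.idx2 h hb b1 b2 hu hw).2 (by tauto)⟩)
  · by_cases e2 : w ∈ Qc a
    · exact h1 ⟨hw, e2⟩
    · exact (S.mul_mem_cancel_left (h2 ⟨hu, by tauto⟩)).1 (h1 ⟨mul_mem hu hw, (g.idx2 h ha a1 a2 hu hw).2 (by tauto)⟩)

theorem symD {b x' : G} {U' : Subgroup G} (g' : Good X b x' U') (hb : b ∈ U) (b1 : b ≠ 1) (b2 : b ≠ t)
    (ht : t ∈ U') : U ⊓ Qc b ≤ U' := by
  by_contra hn
  obtain ⟨c, hc, hc'⟩ := SetLike.not_le_iff_exists.1 hn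
  have key : ∀ c ∈ U ⊓ Qc b, c ∉ U' → c ∈ ({x' * t * x'⁻¹, x' * t * x'⁻¹ * b, t * (x' * t * x'⁻¹),
      t * (x' * t * x'⁻¹) * b} : Set G) := fun c hc hc' =>
    (g'.c6 t ht h.ne b2.symm c (g.inX c hc.1 (by rintro rfl; exact hc' (one_mem _))) hc.2
      (g.inX _ (mul_mem g.tm hc.1) fun e => hc' (by rw [← inv_eq_of_mul_eq_one_right e]; exact inv_mem ht))).resolve_left hc'
  have h1 := (ncard_two (T := (U ⊓ Qc b : Subgroup G)) (fun w => c⁻¹ * w) fun d hd => by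
    by_cases e : d ∈ U'
    · exact Or.inr ⟨c * d, key _ (mul_mem hc hd) fun e' => hc' ((U'.mul_mem_cancel_right e).1 e'), by simp⟩
    · exact Or.inl (key d hd e)).trans (Nat.mul_le_mul_left 2 (ncard_four _ _ _ _))
  have h2 : 16 ≤ ((U ⊓ Qc b : Subgroup G) : Set G).ncard := g.c16 h hb b1 b2
  omega

end Good

theorem Hyp.false {z a : G} (H : Hyp z) (ha : IsConj z a) (h1 : a ∈ Qc z) (h2 : a ≠ z) : False := by
  have hX : ∀ t, IsConj z t → {b | IsConj t b} = {b | IsConj z b} := fun t ht =>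
    Set.ext fun b => ⟨ht.trans, ht.symm.trans⟩
  have ls : ∀ t, IsConj z t → LS (Qc t) t := fun t ht => (H.of_conj ht).ls
  have sym : ∀ t b, IsConj z t → IsConj z b → b ∈ Qc t → t ∈ Qc b := fun t b ht hb e => by
    by_cases e' : b = t
    · rw [e']; exact (ls t ht).mem
    · exact ((H.of_conj ht).lp (ht.symm.trans hb) e e').zQ
  have loc : ∀ t b, IsConj z t → IsConj z b → b ∈ Qc t → b ≠ t → ∃ x U, Good {b | IsConj z b} t x U ∧ b ∈ U :=
    fun t b ht hb e e' => hX t ht ▸ (H.of_conj ht).good (ht.symm.trans hb) e e'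
  have hz := IsConj.refl z
  have h := H.ls
  obtain ⟨x, U, g, aU⟩ := loc z a hz ha h1 h2
  obtain ⟨x', U', g', zU'⟩ := loc a z ha hz (sym _ _ hz ha h1) h2.symm
  have la := ls a ha
  obtain ⟨s, sU', sz⟩ := g'.exn la zU' h.ne h2.symm
  have s1 : s ≠ 1 := by rintro rfl; exact sz (one_mem _)
  have s2 : s ≠ a := by rintro rfl; exact sz h1
  have hs : IsConj z s := g'.inX s sU' s1
  have zs : z ∉ Qc s := fun e => sz (sym _ _ hs hz e)
  have as : a ∈ Qc s := sym _ _ ha hs (g'.le sU')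
  have D1 := g.symD h g' aU la.ne h2 zU'
  have i1 : ∀ u ∈ U', u ∈ Qc s ∨ u * z ∈ Qc s := fun u hu => by
    have := g'.idx2 la sU' s1 s2 hu zU'; tauto
  have : ∃ u ∈ U ⊓ Qc a, u ∉ ({1, z, a, a * z} : Set G) := by
    by_contra! hc
    have h3 := (Set.ncard_le_ncard (s := ((U ⊓ Qc a : Subgroup G) : Set G)) (t := {1, z, a, a * z}) hc).trans (ncard_four _ _ _ _)
    have h4 : 16 ≤ ((U ⊓ Qc a : Subgroup G) : Set G).ncard := g.c16 h aU la.ne h2
    omega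
  have : ∃ b ∈ U ⊓ Qc a, b ∈ Qc s ∧ b ≠ 1 ∧ b ≠ a := by
    obtain ⟨u, hu, hu'⟩ := this
    simp only [Set.mem_insert_iff, Set.mem_singleton_iff, not_or] at hu'
    rcases i1 u (D1 hu) with e | e
    · exact ⟨u, hu, e, hu'.1, hu'.2.2.1⟩
    · refine ⟨u * z, mul_mem hu ⟨g.tm, g'.le zU'⟩, e, fun e' => hu'.2.1 ?_, fun e' => hu'.2.2.2 ?_⟩
      · rw [eq_inv_of_mul_eq_one_left e', h.toES.inv_z]
      · rw [← e', mul_assoc, h.sq, mul_one]
  obtain ⟨b, ⟨bU, ba⟩, bs, b1, b3⟩ := this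
  have b2 : b ≠ z := by rintro rfl; exact zs bs
  have hb : IsConj z b := g.inX b bU b1
  have lb := ls b hb
  obtain ⟨x'', U'', g'', zU''⟩ := loc b z hb hz (sym _ _ hz hb (g.le bU)) b2.symm
  have sU'' : s ∈ U'' := by
    refine (g''.c6 z zU'' h.ne b2.symm s hs (sym _ _ hs hb bs) (g'.inX _ (mul_mem zU' sU') fun e => sz ?_)).resolve_right
      fun e => sz ?_
    · rw [← inv_eq_of_mul_eq_one_right e]; exact inv_mem h.mem
    · have f := g''.f3 z zU'' h.ne b2.symm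
      have f' := g.le bU
      rcases e with e | e | e | e <;> rw [e]
      exacts [f, mul_mem f f', mul_mem h.mem f, mul_mem (mul_mem h.mem f) f']
  have D2 := g.symD h g'' bU b1 b2 zU''
  have i2 : ∀ u ∈ U'', u ∈ Qc s ∨ u * z ∈ Qc s := fun u hu => by
    have := g''.idx2 lb sU'' s1 (by rintro rfl; exact sz (g.le bU)) hu zU''; tauto
  have n1 : a * b ≠ 1 := fun e => b3 (by rw [← inv_eq_of_mul_eq_one_right e, la.toES.inv_z])
  have n2 : a * b ≠ z := fun e => zs (e ▸ mul_mem as bs)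
  have cs : U ≤ centralizer {s} := g.gen h aU la.ne h2 bU b1 b2 n1 n2
    (fun u hu => mem_cent_single.2 (g'.ab u (D1 hu) s sU')) fun u hu => mem_cent_single.2 (g''.ab u (D2 hu) s sU'')
  have gen2 : ∀ S : Subgroup G, U ⊓ Qc s ≤ S → z ∈ S → U ≤ S := fun S e1 e2 => by
    have k : ∀ u ∈ U, u ∈ Qc s ∨ u * z ∈ Qc s → u ∈ S := fun u hu e => e.elim (fun e => e1 ⟨hu, e⟩) fun e =>
      (S.mul_mem_cancel_right e2).1 (e1 ⟨mul_mem hu g.tm, e⟩)
    exact g.gen h aU la.ne h2 bU b1 b2 n1 n2 (fun u hu => k u hu.1 (i1 u (D1 hu))) fun u hu => k u hu.1 (i2 u (D2 hu))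
  have k1 : ∀ c ∈ U ⊓ Qc s, s * (x * c * x⁻¹) * s⁻¹ = x * c * x⁻¹ * c := by
    intro c hc
    by_cases c1 : c = 1
    · simp [c1]
    have c2 : c ≠ z := by rintro rfl; exact zs hc.2
    have hc' : IsConj z c := g.inX c hc.1 c1
    exact (ls c hc').toES.conj_anti (sym _ _ hs hc' hc.2) (g.f3 c hc.1 c1 c2)
      (g.inv s (fun u hu => (mem_cent_single.1 (cs hu)).symm) sz c hc.1 c1 c2)
  have k2 : ∀ c ∈ U ⊓ Qc s, U ≤ centralizer {x * c * x⁻¹} := fun c hc => by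
    refine gen2 _ (fun d hd => mem_cent_single.2 ?_) (mem_cent_single.2 (h.cen _ (g.xq h hc.1)).symm)
    have := k1 _ (mul_mem hd hc)
    rw [← conj_mul (b := x), ← conj_mul (b := s), k1 d hd, k1 c hc, mul_assoc, mul_assoc (x * d * x⁻¹) (x * c * x⁻¹),
      mul_right_inj, ← mul_assoc, ← mul_assoc (x * c * x⁻¹), mul_left_inj] at this
    exact this
  refine (g.cen h aU fun u hu => (mem_cent_single.1 (k2 a ⟨aU, as⟩ hu)).symm).elim la.ne h2

theorem main [IsSimpleGroup G] {z : G} (h : LS (Qc z) z) (hc : Nat.card (Qc z) = 2 ^ 9)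
    (π : centralizer ({z} : Set G) →* S36) (h1 : ∀ g, π g = 1 ↔ (g : G) ∈ Qc z)
    (h2 : ∀ c k, sign c = 1 → sign k = 1 → ∃ g, π g = (c, k)) (h3 : ∃ g, sign (π g).1 = -1) : False := by
  have H : Hyp z := ⟨h, hc, π, h1, fun k => h2 1 k (by simp), h2 c3 1 (by decide) (by simp)⟩
  obtain ⟨g, a1, a2⟩ := Cfsg.Agent.S3300.result (Invol.pResidual_two_eq_top_iff.2 fun K hK => by
      rcases (K.normal_of_index_eq_two hK).eq_bot_or_eq_top with e | e <;> rw [e] at hK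
      · have := (Qc z).card_le_card_group
        rw [index_bot] at hK; omega
      · simp at hK) z h.toES.orderOf_eq (Qc z) rfl h.toES.isExtraspecial (fun g hg => by
      rcases h.selfc g fun x hx => (mem_centralizer_iff.1 hg x hx).symm with e | e <;> rw [e]
      exacts [one_mem _, h.mem]) 4 (by norm_num) hc ((ZZ π).map (centralizer {z}).subtype) (map_subtype_le _)
    (fun g hg => cj_of_mem_normalizer (le_normalizer_map_of_normal _ hg)) (by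
      rw [relIndex, subgroupOf, comap_map_eq_self_of_injective (subtype_injective _), index_ker,
        MonoidHom.range_eq_top.2, card_top]
      · simp
      · intro u
        obtain ⟨g, hg⟩ := h3
        rcases Int.units_eq_one_or u with rfl | rfl
        exacts [⟨1, map_one _⟩, ⟨g, hg⟩])
  exact H.false (isConj_iff.2 ⟨g, rfl⟩) a1 a2

end Cfsg.Lib.N9
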