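import Cfsg.Agent.Lib.Known2.Lift

/-! A perfect double cover of `U₆(2)` or `Fi₂₂` does not split over the base group. -/

set_option autoImplicit false
set_option maxRecDepth 100000

namespace Cfsg.Lib.Known2

open Subgroup Cfsg.Lib.Comp Cfsg.Lib.Fi

variable {C Q : Type*} [Group C] [Group Q] {π : C →* Q} {d : C} {X : Set C} {Y : Set Q}

/-- No product of commuting members of `X` is `d`. -/
def Spl (X : Set C) (d : C) : Prop := ∀ l : List C, (∀ a ∈ l, a ∈ X) → (∀ a ∈ l, ∀ b ∈ l, Commute a b) → l.prod ≠ d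

theorem card_insert_le [Finite C] {S : Set C} {g : C} (hg : g * g = 1) (h : ∀ s ∈ S, g * s * g⁻¹ ∈ closure S) :
    Nat.card (closure (insert g S)) ≤ 2 * Nat.card (closure S) := by
  have c : ∀ s ∈ closure S, g * s * g⁻¹ ∈ closure S := fun s hs =>
    (closure_le ((closure S).comap (MulAut.conj g).toMonoidHom)).2 h hs
  have i : g⁻¹ = g := inv_eq_of_mul_eq_one_right hg
  have k : ∀ x, x = g ∨ x ∈ closure S → ∀ y, y ∈ closure S ∨ g * y ∈ closure S → x * y ∈ closure S ∨ g * (x * y) ∈ closure S := by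
    rintro x (rfl | a) y (b | b)
    · right; rwa [← mul_assoc, hg, one_mul]
    · exact Or.inl b
    · exact Or.inl (mul_mem a b)
    · right; convert mul_mem (c x a) b using 1; group
  have : (closure (insert g S) : Set C) ⊆ closure S ∪ (g * ·) '' closure S := fun y hy => by
    have : y ∈ closure S ∨ g * y ∈ closure S := by
      induction hy using closure_induction_left with
      | one => exact Or.inl (one_mem _)
      | mul_left x hx y _ ih => exact k x (hx.imp_right fun a => subset_closure a) y ih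
      | inv_mul_cancel x hx y _ ih => exact k _ (hx.imp (fun e => e ▸ i) fun a => inv_mem (subset_closure a)) y ih
    exact this.imp_right fun a => ⟨_, a, by simp [← mul_assoc, hg]⟩
  rw [← SetLike.coe_sort_coe, ← SetLike.coe_sort_coe, Nat.card_coe_set_eq, Nat.card_coe_set_eq, two_mul]
  exact (Set.ncard_le_ncard this).trans ((Set.ncard_union_le _ _).trans (Nat.add_le_add_left Set.ncard_image_le _))

namespace Cov

variable (h : Cov π d)
include h

theorem card_comap (K : Subgroup Q) : Nat.card (K.comap π) = 2 * Nat.card K := by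
  rw [Core.card_comap_of_surjective h.surj, mul_comm]
  congr 1
  rw [← SetLike.coe_sort_coe, Nat.card_coe_set_eq, show (π.ker : Set C) = {1, d} from Set.ext h.ker, Set.ncard_pair h.ne.symm]

theorem comap_map {H : Subgroup C} (hd : d ∈ H) : (H.map π).comap π = H :=
  comap_map_eq_self fun x hx => ((h.ker x).1 hx).elim (· ▸ one_mem H) (· ▸ hd)

theorem card_le [Finite Q] {H : Subgroup C} (hd : d ∉ H) : Nat.card H ≤ Nat.card (H.map π) :=
  Nat.card_le_card_of_injective (π.subgroupMap H) fun x y e => Subtype.ext ((h.eq_iff.1 (congrArg Subtype.val e)).resolve_right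
    fun e => hd ((mul_mem_cancel_left y.2).1 (e ▸ x.2)))

theorem not_perfect [Finite C] {H : Subgroup C} (hd : d ∉ H) {o : ℕ} (hi : H.index = 2 * o) (ho : Odd o) :
    _root_.commutator C ≠ ⊤ := fun e => by
  classical
  have := Fintype.ofFinite (C ⧸ H)
  have h1 : Equiv.Perm.sign (MulAction.toPermHom C (C ⧸ H) d) = 1 :=
    Abelianization.commutator_subset_ker (Equiv.Perm.sign.comp (MulAction.toPermHom C (C ⧸ H))) (e ▸ mem_top d)
  have : IsEmpty (Function.fixedPoints (MulAction.toPermHom C (C ⧸ H) d)) := ⟨fun ⟨x, hx⟩ => by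
    obtain ⟨g, rfl⟩ := QuotientGroup.mk_surjective x
    have := QuotientGroup.eq.1 (show ((d * g : C) : C ⧸ H) = g from hx)
    rw [← (h.comm g).eq, mul_inv_rev, inv_mul_cancel_right] at this
    exact hd (inv_mem_iff.1 this)⟩
  rw [Equiv.Perm.sign_of_pow_two_eq_one (by rw [← map_pow, _root_.sq, h.sq, map_one]), Fintype.card_eq_zero (α := Function.fixedPoints _), Nat.sub_zero,
    ← Nat.card_eq_fintype_card, ← index, hi, Nat.mul_div_cancel_left _ two_pos, ho.neg_one_pow] at h1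
  exact absurd h1 (by decide)

end Cov

/-- A relation certified by braid moves. -/
noncomputable def rlB (ok : ℕ → Bool) (pt : ℕ → ℕ) (ap : ℕ → ℕ → ℕ) (F w ns : List ℕ) (ops : List (ℕ × ℕ × ℕ)) : Bool :=
  cnd (allL w fun u => ok (pt u)) (cnd (allL F fun q => Nat.beq (w.foldr ap q) q) (hur ok pt ap ns ops (w.map pt)) false) false

/-- The relations of a polycyclic sequence. -/
noncomputable def pcB (ok : ℕ → Bool) (pt : ℕ → ℕ) (ap : ℕ → ℕ → ℕ) (F Bn : List ℕ) (T : List (ℕ × ℕ × ℕ)) :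
    List (List (List ℕ × List ℕ × List ℕ × List (ℕ × ℕ × ℕ))) → Bool :=
  List.rec (motive := fun _ => _ → Bool) (fun _ => true) (fun x T ih Cs =>
    cnd (Nat.beq (Cs.headD []).length T.length) (cnd (allL (T.zip (Cs.headD [])) fun y =>
      cnd (allL y.2.1 (fun i => Nat.blt i T.length) && allL y.2.2.1 Bn.elem)
        (rlB ok pt ap F ([x.1, x.2.1, y.1.1, y.1.2.1, x.1, x.2.1] ++ (y.2.1.flatMap (fun i =>
          [(nth x T i).1, (nth x T i).2.1]) ++ y.2.2.1)) y.2.2.2.1 y.2.2.2.2) false) (ih Cs.tail) false) false) T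

theorem pr_mem {t : ℕ → C} {w : List ℕ} {H : Subgroup C} (h : ∀ p ∈ w, t p ∈ H) : pr t w ∈ H :=
  list_prod_mem fun _ hx => let ⟨p, a, e⟩ := List.mem_map.1 hx; e ▸ h p a

namespace AI

variable {t : ℕ → Q} {ok : ℕ → Bool} {pt : ℕ → ℕ} {ap : ℕ → ℕ → ℕ} (A : AI Y t ok pt ap)
include A

theorem pr_act {w : List ℕ} (hw : ∀ u ∈ w, ok (pt u) = true) {q : ℕ} (hq : ok q = true) :
    ok (w.foldr ap q) = true ∧ pr t (w.map pt) * t q * (pr t (w.map pt))⁻¹ = t (w.foldr ap q) := by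
  induction w with
  | nil => exact ⟨hq, by simp [pr]⟩
  | cons u w ih =>
    obtain ⟨a, b⟩ := ih fun v hv => hw v (List.mem_cons_of_mem _ hv)
    refine ⟨(A.act u _ (hw u List.mem_cons_self) a).1, ?_⟩
    rw [List.foldr_cons, ← A.act' (hw u List.mem_cons_self) a, ← b]
    simp only [pr, List.map_cons, List.prod_cons]; group

theorem lift (L : Lf π X Y) : ∃ s, AI X s ok pt ap ∧ ∀ p, ok p = true → π (s p) = t p := by
  choose! f hf using L.surj
  have m := fun p hp => hf _ (A.mem p hp)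
  refine ⟨fun p => f (t p), ⟨L.tt, fun p hp => (m p hp).1, fun x hx => ?_, fun p q hp hq e => A.inj p q hp hq ?_,
    fun u p hu hp => ⟨(A.act u p hu hp).1, ?_⟩⟩, fun p hp => (m p hp).2⟩
  · obtain ⟨p, hp, e⟩ := A.surj _ (L.map x hx)
    exact ⟨p, hp, L.inj _ (m p hp).1 _ hx ((m p hp).2.trans e)⟩
  · rw [← (m p hp).2, e, (m q hq).2]
  · refine L.inj _ (L.tt.conj _ (m _ hu).1 _ (m p hp).1) _ (m _ (A.act u p hu hp).1).1 ?_
    rw [map_mul, map_mul, (m _ hu).2, (m p hp).2, (m _ (A.act u p hu hp).1).2, (A.act u p hu hp).2]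

theorem ns [Finite C] [Finite Q] (h : Cov π d) (L : Lf π X Y) (hs : Spl X d) {Bn Bp F : List ℕ} {r k m o : ℕ} {c : ℕ → ℕ}
    (B : BM Y r k c fun i => t (nth 0 Bp i)) {T : List (ℕ × ℕ × ℕ)} (hT : allL T (codB ok pt ap Bp r) = true) {Lc Iv : List ℕ}
    (hb : syB r k m c (T.map (·.2.2)) Lc Iv = true) (hc : Nat.card Q = 2 ^ (k + m) * o) (ho : Odd o)
    (hF : ∀ g, (∀ q ∈ F, Commute g (t q)) → g = 1) {Cs : List (List (List ℕ × List ℕ × List ℕ × List (ℕ × ℕ × ℕ)))}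
    (h1 : (Nat.beq T.length m && allL F ok && (Bn.map pt == Bp && Nat.beq Bp.length r && allL Bp ok)) = true)
    (h2 : pcB ok pt ap F Bn T Cs = true) : _root_.commutator C ≠ ⊤ := by
  simp only [Bool.and_eq_true, beq_tt, allL_iff, beq_iff_eq] at h1
  obtain ⟨⟨rfl, h3⟩, ⟨h4, rfl⟩, h5⟩ := h1
  obtain ⟨s, A', hs'⟩ := A.lift L
  have ok1 : ∀ i < Bp.length, ok (nth 0 Bp i) = true := fun i hi => h5 _ (by simp [nth_eq, hi])
  have rl : ∀ w ns ops, rlB ok pt ap F w ns ops = true → pr s (w.map pt) = 1 := fun w ns ops a => by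
    simp only [rlB, cnd_tt, allL_iff, beq_tt] at a
    obtain ⟨l, l1, -, l2, l3⟩ := A'.hur_spec a.2.2 fun p hp => let ⟨u, b, e⟩ := List.mem_map.1 hp; e ▸ a.1 u b
    refine ((h.ker _).1 ?_).resolve_right (l1 ▸ hs l l2 l3)
    rw [show π (pr s (w.map pt)) = pr t (w.map pt) by
      simp only [pr, map_list_prod, List.map_map]; exact congrArg _ (List.map_congr_left fun u hu => hs' _ (a.1 u hu))]
    exact hF _ fun q hq => conj_eq_self_iff.1 (by rw [(A.pr_act a.1 (h3 q hq)).2, a.2.1 q hq])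
  set β := fun i => s (nth 0 Bp i)
  have e0 : ∀ T, (∀ x ∈ T, ok (pt x.1) = true ∧ ok (pt x.2.1) = true) → (closure (Bs β Bp.length ∪ {g | ∃ x ∈ prs s pt T, x.1 = g})).map π =
      closure (Bs (fun i => t (nth 0 Bp i)) Bp.length ∪ {g | ∃ x ∈ prs t pt T, x.1 = g}) := fun T hT => by
    rw [MonoidHom.map_closure, Set.image_union]
    congr 2
    · exact Set.ext fun x => ⟨fun ⟨_, ⟨i, a, e⟩, e'⟩ => ⟨i, a, by rw [← e', ← e, hs' _ (ok1 i a)]⟩,
        fun ⟨i, a, e⟩ => ⟨_, ⟨i, a, rfl⟩, (hs' _ (ok1 i a)).trans e⟩⟩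
    · ext x
      simp only [prs, List.mem_map, Set.mem_image, Set.mem_ofPred_eq, exists_exists_and_eq_and]
      exact exists_congr fun y => and_congr_right fun a => by rw [map_mul, hs' _ (hT y a).1, hs' _ (hT y a).2]
  have k1 : Nat.card (closure (Bs β Bp.length ∪ {g | ∃ x ∈ prs s pt T, x.1 = g})) ≤ 2 ^ (k + T.length) := by
    clear hb hc
    induction T generalizing Cs with
    | nil =>
      refine (h.card_le fun a => ?_).trans (by rw [e0 [] (by simp)]; simp [prs, B.card])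
      obtain ⟨l, l1, l2⟩ := Submonoid.exists_list_of_mem_closure ((closure_toSubmonoid _).le a)
      have : ∀ x ∈ l, ∃ i < Bp.length, β i = x := fun x hx => (l1 x hx).elim (by simp [prs, Bs]) fun a => by
        obtain ⟨i, hi, e⟩ : ∃ i < Bp.length, β i = x⁻¹ := by simpa [prs, Bs] using a
        exact ⟨i, hi, by rw [← inv_inv x, ← e, L.tt.inv (A'.mem _ (ok1 i hi))]⟩
      refine hs l (fun x hx => ?_) (fun x hx y hy => ?_) l2
      · obtain ⟨i, hi, rfl⟩ := this x hx; exact A'.mem _ (ok1 i hi)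
      · obtain ⟨i, hi, rfl⟩ := this x hx
        obtain ⟨j, hj, rfl⟩ := this y hy
        refine L.comm _ _ (L.map _ (A'.mem _ (ok1 i hi))) (L.map _ (A'.mem _ (ok1 j hj))) ?_
        rw [hs' _ (ok1 i hi), hs' _ (ok1 j hj)]; exact B.comm i hi j hj
    | cons x T ih =>
      rw [allL_iff] at hT
      obtain ⟨a1, a2, a3⟩ : (Cs.headD []).length = T.length ∧ _ ∧ pcB ok pt ap F Bn T Cs.tail = true := by
        simpa only [pcB, cnd_tt, beq_tt] using h2
      obtain ⟨c1, c2, c3, c4⟩ := A'.cod (hT x List.mem_cons_self)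
      rw [show Bs β Bp.length ∪ {g | ∃ y ∈ prs s pt (x :: T), y.1 = g} =
        insert (s (pt x.1) * s (pt x.2.1)) (Bs β Bp.length ∪ {g | ∃ y ∈ prs s pt T, y.1 = g}) by
          ext g; simp only [prs, List.map_cons, List.mem_cons, exists_eq_or_imp, Set.mem_union, Set.mem_ofPred_eq,
            Set.mem_insert_iff, eq_comm (a := g)]; tauto]
      refine (card_insert_le c3 ?_).trans (by
        have := ih a3 (allL_iff.2 fun y hy => hT y (List.mem_cons_of_mem _ hy))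
        rw [List.length_cons, ← add_assoc, pow_succ]; omega)
      rintro _ (⟨i, hi, rfl⟩ | ⟨_, hy, rfl⟩)
      · exact subset_closure (Or.inl ⟨_, (c4.1 i hi).1, (c4.1 i hi).2.symm⟩)
      obtain ⟨y, hy', rfl⟩ := List.mem_map.1 hy
      rw [← List.map_fst_zip (l₂ := Cs.headD []) a1.ge] at hy'
      obtain ⟨z, hz, rfl⟩ := List.mem_map.1 hy'
      have := allL_iff.1 a2 z hz
      simp only [cnd_tt, Bool.and_eq_true, allL_iff, Nat.blt_eq, List.elem_iff] at this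
      have e := rl _ _ _ this.2
      rw [List.map_append, pr_append, mul_eq_one_iff_eq_inv] at e
      rw [inv_eq_of_mul_eq_one_right c3]
      simp only [pr, List.map_cons, List.prod_cons, List.map_nil, List.prod_nil, mul_one, mul_assoc] at e ⊢
      refine e ▸ inv_mem (show pr s _ ∈ _ from ?_)
      rw [List.map_append, pr_append]
      refine mul_mem ?_ (pr_mem fun p hp => subset_closure (Or.inl ?_))
      · have := this.1.1
        clear e
        generalize z.2.1 = l at this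
        induction l with
        | nil => exact one_mem _
        | cons i l ih =>
          rw [List.flatMap_cons, List.map_append, pr_append]
          refine mul_mem (subset_closure (Or.inr ⟨_, List.mem_map_of_mem (a := nth x T i) ?_, by simp [pr]⟩))
            (ih fun j hj => this j (List.mem_cons_of_mem _ hj))
          simp [nth_eq, this i List.mem_cons_self]
      · obtain ⟨u, hu, rfl⟩ := List.mem_map.1 hp
        obtain ⟨i, hi, e⟩ := List.getElem_of_mem (h4 ▸ List.mem_map_of_mem (f := pt) (this.1.2 u hu))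
        exact ⟨i, hi, by simp [β, nth_eq, hi, e]⟩
  obtain ⟨P, p1, p2, -⟩ := B.sylow (A.cods hT) (by rw [prs_snd]; exact hb) hc ho
  rw [← e0 T fun x hx => ⟨(A.cod (allL_iff.1 hT x hx)).1, (A.cod (allL_iff.1 hT x hx)).2.1⟩] at p2
  have k2 := p1 ▸ card_le_of_le p2
  generalize closure (Bs β Bp.length ∪ {g | ∃ x ∈ prs s pt T, x.1 = g}) = H at *
  have k3 := Nat.le_of_dvd Nat.card_pos (H.card_map_dvd π)
  refine h.not_perfect (H := H) (fun a => ?_) ?_ ho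
  · have := h.card_comap (H.map π)
    rw [h.comap_map a] at this
    have := Nat.two_pow_pos (k + T.length)
    omega
  · have e1 := H.card_mul_index
    have e2 := h.card_comap ⊤
    rw [comap_top, card_top, card_top, hc] at e2
    rw [le_antisymm k1 (k2.trans k3), e2] at e1
    exact Nat.eq_of_mul_eq_mul_left (Nat.two_pow_pos _) (e1.trans (by ring))

end AI

def BU.Cs : List (List (List ℕ × List ℕ × List ℕ × List (ℕ × ℕ × ℕ))) := [[([0], [], [], [(1, 1, 264), (0, 0, 264), (3, 1, 264), (2, 0, 264), (1, 1, 1012), (0, 0, 1012), (0, 0, 575)]),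
  ([1], [], [], [(1, 1, 264), (0, 0, 264), (3, 1, 264), (2, 0, 264), (1, 1, 1012), (0, 0, 1012), (0, 0, 459)]),
  ([3, 1], [12, 15], [], [(1, 3, 264), (0, 0, 264), (1, 2, 1012), (0, 0, 1012), (0, 4, 264), (1, 2, 536), (3, 3, 12), (2, 0, 12), (3, 2, 15), (2, 0, 15), (1, 0, 536), (0, 0, 264)]),
  ([2, 1], [12, 15, 48, 51], [1012, 1015, 459, 264, 48, 51], [(1, 3, 264), (0, 0, 264), (1, 2, 1012), (0, 0, 1012), (0, 3, 471), (6, 2, 48), (2, 5, 12), (0, 4, 536), (2, 6, 15), (1, 0, 15), (0, 1, 1012), (2, 1, 2044), (1, 0, 2044)]),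
  ([4, 1], [51, 240], [264, 1015, 820, 456, 51, 240], [(1, 3, 264), (0, 0, 264), (1, 2, 1012), (0, 0, 1012), (2, 3, 459), (0, 5, 264), (2, 2, 467), (1, 2, 1015), (3, 2, 464), (2, 0, 464)])],
  [([0], [], [], [(1, 1, 264), (0, 0, 264), (3, 1, 264), (2, 0, 264), (1, 1, 575), (0, 0, 575), (0, 0, 459)]),
  ([2], [12, 15, 48, 240], [1011, 819, 12, 15, 48, 240], [(1, 3, 264), (0, 0, 264), (1, 2, 575), (0, 0, 575), (1, 2, 215), (2, 1, 20), (1, 2, 1575), (0, 0, 1575)]),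
  ([1], [12, 15], [], [(1, 3, 264), (0, 0, 264), (1, 2, 575), (0, 0, 575), (1, 2, 471), (3, 1, 12), (2, 0, 12), (1, 1, 536), (0, 0, 536), (0, 0, 15)]),
  ([3, 2, 1, 0], [12, 15, 48, 240], [575, 767, 459, 264, 48, 240], [(1, 3, 264), (0, 0, 264), (1, 2, 575), (0, 0, 575), (4, 2, 276), (3, 2, 272), (2, 0, 272), (3, 2, 471), (3, 1, 275), (2, 0, 275), (3, 3, 12), (2, 2, 27), (4, 3, 15), (3, 0, 15), (0, 2, 27), (0, 2, 575), (1, 1, 767), (2, 0, 24)])],
  [([0], [12, 15, 48, 51, 60, 63], [240, 243, 12, 15, 60, 63], [(1, 3, 264), (0, 0, 264), (1, 2, 459), (0, 0, 459), (1, 6, 51), (3, 4, 48), (1, 3, 279), (0, 0, 279), (0, 1, 240), (2, 1, 468), (1, 0, 468)]),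
  ([1], [12, 15, 48, 51, 60, 63], [240, 243, 12, 15, 60, 63], [(1, 3, 264), (0, 0, 264), (1, 2, 459), (0, 0, 459), (2, 4, 48), (1, 2, 36), (3, 4, 51), (2, 0, 51), (1, 2, 212), (0, 0, 212)]),
  ([2], [12, 15, 48, 51, 60, 63], [207, 204, 48, 51, 60, 63], [(1, 3, 264), (0, 0, 264), (1, 2, 459), (0, 0, 459), (2, 2, 12), (3, 2, 15), (2, 2, 464), (1, 0, 464), (1, 2, 467), (0, 0, 467)])],
  [([0], [12, 15, 48, 51, 60, 63], [207, 204, 48, 51, 60, 63], [(1, 3, 276), (0, 0, 276), (1, 2, 471), (0, 0, 471), (2, 3, 15), (4, 1, 12), (1, 4, 212), (0, 0, 212), (0, 2, 207), (2, 1, 216), (1, 0, 216)]),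
  ([1], [], [], [(1, 3, 276), (0, 0, 276), (1, 2, 471), (0, 0, 471), (1, 0, 272), (0, 0, 275)])],
  [([0], [12, 15, 48, 51, 60, 63], [207, 204, 48, 51, 60, 63], [(1, 3, 20), (0, 0, 20), (1, 2, 215), (0, 0, 215), (2, 3, 15), (1, 3, 723), (3, 2, 12), (2, 0, 12), (1, 2, 464), (0, 0, 464)])],
  []]
theorem BU.pc : pcB okU (fun u => u) opU [109, 3, 69, 12, 40, 127, 1263, 275] BU.Bn BU.T BU.Cs = true := by decide +kernel

def BF.Cs : List (List (List ℕ × List ℕ × List ℕ × List (ℕ × ℕ × ℕ))) := [[([5, 4], [0, 6678, (nat_lit 0x6161a), (nat_lit 0xa1a16), (nat_lit 0xa180e18), (nat_lit 0x1a120e16)], [(nat_lit 0x1a0c160616), (nat_lit 0x14161a), 0, 6678, (nat_lit 0x6161a), (nat_lit 0xa1a16), (nat_lit 0xa180e18), (nat_lit 0x1a120e16)], [(1, 3, (nat_lit 0x1a101218)), (0, 0, (nat_lit 0x1a101218)), (1, 2, (nat_lit 0xe141a)), (0, 0, (nat_lit 0xe141a)), (0, 2, (nat_lit 0x40c1a)), (4, 1, (nat_lit 0x40e16)), (2, 3,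 (nat_lit 0x14080c1a)), (4, 1, (nat_lit 0x40e16)), (1, 4, (nat_lit 0x40c1a)), (0, 0, (nat_lit 0x40c1a)), (0, 2, (nat_lit 0x1a0c160616)), (2, 1, (nat_lit 0xc160c0816)), (1, 0, (nat_lit 0xc160c0816))]),
  ([5, 4, 2], [(nat_lit 0x41a16), (nat_lit 0xa180e18)], [(nat_lit 0x1808041a), (nat_lit 0x616180816), (nat_lit 0x1a14061a), (nat_lit 0x6160e0216), (nat_lit 0xa180a18), (nat_lit 0x160a140616)], [(1, 3, (nat_lit 0x1a101218)), (0, 0, (nat_lit 0x1a101218)), (1, 2, (nat_lit 0xe141a)), (0, 0, (nat_lit 0xe141a)), (6, 2, (nat_lit 0x41a16)), (7, 1, (nat_lit 0x100a1a16)), (1, 4, (nat_lit 0x40e16)), (1, 8, (nat_lit 0xa180e18)), (0, 5, (nat_lit 0x1808041a)), (2, 3, (nat_lit 0x1a14061a)), (5, 1, (nat_lit 0x100c100216)), (4, 0, (nat_lit 0x100c100216)), (4, 1, (nat_lit 0x41a16)), (3, 0, (nat_lit 0x41a16))]),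
  ([1, 0], [0, 6678, (nat_lit 0x41a16), (nat_lit 0x6161a), (nat_lit 0x180e18), (nat_lit 0xa14161a), (nat_lit 0xa180e18), (nat_lit 0x1a120e16)], [(nat_lit 0xa14161a), (nat_lit 0x1a120a16), (nat_lit 0xc16040218), 6678, (nat_lit 0x41a16), (nat_lit 0x6161a), (nat_lit 0xa180e18), (nat_lit 0x1a120e16)], [(1, 3, (nat_lit 0x1a101218)), (0, 0, (nat_lit 0x1a101218)), (1, 2, (nat_lit 0xe141a)), (0, 0, (nat_lit 0xe141a)), (2, 3, 2072), (3, 8, (nat_lit 0xa14161a)), (0, 4, (nat_lit 0x1a181a0216)), (1, 3, (nat_lit 0xa14161a)), (5, 2, 0), (7, 4, (nat_lit 0x180e18)), (3, 5, (nat_lit 0x1614120816)), (2, 0, (nat_lit 0x1614120816)), (0, 2, (nat_lit 0x1016080e16)), (2, 3, (nat_lit 0x18060416)), (1, 0, (nat_lit 0x18060416)), (2, 1, (nat_lit 0xc160816)), (3, 1, (nat_lit 0x8161a18)), (1, 3, (nat_lit 0x1016080e16)), (0, 0, (nat_lit 0x1016080e16))]),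
  ([4, 3, 1], [6678, (nat_lit 0xa1a16)], [(nat_lit 0xe18100416), (nat_lit 0x6021816), (nat_lit 0x6160e0216), (nat_lit 0x10080e16), (nat_lit 0x18161416), 5656], [(10, 1, 5656), (9, 0, 5656), (1, 3, (nat_lit 0x1a101218)), (0, 0, (nat_lit 0x1a101218)), (1, 2, (nat_lit 0xe141a)), (0, 0, (nat_lit 0xe141a)), (1, 3, (nat_lit 0x6021816)), (4, 3, (nat_lit 0xa1a16)), (5, 2, 6678), (4, 2, (nat_lit 0x1a140616)), (3, 0, (nat_lit 0x1a140616))]),
  ([5, 2, 1], [0, 6678, (nat_lit 0x41a16), (nat_lit 0x14161a), (nat_lit 0x6161a), (nat_lit 0xa1a16), (nat_lit 0x16120c1a), (nat_lit 0xa180e18)], [(nat_lit 0x618021a), (nat_lit 0x140c0616), (nat_lit 0x218101816), (nat_lit 0x40c0416), (nat_lit 0x1404161016), (nat_lit 0x1a0e16), (nat_lit 0x10061a16), (nat_lit 0xa180e18)], [(1, 3, (nat_lit 0x1a101218)), (0, 0, (nat_lit 0x1a101218)), (1, 2, (nat_lit 0xe141a)), (0, 0, (nat_lit 0xe141a)), (2, 10, (nat_lit 0x6161a)), (3, 12,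 (nat_lit 0xa180e18)), (6, 9, (nat_lit 0x16120c1a)), (6, 3, (nat_lit 0x1418101a)), (7, 6, (nat_lit 0x41a16)), (3, 10, 6678), (4, 10, (nat_lit 0x14161a)), (3, 4, (nat_lit 0x1214160a16)), (9, 6, (nat_lit 0xa1a16)), (2, 11, (nat_lit 0x6120618)), (6, 9, 0), (2, 7, (nat_lit 0x140816)), (4, 11, (nat_lit 0xe140a0616)), (3, 0, (nat_lit 0xe140a0616)), (9, 1, (nat_lit 0xa1416)), (4, 6, (nat_lit 0x8060216)), (3, 0, (nat_lit 0x8060216)), (2, 1, (nat_lit 0x121a0618)), (4, 7, (nat_lit 0x1214160a16)), (3, 0, (nat_lit 0x1214160a16)), (1, 6, (nat_lit 0x1a120a16)), (4, 5, (nat_lit 0x16120c1a)), (0, 5, (nat_lit 0x140c0616)), (8, 1, (nat_lit 0x10061a16)), (0, 3, (nat_lit 0x618021a)), (4, 3, (nat_lit 0x1a0c160616)), (3, 2, (nat_lit 0x180c040216)), (2, 0, (nat_lit 0x180c040216))]),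
  ([5, 2, 1, 0], [0, 6678, (nat_lit 0x41a16), (nat_lit 0x14161a), (nat_lit 0x6161a), (nat_lit 0xa1a16), (nat_lit 0x16120c1a), (nat_lit 0xa180e18)], [(nat_lit 0x6161a), (nat_lit 0x40c1a), (nat_lit 0x1a0c160616), (nat_lit 0x18040816), (nat_lit 0xe0a0416), (nat_lit 0x16080218), (nat_lit 0x1606040216), (nat_lit 0xa1218)], [(1, 3, (nat_lit 0x1a101218)), (0, 0, (nat_lit 0x1a101218)), (1, 2, (nat_lit 0xe141a)), (0, 0, (nat_lit 0xe141a)), (6, 2, (nat_lit 0x12101418)), (0, 17, (nat_lit 0xa180e18)), (0, 1, (nat_lit 0x41016)), (1, 9, 2072), (0, 3, (nat_lit 0x1806080a16)), (2, 6, (nat_lit 0x12101418)), (1, 0, (nat_lit 0x12101418)), (0, 9, 0), (3, 9, (nat_lit 0x14161a)), (4, 10, (nat_lit 0xa1a16)), (1, 14, (nat_lit 0x16120c1a)), (2, 4, (nat_lit 0xa180e18)), (1, 8, (nat_lit 0xc14101a)), (2, 8, (nat_lit 0x140a0e16)), (3, 3, (nat_lit 0xa18161a)), (5, 7, (nat_lit 0x18140a16)), (4, 0, (nat_lit 0x18140a16)), (3, 2,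 (nat_lit 0x16120c1a)), (5, 5, (nat_lit 0x8180e16)), (4, 0, (nat_lit 0x8180e16)), (7, 2, 6678), (6, 0, 6678), (6, 2, (nat_lit 0x41a16)), (0, 9, (nat_lit 0x6161a)), (1, 1, (nat_lit 0xc14101a)), (4, 3, (nat_lit 0x41a16)), (1, 4, (nat_lit 0x16120c1a)), (1, 8, (nat_lit 0x40c1a)), (2, 1, (nat_lit 0xe0a0416)), (2, 4, (nat_lit 0x12081a18)), (2, 6, (nat_lit 0x1a0c160616)), (6, 2, (nat_lit 0x12180a1a)), (3, 2, (nat_lit 0x18040816)), (5, 2, (nat_lit 0x160e1416)), (4, 0, (nat_lit 0x160e1416))])],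
  [([0], [(nat_lit 0x41a16), (nat_lit 0xa14161a)], [(nat_lit 0x18120e16), (nat_lit 0xa18161a), (nat_lit 0x4061016), 5656, (nat_lit 0x41a16), (nat_lit 0xa14161a)], [(1, 3, (nat_lit 0x12101418)), (0, 0, (nat_lit 0x12101418)), (1, 2, 2072), (0, 0, 2072)]),
  ([4], [6678, (nat_lit 0x14161a), (nat_lit 0xa1a16), (nat_lit 0x16120c1a), (nat_lit 0xa14161a), (nat_lit 0xa180e18)], [(nat_lit 0xa041a16), (nat_lit 0x616060416), 6678, (nat_lit 0x14161a), (nat_lit 0xa1a16), (nat_lit 0xa180e18)], [(1, 3, (nat_lit 0x12101418)), (0, 0, (nat_lit 0x12101418)), (1, 2, 2072), (0, 0, 2072), (2, 5, (nat_lit 0x16120c1a)), (1, 2, (nat_lit 0x8180c0416)), (3, 5, (nat_lit 0xa14161a)), (2, 0, (nat_lit 0xa14161a)), (1, 2, (nat_lit 0x1214160a16)), (0, 0, (nat_lit 0x1214160a16))]),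
  ([2, 0], [0, (nat_lit 0x6161a), (nat_lit 0xa180e18), (nat_lit 0x1a120e16)], [(nat_lit 0x16120c1a), (nat_lit 0x10061a16), (nat_lit 0x14161a), 0, (nat_lit 0x6161a), (nat_lit 0xa180e18)], [(8, 1, 5656), (7, 0, 5656), (1, 3, (nat_lit 0x12101418)), (0, 0, (nat_lit 0x12101418)), (1, 2, 2072), (0, 0, 2072), (0, 3, (nat_lit 0x4061016)), (2, 5, (nat_lit 0x1a120e16)), (1, 3, (nat_lit 0xe140a0616)), (0, 2, (nat_lit 0x16120c1a)), (2, 2, (nat_lit 0x12060218)), (1, 0, (nat_lit 0x12060218))]),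
  ([4, 3, 1], [0, (nat_lit 0x41a16), (nat_lit 0x14161a), (nat_lit 0x6161a), (nat_lit 0x16120c1a), (nat_lit 0x1a120e16)], [(nat_lit 0x1a120e16), (nat_lit 0x1808140816), (nat_lit 0x16120c1a), (nat_lit 0xa041a16), (nat_lit 0x160e1416), 0, (nat_lit 0x6161a), (nat_lit 0x14161a)], [(1, 3, (nat_lit 0x12101418)), (0, 0, (nat_lit 0x12101418)), (1, 2, 2072), (0, 0, 2072), (5, 6, (nat_lit 0x6161a)), (0, 13, (nat_lit 0x1a120e16)), (2, 8, 0), (11, 2, (nat_lit 0x16120c1a)), (7, 5, (nat_lit 0x41a16)), (3, 8, (nat_lit 0x6180e18)), (1, 3, (nat_lit 0xe18040216)), (3, 8, (nat_lit 0x1a0e021a)), (2, 0, (nat_lit 0x1a0e021a)), (8, 2, (nat_lit 0x16120c1a)), (1, 6, (nat_lit 0xa041a16)), (3, 3, (nat_lit 0x16061416)), (3, 5, (nat_lit 0x16120c1a)), (1, 2, (nat_lit 0x16120c1a)), (5, 5, (nat_lit 0x160618)), (1, 6, (nat_lit 0xc14101a)), (9, 1, (nat_lit 0x612080216)), (5, 5, (nat_lit 0x6100c0416)), (4, 0, (nat_lit 0x6100c0416)),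 (1, 3, (nat_lit 0x1808140816)), (3, 4, (nat_lit 0xa1218)), (2, 0, (nat_lit 0xa1218))]),
  ([1], [0, (nat_lit 0x41a16), (nat_lit 0x14161a), (nat_lit 0x6161a), (nat_lit 0x16120c1a), (nat_lit 0x1a120e16)], [(nat_lit 0x1a0a0216), (nat_lit 0xa160a0e16), (nat_lit 0x18140a0216), (nat_lit 0x616040616), (nat_lit 0x140e161a), (nat_lit 0x1a0a0e16), 0, (nat_lit 0x14161a)], [(1, 3, (nat_lit 0x12101418)), (0, 0, (nat_lit 0x12101418)), (1, 2, 2072), (0, 0, 2072), (1, 4, (nat_lit 0x41a16)), (6, 2, (nat_lit 0x16120c1a)), (6, 1, (nat_lit 0x14161a)), (0, 3, (nat_lit 0x160e0616)), (0, 7, (nat_lit 0x16120c1a)), (3, 6, (nat_lit 0x1a120e16)), (2, 7, (nat_lit 0x6161a)), (1, 4, (nat_lit 0x160e0616)), (1, 1, (nat_lit 0x16120c1a)), (0, 0, (nat_lit 0x16120c1a))])],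
  [([3], [(nat_lit 0x14161a), (nat_lit 0x6161a), (nat_lit 0x180e18), (nat_lit 0x16120c1a), (nat_lit 0xa14161a), (nat_lit 0x1a120e16)], [(nat_lit 0x1a120a1a), (nat_lit 0xa180e18), (nat_lit 0x180e18), (nat_lit 0x14161a), (nat_lit 0x6161a), (nat_lit 0x16120c1a), (nat_lit 0xa14161a), (nat_lit 0x1a120e16)], [(1, 3, (nat_lit 0x4061016)), (0, 0, (nat_lit 0x4061016)), (1, 2, 5656), (0, 0, 5656), (4, 2, (nat_lit 0x180e18)), (1, 2, (nat_lit 0xa1218)), (2, 1, (nat_lit 0x40c1a)), (1, 2, (nat_lit 0xa120418)), (0, 0, (nat_lit 0xa120418))]),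
  ([1], [], [], [(2, 1, 5656), (1, 0, 5656), (1, 1, (nat_lit 0x4061016)), (0, 0, (nat_lit 0x4061016)), (1, 1, (nat_lit 0x6021816)), (0, 0, (nat_lit 0x6021816)), (0, 0, 5656)]),
  ([2], [], [], [(1, 3, (nat_lit 0x4061016)), (0, 0, (nat_lit 0x4061016)), (1, 2, 5656), (0, 0, 5656), (1, 0, (nat_lit 0x14080c1a)), (0, 0, (nat_lit 0x40e16))]),
  ([0], [(nat_lit 0x14161a), (nat_lit 0x6161a), (nat_lit 0x180e18), (nat_lit 0x16120c1a), (nat_lit 0xa14161a), (nat_lit 0xa180e18)], [(nat_lit 0x1a120e16), (nat_lit 0x1a120a1a), (nat_lit 0x14161a), (nat_lit 0x6161a), (nat_lit 0x180e18), (nat_lit 0x16120c1a), (nat_lit 0xa14161a), (nat_lit 0xa180e18)], [(1, 3, (nat_lit 0x4061016)), (0, 0, (nat_lit 0x4061016)), (1, 2, 5656), (0, 0, 5656), (1, 2, (nat_lit 0x1a0a0e16)), (0, 2, (nat_lit 0x1a120e16)), (2, 1, (nat_lit 0x181416)), (1, 0, (nat_lit 0x181416))])],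
  [([1, 0], [0, 6678, (nat_lit 0x41a16), (nat_lit 0x14161a), (nat_lit 0x180e18), (nat_lit 0xa1a16), (nat_lit 0x16120c1a), (nat_lit 0xa14161a)], [(nat_lit 0xc16040218), 6678, (nat_lit 0x41a16), (nat_lit 0xa1a16), (nat_lit 0x180e18), (nat_lit 0xa14161a)], [(1, 3, (nat_lit 0x181416)), (0, 0, (nat_lit 0x181416)), (1, 2, (nat_lit 0x1a0a0e16)), (0, 0, (nat_lit 0x1a0a0e16)), (10, 1, (nat_lit 0xa1a16)), (8, 1, (nat_lit 0x14161a)), (1, 4, 5656), (2, 10, (nat_lit 0x16120c1a)), (0, 3, (nat_lit 0xc080a18)), (2, 7, (nat_lit 0x14161a)), (1, 0, (nat_lit 0x14161a)), (4, 2, 0), (2, 3, (nat_lit 0xc040c0816)), (1, 0, (nat_lit 0xc040c0816)), (2, 2, (nat_lit 0xe160616)), (2, 1, (nat_lit 0xe041416)), (1, 0, (nat_lit 0xe041416)), (0, 1, (nat_lit 0xc16040218)), (1, 0, (nat_lit 0x21a0e16))]),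
  ([1], [6678, (nat_lit 0x6161a), (nat_lit 0x180e18), (nat_lit 0xa1a16), (nat_lit 0xa180e18), (nat_lit 0x1a120e16)], [(nat_lit 0xa14161a), (nat_lit 0x18100e1a), (nat_lit 0x10061a16), 6678, (nat_lit 0x6161a), (nat_lit 0x180e18), (nat_lit 0xa1a16), (nat_lit 0x1a120e16)], [(1, 3, (nat_lit 0x181416)), (0, 0, (nat_lit 0x181416)), (1, 2, (nat_lit 0x1a0a0e16)), (0, 0, (nat_lit 0x1a0a0e16)), (2, 6, (nat_lit 0xa180e18)), (1, 2, (nat_lit 0x100c100216)), (0, 2, (nat_lit 0xa14161a)), (2, 2, (nat_lit 0x120e0418)), (1, 0, (nat_lit 0x120e0418))]),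
  ([2], [0, 6678, (nat_lit 0x6161a), (nat_lit 0xa1a16), (nat_lit 0xa180e18), (nat_lit 0x1a120e16)], [(nat_lit 0x1a120a1a), (nat_lit 0x18100e1a), 0, 6678, (nat_lit 0x6161a), (nat_lit 0xa1a16)], [(1, 3, (nat_lit 0x181416)), (0, 0, (nat_lit 0x181416)), (1, 2, (nat_lit 0x1a0a0e16)), (0, 0, (nat_lit 0x1a0a0e16)), (2, 6, (nat_lit 0xa180e18)), (3, 6, (nat_lit 0x1a120e16)), (2, 2, (nat_lit 0x180a120416)), (1, 0, (nat_lit 0x180a120416)), (1, 2, (nat_lit 0xe0a0416)), (0, 0, (nat_lit 0xe0a0416))])],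
  [([0], [0, 6678, (nat_lit 0x41a16), (nat_lit 0x6161a), (nat_lit 0xa1a16), (nat_lit 0xa14161a)], [(nat_lit 0x180e18), (nat_lit 0xc16040218), 6678, (nat_lit 0x41a16), (nat_lit 0xa1a16), (nat_lit 0xa14161a)], [(1, 3, (nat_lit 0x6021816)), (0, 0, (nat_lit 0x6021816)), (1, 2, 5656), (0, 0, 5656), (2, 1, (nat_lit 0x40e16)), (2, 2, 0), (3, 4, (nat_lit 0x6161a)), (2, 2, (nat_lit 0x16081a16)), (1, 0, (nat_lit 0x16081a16)), (1, 2, (nat_lit 0x181a0a1816)), (0, 0, (nat_lit 0x181a0a1816))]),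
  ([1, 0], [(nat_lit 0x41a16), (nat_lit 0xa14161a), (nat_lit 0xa180e18), (nat_lit 0x1a120e16)], [], [(1, 3, (nat_lit 0x6021816)), (0, 0, (nat_lit 0x6021816)), (1, 2, 5656), (0, 0, 5656), (2, 5, (nat_lit 0xa14161a)), (1, 6, (nat_lit 0x41a16)), (4, 2, (nat_lit 0x181a0a1816)), (1, 4, (nat_lit 0xc1a140416)), (0, 0, (nat_lit 0xc1a140416)), (2, 4, (nat_lit 0xa180e18)), (1, 0, (nat_lit 0xa180e18)), (1, 2, (nat_lit 0x8061a16)), (0, 0, (nat_lit 0x8061a16)), (1, 0, (nat_lit 0xe021a0216)), (0, 0, (nat_lit 0x1a120e16))])],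
  [([0], [], [], [(1, 3, (nat_lit 0x14080c1a)), (0, 0, (nat_lit 0x14080c1a)), (1, 2, (nat_lit 0x40e16)), (0, 0, (nat_lit 0x40e16)), (1, 0, (nat_lit 0x40c1a)), (0, 0, (nat_lit 0xa1218))])],
  []]
theorem BF.pc : pcB (okM par22) (pt par22) (apM par22) [753, 205, 1354, 918, 721, 2527] BF.Bn BF.T BF.Cs = true := by decide +kernel

theorem U6.ns [Finite C] [Finite Q] (U : U6 Y) (h1 : closure Y = ⊤) (h2 : center Q = ⊥) (h : Cov π d) (L : Lf π X Y)
    (hs : Spl X d) : _root_.commutator C ≠ ⊤ := by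
  obtain ⟨t, H⟩ := U.cm
  obtain ⟨F, _, _, a, ⟨e⟩⟩ := U.psu
  obtain ⟨e'⟩ := qx_top h1 h2
  exact H.ai.ns h L hs (H.bm h1 h2) BU.cT BU.sy (o := 280665)
    (by rw [← Nat.card_congr e'.toEquiv, Nat.card_congr e.toEquiv, card_psu6 a]; rfl) (by decide)
    (fun g hg => H.faith h1 h2 g (by convert hg using 3; decide +kernel)) (by decide +kernel) BU.pc

theorem ns22 [Finite C] [Finite Q] (hP : Prim Y) (ht : IsOfTypeM22 Q Y) (h : Cov π d) (L : Lf π X Y)
    (hs : Spl X d) : _root_.commutator C ≠ ⊤ := by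
  obtain ⟨S, rfl⟩ := s22 hP.grp hP.prim ht
  have k : allL par22.B (okM par22) = true := by decide +kernel
  exact (md_ai S.M hP.tt).ns h L hs (s22_bm S hP.tt) BF.cT BF.sy (o := 492567075) S.card (by decide)
    (fun g hg => S.M.base g fun q hq => (S.M.comm_iff g (ble_tt.1 (allL_iff.1 k q hq))).1 (hg q hq))
    (by decide +kernel) BF.pc


end Cfsg.Lib.Known2
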