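import Cfsg.Agent.Lib.Psp43.Emb
import Cfsg.Agent.Lib.Psp43.Model
import Cfsg.Agent.Lib.Fi.Fr2

/-! The unitary 4-space over the field with four elements, coded by the numbers below 256. -/

set_option autoImplicit false

namespace Cfsg.Lib.Par

open Cfsg.Lib.Comp (force force_eq cnd cnd_eq allN allN_iff allL allL_iff)
open Cfsg.Lib.FO (frc frc_eq)

def par (n : ℕ) : Bool := Nat.testBit 47758914269546354982683078068829456704164423862093743397580034411621752859030 n
def sw (n : ℕ) : ℕ := ((n &&& 85) <<< 1) ||| ((n >>> 1) &&& 85)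
def b8 (m n : ℕ) : Bool := par (m &&& sw n)
def q8 (n : ℕ) : Bool := par ((n ||| n >>> 1) &&& 85)
def om (n : ℕ) : ℕ := ((n >>> 1) &&& 85) ||| (((n &&& 85) ^^^ ((n >>> 1) &&& 85)) <<< 1)
def pj (p x : ℕ) : ℕ := (bif b8 (om p) x then p else 0) ^^^ (bif b8 p x then om p else 0)
def tv (p x : ℕ) : ℕ := x ^^^ pj p x
def rf (v x : ℕ) : ℕ := om x ^^^ om (om (pj v x))
def hz (p x : ℕ) : Bool := !b8 p x && !b8 (om p) x
def inW (p x : ℕ) : Bool := x == 0 || x == p || x == om p || x == om (om p)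
def sc (a n : ℕ) : ℕ := (bif n.testBit 0 then a else 0) ^^^ (bif n.testBit 1 then om a else 0)
def lin (a b c d n : ℕ) : ℕ := sc a n ^^^ sc b (n >>> 2) ^^^ sc c (n >>> 4) ^^^ sc d (n >>> 6)
noncomputable def wd (w : List ℕ) (n : ℕ) : ℕ := w.foldr (fun v n => force n (rf v)) n
def sg (p : ℕ) : Prop := p < 256 ∧ q8 p = false ∧ p ≠ 0
instance (p : ℕ) : Decidable (sg p) := by unfold sg; infer_instance
def inU (n : ℕ) : Bool := hz 5 n && hz 80 n
noncomputable def ct (b : Bool) (p n : ℕ) : ℕ := force n fun n => bif b then tv p n else n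
noncomputable def FF (m n : ℕ) : ℕ := ct (m.testBit 0) 5 (ct (m.testBit 1) 80 (ct (m.testBit 2) 85 (ct (m.testBit 3) 165 n)))

theorem xlt {m n : ℕ} (hm : m < 256) (hn : n < 256) : m ^^^ n < 256 := Nat.xor_lt_two_pow (n := 8) hm hn
theorem om_lt : ∀ n < 256, om n < 256 := by decide +kernel
theorem om3 : ∀ n < 256, om (om n) = n ^^^ om n ∧ om (om (om n)) = n ∧ q8 (om n) = q8 n := by decide +kernel
theorem two_chk : ∀ m < 256, ∀ n < 256, par (m ^^^ n) = xor (par m) (par n) ∧ om (m ^^^ n) = om m ^^^ om n ∧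
    q8 (m ^^^ n) = xor (xor (q8 m) (q8 n)) (b8 m n) ∧ b8 m n = b8 n m ∧ pj m n < 256 ∧ (hz m n = hz n m) := by decide +kernel
theorem om_xor {m n : ℕ} (hm : m < 256) (hn : n < 256) : om (m ^^^ n) = om m ^^^ om n := (two_chk m hm n hn).2.1
theorem q8_xor {m n : ℕ} (hm : m < 256) (hn : n < 256) : q8 (m ^^^ n) = xor (xor (q8 m) (q8 n)) (b8 m n) :=
  (two_chk m hm n hn).2.2.1
theorem b8_comm {m n : ℕ} (hm : m < 256) (hn : n < 256) : b8 m n = b8 n m := (two_chk m hm n hn).2.2.2.1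
theorem pj_lt {m n : ℕ} (hm : m < 256) (hn : n < 256) : pj m n < 256 := (two_chk m hm n hn).2.2.2.2.1
theorem hz_comm {m n : ℕ} (hm : m < 256) (hn : n < 256) : hz m n = hz n m := (two_chk m hm n hn).2.2.2.2.2
theorem b8_left {m m' : ℕ} (hm : m < 256) (hm' : m' < 256) (n : ℕ) : b8 (m ^^^ m') n = xor (b8 m n) (b8 m' n) := by
  rw [b8, Nat.and_xor_distrib_right]
  exact (two_chk _ (Nat.and_le_left.trans_lt hm) _ (Nat.and_le_left.trans_lt hm')).1
theorem b8_right {m n n' : ℕ} (hm : m < 256) (hn : n < 256) (hn' : n' < 256) : b8 m (n ^^^ n') = xor (b8 m n) (b8 m n') := by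
  rw [b8_comm hm (xlt hn hn'), b8_left hn hn', b8_comm hn hm, b8_comm hn' hm]
theorem b8_nd : ∀ n < 256, (∀ i < 8, b8 n (2 ^ i) = false) → n = 0 := by decide +kernel
theorem b8_zero : ∀ n < 256, b8 0 n = false ∧ b8 n 0 = false ∧ b8 n n = false := by decide +kernel
theorem tv_lt {p x : ℕ} (hp : p < 256) (hx : x < 256) : tv p x < 256 := xlt hx (pj_lt hp hx)
theorem rf_lt {p x : ℕ} (hp : p < 256) (hx : x < 256) : rf p x < 256 := xlt (om_lt _ hx) (om_lt _ (om_lt _ (pj_lt hp hx)))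

theorem code_ind {p : ℕ → Prop} (h0 : p 0) (h1 : ∀ i < 8, p (2 ^ i)) (h2 : ∀ m < 256, ∀ n < 256, p m → p n → p (m ^^^ n)) :
    ∀ n < 256, p n := fun n => by
  induction n using Nat.strong_induction_on with | _ n ih
  intro hn
  rcases Nat.eq_zero_or_pos n with rfl | h
  · exact h0
  obtain ⟨i, hi, m, hm, e⟩ : ∃ i < 8, ∃ m < n, n = 2 ^ i ^^^ m := by
    have : ∀ n < 256, 0 < n → ∃ i < 8, 2 ^ i ^^^ n < n := by decide +kernel
    obtain ⟨i, hi, e⟩ := this n hn h
    exact ⟨i, hi, _, e, by rw [← Nat.xor_assoc, Nat.xor_self, Nat.zero_xor]⟩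
  exact e ▸ h2 _ (Nat.pow_lt_pow_right (n := 8) one_lt_two hi) m (hm.trans hn) (h1 i hi) (ih m hm (hm.trans hn))

/-- Equality on the codes. -/
def EQ (f g : ℕ → ℕ) : Prop := ∀ n < 256, f n = g n

/-- Isometries of the unitary space. -/
structure Un (f : ℕ → ℕ) : Prop where
  lt : ∀ {n}, n < 256 → f n < 256
  xor : ∀ {m n}, m < 256 → n < 256 → f (m ^^^ n) = f m ^^^ f n
  q : ∀ {n}, n < 256 → q8 (f n) = q8 n
  om : ∀ {n}, n < 256 → f (om n) = om (f n)

namespace Un
variable {f : ℕ → ℕ} (h : Un f) {m n : ℕ}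
include h

theorem zero : f 0 = 0 := by simpa using h.xor (m := 0) (n := 0) (by norm_num) (by norm_num)

theorem b (hm : m < 256) (hn : n < 256) : b8 (f m) (f n) = b8 m n := by
  have := q8_xor (h.lt hm) (h.lt hn)
  rw [← h.xor hm hn, h.q (xlt hm hn), h.q hm, h.q hn, q8_xor hm hn] at this
  revert this; cases q8 m <;> cases q8 n <;> simp [eq_comm]

theorem pj (hm : m < 256) (hn : n < 256) : f (pj m n) = pj (f m) (f n) := by
  have := om_lt m hm
  unfold Par.pj
  rw [← h.om hm, h.b this hn, h.b hm hn]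
  cases b8 (Par.om m) n <;> cases b8 m n <;> simp [h.zero, h.xor hm this]

theorem tv (hm : m < 256) (hn : n < 256) : f (tv m n) = tv (f m) (f n) := by
  rw [Par.tv, h.xor hn (pj_lt hm hn), h.pj hm hn, Par.tv]

theorem rf (hm : m < 256) (hn : n < 256) : f (rf m n) = rf (f m) (f n) := by
  have := pj_lt hm hn
  rw [Par.rf, h.xor (om_lt _ hn) (om_lt _ (om_lt _ this)), h.om hn, h.om (om_lt _ this), h.om this, h.pj hm hn, Par.rf]

theorem hz (hm : m < 256) (hn : n < 256) : hz (f m) (f n) = hz m n := by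
  rw [Par.hz, ← h.om hm, h.b hm hn, h.b (om_lt m hm) hn, Par.hz]

theorem lin (hn : n < 256) : f n = lin (f 1) (f 4) (f 16) (f 64) n := by
  have k : ∀ a < 256, ∀ n, f (sc a n) = sc (f a) n ∧ sc a n < 256 := fun a ha n => by
    unfold sc
    cases n.testBit 0 <;> cases n.testBit 1 <;> simp [h.zero, h.xor ha (om_lt a ha), h.om ha, ha, om_lt a ha, xlt ha (om_lt a ha)]
  have e : ∀ n < 256, Par.lin 1 4 16 64 n = n := by decide +kernel
  have a := k 1 (by norm_num) n
  have b := k 4 (by norm_num) (n >>> 2)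
  have c := k 16 (by norm_num) (n >>> 4)
  have d := k 64 (by norm_num) (n >>> 6)
  conv_lhs => rw [← e n hn]
  rw [Par.lin, h.xor (xlt (xlt a.2 b.2) c.2) d.2, h.xor (xlt a.2 b.2) c.2, h.xor a.2 b.2, a.1, b.1, c.1, d.1, Par.lin]

theorem inj (hm : m < 256) (hn : n < 256) (e : f m = f n) : m = n :=
  Nat.xor_eq_zero_iff.1 (b8_nd _ (xlt hm hn) fun i hi => by
    have := Nat.pow_lt_pow_right (n := 8) one_lt_two hi
    rw [← h.b (xlt hm hn) this, h.xor hm hn, e, Nat.xor_self, (b8_zero _ (h.lt this)).1])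

theorem sg (hm : sg m) : sg (f m) :=
  ⟨h.lt hm.1, (h.q hm.1).trans hm.2.1, fun e => hm.2.2 (h.inj hm.1 (by norm_num) (e.trans h.zero.symm))⟩

theorem inW (hm : m < 256) (hn : n < 256) : inW (f m) (f n) = inW m n := by
  have k : ∀ a < 256, (f n == f a) = (n == a) := fun a ha => by
    by_cases e : n = a
    · simp [e]
    · rw [beq_eq_false_iff_ne.2 e, beq_eq_false_iff_ne.2 fun e' => e (h.inj hn ha e')]
  rw [Par.inW, ← h.om hm, ← h.om (om_lt m hm), k m hm, k _ (om_lt m hm), k _ (om_lt _ (om_lt m hm)), Par.inW,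
    ← k 0 (by norm_num), h.zero]

end Un

def NS : List ℕ := (List.range 256).filter q8

noncomputable def allU (p : ℕ → ℕ → ℕ → ℕ → Bool) : Bool := frc NS fun L => allL L fun a => frc (L.filter (hz a)) fun La =>
  allL La fun b => frc (La.filter (hz b)) fun Lb => allL Lb fun c => allL Lb fun d => cnd (hz c d) (p a b c d) true

theorem Un.all {f : ℕ → ℕ} (h : Un f) {p : ℕ → ℕ → ℕ → ℕ → Bool} (k : allU p = true) : p (f 1) (f 4) (f 16) (f 64) = true := by
  simp only [allU, frc_eq, allL_iff, List.mem_filter, cnd_eq] at k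
  have m : ∀ a < 256, q8 a = true → f a ∈ NS := fun a ha e =>
    List.mem_filter.2 ⟨List.mem_range.2 (h.lt ha), (h.q ha).trans e⟩
  have z : ∀ a < 256, ∀ b < 256, Par.hz a b = true → Par.hz (f a) (f b) = true := fun a ha b hb e => (h.hz ha hb).trans e
  have := k _ (m 1 (by norm_num) rfl) _ ⟨m 4 (by norm_num) rfl, z 1 (by norm_num) 4 (by norm_num) rfl⟩ _
    ⟨⟨m 16 (by norm_num) rfl, z 1 (by norm_num) 16 (by norm_num) rfl⟩, z 4 (by norm_num) 16 (by norm_num) rfl⟩ _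
    ⟨⟨m 64 (by norm_num) rfl, z 1 (by norm_num) 64 (by norm_num) rfl⟩, z 4 (by norm_num) 64 (by norm_num) rfl⟩
  rwa [if_pos (z 16 (by norm_num) 64 (by norm_num) rfl)] at this

def SG : List ℕ := (List.range 256).filter fun p => !q8 p && p != 0

noncomputable def invB (a b c d : ℕ) (k : Bool) : Bool :=
  cnd (lin a b c d a == 1) (cnd (lin a b c d b == 4) (cnd (lin a b c d c == 16) (cnd (lin a b c d d == 64) k true) true) true) true

theorem Un.inv {f : ℕ → ℕ} (h : Un f) (e : ∀ n < 256, f (f n) = n) {p : ℕ → ℕ → ℕ → ℕ → Bool}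
    (k : allU (fun a b c d => invB a b c d (p a b c d)) = true) : p (f 1) (f 4) (f 16) (f 64) = true := by
  have := h.all k
  have t : ∀ n < 256, (Par.lin (f 1) (f 4) (f 16) (f 64) (f n) == n) = true := fun n hn => by
    rw [← h.lin (h.lt hn), e n hn, beq_self_eq_true]
  simp only [invB, cnd_eq] at this
  rwa [if_pos (t 1 (by norm_num)), if_pos (t 4 (by norm_num)), if_pos (t 16 (by norm_num)), if_pos (t 64 (by norm_num))] at this

def T1 : List (List ℕ) := [[],[],[],[],[],[],[4,4],[4],[],[1,1],[16,16],[16,1],[],[1],[16,4],[16],[],[27,4],[29],[25,25],[30,1],[],[],[],[23],[],[],[],[22,22],[],[],[],[],[22,4],[27],[23,23],[25,1],[],[],[],[30],[],[],[],[29,29],[],[],[],[],[29,4],[22],[30,30],[23,1],[],[],[],[25],[],[],[],[27,27],[],[],[],[],[75,4],[77],[116,22],[78,1],[],[],[],[71],[],[],[],[81,23],[],[],[],[113,22],[],[],[],[],[97,23],[84,4],[88],[],[81,1],[75,27],[113,16],[],[82],[116,16],[84,1],[84,23],[],[],[],[],[116,27],[10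0,4],[104],[],[97,1],[75,22],[81,16],[],[98],[84,16],[100,1],[97,27],[],[],[],[],[84,22],[116,4],[120],[],[113,1],[78,23],[97,16],[],[114],[100,16],[116,1],[],[70,4],[75],[108,22],[73,1],[],[],[],[78],[],[],[],[115,23],[],[],[],[99,22],[],[],[],[],[83,23],[124,4],[116],[],[115,1],[70,27],[99,16],[],[113],[108,16],[124,1],[124,23],[],[],[],[],[108,27],[92,4],[84],[],[83,1],[70,22],[115,16],[],[81],[124,16],[92,1],[83,27],[],[],[],[],[124,22],[108,4],[100],[],[99,1],[73,23],[83,16],[],[97],[92,16],[108,1],[],[77,4],[70],[88,22],[71,1],[],[],[],[73],[],[],[],[98,23],[],[],[],[82,22],[],[],[],[],[114,23],[104,4],[108],[],[98,1],[77,27],[82,16],[],[99],[88,16],[104,1],[104,23],[],[],[],[],[88,27],[120,4],[124],[],[114,1],[77,22],[98,16],[],[115],[104,16],[120,1],[114,27],[],[],[],[],[104,22],[88,4],[92],[],[82,1],[71,23],[114,16],[],[83],[120,16],[88,1]]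
def T2 : List (ℕ × List ℕ) := [(80,[]),(85,[79,16]),(90,[69,16]),(95,[74,16]),(96,[16]),(101,[26]),(106,[31]),(111,[21]),(112,[64]),(117,[79]),(122,[69]),(127,[74]),(144,[64]),(149,[74]),(154,[79]),(159,[69]),(160,[]),(165,[74,16]),(170,[79,16]),(175,[69,16]),(176,[16]),(181,[21]),(186,[26]),(191,[31]),(208,[16]),(213,[31]),(218,[21]),(223,[26]),(224,[64]),(229,[69]),(234,[74]),(239,[79]),(240,[]),(245,[69,16]),(250,[74,16]),(255,[79,16])]
def TR : List (List ℕ) := [[],[],[113,22],[],[88,1],[79,16],[88,1],[78,27,27],[84,1],[74,16],[84,1],[73,22,22],[77,23,23],[92,1],[69,16],[92,1]]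
def TG : List (List ℕ) := [[],[69],[1,69],[4,69],[64,69],[69,69],[4,1,69],[64,1,69],[84,4,69],[84,64,69],[4,69,69],[64,69,69],[69,4,1,69],[84,4,1,69],[69,64,1,69],[84,64,1,69],[16,84,4,69],[64,84,4,69],[84,84,4,69],[4,84,64,69],[16,84,64,69],[84,84,64,69],[84,4,69,69],[84,64,69,69],[84,69,4,1,69],[16,84,4,1,69],[84,84,4,1,69],[84,69,64,1,69],[16,84,64,1,69],[84,84,64,1,69],[4,84,84,4,69],[64,84,84,64,69],[4,84,69,4,1,69],[16,84,69,4,1,69],[64,84,69,4,1,69],[84,84,69,4,1,69],[84,84,69,64,1,69],[16,4,84,69,4,1,69],[64,84,84,69,4,1,69],[84,16,4,84,69,4,1,69]]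
def okw (w : List ℕ) : Prop := ∀ v ∈ w, v < 256 ∧ q8 v = true
instance (w : List ℕ) : Decidable (okw w) := by unfold okw; infer_instance

theorem t1_chk : ∀ p < 256, sg p → okw (T1.getD p []) ∧ wd (T1.getD p []) p = 5 := by decide +kernel
theorem t2_chk : ∀ q < 256, q8 q = false ∧ hz 5 q = true ∧ inW 5 q = false →
    ∃ t ∈ T2, okw t.2 ∧ inW 5 (wd t.2 5) = true ∧ inW 80 (wd t.2 q) = true := by decide +kernel

end Cfsg.Lib.Par
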