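import Cfsg.Agent.Lib.Known2.P8
import Cfsg.Agent.Lib.PGrp.CExt

/-! The group `2^{1+8}.U₄(2)`: the two possible modules. -/

set_option autoImplicit false
set_option linter.unusedSectionVars false

namespace Cfsg.Lib.Par

open Subgroup Cfsg.Lib.Known2 Cfsg.Lib.FO Cfsg.Lib.Psp43 Cfsg.Lib.Golay Cfsg.Lib.MatB

def tM : List Tm :=
  let a := Psp43.wd [2, 4, 5, 3, 2, 4, 2, 5, 3, 4]
  let c := Psp43.wd [3, 2]
  let d := Psp43.wd [2, 4]
  [a, Tm.cj d a, Tm.cj c (Tm.cj d a), Tm.cj c (Tm.cj c (Tm.cj d a)), c, d, Psp43.wd [1, 2, 4, 2, 3, 5, 4, 2, 1],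
    Psp43.wd [1, 2, 3, 4, 5, 4, 2, 1], .c 1, .c 2, .c 3, .c 4, .c 5]

def wM (l : List ℕ) : Tm := l.foldr (fun i t => nt 1 [.c 0, .c 1, .c 2, Tm.cj (.c 6) (.c 1), Tm.cj (.c 7) (.c 1)] i * t) 1

def fM : Fm :=
  let b := Tm.c 1 * (Tm.c 2)⁻¹
  Fm.ands [.eq (.c 0 * .c 0 * .c 0) 1, .eq (.c 4 * .c 4 * .c 4) 1, .ne (.c 0) 1, .eq (.cj (.c 4) (.c 0)) (.c 0),
    .eq (.cj (.c 4) (.c 1)) (.c 2), .eq (.cj (.c 4) (.c 2)) (.c 3), .eq (.cj (.c 4) (.c 3)) (.c 1), .eq (.cj (.c 5) (.c 0)) (.c 1),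
    .eq (.cj (.c 5) (.c 1)) (.c 2), .eq (.cj (.c 5) (.c 2)) (.c 0), .eq (.cj (.c 5) (.c 3)) (.c 3), .cm (.c 1) (.c 0), .cm (.c 2) (.c 0),
    .cm (.c 3) (.c 0), .cm (.c 2) (.c 1), .cm (.c 3) (.c 1), .cm (.c 3) (.c 2), .eq (.c 1 * .c 2 * .c 3 * .c 0) 1, .eq (b * b * b) 1,
    .cm b (.c 0), .eq (.c 4 * b) (b * .c 0 * .c 4), .eq (.cj (.c 6) (.c 0)) (.c 2), .not (.cm (.cj (.c 6) (.c 1)) (.c 0)),
    .eq (.cj (.c 7) (.c 0)) (.c 0), .not (.cm (.cj (.c 7) (.c 1)) (.c 1)), .eq (.c 8) (wM [0, 0, 1, 3, 4, 4, 1, 1, 2, 3, 4, 1, 1]),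
    .eq (.c 9) (wM [0, 0, 2, 2, 4, 1, 2, 4]), .eq (.c 10) (wM [0, 0, 3, 0, 0, 3]), .eq (.c 11) (wM [1, 1, 3, 4, 1, 1, 3, 4, 1, 1, 3, 4]),
    .eq (.c 12) (wM [2, 3, 1, 1, 3, 0, 0])]

theorem chkM : chk 27 1021 10 10 (mapL (Tm.B 27 gs []) tM) [] fM = true := by decide +kernel

theorem md0 : ∃ a₁ a₂ a₃ a₄ c d g k : P0, MD a₁ a₂ a₃ a₄ c d g k := by
  have hC := R_cst (c := c27) (φ := MonoidHom.id P0) gsH
  have k := chk_tm (fun _ _ => id) hC tM chkM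
  have e := fun K => range_eq (K := K) hC
  have g0 : ∀ i, 6 ≤ i ∨ i = 0 → cst c27 (MonoidHom.id P0) gs i = 1 := fun i hi => (hC i).2.symm.trans (gl1 i (by
    simp [Comp.P43x.L]; omega))
  generalize cst c27 (MonoidHom.id P0) gs = γ at k e g0
  have m : ∀ i < 5, nt 1 (tM.map (Tm.ev γ [])) (8 + i) = γ (i + 1) := fun i hi => by interval_cases i <;> rfl
  generalize nt 1 (tM.map (Tm.ev γ [])) = C at k m
  obtain ⟨a1, a2, a3, a4, a5, a6, a7, a8, a9, a10, a11, a12, a13, a14, a15, a16, a17, a18, a19, a20, a21, a22, a23, a24, a25, b1, b2, b3, b4,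
    b5⟩ := k
  refine ⟨C 0, C 1, C 2, C 3, C 4, C 5, C 6, C 7, a1, a2, a3, a4, a5, a6, a7, a8, a9, a10, a11, a12, a13, a14, a15, a16, a17, a18, a19, a20,
    a21, a22, a23, a24, a25, fun K k0 k1 k2 k3 k4 x => e K (fun i => ?_) ⟨x, rfl⟩⟩
  have w : ∀ l, (wM l).ev C [] ∈ K := fun l => by
    induction l with
    | nil => exact one_mem _
    | cons i l ih =>
      refine mul_mem ?_ ih
      rcases i with _ | _ | _ | _ | _ | i
      exacts [k0, k1, k2, k3, k4, one_mem _]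
  rcases i with _ | _ | _ | _ | _ | _ | i
  exacts [g0 0 (Or.inr rfl) ▸ one_mem _, m 0 (by norm_num) ▸ (show C 8 = _ from b1) ▸ w _, m 1 (by norm_num) ▸ (show C 9 = _ from b2) ▸ w _,
    m 2 (by norm_num) ▸ (show C 10 = _ from b3) ▸ w _, m 3 (by norm_num) ▸ (show C 11 = _ from b4) ▸ w _,
    m 4 (by norm_num) ▸ (show C 12 = _ from b5) ▸ w _, by rw [g0 _ (Or.inl (by omega))]; exact one_mem _]

theorem simple0 : IsSimpleGroup P0 := let ⟨e, _⟩ := e0; haveI := Comp.P43x.simple; e.symm.isSimpleGroup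

variable {G : Type*} [Group G]

/-- A central product with a fixed subgroup of order eight. -/
structure CN (Q : Subgroup G) (z x y : G) : Prop where
  ls : LS Q z
  card : Nat.card Q = 512
  hx : x ∈ Q
  hy : y ∈ Q
  anti : ¬ Commute x y
  fx : ∀ g, Commute z g → g * x * g⁻¹ = x ∨ g * x * g⁻¹ = x * z
  fy : ∀ g, Commute z g → g * y * g⁻¹ = y ∨ g * y * g⁻¹ = y * z
  fix : ∀ r ∈ Q, Commute x r → Commute y r → (∀ g, Commute z g → g * r * g⁻¹ = r ∨ g * r * g⁻¹ = r * z) → r = 1 ∨ r = z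
  perf : ∀ p : G → Prop, (∀ a b, Commute z a → Commute z b → (p (a * b) ↔ (p a ↔ p b))) → (∀ q ∈ Q, p q) → ∀ g, Commute z g → p g

theorem dicho [Finite G] {Q : Subgroup G} {z : G} (h : LS Q z) (hc : Nat.card Q = 512) (π : centralizer {z} →* P0)
    (h1 : Function.Surjective π) (h2 : ∀ g, π g = 1 ↔ (g : G) ∈ Q) : (∃ x y, CN Q z x y) ∨ ∃ ν α, F8 Q z ν α ∧ Gen Q z α := by
  classical
  have zp : ∀ x : Q, x ∈ zpowers (⟨z, h.mem⟩ : Q) ↔ (x : G) = 1 ∨ (x : G) = z := fun x => by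
    rw [mem_zpowers_invol (Subtype.ext h.sq), Subtype.ext_iff, Subtype.ext_iff]; rfl
  obtain ⟨V, _, _, M, hM⟩ := PGrp.exists_cExt (p := 2) (z := (⟨z, h.mem⟩ : Q)) ((orderOf_mk _ _).trans h.orderOf_eq)
    (mem_center_iff.2 fun g => Subtype.ext (h.cen g g.2)) (commutator_le.2 fun x _ y _ => (zp _).2 (h.mem_zp.1 (h.commutator_mem x.2 y.2)))
    fun x => (zp _).2 (by simpa [sq] using h.sq_mem x x.2)
  have p0 : ∀ x : Q, M.pr x = 0 ↔ (x : G) = 1 ∨ (x : G) = z := fun x => by rw [M.pr_eq_zero', M.range_eq, hM, zp]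
  have hN := M.nondeg_iff.2 (by
    ext x; rw [M.range_eq, hM, zp, mem_center_iff]
    exact ⟨fun a => h.of_cen x x.2 fun y hy => (congrArg Subtype.val (a ⟨y, hy⟩)).symm, fun a g => Subtype.ext (by
      rcases a with a | a <;> simp [a, h.cen g g.2])⟩)
  have t2 : ∀ v : V, v + v = 0 := fun v => by rw [← two_smul (ZMod 2), show (2 : ZMod 2) = 0 from rfl, zero_smul]
  have pe : ∀ x y : Q, M.pr y = M.pr x ↔ (y : G) = x ∨ (y : G) = x * z := fun x y => by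
    rw [← sub_eq_zero, sub_eq_neg_add, ← M.pr_inv, ← M.pr_mul, p0, coe_mul, coe_inv, inv_mul_eq_one, inv_mul_eq_iff_eq_mul, eq_comm]
  let φ := (M.autLin hN).comp (Q.normalizerMonoidHom.comp (inclusion h.cent_le_norm))
  have nm : ∀ g : centralizer {z}, ∀ x : Q, (g : G) * x * (g : G)⁻¹ ∈ Q := fun g x => h.norm g (mem_centralizer_singleton_iff.1 g.2) x x.2
  have e0 : ∀ g x, φ g (M.pr x) = M.pr ⟨_, nm g x⟩ := fun g x => M.autLin_pr hN _ x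
  let _ := DistribMulAction.compHom V (π.liftOfSurjective h1 ⟨φ, fun g hg => LinearEquiv.ext (M.pr_surjective.forall.2 fun x =>
    (e0 g x).trans ((pe _ _).2 (h.conj_eq ((h2 g).1 hg) x.2)))⟩)
  have e : ∀ g x, π g • M.pr x = M.pr ⟨_, nm g x⟩ := fun g x =>
    (congrArg (fun f : V ≃ₗ[ZMod 2] V => f (M.pr x)) (π.liftOfRightInverse_comp_apply _ _ _ g)).trans (e0 g x)
  have cz' : ∀ {g}, Commute z g → g ∈ centralizer {z} := fun a => mem_centralizer_singleton_iff.2 a.symm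
  have q1 : ∀ x : Q, decide (M.P (M.pr x) ≠ 0) = false ↔ (x : G) * x = 1 := fun x => by
    simp only [ne_eq, decide_not, Bool.not_eq_false', decide_eq_true_eq, M.P_eq_zero, sq, Subtype.ext_iff]; rfl
  have b1 : ∀ x y : Q, decide (M.B (M.pr x) (M.pr y) ≠ 0) = false ↔ Commute (x : G) y := fun x y => by
    simp only [ne_eq, decide_not, Bool.not_eq_false', decide_eq_true_eq, M.B_eq_zero, Subtype.ext_iff]; rfl
  have H : QM P0 (fun v : V => decide (M.P v ≠ 0)) fun v w => decide (M.B v w ≠ 0) := by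
    refine ⟨by have := M.card_eq; omega, t2, h1.forall.2 fun g => M.pr_surjective.forall.2 fun x => ?_, fun v w => ?_, fun u v w => ?_,
      M.pr_surjective.forall.2 fun x a => (p0 x).2 (h.of_cen x x.2 fun y hy => (b1 x ⟨y, hy⟩).1 (a _)), h1.forall.2 fun g a =>
        (h2 g).2 (h.mem_of_inner (mem_centralizer_singleton_iff.1 g.2) fun x hx => (pe ⟨x, hx⟩ ⟨_, nm g ⟨x, hx⟩⟩).1 ((e g _).symm.trans (a _)))⟩
    · rw [← Bool.not_inj_iff, Bool.eq_iff_iff, Bool.not_eq_true', Bool.not_eq_true', e, q1, q1, conj_sq_iff]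
    · rw [M.P_add, M.B_symm w]
      generalize M.P v = a; generalize M.P w = b; generalize M.B v w = c; revert a b c; decide
    · rw [map_add]
      generalize M.B u v = a; generalize M.B u w = b; revert a b; decide
  obtain ⟨a₁, a₂, a₃, a₄, c, d, g, k, D⟩ := md0
  by_cases hN : ∀ v : V, a₁ • v = v → a₂ • v = v
  · obtain ⟨x, y, c1, c2, c3⟩ := H.caseN D hN
    obtain ⟨x, rfl⟩ := M.pr_surjective x
    obtain ⟨y, rfl⟩ := M.pr_surjective y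
    refine Or.inl ⟨x, y, h, hc, x.2, y.2, fun a => by simp [(b1 x y).2 a] at c1,
      fun g a => (pe x ⟨_, nm ⟨g, cz' a⟩ x⟩).1 ((e _ x).symm.trans (c2 _).1),
      fun g a => (pe y ⟨_, nm ⟨g, cz' a⟩ y⟩).1 ((e _ y).symm.trans (c2 _).2), fun r r1 r2 r3 r4 => ?_, fun p p1 p2 g a => ?_⟩
    · obtain ⟨a, rfl⟩ := h1 a₁
      exact (p0 ⟨r, r1⟩).1 (c3 _ ((e a _).trans ((pe _ _).2 (r4 a (mem_centralizer_singleton_iff.1 a.2).symm))) ((b1 x _).2 r2) ((b1 y _).2 r3))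
    have cc : ∀ a : centralizer {z}, Commute z a := fun a => (mem_centralizer_singleton_iff.1 a.2).symm
    let ψ : centralizer {z} →* ℤˣ := MonoidHom.mk' (fun a => if p a then 1 else -1) fun a b => by
      rw [coe_mul, p1 _ _ (cc a) (cc b)]; by_cases p a <;> by_cases p b <;> simp [*]
    have hψ : ∀ a, ψ a = 1 ↔ p a := fun a => by
      show (if p a then (1 : ℤˣ) else -1) = 1 ↔ _
      by_cases p a <;> simp [*]
    have := simple0
    rcases (π.liftOfSurjective h1 ⟨ψ, fun a b => (hψ a).2 (p2 _ ((h2 a).1 b))⟩).normal_ker.eq_bot_or_eq_top with f | f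
    · have := Nat.card_le_card_of_injective _ ((MonoidHom.ker_eq_bot_iff _).1 f)
      rw [card_P0] at this
      simp at this
    · exact (hψ ⟨g, cz' a⟩).1 ((π.liftOfRightInverse_comp_apply _ _ _ _).symm.trans (show π ⟨g, cz' a⟩ ∈ MonoidHom.ker _ from f ▸ mem_top _))
  push Not at hN
  obtain ⟨x, x1, x2⟩ := hN
  obtain ⟨μ, β, F⟩ := H.fr D x1 x2
  obtain ⟨ν, n0, n1⟩ : ∃ ν : G → ℕ, (∀ y, ν y < 256) ∧ ∀ y (hy : y ∈ Q), ν y = μ (M.pr ⟨y, hy⟩) :=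
    ⟨fun y => if hy : y ∈ Q then μ (M.pr ⟨y, hy⟩) else 0, fun y => by dsimp only; split_ifs; exacts [F.lt _, by norm_num], fun y hy => dif_pos hy⟩
  obtain ⟨α, a1⟩ : ∃ α : G → ℕ → ℕ, ∀ g (hg : Commute z g), α g = β (π ⟨g, cz' hg⟩) :=
    ⟨fun g => if hg : Commute z g then β (π ⟨g, cz' hg⟩) else id, fun g hg => dif_pos hg⟩
  have cc : ∀ a : centralizer {z}, Commute z a := fun a => (mem_centralizer_singleton_iff.1 a.2).symm
  refine Or.inr ⟨ν, α, ⟨h, hc, n0, fun a b => by rw [n1 _ a, n1 _ b, n1 _ (mul_mem a b), ← F.add, ← M.pr_mul]; rfl,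
    fun a => by rw [n1 _ a, F.zero, p0], fun n hn => ?_, fun a => by rw [n1 _ a, ← F.q, q1], fun a b => by rw [n1 _ a, n1 _ b, ← F.b, b1],
    fun a b => by rw [a1 _ a, n1 _ b, ← F.act, e, n1], fun a b => a1 _ a ▸ F.om _ _ b, fun v a b => ?_⟩, fun K k1 k2 g a => ?_⟩
  · obtain ⟨v, rfl⟩ := F.sur n hn
    obtain ⟨y, rfl⟩ := M.pr_surjective v
    exact ⟨y, y.2, n1 _ y.2⟩
  · obtain ⟨g, c⟩ := F.refl v a b
    obtain ⟨g, rfl⟩ := h1 g
    exact ⟨g, cc g, a1 _ (cc g) ▸ c⟩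
  obtain ⟨u, u1, u2⟩ := F.gen ((K.subgroupOf _).map π) (h1.forall.2 fun g v a b c => ⟨g, k2 g v (cc g) a b (a1 _ (cc g) ▸ c), rfl⟩)
    (π ⟨g, cz' a⟩)
  exact (mul_mem_cancel_left (inv_mem u1)).1 (k1 ((h2 (u⁻¹ * ⟨g, cz' a⟩)).1 (by rw [map_mul, map_inv, u2, inv_mul_cancel])))

end Cfsg.Lib.Par
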