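import Cfsg.Agent.Lib.Known2.P7
import Cfsg.Agent.Lib.Known2.P9

/-! The group `2^{1+8}.U₄(2)`: a transfer argument for the reducible module, and the recognition theorem. -/

set_option autoImplicit false
set_option linter.unusedSectionVars false

namespace Cfsg.Lib.Par

open Subgroup Cfsg.Lib.Known2 Cfsg.Lib.Core Cfsg.Lib.Fi Equiv Equiv.Perm

theorem sign_fix {Ω : Type*} [Fintype Ω] [DecidableEq Ω] {σ τ : Perm Ω} {R : Subgroup (Perm Ω)} (hR : IsPGroup 2 R) (h4 : σ ^ 2 ^ 2 = 1)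
    (hτ : τ * τ = 1) (c1 : ∀ r ∈ R, Commute r σ) (c2 : Commute τ σ) (c3 : ∀ r ∈ R, Commute r τ) {a b : Ω} (ab : a ≠ b) (s1 : σ a = b)
    (s2 : σ b = a) (t1 : τ a = b) (t2 : τ b = a) (r1 : ∀ r ∈ R, r a = a ∧ r b = b)
    (hu : ∀ ω, (∀ r ∈ R, ∃ i : ℕ, r ω = (σ ^ i) ω) → (∃ i : ℕ, τ ω = (σ ^ i) ω) → ω = a ∨ ω = b) : sign σ = -1 := by
  have k : ∀ r, Commute r σ → ∀ c ∈ σ.cycleFactorsFinset, r * c * r⁻¹ ∈ σ.cycleFactorsFinset := fun r hr c hc => by
    simpa only [conj_eq_self_iff.2 hr] using (mem_cycleFactorsFinset_conj σ r c).2 hc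
  have z : ∀ g ∈ zpowers τ, ∀ r, Commute r τ → Commute g r := by rintro _ ⟨n, rfl⟩ r hr; exact (hr.zpow_right n).symm
  have e1 := ncard_mod2 hR (S := σ.cycleFactorsFinset) fun r hr => k r (c1 r hr)
  have e2 := ncard_mod2 (P := zpowers τ) (pg_of_sq (by rintro _ ⟨n, rfl⟩; rw [← (Commute.refl τ).mul_zpow, hτ, one_zpow]))
    (S := {c | c ∈ (σ.cycleFactorsFinset : Set _) ∧ ∀ r ∈ R, Commute r c}) fun g hg c hc => ⟨k g (z g hg σ c2.symm) c hc.1, fun r hr =>
      ((z g hg r (c3 r hr)).symm.mul_right (hc.2 r hr)).mul_right (z g hg r (c3 r hr)).symm.inv_right⟩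
  have m : swap a b ∈ σ.cycleFactorsFinset := mem_cycleFactorsFinset_iff.2 ⟨isCycle_swap ab, by simp [support_swap ab, s1, s2]⟩
  have sw : ∀ r : Perm Ω, swap (r a) (r b) = swap a b → Commute r (swap a b) := fun r e =>
    conj_eq_self_iff.1 ((swap_apply_apply r a b).symm.trans e)
  rw [e2, show {s | s ∈ {c | c ∈ (σ.cycleFactorsFinset : Set _) ∧ ∀ r ∈ R, Commute r c} ∧ ∀ g ∈ zpowers τ, Commute g s} = {swap a b} from
    Set.ext fun c => ⟨fun ⟨⟨h1, h2⟩, h3⟩ => ?_, fun (e : c = _) =>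
    e ▸ ⟨⟨m, fun r hr => sw r (by rw [(r1 r hr).1, (r1 r hr).2])⟩, fun g hg => z g hg _ (sw τ (by rw [t1, t2, swap_comm])).symm⟩⟩,
    Set.ncard_singleton, Set.ncard_coe_finset] at e1
  · rw [sign_of_cycleType, Odd.neg_one_pow (Even.add_odd (even_iff_two_dvd.2 (Multiset.dvd_sum fun n hn => ?_)) (by
      rw [cycleType_def, Multiset.card_map]; exact Nat.odd_iff.2 e1))]
    obtain ⟨i, -, rfl⟩ := (Nat.dvd_prime_pow Nat.prime_two).1 ((dvd_of_mem_cycleType hn).trans (orderOf_dvd_of_pow_eq_one h4))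
    exact dvd_pow_self 2 (by rintro rfl; simpa using two_le_of_mem_cycleType hn)
  obtain ⟨ω, hω, -⟩ := id (mem_cycleFactorsFinset_iff.1 h1).1
  have f := cycle_is_cycleOf (mem_support.2 hω) h1
  have p : ∀ r, Commute r c → ∃ i : ℕ, r ω = (σ ^ i) ω := fun r hr => by
    obtain ⟨i, hi⟩ := (mem_cycleFactorsFinset_iff.1 h1).1.exists_pow_eq hω (y := r ω) fun e => hω (r.injective (by
      rw [← mul_apply, hr.eq, mul_apply, e]))
    exact ⟨i, by rw [← hi, f, cycleOf_pow_apply_self]⟩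
  exact f.trans (cycle_is_cycleOf (by simpa [support_swap ab] using hu ω (fun r hr => p r (h2 r hr)) (p τ (h3 τ (mem_zpowers τ)))) m).symm

variable {G : Type*} [Group G] {Q P : Subgroup G} {z x y : G}

theorem sgn [Finite G] (hP : ES P z) (hx : ∀ g, Commute z g → g * x * g⁻¹ = x ∨ g * x * g⁻¹ = x * z) (zx : Commute z x)
    (hPx : ∀ p ∈ P, Commute x p) (hc : ∀ t ∈ Cl z, (∀ p ∈ P, Commute t p) → t = z) (zy : Commute z y) (hy : y * x * y⁻¹ = x * z) :
    ∃ χ : G →* ℤˣ, ∀ w, Commute z w → w * x * w⁻¹ = x * z → (w * w = 1 ∨ w * w = z) → (∀ p ∈ P, Commute w p) → χ w = -1 := by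
  classical
  let Ω := {ω : G × G // ∃ g, g * z * g⁻¹ = ω.1 ∧ g * x * g⁻¹ = ω.2}
  have := Fintype.ofFinite Ω
  let _ : MulAction G Ω :=
    { smul := fun g ω => ⟨(g * ω.1.1 * g⁻¹, g * ω.1.2 * g⁻¹), let ⟨k, a, b⟩ := ω.2; ⟨g * k, by rw [← conj_conj', a], by rw [← conj_conj', b]⟩⟩
      one_smul := fun ω => Subtype.ext (Prod.ext (show 1 * _ * 1⁻¹ = _ by group) (show 1 * _ * 1⁻¹ = _ by group))
      mul_smul := fun a b ω => Subtype.ext (Prod.ext (conj_conj' _ _ _).symm (conj_conj' _ _ _).symm) }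
  obtain ⟨φ, hφ⟩ : ∃ φ : G →* Perm Ω, ∀ g ω, (φ g ω).1 = (g * ω.1.1 * g⁻¹, g * ω.1.2 * g⁻¹) := ⟨MulAction.toPermHom G Ω, fun _ _ => rfl⟩
  have sq : ∀ ω : Ω, ω.1.1 * ω.1.1 = 1 ∧ ω.1.1 ≠ 1 := fun ⟨_, g, a, _⟩ => a ▸ ⟨conj_sq_iff.2 hP.sq, by simpa using hP.ne⟩
  obtain ⟨τ, hτ⟩ : ∃ τ : Perm Ω, ∀ ω, (τ ω).1 = (ω.1.1, ω.1.2 * ω.1.1) := ⟨Function.Involutive.toPerm (fun ω => ⟨(ω.1.1, ω.1.2 * ω.1.1),
    let ⟨k, a, b⟩ := ω.2; ⟨k * y, by rw [← conj_conj', cz zy, a], by rw [← conj_conj', hy, ← conj_mul, a, b]⟩⟩)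
    fun ω => Subtype.ext (Prod.ext rfl (show _ * _ * _ = _ by rw [mul_assoc, (sq ω).1, mul_one])), fun _ => rfl⟩
  have ct : ∀ g, Commute (φ g) τ := fun g => Equiv.ext fun ω => Subtype.ext (by simp only [mul_apply, hφ, hτ, conj_mul])
  have zP : ∀ p ∈ P, Commute z p := fun p hp => (hP.cen p hp).symm
  refine ⟨sign.comp φ, fun w w1 w2 w3 w4 => sign_fix (R := P.map φ) (τ := τ) (hP.isPGroup.map φ) ?_
    (Equiv.ext fun ω => Subtype.ext (by simp only [mul_apply, hτ, mul_assoc, (sq ω).1, mul_one, one_apply])) ?_ (ct w).symm ?_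
    (a := ⟨(z, x), 1, by simp⟩) (b := ⟨(z, x * z), y, cz zy, hy⟩) (fun e => hP.ne (by simpa using congrArg (·.1.2) e))
    (Subtype.ext (by simp only [hφ, cz w1, w2])) (Subtype.ext (by simp only [hφ, ← conj_mul, cz w1, w2]; rw [mul_assoc, hP.sq, mul_one]))
    (Subtype.ext (hτ _)) (Subtype.ext (by simp only [hτ, mul_assoc, hP.sq, mul_one])) ?_ fun ω h1 ⟨i, h2⟩ => ?_⟩
  · rw [← map_pow, show w ^ 2 ^ 2 = w * w * (w * w) by simp [pow_succ, mul_assoc]]
    rcases w3 with e | e <;> simp only [e, hP.sq, mul_one, map_one]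
  · rintro _ ⟨p, a, rfl⟩; exact (w4 p a).symm.map φ
  · rintro _ ⟨p, a, rfl⟩; exact ct p
  · rintro _ ⟨p, a, rfl⟩
    exact ⟨Subtype.ext (by simp only [hφ, cz (zP p a), cz (hPx p a)]),
      Subtype.ext (by simp only [hφ, cz (zP p a), cz ((hPx p a).mul_left (zP p a))])⟩
  have h1 := fun p hp => h1 (φ p) ⟨p, hp, rfl⟩
  obtain ⟨p, p1, q, q1, n⟩ := hP.nonab
  have f : φ z ω = ω := by
    obtain ⟨i, a⟩ := h1 p p1
    obtain ⟨j, b⟩ := h1 q q1
    have k : ∀ {p q i j}, p ∈ P → φ p ω = (φ w ^ i) ω → φ q ω = (φ w ^ j) ω → φ (p * q) ω = (φ w ^ (i + j)) ω := fun {p q i j} c a b => by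
      rw [map_mul, mul_apply, b, ← mul_apply, (((w4 p c).symm.map φ).pow_right j).eq, mul_apply, a, ← mul_apply, ← pow_add, add_comm]
    refine (φ (q * p)).injective ?_
    rw [← mul_apply, ← map_mul, ← hP.anti p1 q1 n, k p1 a b, k q1 b a, add_comm]
  have f2 : ∀ i : ℕ, (φ w ^ i) ω = ω ∨ (φ w ^ i) ω = φ w ω := fun i => by
    induction i with
    | zero => exact Or.inl rfl
    | succ i ih =>
      rw [pow_succ', mul_apply]
      rcases ih with e | e <;> rw [e]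
      · exact Or.inr rfl
      · rw [← mul_apply, ← map_mul]; rcases w3 with e | e <;> simp [e, f]
  have g1 : φ w ω = τ ω := ((f2 i).resolve_left fun e => (sq ω).2 (by simpa [hτ] using congrArg (·.1.2) (h2.trans e))).symm.trans h2.symm
  obtain ⟨g, o1, o2⟩ := ω.2
  have e := hc _ ⟨g, o1⟩ fun p hp => by
    obtain ⟨i, a⟩ := h1 p hp
    refine (conj_eq_self_iff.1 ?_).symm
    rcases f2 i with e | e
    · simpa only [hφ] using congrArg (·.1.1) (a.trans e)
    · simpa only [hφ, hτ] using congrArg (·.1.1) ((a.trans e).trans g1)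
  exact (hx g (conj_eq_self_iff.1 (o1.trans e)).symm).imp (fun a => Subtype.ext (Prod.ext e (o2.symm.trans a)))
    fun a => Subtype.ext (Prod.ext e (o2.symm.trans a))

theorem chom (h1 : z ≠ 1) (zz : z * z = 1) (hx : ∀ g, Commute z g → g * x * g⁻¹ = x ∨ g * x * g⁻¹ = x * z) {a b : G} (ha : Commute z a)
    (hb : Commute z b) : Commute x (a * b) ↔ (Commute x a ↔ Commute x b) := by
  have k : ∀ g, Commute x g ↔ g * x * g⁻¹ = x := fun g => Commute.symm_iff.trans conj_eq_self_iff.symm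
  rw [k, k, k, ← conj_conj']
  rcases hx b hb with e | e <;> simp only [e, ← conj_mul, cz ha] <;> rcases hx a ha with f | f <;> simp only [f] <;> simp [h1, mul_assoc, zz]

namespace CN
variable [Finite G] (h : CN Q z x y) {g k : G}
include h

theorem zq (hg : g ∈ Q) : Commute z g := (h.ls.cen g hg).symm
theorem cx {a b : G} (ha : Commute z a) (hb : Commute z b) : Commute x (a * b) ↔ (Commute x a ↔ Commute x b) :=
  chom h.ls.ne h.ls.sq h.fx ha hb
theorem cy {a b : G} (ha : Commute z a) (hb : Commute z b) : Commute y (a * b) ↔ (Commute y a ↔ Commute y b) :=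
  chom h.ls.ne h.ls.sq h.fy ha hb

theorem kz (h1 : Commute x k) (h2 : Commute y k) : Commute z k := by
  rw [show z = (y * x)⁻¹ * (x * y) by rw [h.ls.anti h.hx h.hy h.anti]; group]
  exact (h2.mul_left h1).inv_left.mul_left (h1.mul_left h2)

theorem dec (hg : Commute z g) : ∃ k s, Commute x k ∧ Commute y k ∧ (s = 1 ∨ s = x ∨ s = y ∨ s = x * y) ∧ g = k * s := by
  have a := h.anti
  have b : ¬ Commute y x := fun e => a e.symm
  have k : ∀ s ∈ Q, (Commute x g ↔ Commute x s) → (Commute y g ↔ Commute y s) → Commute x (g * s⁻¹) ∧ Commute y (g * s⁻¹) :=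
    fun s m c d => by simp [h.cx hg (h.zq (inv_mem m)), h.cy hg (h.zq (inv_mem m)), c, d]
  have zx := h.zq h.hx
  have zy := h.zq h.hy
  by_cases c : Commute x g <;> by_cases d : Commute y g
  · exact ⟨g, 1, c, d, by simp, by simp⟩
  · exact let ⟨a, b⟩ := k x h.hx (by simp [c]) (by simp [d, b]); ⟨_, x, a, b, by simp, by simp⟩
  · exact let ⟨a, b⟩ := k y h.hy (by simp [c, a]) (by simp [d]); ⟨_, y, a, b, by simp, by simp⟩
  · exact let ⟨a, b⟩ := k _ (mul_mem h.hx h.hy) (by simp [c, a, h.cx zx zy]) (by simp [d, b, h.cy zx zy]); ⟨_, x * y, a, b, by simp, by group⟩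

theorem sQ {s : G} (hs : s = 1 ∨ s = x ∨ s = y ∨ s = x * y) : s ∈ Q ∧ (∀ k, Commute x k → Commute y k → Commute s k) ∧
    ∀ g, Commute z g → g * s * g⁻¹ = s ∨ g * s * g⁻¹ = s * z := by
  rcases hs with rfl | rfl | rfl | rfl
  exacts [⟨one_mem _, fun _ _ _ => Commute.one_left _, by simp⟩, ⟨h.hx, fun _ a _ => a, h.fx⟩, ⟨h.hy, fun _ _ a => a, h.fy⟩,
    ⟨mul_mem h.hx h.hy, fun _ a b => a.mul_left b, fun g a => by
      rw [← conj_mul]
      rcases h.fx g a with e | e <;> rcases h.fy g a with f | f <;> rw [e, f] <;>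
        simp [mul_assoc, (h.zq h.hy).eq, (h.zq h.hy).left_comm, h.ls.sq]⟩]

def PK (_ : CN Q z x y) : Subgroup G := Q ⊓ centralizer {x} ⊓ centralizer {y}

theorem mem_PK : k ∈ h.PK ↔ k ∈ Q ∧ Commute x k ∧ Commute y k := by
  simp only [PK, mem_inf, mem_centralizer_singleton_iff, and_assoc]
  exact and_congr_right fun _ => and_congr Commute.symm_iff Commute.symm_iff

theorem decQ (hg : g ∈ Q) : ∃ k ∈ h.PK, ∃ s, (s = 1 ∨ s = x ∨ s = y ∨ s = x * y) ∧ g = k * s :=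
  let ⟨k, s, a, b, c, d⟩ := h.dec (h.zq hg); ⟨k, h.mem_PK.2 ⟨(mul_mem_cancel_right (h.sQ c).1).1 (d ▸ hg), a, b⟩, s, c, d⟩

theorem es : ES h.PK z := by
  have m := fun {k} => (h.mem_PK (k := k)).1
  have c : ∀ u ∈ h.PK, (∀ v ∈ h.PK, u * v = v * u) → u = 1 ∨ u = z := fun u a b => h.ls.of_cen u (m a).1 fun v hv => by
    obtain ⟨k, k1, s, s1, rfl⟩ := h.decQ hv
    exact Commute.mul_right (b k k1) ((h.sQ s1).2.1 u (m a).2.1 (m a).2.2).symm
  refine ⟨h.mem_PK.2 ⟨h.ls.mem, (h.zq h.hx).symm, (h.zq h.hy).symm⟩, h.ls.ne, h.ls.sq, fun u a => h.ls.cen u (m a).1, c,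
    fun u a v b => h.ls.comm u (m a).1 v (m b).1, fun u a => h.ls.sq_mem u (m a).1, by_contra fun n => ?_⟩
  push Not at n
  have t : ∀ {x} {B : Subgroup G}, B ≤ Q → (∀ g, Commute z g → g * x * g⁻¹ = x ∨ g * x * g⁻¹ = x * z) →
      Nat.card B ≤ 2 * Nat.card ↥(B ⊓ centralizer {x}) := fun hB f => card_le_two fun a a1 b b1 a2 b2 =>
    mem_centralizer_singleton_iff.2 ((chom h.ls.ne h.ls.sq f (h.zq (hB (inv_mem a1))) (h.zq (hB b1))).2 (iff_of_false
      (fun e => a2 (mem_centralizer_singleton_iff.2 (Commute.inv_right_iff.1 e).symm)) fun e => b2 (mem_centralizer_singleton_iff.2 e.symm))).symm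
  have E1 := h.ls.ne
  have t1 := t le_rfl h.fx
  have t2 := t (inf_le_left (b := centralizer {x})) h.fy
  have t3 := (card_le_ncard (B := h.PK) (S := {1, z}) fun u a => c u a (n u a)).trans (Set.ncard_pair E1.symm).le
  rw [h.card] at t1
  rw [PK] at t3
  omega

theorem n2 (p : G → Prop) (hp : ∀ a b, Commute x a → Commute y a → Commute x b → Commute y b → (p (a * b) ↔ (p a ↔ p b)))
    (h1 : Commute x k) (h2 : Commute y k) : p k := by
  have m := fun {k} => (h.mem_PK (k := k)).1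
  have E := h.es
  have p1 : p 1 := by simpa using hp 1 1
  have pc : ∀ k u, Commute x k → Commute y k → Commute x u → Commute y u → (p (k⁻¹ * u * k) ↔ p u) := fun k u a b c d => by
    have := hp _ _ a.inv_right b.inv_right a b
    rw [hp _ _ (a.inv_right.mul_right c) (b.inv_right.mul_right d) a b, hp _ _ a.inv_right b.inv_right c d]
    rw [inv_mul_cancel] at this
    tauto
  obtain ⟨r, r1, r2⟩ := E.exists_rep p fun a a1 b b1 => hp a b (m a1).2.1 (m a1).2.2 (m b1).2.1 (m b1).2.2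
  have cj' : ∀ k u, Commute x k → Commute y k → u ∈ h.PK → k * u * k⁻¹ ∈ h.PK := fun k u a b c => h.mem_PK.2
    ⟨h.ls.norm k (h.kz a b).symm u (m c).1, (a.mul_right (m c).2.1).mul_right a.inv_right, (b.mul_right (m c).2.2).mul_right b.inv_right⟩
  have pP : ∀ u ∈ h.PK, p u := fun u hu => (r2 u hu).2 (by
    refine (h.fix r (m r1).1 (m r1).2.1 (m r1).2.2 fun g hg => ?_).elim (fun e => by simp [e]) fun e => e ▸ (E.cen u hu).symm
    obtain ⟨k, s, a, b, c, rfl⟩ := h.dec hg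
    have d := cj' k r a b r1
    rw [← conj_conj', cz ((h.sQ c).2.1 r (m r1).2.1 (m r1).2.2).symm, ← inv_mul_eq_iff_eq_mul, eq_comm, ← inv_mul_eq_one]
    refine E.of_cen _ (mul_mem (inv_mem r1) d) fun v hv => ((E.mul_comm_iff hv (inv_mem r1) d).2 ?_).symm
    have e := cj' k⁻¹ v a.inv_right b.inv_right hv
    rw [inv_inv] at e
    exact (Commute.inv_right_iff.trans (Commute.symm_iff.trans (((r2 v hv).symm.trans (pc k v a b (m hv).2.1 (m hv).2.2).symm).trans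
      (r2 _ e)))).trans (commute_conj_left_iff.symm.trans Commute.symm_iff))
  have wd : ∀ g k, Commute x k → Commute y k → k⁻¹ * g ∈ Q → ((∃ k, Commute x k ∧ Commute y k ∧ k⁻¹ * g ∈ Q ∧ p k) ↔ p k) :=
    fun g k a b c => ⟨fun ⟨l, d, e, f, q⟩ => by
      have := pP (l⁻¹ * k) (h.mem_PK.2 ⟨by simpa [mul_assoc] using mul_mem f (inv_mem c), d.inv_right.mul_right a, e.inv_right.mul_right b⟩)
      have t := hp l (l⁻¹ * k) d e (d.inv_right.mul_right a) (e.inv_right.mul_right b)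
      rw [mul_inv_cancel_left] at t
      tauto, fun q => ⟨k, a, b, c, q⟩⟩
  refine (wd k k h1 h2 (by simp)).1 (h.perf (fun g => ∃ k, Commute x k ∧ Commute y k ∧ k⁻¹ * g ∈ Q ∧ p k)
    (fun a b a1 b1 => ?_) (fun q hq => ⟨1, by simp, by simp, by simpa, p1⟩) k (h.kz h1 h2))
  obtain ⟨k, s, k1, k2, k3, rfl⟩ := h.dec a1
  obtain ⟨l, t, l1, l2, l3, rfl⟩ := h.dec b1
  rw [wd (k * s) k k1 k2 (by simpa using (h.sQ k3).1), wd (l * t) l l1 l2 (by simpa using (h.sQ l3).1), wd _ (k * l) (k1.mul_right l1)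
    (k2.mul_right l2) (by convert mul_mem (h.ls.norm l⁻¹ (h.kz l1 l2).inv_right.symm s (h.sQ k3).1) (h.sQ l3).1 using 1; group),
    hp k l k1 k2 l1 l2]

theorem cP : ∀ t ∈ Cl z, (∀ p ∈ h.PK, Commute t p) → t = z := by
  rintro _ ⟨g, rfl⟩ ht
  have E := h.es
  have m := fun {k} => (h.mem_PK (k := k)).1
  have t1 : g * z * g⁻¹ ≠ 1 := by simpa using E.ne
  have zt := (ht z E.mem).symm
  obtain ⟨k, k1, s, s1, e⟩ := h.decQ (h.ls.mem_of_inner zt.symm fun q hq => by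
    obtain ⟨k, k1, s, s1, rfl⟩ := h.decQ hq
    rw [← conj_mul, cz (ht k k1).symm, mul_assoc k s, mul_right_inj, mul_right_inj]
    exact (h.sQ s1).2.2 _ zt)
  have K : ∀ l, Commute x l → Commute y l → Commute z (g⁻¹ * l * g) := fun l a b => by
    refine commute_conj_left_iff.1 (e ▸ Commute.mul_left ?_ ((h.sQ s1).2.1 l a b))
    rcases E.of_cen k k1 fun v hv => by
      simpa [e] using ((ht v hv).mul_left ((h.sQ s1).2.1 v (m hv).2.1 (m hv).2.2).inv_left).eq with rfl | rfl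
    exacts [Commute.one_left _, h.kz a b]
  have c : ∀ a b, g⁻¹ * (a * b) * g = g⁻¹ * a * g * (g⁻¹ * b * g) := fun a b => by group
  obtain ⟨l, l1, l2⟩ := ((Set.toFinite {l | Commute x l ∧ Commute y l}).injOn_iff_bijOn_of_mapsTo (f := fun l => g⁻¹ * l * g)
    fun l a => ⟨h.n2 (fun l => Commute x (g⁻¹ * l * g)) (fun a b a1 a2 b1 b2 => c a b ▸ h.cx (K a a1 a2) (K b b1 b2)) a.1 a.2,
      h.n2 (fun l => Commute y (g⁻¹ * l * g)) (fun a b a1 a2 b1 b2 => c a b ▸ h.cy (K a a1 a2) (K b b1 b2)) a.1 a.2⟩).1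
    (fun _ _ _ _ e => mul_left_cancel (mul_right_cancel e)) |>.surjOn (m E.mem).2
  obtain rfl : l = g * z * g⁻¹ := by rw [← l2]; group
  exact (E.of_cen _ (h.mem_PK.2 ⟨e ▸ mul_mem (m k1).1 (h.sQ s1).1, l1⟩) ht).resolve_left t1

theorem iso (hg : Commute z (g * z * g⁻¹)) : g * z * g⁻¹ = z := by
  have E := h.es
  have m := fun {k} => (h.mem_PK (k := k)).1
  have zx := h.zq h.hx
  have zy := h.zq h.hy
  have xy := mul_mem h.hx h.hy
  have a := h.anti
  have b : ¬ Commute y x := fun e => a e.symm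
  obtain ⟨χ, c1⟩ := sgn E h.fx zx (fun p hp => (m hp).2.1) h.cP zy (h.ls.conj_anti h.hy h.hx b)
  obtain ⟨ψ, c2⟩ := sgn E h.fy zy (fun p hp => (m hp).2.2) h.cP zx (h.ls.conj_anti h.hx h.hy a)
  have pxy : ∀ p ∈ h.PK, Commute (x * y) p := fun p hp => (m hp).2.1.mul_left (m hp).2.2
  have d1 := c1 y zy (h.ls.conj_anti h.hy h.hx b) (h.ls.sq_mem y h.hy) fun p hp => (m hp).2.2
  have d2 := c1 _ (zx.mul_right zy) (h.ls.conj_anti xy h.hx fun e => by simpa [h.cx zx zy, a] using Commute.symm e) (h.ls.sq_mem _ xy) pxy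
  have d3 := c2 x zx (h.ls.conj_anti h.hx h.hy a) (h.ls.sq_mem x h.hx) fun p hp => (m hp).2.1
  have n : ∀ (χ : G →* ℤˣ) k, Commute x k → Commute y k → χ k = 1 := fun χ k => h.n2 (χ · = 1) fun a b _ _ _ _ => by
    rw [map_mul]; rcases Int.units_eq_one_or (χ a) with e | e <;> rcases Int.units_eq_one_or (χ b) with f | f <;> simp [e, f]
  have K : ∀ u k, Commute x k → Commute y k → Commute z (u * k * u⁻¹) → Commute x (u * k * u⁻¹) ∧ Commute y (u * k * u⁻¹) :=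
    fun u k k1 k2 c => by
      have e : ∀ χ : G →* ℤˣ, χ (u * k * u⁻¹) = 1 := fun χ => by simp [n χ k k1 k2]
      obtain ⟨l, s, l1, l2, l3, f⟩ := h.dec c
      have e1 := e χ
      have e2 := e ψ
      rw [f, map_mul, n _ l l1 l2, one_mul] at e1 e2
      rcases l3 with rfl | rfl | rfl | rfl
      · rw [f, mul_one]; exact ⟨l1, l2⟩
      · simp [e2] at d3
      · simp [e1] at d1
      · simp [e1] at d2
  have t := K g z zx.symm zy.symm hg
  have t' := K g⁻¹ z zx.symm zy.symm (by simpa using commute_conj_left_iff.1 hg.symm)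
  obtain ⟨k, s, k1, k2, s1, e⟩ := h.dec (commute_conj_left_iff.1 t.1.symm)
  have y' := commute_conj_left_iff.1 t.2.symm
  have c := (K g k k1 k2 (by
    rw [show g * k * g⁻¹ = x * (g * s * g⁻¹)⁻¹ by rw [eq_mul_inv_iff_mul_eq, conj_mul, ← e]; group]
    exact zx.mul_right (commute_conj_left_iff.2 (by simpa using ((h.sQ s1).2.1 _ t'.1 t'.2))).symm.inv_right)).2
  have f : g⁻¹ * y * g * (k * s) * (g⁻¹ * y * g)⁻¹ = k * s * (g⁻¹ * z * g) := by
    rw [← e, show g⁻¹ * x * g * (g⁻¹ * z * g) = g⁻¹ * (x * z) * g by group, ← h.ls.conj_anti h.hy h.hx b]; group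
  rw [← conj_mul, cz (commute_conj_left_iff.1 c.symm), mul_assoc k s, mul_right_inj] at f
  rcases (h.sQ s1).2.2 _ y' with e | e <;> rw [e] at f
  · exact absurd (conj_eq_one_iff.1 ((inv_inv g).symm ▸ left_eq_mul.1 f : g⁻¹ * z * g⁻¹⁻¹ = 1)) E.ne
  · conv_lhs => rw [mul_left_cancel f]
    group

end CN

theorem Loc1.map [Finite G] {D : Set G} {a : G} (h : Loc1 D a) (e : G ≃* G) (hD : ∀ x, e x ∈ D ↔ x ∈ D) : Loc1 D (e a) := by
  have c : ∀ x y, Commute (e x) (e y) ↔ Commute x y := fun x y => ⟨fun a => e.injective (by simpa using a.eq), fun a => a.map e⟩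
  have d : ∀ x, e x ∈ Dd D (e a) ↔ x ∈ Dd D a := fun x => by simp only [Dd, Set.mem_ofPred_eq, hD, c, ne_eq, e.injective.eq_iff]
  have s := e.surjective
  have p2 : ∀ x, Pr2 D x → Pr2 D (e x) := fun x ⟨p, a, q, b, n, m, f⟩ =>
    ⟨_, (hD p).2 a, _, (hD q).2 b, e.injective.ne n, m.map e, by rw [f, map_mul]⟩
  obtain ⟨π, a1, a2, a3⟩ := h.pt
  obtain ⟨P, b1, b2, b3⟩ := h.two
  refine ⟨by rw [← map_mul, h.sq, map_one], by simpa using h.ne, ⟨π ∘ e.symm, s.forall.2 fun x => by simpa [d] using a1 x,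
    s.forall.2 fun x hx => s.forall.2 fun y hy => by simpa [c] using a2 x ((d x).1 hx) y ((d y).1 hy), fun p hp => ?_⟩,
    s.forall.2 fun x hx => s.forall.2 fun y hy n => by
      rw [← map_mul, ← map_pow, h.three x ((d x).1 hx) y ((d y).1 hy) (mt (c x y).2 n), map_one], s.forall.2 fun g hg => ?_,
    s.forall.2 fun x hx => s.forall.2 fun y hy => let ⟨g, a, b⟩ := h.tr x ((d x).1 hx) y ((d y).1 hy); ⟨e g, a.map e, by simp [← b]⟩,
    ⟨P.map e, b1.map _, ?_, s.forall.2 fun g hg => by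
      simpa using b3 g fun y hy => e.injective (by simpa using hg (e y) ⟨y, hy, rfl⟩)⟩,
    s.forall.2 fun x hx => ⟨by rw [← map_mul, hD]; exact (h.pu x ((d x).1 hx)).1, s.forall.2 fun y hy => s.forall.2 fun w hw => by
      rw [← map_mul, ← map_mul]; exact e.injective.ne ((h.pu x ((d x).1 hx)).2 y ((d y).1 hy) w ((d w).1 hw))⟩,
    s.forall.2 fun x hx => let ⟨y, y1, w, w1, v, v1, c1, c2, c3, f⟩ := h.odd x ((d x).1 hx)
      ⟨_, (d y).2 y1, _, (d w).2 w1, _, (d v).2 v1, c1.map e, c2.map e, c3.map e, by simpa using congrArg e f⟩,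
    h.ns, s.forall.2 fun v c1 c2 c3 => ?_⟩
  · rw [← a3 p hp, ← Set.ncard_image_of_injective {x | x ∈ Dd D a ∧ π x = p} e.injective]
    exact congrArg _ (Set.ext (s.forall.2 fun x => by rw [e.injective.mem_set_image]; simp [d]))
  · refine closure_mono (by rintro _ ⟨x, a, rfl⟩; exact (d x).2 a) ((MonoidHom.map_closure e.toMonoidHom _).le ⟨g, h.cen ?_, rfl⟩)
    exact mem_centralizer_singleton_iff.2 ((c g a).1 (mem_centralizer_singleton_iff.1 hg))
  · rintro _ ⟨g, hg, rfl⟩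
    exact mem_centralizer_singleton_iff.2 ((c g a).2 (mem_centralizer_singleton_iff.1 (b2 hg)))
  rcases h.bas v ((c _ _).1 c1) (e.injective (by simpa using c2)) (by simpa using c3) with f | f | ⟨x, x1, y, y1, f1, f2, f3, f4, f5, f6⟩
  exacts [Or.inl ((hD v).2 f), Or.inr (Or.inl (p2 v f)), Or.inr (Or.inr ⟨_, (hD x).2 x1, _, (hD y).2 y1, f1.map e, f2.map e, f3.map e,
    f4.map e, map_mul e v x ▸ p2 _ f5, s.forall.2 fun p p1 => s.forall.2 fun q q1 p2 q2 => by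
      rw [← map_mul, ← map_mul]; exact e.injective.ne (f6 p ((hD p).1 p1) q ((hD q).1 q1) ((c _ _).1 p2) ((c _ _).1 q2))⟩)]

/-- Recognition of `U₆(2)` by the centralizer of a central involution which is not weakly closed. -/
theorem psu6 [Finite G] (h : LS Q z) (hc : Nat.card Q = 512) (π : centralizer {z} →* Psp43.P0) (h1 : Function.Surjective π)
    (h2 : ∀ g, π g = 1 ↔ (g : G) ∈ Q) (hn : ∃ g, Commute z (g * z * g⁻¹) ∧ g * z * g⁻¹ ≠ z) {K : Type*} [Field K] [Fintype K]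
    (hK : Fintype.card K = 4) : Nonempty (G ≃* PSU 6 K 2) := by
  obtain ⟨g, g1, g2⟩ := hn
  rcases dicho h hc π h1 h2 with ⟨x, y, C⟩ | ⟨ν, α, F, H⟩
  · exact absurd (C.iso g1) g2
  have L := F.loc1 (F.dich.resolve_right fun hB => g2 (F.ns hB g1)) ⟨_, ⟨g, rfl⟩, g1, g2⟩ H
  refine LocH.psu (z := z) ⟨Cl.cj, ?_⟩ ?_ hK
  · rintro _ ⟨k, rfl⟩
    exact L.map (MulAut.conj k) fun _ => Cl.iff
  · rw [← π.ker.card_mul_index, index_ker, MonoidHom.range_eq_top.2 h1, card_top, Psp43.card_P0, ← hc,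
      show π.ker = Q.subgroupOf _ from Subgroup.ext h2, Nat.card_congr (subgroupOfEquivOfLe h.le_cent).toEquiv]

end Cfsg.Lib.Par
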