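import Cfsg.Agent.Lib.Known2.P10
import Cfsg.Agent.Lib.Known2.LE3
import Cfsg.Agent.Lib.Fi.Hom
import Cfsg.Agent.Lib.Block.ZStar

/-! Passing from `O₂(C(z))` to the ambient group. -/

set_option autoImplicit false

namespace Cfsg.Lib.Par

open Subgroup Cfsg.Lib.Known2 Cfsg.Lib.Core

variable {G : Type*} [Group G] [Finite G] {z : G}

theorem sup_of_iso (hz : orderOf z = 2) (h : ∀ g, Commute z (g * z * g⁻¹) → g * z * g⁻¹ = z) : centralizer {z} ⊔ oddCore G = ⊤ :=
  eq_top_iff.2 fun g _ => by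
    have zz : z * z = 1 := by rw [← sq, ← hz, pow_orderOf_eq_one]
    have m : z * (g * z * g⁻¹) ∈ oddCore G := by
      simpa only [inv_eq_of_mul_eq_one_right zz, mul_assoc] using Block.z_star ⟨hz, h⟩ g
    obtain ⟨n, e⟩ := conj_of_odd_orderOf zz (conj_sq_iff.2 zz) ((odd_card_oddCore G).of_dvd_nat (orderOf_dvd_natCard _ m))
    exact (mul_mem_cancel_left (mem_sup_right (pow_mem m n))).1 (mem_sup_left (mem_centralizer_singleton_iff.2
      (conj_eq_self_iff.1 ((conj_conj' _ _ _).symm.trans e))))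

theorem ls_of (hz : orderOf z = 2) (hJ : IsExtraspecial 2 (pCore 2 (centralizer {z})))
    (hC : centralizer (pCore 2 (centralizer {z}) : Set (centralizer {z})) ≤ pCore 2 (centralizer {z})) :
    LS (pCoreOf 2 (centralizer {z})) z ∧ Nat.card (pCoreOf 2 (centralizer {z})) = Nat.card (pCore 2 (centralizer {z})) ∧
      ∀ g : centralizer {z}, g ∈ pCore 2 (centralizer {z}) ↔ (g : G) ∈ pCoreOf 2 (centralizer {z}) := by
  have e := (pCore 2 (centralizer {z})).equivMapOfInjective _ (centralizer {z}).subtype_injective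
  have m : z ∈ pCoreOf 2 (centralizer {z}) := ⟨⟨z, mem_centralizer_singleton_iff.2 rfl⟩,
    hC fun x _ => Subtype.ext (mem_centralizer_singleton_iff.1 x.2), rfl⟩
  exact ⟨ls_of_op hz (Fi.xs_equiv e hJ) fun g hg => ⟨⟨g, mem_centralizer_singleton_iff.2 (hg z m).symm⟩,
    hC fun x hx => Subtype.ext (hg x ⟨x, hx, rfl⟩), rfl⟩, (Nat.card_congr e.toEquiv).symm,
    fun g => (mem_map_iff_mem (centralizer {z}).subtype_injective).symm⟩

end Cfsg.Lib.Par
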