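import Cfsg.Agent.Lib.Known2.P1

/-! The involutions of the unitary group in dimension four. -/

set_option autoImplicit false
set_option synthInstance.maxSize 2000

namespace Cfsg.Lib.Par

open Cfsg.Lib.Comp (force force_eq cnd cnd_eq allN allN_iff allL allL_iff)
open Cfsg.Lib.FO (frc frc_eq)

theorem inv_chk : allU (fun a b c d => invB a b c d (frc (SG.filter fun p => lin a b c d p == p) fun L =>
    (L.any fun p => L.any fun q => hz p q && !inW p q) && (lin a b c d 5 != 5 ||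
    (List.range 256).all (fun n => lin a b c d n == n) || (List.range 256).all (fun n => lin a b c d n == tv 5 n) ||
    (List.range 256).any (fun x => !b8 5 x && (lin a b c d x ^^^ x == 10 || lin a b c d x ^^^ x == 15)) ||
    [1, 4, 16, 64].any fun e => force (lin a b c d (wd [64, 16, 16] (force (wd [16, 64, 64] e) (lin a b c d)))) fun x =>
      lin a b c d (wd [64, 16, 16] (force (wd [16, 64, 64] x) (lin a b c d))) != e))) = true := by
  decide +kernel

theorem inv1 {f : ℕ → ℕ} (h : Un f) (e : ∀ n < 256, f (f n) = n) :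
    ∃ p q, sg p ∧ sg q ∧ f p = p ∧ f q = q ∧ hz p q = true ∧ inW p q = false := by
  have := h.inv e inv_chk
  simp only [frc_eq, Bool.and_eq_true, List.any_eq_true, List.mem_filter, SG, List.mem_range, beq_iff_eq, Bool.not_eq_true',
    bne_iff_ne] at this
  obtain ⟨⟨p, ⟨⟨a1, a2⟩, a3⟩, q, ⟨⟨b1, b2⟩, b3⟩, c⟩, -⟩ := this
  exact ⟨p, q, ⟨a1, a2⟩, ⟨b1, b2⟩, (h.lin a1).trans a3, (h.lin b1).trans b3, c⟩

theorem wd_lt {w : List ℕ} (hw : okw w) {n : ℕ} (hn : n < 256) : wd w n < 256 := by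
  induction w with
  | nil => exact hn
  | cons v w ih => exact rf_lt (hw v List.mem_cons_self).1 (ih fun x hx => hw x (List.mem_cons_of_mem _ hx))

theorem inv5 {f : ℕ → ℕ} (h : Un f) (e : ∀ n < 256, f (f n) = n) (h5 : f 5 = 5) : EQ f id ∨ EQ f (Par.tv 5) ∨
    (∃ x < 256, b8 5 x = false ∧ (f x ^^^ x = 10 ∨ f x ^^^ x = 15)) ∨ ∃ n < 256,
      f (wd [64, 16, 16] (f (wd [16, 64, 64] (f (wd [64, 16, 16] (f (wd [16, 64, 64] n))))))) ≠ n := by
  have := h.inv e inv_chk
  simp only [frc_eq, force_eq, Bool.and_eq_true, List.any_eq_true, List.all_eq_true, List.mem_range, beq_iff_eq,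
    Bool.not_eq_true', bne_iff_ne, Bool.or_eq_true, ← h.lin (n := 5) (by norm_num), h5, ne_eq, not_true, false_or] at this
  have o1 : okw [64, 16, 16] := by decide
  have o2 : okw [16, 64, 64] := by decide
  rcases this.2 with ((a | a) | ⟨x, a, b⟩) | ⟨n, a, b⟩
  · exact Or.inl fun n hn => (h.lin hn).trans (a n hn)
  · exact Or.inr (Or.inl fun n hn => (h.lin hn).trans (a n hn))
  · exact Or.inr (Or.inr (Or.inl ⟨x, a, by rwa [h.lin a]⟩))
  have hn : n < 256 := by simp only [List.mem_cons, List.not_mem_nil, or_false] at a; omega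
  have l1 := h.lt (wd_lt o2 hn)
  have l2 := h.lt (wd_lt o1 l1)
  refine Or.inr (Or.inr (Or.inr ⟨n, hn, ?_⟩))
  rwa [← h.lin (wd_lt o2 hn), ← h.lin (wd_lt o1 l1), ← h.lin (wd_lt o2 l2), ← h.lin (wd_lt o1 (h.lt (wd_lt o2 l2)))] at b

theorem all2 {f : ℕ → ℕ → Bool} (h : allN 256 (fun a => allN 256 (f a)) = true) {a b : ℕ} (ha : a < 256) (hb : b < 256) :
    f a b = true := allN_iff.1 (allN_iff.1 h a ha) b hb

theorem sc_chk : allN 256 (fun p => allN 256 fun x => tv (om p) x == tv p x && hz (om p) x == hz p x &&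
    rf (om p) x == rf p x && (!hz p x || tv p x == x) && (q8 p || p == 0 || hz p x || tv p x != x) &&
    (q8 p || inW p (x ^^^ tv p x)) && (q8 p || tv p (tv p x) == x) && (!inW p x || q8 p || hz p x) &&
    (q8 p || p == 0 || inW p x || (List.range 256).any fun y => hz p y && b8 x y)) = true := by decide +kernel

theorem sc_all {p x : ℕ} (hp : p < 256) (hx : x < 256) : tv (om p) x = tv p x ∧ hz (om p) x = hz p x ∧ rf (om p) x = rf p x ∧
    (hz p x = true → tv p x = x) ∧ (sg p → tv p x = x → hz p x = true) ∧ (sg p → inW p (x ^^^ tv p x) = true) ∧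
    (sg p → tv p (tv p x) = x) ∧ (sg p → inW p x = true → hz p x = true) ∧
    (sg p → inW p x = false → ∃ y < 256, hz p y = true ∧ b8 x y = true) := by
  have := all2 sc_chk hp hx
  simp only [Bool.and_eq_true, beq_iff_eq, Bool.or_eq_true, Bool.not_eq_true', bne_iff_ne, List.any_eq_true, List.mem_range] at this
  obtain ⟨⟨⟨⟨⟨⟨⟨⟨a, b⟩, c⟩, d⟩, e⟩, f⟩, g⟩, i⟩, j⟩ := this
  refine ⟨a, b, c, fun h => ?_, fun h k => ?_, fun h => ?_, fun h => ?_, fun h k => ?_, fun h k => ?_⟩ <;>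
    simp_all [sg]

theorem inW_cases {p q : ℕ} (h : inW p q = true) : q = 0 ∨ q = p ∨ q = om p ∨ q = om (om p) := by
  simpa only [inW, Bool.or_eq_true, beq_iff_eq, or_assoc] using h

theorem sc_eq {p q : ℕ} (hp : p < 256) (h : inW p q = true) (h0 : q ≠ 0) {x : ℕ} (hx : x < 256) :
    tv q x = tv p x ∧ hz q x = hz p x ∧ rf q x = rf p x := by
  have a := sc_all hp hx
  have b := sc_all (om_lt p hp) hx
  rcases inW_cases h with rfl | rfl | rfl | rfl
  exacts [absurd rfl h0, ⟨rfl, rfl, rfl⟩, ⟨a.1, a.2.1, a.2.2.1⟩, ⟨b.1.trans a.1, b.2.1.trans a.2.1, b.2.2.1.trans a.2.2.1⟩]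

theorem fix_sc {f : ℕ → ℕ} (h : Un f) {p q : ℕ} (hp : p < 256) (hq : inW p q = true) (h0 : q ≠ 0) (e : f q = q) : f p = p := by
  have k := om3 p hp
  have l := om_lt p hp
  rcases inW_cases hq with rfl | rfl | rfl | rfl
  · exact absurd rfl h0
  · exact e
  · rw [← k.2.1, h.om (om_lt _ l), h.om l, e]
  · rw [← k.2.1, h.om (om_lt _ l), e]

theorem u_chk : ∀ a < 256, (inU a = true → q8 a = false ∧ (∀ b < 256, inU b = true → hz a b = true ∧ b8 a b = false ∧
    inU (a ^^^ b) = true) ∧ ∃ n < 256, a = n ^^^ FF 3 n) ∧ (inU a = false → (∃ x < 256, inU x = true ∧ b8 a x = true) ∧ FF 3 a ≠ a) ∧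
    (∀ m < 16, inU (a ^^^ FF m a) = true) ∧ (inW 5 a = true → inU a = true ∧ ∃ n < 256, a = n ^^^ tv 5 n) := by decide +kernel

theorem ff_chk : allN 256 (fun a => cnd (q8 a && q8 (a ^^^ 5) && hz a (a ^^^ 5)) (allN 256 fun c =>
    cnd (q8 c && q8 (c ^^^ 80) && hz c (c ^^^ 80) && hz a c && hz a (c ^^^ 80) && hz (a ^^^ 5) c)
      ((List.range 16).any fun m => allN 256 fun n => lin a (a ^^^ 5) c (c ^^^ 80) n == FF m n) true) true) = true := by
  decide +kernel

theorem ff_of {f : ℕ → ℕ} (h : Un f) (h5 : f 5 = 5) (h80 : f 80 = 80) : ∃ m < 16, EQ f (FF m) := by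
  have e1 : f 1 ^^^ 5 = f 4 := by rw [← h5, ← h.xor (by norm_num) (by norm_num)]; rfl
  have e2 : f 16 ^^^ 80 = f 64 := by rw [← h80, ← h.xor (by norm_num) (by norm_num)]; rfl
  have l : ∀ n, n < 256 → n < 256 := fun _ a => a
  have := allN_iff.1 ff_chk _ (h.lt (l 1 (by norm_num)))
  rw [cnd_eq, if_pos (by rw [e1, h.q (by norm_num), h.q (by norm_num), h.hz (by norm_num) (by norm_num)]; rfl)] at this
  have := allN_iff.1 this _ (h.lt (l 16 (by norm_num)))
  rw [cnd_eq, if_pos (by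
    rw [e1, e2, h.q (by norm_num), h.q (by norm_num), h.hz (by norm_num) (by norm_num), h.hz (by norm_num) (by norm_num),
      h.hz (by norm_num) (by norm_num), h.hz (by norm_num) (by norm_num)]; rfl), e1, e2] at this
  simp only [List.any_eq_true, List.mem_range, allN_iff, beq_iff_eq] at this
  obtain ⟨m, a, b⟩ := this
  exact ⟨m, a, fun n hn => (h.lin hn).trans (b n hn)⟩

def rep (m : ℕ) : ℕ := if m = 0 then 0 else if m = 1 ∨ m = 2 ∨ m = 4 ∨ m = 8 ∨ m = 15 then 1 else 3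

theorem tr_chk : ∀ m < 16, okw (TR.getD m []) ∧ inU (wd (TR.getD m []) 5) = true ∧ inU (wd (TR.getD m []) 80) = true ∧
    (∀ n < 256, wd (TR.getD m []) (FF m n) = FF (rep m) (wd (TR.getD m []) n)) ∧
    ∀ m' < 16, (∀ n < 256, FF m (FF m' n) = FF (m ^^^ m') n) ∧ ((∀ n < 256, FF m n = FF m' n) → m = m') := by decide +kernel

theorem ff_val : ∀ n < 256, FF 0 n = n ∧ FF 1 n = tv 5 n ∧ FF 2 n = tv 80 n ∧ FF 4 n = tv 85 n ∧ FF 8 n = tv 165 n := by
  decide +kernel

/-- A vector outside the line is fixed by at most one nontrivial element; `5^⊥`. -/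
theorem ff_fix : ∀ x < 256, inU x = false → ∀ m < 16, FF m x = x → m ≠ 0 → (hz 5 x = true → m = 1) ∧
    ∀ m' < 16, FF m' x = x → m' ≠ 0 → m = m' := by decide +kernel

def TT : List (List ℕ) := [[],[112,80,24,20],[112,80,24,20],[112,80,24,20],[112,80,18,17],[],[],[],[112,80,18,17],[],[],[],[112,80,18,17],[],[],[],[76,68,6,5],[],[],[],[],[121,94,17,5],[122,95,18,6],[123,93,19,7],[],[125,86,17,7],[126,87,18,5],[127,85,19,6],[],[117,90,17,6],[118,91,18,7],[119,89,19,5],[76,68,6,5],[],[],[],[],[119,89,19,5],[117,90,17,6],[118,91,18,7],[],[123,93,19,7],[121,94,17,5],[122,95,18,6],[],[127,85,19,6],[125,86,17,7],[126,87,18,5],[76,68,6,5],[],[],[],[],[126,87,18,5],[127,85,19,6],[125,86,17,7],[],[118,91,18,7],[119,89,19,5],[117,90,17,6],[],[122,95,18,6],[123,93,19,7],[121,94,17,5],[28,20,6,5],[],[],[],[],[110,94,65,5],[111,95,66,6],[109,93,67,7],[],[102,86,65,7],[103,87,66,5],[101,85,67,6],[],[106,90,65,6],[107,91,66,7],[105,89,67,5],[],[122,118,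65,17],[123,119,66,18],[121,117,67,19],[122,121,68,20],[],[],[],[126,125,72,24],[],[],[],[118,117,76,28],[],[],[],[],[90,86,65,19],[91,87,66,17],[89,85,67,18],[90,89,68,28],[],[],[],[94,93,72,20],[],[],[],[86,85,76,24],[],[],[],[],[106,102,65,18],[107,103,66,19],[105,101,67,17],[106,105,68,24],[],[],[],[110,109,72,28],[],[],[],[102,101,76,20],[],[],[],[28,20,6,5],[],[],[],[],[105,89,67,5],[106,90,65,6],[107,91,66,7],[],[109,93,67,7],[110,94,65,5],[111,95,66,6],[],[101,85,67,6],[102,86,65,7],[103,87,66,5],[],[105,101,67,17],[106,102,65,18],[107,103,66,19],[102,101,76,20],[],[],[],[106,105,68,24],[],[],[],[110,109,72,28],[],[],[],[],[121,117,67,19],[122,118,65,17],[123,119,66,18],[118,117,76,28],[],[],[],[122,121,68,20],[],[],[],[126,125,72,24],[],[],[],[],[89,85,67,18],[90,86,65,19],[91,87,66,17],[86,85,76,24],[],[],[],[90,89,68,28],[],[],[],[94,93,72,20],[],[],[],[28,20,6,5],[],[],[],[],[103,87,66,5],[101,85,67,6],[102,86,65,7],[],[107,91,66,7],[105,89,67,5],[106,90,65,6],[],[111,95,66,6],[109,93,67,7],[110,94,65,5],[],[91,87,66,17],[89,85,67,18],[90,86,65,19],[94,93,72,20],[],[],[],[86,85,76,24],[],[],[],[90,89,68,28],[],[],[],[],[107,103,66,19],[105,101,67,17],[106,102,65,18],[110,109,72,28],[],[],[],[102,101,76,20],[],[],[],[106,105,68,24],[],[],[],[],[123,119,66,18],[121,117,67,19],[122,118,65,17],[126,125,72,24],[],[],[],[118,117,76,28],[],[],[],[122,121,68,20],[],[],[]]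
def PP : Finset ℕ := List.toFinset [5,6,7,17,18,19,20,24,28,65,66,67,68,72,76,80,85,86,87,89,90,91,93,94,95,96,101,102,103,105,106,107,109,110,111,112,117,118,119,121,122,123,125,126,127]
noncomputable def wt (w : List ℕ) (n : ℕ) : ℕ := w.foldr (fun v n => force n (tv v)) n

theorem tt_chk : ∀ v < 256, q8 v = true → (∀ p ∈ TT.getD v [], sg p) ∧ ∀ n ∈ [1, 4, 16, 64], wt (TT.getD v []) n = rf v n := by
  decide +kernel

end Cfsg.Lib.Par
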