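import Cfsg.Agent.Lib.Known2.P1c

/-! Unitary coordinates on a large extraspecial subgroup of order `2^9`. -/

set_option autoImplicit false
set_option synthInstance.maxSize 2000
set_option linter.unusedSectionVars false

namespace Cfsg.Lib.Par

open Subgroup Cfsg.Lib.Known2 Cfsg.Lib.Core Cfsg.Lib.Fi
open Cfsg.Lib.Comp (force force_eq)

variable {G : Type*} [Group G]

structure F8 (Q : Subgroup G) (z : G) (ν : G → ℕ) (α : G → ℕ → ℕ) : Prop where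
  ls : LS Q z
  card : Nat.card Q = 512
  lt : ∀ y, ν y < 256
  mul : ∀ {x y}, x ∈ Q → y ∈ Q → ν (x * y) = ν x ^^^ ν y
  zero : ∀ {y}, y ∈ Q → (ν y = 0 ↔ y = 1 ∨ y = z)
  sur : ∀ n < 256, ∃ y ∈ Q, ν y = n
  sq : ∀ {y}, y ∈ Q → (y * y = 1 ↔ q8 (ν y) = false)
  comm : ∀ {x y}, x ∈ Q → y ∈ Q → (Commute x y ↔ b8 (ν x) (ν y) = false)
  conj : ∀ {g y}, Commute z g → y ∈ Q → ν (g * y * g⁻¹) = α g (ν y)
  om : ∀ {g n}, Commute z g → n < 256 → α g (om n) = om (α g n)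
  refl : ∀ v < 256, q8 v = true → ∃ g, Commute z g ∧ EQ (α g) (rf v)

theorem conj_sq_iff {g y : G} : g * y * g⁻¹ * (g * y * g⁻¹) = 1 ↔ y * y = 1 := by
  rw [conj_mul, conj_eq_one_iff]

theorem cz {z g : G} (h : Commute z g) : g * z * g⁻¹ = z := by rw [← h.eq, mul_inv_cancel_right]

namespace F8
variable {Q : Subgroup G} {z : G} {ν : G → ℕ} {α : G → ℕ → ℕ} (h : F8 Q z ν α) {g k x y t u v : G} {n p : ℕ}
include h

theorem nm (hg : Commute z g) (hy : y ∈ Q) : g * y * g⁻¹ ∈ Q := h.ls.norm g hg.symm y hy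
theorem cQ (hy : y ∈ Q) : Commute z y := (h.ls.cen y hy).symm
theorem zz : z * z = 1 := h.ls.sq
theorem ν1 : ν 1 = 0 := (h.zero (one_mem _)).2 (Or.inl rfl)
theorem νz (hy : y ∈ Q) : ν (y * z) = ν y := by rw [h.mul hy h.ls.mem, (h.zero h.ls.mem).2 (Or.inr rfl), Nat.xor_zero]
theorem νi (hy : y ∈ Q) : ν y⁻¹ = ν y := by
  have := h.mul (inv_mem hy) hy
  rw [inv_mul_cancel, h.ν1] at this
  exact Nat.xor_eq_zero_iff.1 this.symm

theorem eq_or (hx : x ∈ Q) (hy : y ∈ Q) (e : ν x = ν y) : y = x ∨ y = x * z :=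
  ((h.zero (mul_mem (inv_mem hx) hy)).1 (by rw [h.mul (inv_mem hx) hy, h.νi hx, e, Nat.xor_self])).imp
    (fun a => (inv_mul_eq_one.1 a).symm) fun a => inv_mul_eq_iff_eq_mul.1 a

theorem un (hg : Commute z g) : Un (α g) := by
  refine ⟨fun {n} hn => ?_, fun {m n} hm hn => ?_, fun {n} hn => ?_, h.om hg⟩
  · obtain ⟨y, a, rfl⟩ := h.sur n hn
    exact h.conj hg a ▸ h.lt _
  · obtain ⟨y, a, rfl⟩ := h.sur n hn
    obtain ⟨x, b, rfl⟩ := h.sur m hm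
    rw [← h.mul b a, ← h.conj hg a, ← h.conj hg b, ← h.conj hg (mul_mem b a), ← h.mul (h.nm hg b) (h.nm hg a), conj_mul]
  · obtain ⟨y, a, rfl⟩ := h.sur n hn
    rw [← h.conj hg a, ← Bool.not_inj_iff, Bool.eq_iff_iff, Bool.not_eq_true', Bool.not_eq_true', ← h.sq a, ← h.sq (h.nm hg a),
      conj_sq_iff]

theorem αm (hg : Commute z g) (hk : Commute z k) (hn : n < 256) : α (g * k) n = α g (α k n) := by
  obtain ⟨y, a, rfl⟩ := h.sur n hn
  rw [← h.conj hk a, ← h.conj hg (h.nm hk a), ← h.conj (hg.mul_right hk) a]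
  congr 1; group

theorem αQ (hx : x ∈ Q) (hn : n < 256) : α x n = n := by
  obtain ⟨y, a, rfl⟩ := h.sur n hn
  rw [← h.conj (h.cQ hx) a]
  rcases h.ls.conj_eq hx a with e | e <;> rw [e]
  exact h.νz a

theorem αi (hg : Commute z g) (hn : n < 256) : α g (α g⁻¹ n) = n := by
  rw [← h.αm hg hg.inv_right hn, mul_inv_cancel, h.αQ (one_mem _) hn]

theorem αi' (hg : Commute z g) (hn : n < 256) : α g⁻¹ (α g n) = n := by
  simpa using h.αi hg.inv_right hn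

theorem αc (hg : Commute z g) (hk : Commute z k) (hn : n < 256) : α (g * k * g⁻¹) n = α g (α k (α g⁻¹ n)) := by
  rw [h.αm (hg.mul_right hk) hg.inv_right hn, h.αm hg hk ((h.un hg.inv_right).lt hn)]

theorem fix (hg : Commute z g) (hy : y ∈ Q) (e : Commute g y) : α g (ν y) = ν y := by
  rw [← h.conj hg hy, e.eq, mul_inv_cancel_right]

theorem fix' (hg : Commute z g) (hy : y ∈ Q) (e : α g (ν y) = ν y) : g * y * g⁻¹ = y ∨ g * y * g⁻¹ = y * z :=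
  h.eq_or hy (h.nm hg hy) ((h.conj hg hy).trans e).symm

theorem ker [Finite G] (hg : Commute z g) (e : ∀ n < 256, α g n = n) : g ∈ Q :=
  h.ls.mem_of_inner hg.symm fun _ hx => h.fix' hg hx (e _ (h.lt _))

theorem same [Finite G] (hg : Commute z g) (hk : Commute z k) (e : EQ (α g) (α k)) : ∃ u ∈ Q, k = u * g :=
  ⟨k * g⁻¹, h.ker (hk.mul_right hg.inv_right) fun n hn => by
    rw [h.αm hk hg.inv_right hn, ← e _ ((h.un hg.inv_right).lt hn), h.αi hg hn], by simp⟩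

theorem word {w : List ℕ} (hw : okw w) : ∃ g, Commute z g ∧ EQ (α g) (wd w) := by
  induction w with
  | nil => exact ⟨1, Commute.one_right _, fun n hn => h.αQ (one_mem _) hn⟩
  | cons v w ih =>
    obtain ⟨g, a, b⟩ := ih fun x hx => hw x (List.mem_cons_of_mem _ hx)
    obtain ⟨k, c, d⟩ := h.refl v (hw v List.mem_cons_self).1 (hw v List.mem_cons_self).2
    exact ⟨k * g, c.mul_right a, fun n hn => by rw [h.αm c a hn, d _ ((h.un a).lt hn), b n hn]; rfl⟩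

theorem tr1 (hp : sg p) : ∃ g, Commute z g ∧ α g p = 5 := by
  obtain ⟨g, a, b⟩ := h.word (t1_chk p hp.1 hp).1
  exact ⟨g, a, (b p hp.1).trans (t1_chk p hp.1 hp).2⟩

theorem tr2 {q : ℕ} (hp : sg p) (hq : q < 256) (h1 : q8 q = false) (h2 : hz p q = true) (h3 : inW p q = false) :
    ∃ g, Commute z g ∧ inW 5 (α g p) = true ∧ inW 80 (α g q) = true := by
  obtain ⟨g, a, b⟩ := h.tr1 hp
  have U := h.un a
  obtain ⟨w, -, c, d, e⟩ := t2_chk _ (U.lt hq) ⟨(U.q hq).trans h1, b ▸ (U.hz hp.1 hq).trans h2, b ▸ (U.inW hp.1 hq).trans h3⟩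
  obtain ⟨k, f, l⟩ := h.word c
  exact ⟨k * g, f.mul_right a, by rwa [h.αm f a hp.1, b, l 5 (by norm_num)], by rwa [h.αm f a hq, l _ (U.lt hq)]⟩

theorem cov (hv : Commute z v) (hu : u ∈ Q) (hn : n < 256) (e : ν u = n ^^^ α v n) :
    ∃ y ∈ Q, ν y = n ∧ (y * v * y⁻¹ = u * v ∨ y * v * y⁻¹ = u * v * z) := by
  obtain ⟨y, a, rfl⟩ := h.sur n hn
  have m := h.nm hv (inv_mem a)
  refine ⟨y, a, rfl, (h.eq_or hu (mul_mem a m) (by rw [h.mul a m, h.conj hv (inv_mem a), h.νi a, e])).imp (fun b => ?_) fun b => ?_⟩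
  · rw [← b]; group
  · rw [mul_assoc u, ← hv.eq, ← mul_assoc, ← b]; group

/-- Elements of a subgroup containing `z` are recognised by their codes. -/
theorem mem_of {K : Subgroup G} (hz : z ∈ K) (hx : x ∈ K) (hx' : x ∈ Q) (hy : y ∈ Q) (e : ν x = ν y) : y ∈ K := by
  rcases h.eq_or hx' hy e with rfl | rfl
  exacts [hx, mul_mem hx hz]

theorem ncard (P : ℕ → Prop) [DecidablePred P] :
    {y | y ∈ Q ∧ P (ν y)}.ncard = 2 * ((Finset.range 256).filter P).card := by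
  classical
  choose! s s1 s2 using h.sur
  have i : Set.InjOn (fun c : Bool × ℕ => if c.1 then s c.2 * z else s c.2) ↑(Finset.univ ×ˢ (Finset.range 256).filter P : Finset (Bool × ℕ)) := by
    rintro ⟨a, m⟩ hm ⟨b, n⟩ hn e
    simp only [Finset.coe_product, Finset.coe_univ, Finset.coe_filter, Finset.mem_range, Set.mem_prod, Set.mem_univ, true_and,
      Set.mem_ofPred_eq] at hm hn
    obtain rfl : m = n := by
      have := congrArg ν e
      cases a <;> cases b <;> simpa [h.νz (s1 _ hm.1), h.νz (s1 _ hn.1), s2 _ hm.1, s2 _ hn.1] using this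
    cases a <;> cases b <;> simp_all [h.ls.ne]
  rw [show 2 * _ = (Finset.univ ×ˢ (Finset.range 256).filter P : Finset (Bool × ℕ)).card by simp, ← Set.ncard_coe_finset,
    ← i.ncard_image]
  congr 1
  ext y
  simp only [Finset.coe_product, Finset.coe_univ, Finset.coe_filter, Finset.mem_range, Set.mem_image, Set.mem_prod, Set.mem_univ,
    true_and, Set.mem_ofPred_eq, Prod.exists, Bool.exists_bool]
  refine ⟨fun ⟨a, b⟩ => ?_, ?_⟩
  · rcases h.eq_or (s1 _ (h.lt y)) a (s2 _ (h.lt y)) with e | e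
    exacts [Or.inl ⟨_, ⟨h.lt y, b⟩, e.symm⟩, Or.inr ⟨_, ⟨h.lt y, b⟩, e.symm⟩]
  · rintro (⟨n, ⟨a, b⟩, rfl⟩ | ⟨n, ⟨a, b⟩, rfl⟩)
    · exact ⟨s1 n a, by simpa [s2 n a] using b⟩
    · exact ⟨mul_mem (s1 n a) h.ls.mem, by simpa [h.νz (s1 n a), s2 n a] using b⟩

end F8

/-- `t` induces the transvection with centre `p` and centralises the preimage of its axis. -/
def PT (Q : Subgroup G) (z : G) (ν : G → ℕ) (α : G → ℕ → ℕ) (t : G) (p : ℕ) : Prop :=
  sg p ∧ Commute z t ∧ EQ (α t) (tv p) ∧ ∀ y ∈ Q, hz p (ν y) = true → Commute t y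

/-- The centraliser of the preimage of the base line. -/
def VV (Q : Subgroup G) (ν : G → ℕ) : Subgroup G := centralizer {y | y ∈ Q ∧ inU (ν y) = true}

theorem mem_VV {Q : Subgroup G} {ν : G → ℕ} {v : G} : v ∈ VV Q ν ↔ ∀ y ∈ Q, inU (ν y) = true → Commute v y :=
  ⟨fun a y b c => (a y ⟨b, c⟩).symm, fun a y b => (a y b.1 b.2).symm⟩

theorem sp_chk : (∀ s₁ s₂ s₃ s₄ s₅ s₆ : Bool, ∃ n < 256, b8 n 5 = s₁ ∧ b8 n 10 = s₂ ∧ b8 n 16 = s₃ ∧ b8 n 32 = s₄ ∧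
    b8 n 64 = s₅ ∧ b8 n 128 = s₆) ∧ ∀ n < 256, hz 5 n = true → n = sc 5 n ^^^ sc 16 (n >>> 4) ^^^ sc 64 (n >>> 6) := by
  decide +kernel

namespace F8
variable [Finite G] {Q : Subgroup G} {z : G} {ν : G → ℕ} {α : G → ℕ → ℕ} (h : F8 Q z ν α) {g k x y t u v : G} {n p : ℕ}
include h

theorem pt_conj (ht : PT Q z ν α t p) (hg : Commute z g) : PT Q z ν α (g * t * g⁻¹) (α g p) := by
  have U := h.un hg
  have l := fun {n} => (h.un hg.inv_right).lt (n := n)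
  refine ⟨U.sg ht.1, (hg.mul_right ht.2.1).mul_right hg.inv_right, fun n hn => ?_, fun y hy e => ?_⟩
  · rw [h.αc hg ht.2.1 hn, ht.2.2.1 _ (l hn), U.tv ht.1.1 (l hn), h.αi hg hn]
  · have m := h.nm hg.inv_right hy
    refine commute_conj_left_iff.2 (by
      simpa using ht.2.2.2 _ m (by rwa [h.conj hg.inv_right hy, ← U.hz ht.1.1 (l (h.lt y)), h.αi hg (h.lt y)]))

omit h in
theorem _root_.Cfsg.Lib.Par.PT.sc {q : ℕ} (ht : PT Q z ν α t p) (hq : sg q) (e : inW q p = true) (hν : ∀ y, ν y < 256) :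
    PT Q z ν α t q :=
  ⟨hq, ht.2.1, fun n hn => (ht.2.2.1 n hn).trans (sc_eq hq.1 e ht.1.2.2 hn).1,
    fun y hy a => ht.2.2.2 y hy ((sc_eq hq.1 e ht.1.2.2 (hν y)).2.1.trans a)⟩

theorem pt5 : ∃ t, PT Q z ν α t 5 := by
  classical
  obtain ⟨k, a, b⟩ := h.word (w := [26, 21, 16]) (by decide)
  have b : EQ (α k) (tv 5) := fun n hn => (b n hn).trans ((by decide +kernel : ∀ n < 256, wd [26, 21, 16] n = tv 5 n) n hn)
  choose! s s1 s2 using h.sur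
  obtain ⟨n, hn, e⟩ := sp_chk.1 (!decide (Commute k (s 5))) (!decide (Commute k (s 10))) (!decide (Commute k (s 16)))
    (!decide (Commute k (s 32))) (!decide (Commute k (s 64))) (!decide (Commute k (s 128)))
  have c := (h.cQ (s1 n hn)).mul_right a
  have key : ∀ m < 256, hz 5 m = true → b8 n m = (!decide (Commute k (s m))) → ∃ y ∈ centralizer {s n * k}, y ∈ Q ∧ ν y = m :=
    fun m hm e1 e2 => by
      refine ⟨s m, mem_centralizer_singleton_iff.2 ?_, s1 m hm, s2 m hm⟩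
      have c1 := h.comm (s1 n hn) (s1 m hm)
      rw [s2 n hn, s2 m hm, e2] at c1
      by_cases c2 : Commute k (s m)
      · exact ((c1.2 (by simp [c2])).mul_left c2).symm
      have c3 := (h.fix' a (s1 m hm) (by rw [s2 m hm, b m hm, (sc_all (by norm_num) hm).2.2.2.1 e1])).resolve_left
        fun e => c2 (comm_of_conj_eq e)
      have c4 := h.ls.anti (s1 n hn) (s1 m hm) fun e => by simp [c2] at c1; exact c1 e
      rw [mul_assoc, mul_inv_eq_iff_eq_mul.1 c3, ← mul_assoc, ← mul_assoc, ← mul_assoc, c4, mul_assoc _ z z, h.zz, mul_one]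
  refine ⟨s n * k, by decide, c, fun m hm => by rw [h.αm (h.cQ (s1 n hn)) a hm, h.αQ (s1 n hn) ((h.un a).lt hm), b m hm],
    fun y hy e1 => ?_⟩
  have X : ∀ {a b}, (∃ y ∈ centralizer {s n * k}, y ∈ Q ∧ ν y = a) → (∃ y ∈ centralizer {s n * k}, y ∈ Q ∧ ν y = b) →
      ∃ y ∈ centralizer {s n * k}, y ∈ Q ∧ ν y = a ^^^ b := by
    rintro _ _ ⟨x, a1, a2, rfl⟩ ⟨y, b1, b2, rfl⟩
    exact ⟨_, mul_mem a1 b1, mul_mem a2 b2, h.mul a2 b2⟩
  have S : ∀ {a} m, (∃ y ∈ centralizer {s n * k}, y ∈ Q ∧ ν y = a) → (∃ y ∈ centralizer {s n * k}, y ∈ Q ∧ ν y = Par.om a) →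
      ∃ y ∈ centralizer {s n * k}, y ∈ Q ∧ ν y = sc a m := fun m a b => by
    have o : ∃ y ∈ centralizer {s n * k}, y ∈ Q ∧ ν y = 0 := ⟨1, one_mem _, one_mem _, h.ν1⟩
    unfold sc
    cases m.testBit 0 <;> cases m.testBit 1
    exacts [X o o, X o b, X a o, X a b]
  obtain ⟨x, a1, a2, a3⟩ := X (X (S (ν y) (key 5 (by norm_num) rfl e.1) (key 10 (by norm_num) rfl e.2.1))
    (S (ν y >>> 4) (key 16 (by norm_num) rfl e.2.2.1) (key 32 (by norm_num) rfl e.2.2.2.1)))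
    (S (ν y >>> 6) (key 64 (by norm_num) rfl e.2.2.2.2.1) (key 128 (by norm_num) rfl e.2.2.2.2.2))
  exact (mem_centralizer_singleton_iff.1 (h.mem_of (mem_centralizer_singleton_iff.2 c) a1 a2 hy
    (a3.trans (sp_chk.2 _ (h.lt y) e1).symm))).symm

theorem pt_ex (hp : sg p) : ∃ t, PT Q z ν α t p := by
  obtain ⟨t, a⟩ := h.pt5
  obtain ⟨g, b, c⟩ := h.tr1 hp
  exact ⟨_, h.αi' b hp.1 ▸ c ▸ h.pt_conj a b.inv_right⟩

theorem pt_same (ht : PT Q z ν α t p) (hk : PT Q z ν α k p) : ∃ u ∈ Q, inW p (ν u) = true ∧ k = u * t := by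
  obtain ⟨u, a, rfl⟩ := h.same ht.2.1 hk.2.1 fun n hn => (ht.2.2.1 n hn).trans (hk.2.2.1 n hn).symm
  refine ⟨u, a, by_contra fun n => ?_, rfl⟩
  obtain ⟨m, b, c, d⟩ := (sc_all ht.1.1 (h.lt u)).2.2.2.2.2.2.2.2 ht.1 (by simpa using n)
  obtain ⟨y, e, rfl⟩ := h.sur m b
  have := (h.comm a e).1 (by simpa using (hk.2.2.2 y e c).mul_left (ht.2.2.2 y e c).inv_left)
  simp [d] at this

theorem pt_mul (ht : PT Q z ν α t p) (hu : u ∈ Q) (e : inW p (ν u) = true) : PT Q z ν α (u * t) p := by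
  refine ⟨ht.1, (h.cQ hu).mul_right ht.2.1, fun n hn => by
    rw [h.αm (h.cQ hu) ht.2.1 hn, h.αQ hu ((h.un ht.2.1).lt hn), ht.2.2.1 n hn], fun y hy a => Commute.mul_left ?_ (ht.2.2.2 y hy a)⟩
  rw [h.comm hu hy]
  by_cases e0 : ν u = 0
  · rw [e0, (b8_zero _ (h.lt y)).1]
  rw [← (sc_eq ht.1.1 e e0 (h.lt y)).2.1, hz] at a
  simpa using (Bool.and_eq_true_iff.1 a).1

theorem vz (hv : v ∈ VV Q ν) : Commute z v :=
  (mem_VV.1 hv z h.ls.mem (by rw [(h.zero h.ls.mem).2 (Or.inr rfl)]; rfl)).symm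

theorem vQ (hu : u ∈ Q) : u ∈ VV Q ν ↔ inU (ν u) = true := by
  refine ⟨fun a => by_contra fun n => ?_, fun a => mem_VV.2 fun y b c =>
    (h.comm hu b).2 (((u_chk _ (h.lt u)).1 a).2.1 _ (h.lt y) c).2.1⟩
  obtain ⟨m, b, c, d⟩ := ((u_chk _ (h.lt u)).2.1 (by simpa using n)).1
  obtain ⟨y, e, rfl⟩ := h.sur m b
  simpa [d] using (h.comm hu e).1 (mem_VV.1 a y e c)

theorem zV : z ∈ VV Q ν := (h.vQ h.ls.mem).2 (by rw [(h.zero h.ls.mem).2 (Or.inr rfl)]; rfl)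

theorem pt_V (ht : PT Q z ν α t p) (e : inU p = true) : t ∈ VV Q ν :=
  mem_VV.2 fun y a b => ht.2.2.2 y a (((u_chk _ ht.1.1).1 e).2.1 _ (h.lt y) b).1

theorem v_conj (hv : v ∈ VV Q ν) (hg : Commute z g) (h5 : inU (α g 5) = true) (h80 : inU (α g 80) = true) :
    g * v * g⁻¹ ∈ VV Q ν := mem_VV.2 fun y a b => by
  have U := h.un hg
  have l := (h.un hg.inv_right).lt (h.lt y)
  suffices H : inU (ν (g⁻¹ * y * g⁻¹⁻¹)) = true from
    commute_conj_left_iff.2 (by simpa using mem_VV.1 hv _ (h.nm hg.inv_right a) H)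
  rw [h.conj hg.inv_right a, inU, ← U.hz (by norm_num) l, ← U.hz (by norm_num) l, h.αi hg (h.lt y),
    (((u_chk _ (U.lt (by norm_num))).1 h5).2.1 _ (h.lt y) b).1, (((u_chk _ (U.lt (by norm_num))).1 h80).2.1 _ (h.lt y) b).1]
  rfl

theorem v_ff (hv : v ∈ VV Q ν) : ∃ m < 16, EQ (α v) (FF m) := by
  obtain ⟨x, a, b⟩ := h.sur 5 (by norm_num)
  obtain ⟨y, c, d⟩ := h.sur 80 (by norm_num)
  exact ff_of (h.un (h.vz hv)) (b ▸ h.fix (h.vz hv) a (mem_VV.1 hv x a (b ▸ rfl)))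
    (d ▸ h.fix (h.vz hv) c (mem_VV.1 hv y c (d ▸ rfl)))

theorem rep_conj {m : ℕ} (hm : m < 16) : ∃ g, Commute z g ∧ (∀ v ∈ VV Q ν, g * v * g⁻¹ ∈ VV Q ν) ∧
    ∀ v, Commute z v → EQ (α v) (FF m) → EQ (α (g * v * g⁻¹)) (FF (rep m)) := by
  obtain ⟨a, b, c, d, -⟩ := tr_chk m hm
  obtain ⟨g, e, f⟩ := h.word a
  have l := fun {n} => (h.un e.inv_right).lt (n := n)
  exact ⟨g, e, fun v hv => h.v_conj hv e (by rwa [f 5 (by norm_num)]) (by rwa [f 80 (by norm_num)]), fun v hv i n hn => by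
    rw [h.αc e hv hn, f _ ((h.un hv).lt (l hn)), i _ (l hn), d _ (l hn), ← f _ (l hn), h.αi e hn]⟩

theorem v_sq (hv : v ∈ VV Q ν) : v * v = 1 ∨ v * v = z := h.ls.selfc _ fun y hy => by
  obtain ⟨m, a, b⟩ := h.v_ff hv
  have c := h.vz hv
  have m1 := mul_mem (inv_mem hy) (h.nm c hy)
  have i : inU (ν (y⁻¹ * (v * y * v⁻¹))) = true := by
    rw [h.mul (inv_mem hy) (h.nm c hy), h.νi hy, h.conj c hy, b _ (h.lt y)]; exact (u_chk _ (h.lt y)).2.2.1 m a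
  have e1 := (mem_VV.1 hv _ m1 i).eq
  have e2 := (h.sq m1).2 ((u_chk _ (h.lt _)).1 i).1
  generalize hc : y⁻¹ * (v * y * v⁻¹) = c at *
  have e : v * y = y * c * v := by rw [← hc]; group
  rw [mul_assoc, e, ← mul_assoc, ← mul_assoc, e, mul_assoc (y * c), e1, ← mul_assoc, mul_assoc y, e2, mul_one, mul_assoc]

end F8

end Cfsg.Lib.Par
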