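import Cfsg.Agent.Lib.Known2.P2
import Cfsg.Agent.Lib.Known2.Glob

/-! The group `2^{1+8}.U₄(2)`: involutions, and fusion of the central involution into `Q`. -/

set_option autoImplicit false
set_option synthInstance.maxSize 2000
set_option linter.unusedSectionVars false

namespace Cfsg.Lib.Par

open Subgroup Cfsg.Lib.Known2 Cfsg.Lib.Core Cfsg.Lib.Fi Cfsg.Lib.Amalg
open Cfsg.Lib.Comp (force force_eq)

variable {G : Type*} [Group G]

theorem card_le_fib [Finite G] {B K : Subgroup G} {β : Type*} (μ : G → β) (S : Finset β) (h1 : ∀ x ∈ B, μ x ∈ S)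
    (h2 : ∀ x ∈ B, ∀ y ∈ B, μ x = μ y → x⁻¹ * y ∈ K) : Nat.card B ≤ S.card * Nat.card ↥(B ⊓ K) := by
  have e : Nat.card (K.subgroupOf B) = Nat.card ↥(B ⊓ K) := by
    rw [← inf_subgroupOf_left, Nat.card_congr (subgroupOfEquivOfLe inf_le_left).toEquiv]
  rw [card_eq_card_quotient_mul_card_subgroup (K.subgroupOf B), e, ← Nat.card_eq_finsetCard]
  refine Nat.mul_le_mul_right _ (Nat.card_le_card_of_injective (fun q : B ⧸ K.subgroupOf B => (⟨μ q.out, h1 _ q.out.2⟩ : S))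
    fun a b e => ?_)
  rw [← a.out_eq, ← b.out_eq]
  exact QuotientGroup.eq.2 (h2 _ a.out.2 _ b.out.2 (congrArg Subtype.val e))

theorem card_le_two [Finite G] {B K : Subgroup G} (h : ∀ x ∈ B, ∀ y ∈ B, x ∉ K → y ∉ K → x⁻¹ * y ∈ K) :
    Nat.card B ≤ 2 * Nat.card ↥(B ⊓ K) := by
  classical
  refine card_le_fib (fun x => decide (x ∈ K)) Finset.univ (fun _ _ => Finset.mem_univ _) fun x hx y hy e => ?_
  by_cases a : x ∈ K
  · exact mul_mem (inv_mem a) (by simpa [a] using e)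
  · exact h x hx y hy a (by simpa [a] using e)

theorem card_le_ncard [Finite G] {B : Subgroup G} {S : Set G} (h : ∀ x ∈ B, x ∈ S) : Nat.card B ≤ S.ncard :=
  Set.ncard_le_ncard (s := (B : Set G)) h

theorem comm_of_sq {Y : Subgroup G} (h : ∀ y ∈ Y, y * y = 1) {x y : G} (hx : x ∈ Y) (hy : y ∈ Y) : Commute x y := by
  have := h _ (mul_mem hx hy)
  rw [Commute, SemiconjBy, ← inv_eq_of_mul_eq_one_right this, mul_inv_rev, inv_eq_of_mul_eq_one_right (h x hx),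
    inv_eq_of_mul_eq_one_right (h y hy)]

theorem fixpt {Y : Subgroup G} (hY : IsPGroup 2 Y) (σ : G → ℕ → ℕ) (Ω : Finset ℕ) (ho : ¬ 2 ∣ Ω.card)
    (h1 : ∀ y ∈ Y, ∀ n ∈ Ω, σ y n ∈ Ω) (h2 : ∀ n ∈ Ω, σ 1 n = n) (h3 : ∀ a ∈ Y, ∀ b ∈ Y, ∀ n ∈ Ω, σ (a * b) n = σ a (σ b n)) :
    ∃ n ∈ Ω, ∀ y ∈ Y, σ y n = n := by
  let _ : MulAction Y Ω :=
    { smul := fun y n => ⟨σ y n, h1 y y.2 n n.2⟩
      one_smul := fun n => Subtype.ext (h2 n n.2)
      mul_smul := fun a b n => Subtype.ext (h3 a a.2 b b.2 n n.2) }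
  obtain ⟨n, hn⟩ := hY.nonempty_fixed_point_of_prime_not_dvd_card Ω (by simpa using ho)
  exact ⟨n, n.2, fun y hy => congrArg Subtype.val (hn ⟨y, hy⟩)⟩

theorem pg_of_sq {Y : Subgroup G} (h : ∀ y ∈ Y, y * y = 1) : IsPGroup 2 Y := fun y => ⟨1, Subtype.ext (by simp [_root_.sq, h y y.2])⟩

theorem fixW {f : ℕ → ℕ} (h : Un f) {p w : ℕ} (hp : p < 256) (e : f p = p) (hw : inW p w = true) : f w = w := by
  rcases inW_cases hw with rfl | rfl | rfl | rfl
  exacts [h.zero, e, by rw [h.om hp, e], by rw [h.om (om_lt _ hp), h.om hp, e]]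

namespace F8
variable [Finite G] {Q : Subgroup G} {z : G} {ν : G → ℕ} {α : G → ℕ → ℕ} (h : F8 Q z ν α) {g k x y t u v w : G} {n p m : ℕ}
include h

theorem ff_ex (hm : m < 16) : ∃ v ∈ VV Q ν, EQ (α v) (FF m) := by
  have k : ∀ (b : Bool) p, sg p → inU p = true → ∃ v ∈ VV Q ν, EQ (α v) (ct b p) := fun b p hp e => by
    cases b
    · exact ⟨1, one_mem _, fun n hn => h.αQ (one_mem _) hn⟩
    · obtain ⟨t, a⟩ := h.pt_ex hp
      exact ⟨t, h.pt_V a e, a.2.2.1⟩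
  obtain ⟨a, a1, a2⟩ := k (m.testBit 0) 5 (by decide) rfl
  obtain ⟨b, b1, b2⟩ := k (m.testBit 1) 80 (by decide) rfl
  obtain ⟨c, c1, c2⟩ := k (m.testBit 2) 85 (by decide) rfl
  obtain ⟨d, d1, d2⟩ := k (m.testBit 3) 165 (by decide) rfl
  have l := fun {v} (hv : v ∈ VV Q ν) {n} => (h.un (h.vz hv)).lt (n := n)
  refine ⟨a * (b * (c * d)), mul_mem a1 (mul_mem b1 (mul_mem c1 d1)), fun n hn => ?_⟩
  rw [h.αm (h.vz a1) (h.vz (mul_mem b1 (mul_mem c1 d1))) hn, h.αm (h.vz b1) (h.vz (mul_mem c1 d1)) hn,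
    h.αm (h.vz c1) (h.vz d1) hn, a2 _ (l b1 (l c1 (l d1 hn))), b2 _ (l c1 (l d1 hn)), c2 _ (l d1 hn), d2 n hn, FF]

theorem ff_mul {m' : ℕ} (hv : Commute z v) (hw : Commute z w) (hm : m < 16) (hm' : m' < 16) (a : EQ (α v) (FF m))
    (b : EQ (α w) (FF m')) : EQ (α (v * w)) (FF (m ^^^ m')) := fun n hn => by
  rw [h.αm hv hw hn, a _ ((h.un hw).lt hn), b n hn, ((tr_chk m hm).2.2.2.2 m' hm').1 n hn]

theorem v_same (hv : v ∈ VV Q ν) (hw : w ∈ VV Q ν) (e : EQ (α v) (α w)) : ∃ u ∈ Q, inU (ν u) = true ∧ w = u * v := by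
  obtain ⟨u, a, rfl⟩ := h.same (h.vz hv) (h.vz hw) e
  exact ⟨u, a, (h.vQ a).1 ((mul_mem_cancel_right hv).1 hw), rfl⟩

theorem uu (hu : u ∈ Q) (e : inU (ν u) = true) : u * u = 1 := (h.sq hu).2 ((u_chk _ (h.lt u)).1 e).1

theorem sq_rep {m' : ℕ} (hv : v ∈ VV Q ν) (hw : w ∈ VV Q ν) (hm : m < 16) (hm' : m' < 16) (a : EQ (α v) (FF m))
    (b : EQ (α w) (FF m')) (e : rep m = rep m') : v * v = w * w := by
  obtain ⟨g, g0, g1, g2⟩ := h.rep_conj hm
  obtain ⟨k, k0, k1, k2⟩ := h.rep_conj hm'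
  obtain ⟨u, c, d, f⟩ := h.v_same (g1 v hv) (k1 w hw) fun n hn => by rw [g2 v (h.vz hv) a n hn, k2 w (h.vz hw) b n hn, e]
  have i : k * w * k⁻¹ * (k * w * k⁻¹) = g * v * g⁻¹ * (g * v * g⁻¹) := by
    rw [f, (mem_VV.1 (g1 v hv) u c d).mul_mul_mul_comm, h.uu c d, one_mul]
  rw [conj_mul, conj_mul] at i
  rcases h.v_sq hv with a | a <;> rcases h.v_sq hw with b | b <;> rw [a, b] at i ⊢
  · rw [cz k0] at i; simpa using i.symm
  · rw [cz g0] at i; simpa using i.symm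

theorem v_anti (hv : v ∈ VV Q ν) (hw : w ∈ VV Q ν) : Commute v w ∨ w * v = v * w * z := by
  have k : ∀ x ∈ VV Q ν, ∃ a ∈ zpowers z, x⁻¹ = x * a := fun x hx =>
    ⟨(x * x)⁻¹, inv_mem (h.ls.mem_zp.2 (h.v_sq hx)), by group⟩
  obtain ⟨a, a1, a2⟩ := k v hv
  obtain ⟨b, b1, b2⟩ := k w hw
  obtain ⟨c, c1, c2⟩ := k _ (mul_mem hv hw)
  have e := mul_inv_rev v w
  rw [a2, b2, c2, mul_assoc w, ← mul_assoc b, mem_cent_zpowers.2 (h.vz hv).symm b b1] at e
  have e2 : w * v = v * w * (c * (b * a)⁻¹) := by rw [← mul_assoc, e]; group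
  rcases h.ls.mem_zp.1 (mul_mem c1 (inv_mem (mul_mem b1 a1))) with f | f <;> rw [f] at e2
  exacts [Or.inl (by rw [mul_one] at e2; exact e2.symm), Or.inr e2]

theorem sq_anti (hv : Commute z v) (hw : Commute z w) (e : w * v = v * w * z) : v * w * (v * w) = v * v * (w * w) * z := by
  rw [mul_assoc, ← mul_assoc w, e, mul_assoc (v * w), hw.eq]; group

theorem sing_sq (hv : v ∈ VV Q ν) (hm : m < 16) (a : EQ (α v) (FF m)) (e : rep m = 1) : v * v = 1 := by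
  obtain ⟨x, x1, x2⟩ := h.ff_ex (m := 1) (by norm_num)
  obtain ⟨y, y1, y2⟩ := h.ff_ex (m := 2) (by norm_num)
  obtain ⟨w, w1, w2⟩ := h.ff_ex (m := 4) (by norm_num)
  refine (h.v_sq hv).resolve_right fun b => ?_
  have c := fun {a} (a1 : a ∈ VV Q ν) => h.vz a1
  have ex := (h.sq_rep x1 hv (by norm_num) hm x2 a e.symm).trans b
  have ey := (h.sq_rep y1 hv (by norm_num) hm y2 a e.symm).trans b
  have ew := (h.sq_rep w1 hv (by norm_num) hm w2 a e.symm).trans b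
  have xy := h.ff_mul (c x1) (c y1) (by norm_num) (by norm_num) x2 y2
  have e1 := h.sq_rep (mul_mem x1 w1) (mul_mem x1 y1) (by decide) (by decide)
    (h.ff_mul (c x1) (c w1) (by norm_num) (by norm_num) x2 w2) xy rfl
  have e2 := h.sq_rep (mul_mem y1 w1) (mul_mem x1 y1) (by decide) (by decide)
    (h.ff_mul (c y1) (c w1) (by norm_num) (by norm_num) y2 w2) xy rfl
  have e3 := h.sq_rep (mul_mem (mul_mem x1 y1) w1) (mul_mem x1 y1) (by decide) (by decide)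
    (h.ff_mul (c (mul_mem x1 y1)) (c w1) (by decide) (by norm_num) xy w2) xy rfl
  have k : ∀ {a b}, a ∈ VV Q ν → b ∈ VV Q ν → a * a = z → b * b = z →
      (Commute a b ∧ a * b * (a * b) = 1) ∨ (b * a = a * b * z ∧ a * b * (a * b) = z) := fun a1 b1 a2 b2 =>
    (h.v_anti a1 b1).imp (fun e => ⟨e, by rw [e.symm.mul_mul_mul_comm, a2, b2, h.zz]⟩)
      fun e => ⟨e, by rw [h.sq_anti (c a1) (c b1) e, a2, b2, h.zz, one_mul]⟩
  have ne := h.ls.ne
  rcases k x1 y1 ex ey with ⟨f1, f⟩ | ⟨f1, f⟩ <;> rw [f] at e1 e2 e3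
  · have g1 := ((k x1 w1 ex ew).resolve_right fun a => ne (a.2.symm.trans e1)).1
    have g2 := ((k y1 w1 ey ew).resolve_right fun a => ne (a.2.symm.trans e2)).1
    rw [(g1.mul_left g2).symm.mul_mul_mul_comm, f, ew, one_mul] at e3
    exact ne e3
  · have g1 := ((k x1 w1 ex ew).resolve_left fun a => ne (e1.symm.trans a.2)).1
    have g2 := ((k y1 w1 ey ew).resolve_left fun a => ne (e2.symm.trans a.2)).1
    have g3 : Commute w (x * y) := by
      rw [Commute, SemiconjBy, ← mul_assoc, g1, mul_assoc, (c y1).eq, mul_assoc x, ← mul_assoc w, g2, mul_assoc _ z, h.zz, mul_one,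
        mul_assoc]
    rw [g3.mul_mul_mul_comm, f, ew, h.zz] at e3
    exact ne e3.symm

theorem dich : (∀ v ∈ VV Q ν, v * v = 1) ∨ ∀ v ∈ VV Q ν, ∀ m < 16, EQ (α v) (FF m) → rep m = 3 → v * v = z := by
  obtain ⟨x, x1, x2⟩ := h.ff_ex (m := 3) (by norm_num)
  refine (h.v_sq x1).imp (fun e v hv => ?_) fun e v hv m hm a b => (h.sq_rep hv x1 hm (by norm_num) a x2 b).trans e
  obtain ⟨m, hm, a⟩ := h.v_ff hv
  obtain b | b | b := (by decide : ∀ m < 16, m = 0 ∨ rep m = 1 ∨ rep m = 3) m hm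
  · have := h.ker (h.vz hv) fun n hn => by rw [a n hn, b, (ff_val n hn).1]
    exact h.uu this ((h.vQ this).1 hv)
  exacts [h.sing_sq hv hm a b, (h.sq_rep hv x1 hm (by norm_num) a x2 b).trans e]

theorem pt_sq (ht : PT Q z ν α t p) : t * t = 1 := by
  obtain ⟨g, a, b⟩ := h.tr1 ht.1
  have c := b ▸ h.pt_conj ht a
  exact conj_sq_iff.1 (h.sing_sq (h.pt_V c rfl) (m := 1) (by norm_num) (fun n hn => (c.2.2.1 n hn).trans (ff_val n hn).2.1.symm) rfl)

theorem inV (hz : Commute z t) (ht : t * t = 1) : ∃ g, Commute z g ∧ g * t * g⁻¹ ∈ VV Q ν := by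
  obtain ⟨p, q, hp, hq, a1, a2, a3, a4⟩ := inv1 (h.un hz) fun n hn => by rw [← h.αm hz hz hn, ht, h.αQ (one_mem _) hn]
  obtain ⟨g, g1, g2, g3⟩ := h.tr2 hp hq.1 hq.2.1 a3 a4
  have c1 := (g1.mul_right hz).mul_right g1.inv_right
  obtain ⟨m, hm, e⟩ := ff_of (h.un c1)
    (fix_sc (h.un c1) (by norm_num) g2 ((h.un g1).sg hp).2.2 (by rw [h.αc g1 hz ((h.un g1).lt hp.1), h.αi' g1 hp.1, a1]))
    (fix_sc (h.un c1) (by norm_num) g3 ((h.un g1).sg hq).2.2 (by rw [h.αc g1 hz ((h.un g1).lt hq.1), h.αi' g1 hq.1, a2]))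
  obtain ⟨k, k1, -, k3⟩ := h.rep_conj hm
  have e := k3 _ c1 e
  have c2 := (k1.mul_right c1).mul_right k1.inv_right
  have s2 := (conj_sq_iff (g := k)).2 ((conj_sq_iff (g := g)).2 ht)
  suffices H : ∃ l, Commute z l ∧ l * (k * (g * t * g⁻¹) * k⁻¹) * l⁻¹ ∈ VV Q ν by
    obtain ⟨l, a, b⟩ := H
    exact ⟨l * k * g, (a.mul_right k1).mul_right g1, by convert b using 1; group⟩
  generalize k * (g * t * g⁻¹) * k⁻¹ = t at *
  obtain b | b | b := (by decide : ∀ m < 16, rep m = 0 ∨ rep m = 1 ∨ rep m = 3) m hm <;> rw [b] at e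
  · have m := h.ker c2 fun n hn => by rw [e n hn, (ff_val n hn).1]
    by_cases e0 : ν t = 0
    · exact ⟨1, Commute.one_right _, by simpa using (h.vQ m).2 (by rw [e0]; rfl)⟩
    obtain ⟨l, a, b⟩ := h.tr1 ⟨h.lt t, (h.sq m).1 s2, e0⟩
    exact ⟨l, a, (h.vQ (h.nm a m)).2 (by rw [h.conj a m, b]; rfl)⟩
  · obtain ⟨k, a⟩ := h.pt5
    obtain ⟨u, b, rfl⟩ := h.same a.2.1 c2 fun n hn => by rw [e n hn, (ff_val n hn).2.1, a.2.2.1 n hn]
    have kk := h.pt_sq a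
    have e1 : u * (k * u * k⁻¹) = 1 := by rw [inv_eq_of_mul_eq_one_right kk, ← s2]; group
    have e2 := h.mul b (h.nm a.2.1 b)
    rw [e1, h.ν1, h.conj a.2.1 b, a.2.2.1 _ (h.lt u)] at e2
    have e3 := (sc_all (by norm_num) (h.lt u)).2.2.2.2.1 a.1 (Nat.xor_eq_zero_iff.1 e2.symm).symm
    rw [(a.2.2.2 u b e3).eq, mul_inv_cancel_right] at e1
    by_cases e4 : inW 5 (ν u) = true
    · exact ⟨1, Commute.one_right _, by simpa using h.pt_V (h.pt_mul a b e4) rfl⟩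
    obtain ⟨l, l1, l2, l3⟩ := h.tr2 a.1 (h.lt u) ((h.sq b).1 e1) e3 (by simpa using e4)
    refine ⟨l, l1, ?_⟩
    rw [← conj_mul]
    refine mul_mem ((h.vQ (h.nm l1 b)).2 ?_) (h.pt_V (h.pt_conj a l1) ((u_chk _ ((h.un l1).lt a.1.1)).2.2.2 l2).1)
    rw [h.conj l1 b]
    rcases inW_cases l3 with e | e | e | e <;> rw [e] <;> rfl
  · refine ⟨1, Commute.one_right _, ?_⟩
    rw [one_mul, inv_one, mul_one]
    refine mem_VV.2 fun y a b => ?_
    obtain ⟨n, hn, e1⟩ := ((u_chk _ (h.lt y)).1 b).2.2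
    obtain ⟨x, x1, rfl⟩ := h.sur n hn
    have m := mul_mem x1 (h.nm c2 (inv_mem x1))
    have e2 : ν (x * (t * x⁻¹ * t⁻¹)) = ν y := by rw [h.mul x1 (h.nm c2 (inv_mem x1)), h.conj c2 (inv_mem x1), h.νi x1, e _ hn, ← e1]
    refine mem_centralizer_singleton_iff.1 (h.mem_of (K := centralizer {t}) (mem_centralizer_singleton_iff.2 c2)
      (mem_centralizer_singleton_iff.2 ?_) m a e2) |>.symm
    have := inv_eq_of_mul_eq_one_right (h.uu m (e2 ▸ b))
    have ti := inv_eq_of_mul_eq_one_right s2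
    conv_rhs => rw [← this]
    simp only [mul_inv_rev, inv_inv, ti, mul_assoc, s2, mul_one]
    rw [← mul_assoc t t, s2, one_mul]

theorem ea_le {A : Subgroup G} (hA : A ≤ Q) (hz : z ∈ A) (hc : ∀ a ∈ A, ∀ b ∈ A, Commute a b) :
    Nat.card A ≤ 32 ∧ (Nat.card A = 32 → ∀ y ∈ Q, (∀ a ∈ A, Commute a y) → y ∈ A) := by
  have e := h.ls.card_cent hA hz
  have l : A ≤ Q ⊓ centralizer A := fun a ha => ⟨hA ha, fun b hb => hc b hb a ha⟩
  have := card_le_of_le l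
  rw [h.card] at e
  exact ⟨by nlinarith, fun c y a b => eq_of_le_of_card_ge l (by rw [c] at e ⊢; omega) ▸ ⟨a, b⟩⟩

theorem caseA (hg : g * z * g⁻¹ ∈ Q) : g * z * g⁻¹ = z := by
  by_contra ne
  obtain ⟨k, k1, k2⟩ := h.tr1 ⟨h.lt _, (h.sq hg).1 (h.ls.conj_sq g), fun e =>
    ((h.zero hg).1 e).elim (fun e => h.ls.ne (conj_eq_one_iff.1 e)) ne⟩
  rw [← h.conj k1 hg, conj_conj'] at k2
  have hg := conj_conj' k g z ▸ h.nm k1 hg
  generalize k * g = g at *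
  have L := h.ls.conj g
  have zQ := h.ls.sym hg (by rw [h.card]; norm_num)
  have cQ := (card_cj g Q).trans h.card
  have nm : ∀ k, Commute k (g * z * g⁻¹) → ∀ r ∈ cj g Q, k * r * k⁻¹ ∈ cj g Q := L.norm
  generalize cj g Q = Q1 at *
  generalize g * z * g⁻¹ = t at *
  have zt : z ≠ t := fun e => by rw [← e, (h.zero h.ls.mem).2 (Or.inr rfl)] at k2; omega
  have inv : ∀ r ∈ Q1, Commute z r → (∀ n < 256, α r (α r n) = n) ∧ α r 5 = 5 := fun r a b => ⟨fun n hn => by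
    rw [← h.αm b b hn]
    rcases L.sq_mem r a with e | e <;> rw [e]
    exacts [h.αQ (one_mem _) hn, h.αQ hg hn], k2 ▸ h.fix b hg (L.cen r a)⟩
  have key : ∀ r ∈ Q1, Commute z r → EQ (α r) id ∨ EQ (α r) (tv 5) := fun r a b => by
    rcases inv5 (h.un b) (inv r a b).1 (inv r a b).2 with e | e | ⟨x, x1, x2, x3⟩ | ⟨n, n1, n2⟩
    · exact Or.inl e
    · exact Or.inr e
    all_goals exfalso
    · obtain ⟨y, y1, rfl⟩ := h.sur x x1
      have c : Commute y t := ((h.comm hg y1).2 (k2 ▸ x2)).symm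
      have m1 := mul_mem (h.nm b y1) (inv_mem y1)
      have m2 : r * y * r⁻¹ * y⁻¹ ∈ Q1 := by simpa [mul_assoc] using mul_mem a (nm y c _ (inv_mem a))
      rw [← h.conj b y1, ← h.νi y1, ← h.mul (h.nm b y1) (inv_mem y1)] at x3
      generalize r * y * r⁻¹ * y⁻¹ = c at *
      have := L.double_perp zQ m2 fun s s1 s2 => by
        have f := h.fix' s2 m1 (fixW (h.un s2) (by norm_num) (inv s s1 s2).2 (by rcases x3 with e | e <;> rw [e] <;> rfl))
        refine (comm_of_conj_eq (f.resolve_right fun e => ?_)).symm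
        rcases L.conj_eq s1 m2 with e' | e' <;> rw [e] at e'
        exacts [h.ls.ne (mul_eq_left.1 e'), zt (mul_left_cancel e')]
      rcases this with (rfl | rfl) | rfl | rfl
      · rw [h.ν1] at x3; omega
      · omega
      · rw [(h.zero h.ls.mem).2 (Or.inr rfl)] at x3; omega
      · rw [(h.cQ hg).eq, h.νz hg] at x3; omega
    obtain ⟨l, l1, l2, l3⟩ : ∃ l, Commute z l ∧ EQ (α l) (wd [64, 16, 16]) ∧ Commute l t := by
      obtain ⟨l, l1, l2⟩ := h.word (w := [64, 16, 16]) (by decide)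
      rcases h.fix' l1 hg (by rw [k2, l2 5 (by norm_num)]; decide +kernel) with e | e
      · exact ⟨l, l1, l2, conj_eq_self_iff.1 e⟩
      obtain ⟨y, y1, y2⟩ := h.sur 2 (by norm_num)
      have := h.ls.conj_anti y1 hg fun e => absurd ((h.comm y1 hg).1 e) (by rw [y2, k2]; decide)
      refine ⟨y * l, (h.cQ y1).mul_right l1, fun n hn => by
        rw [h.αm (h.cQ y1) l1 hn, h.αQ y1 ((h.un l1).lt hn), l2 n hn], conj_eq_self_iff.1 ?_⟩
      rw [← conj_conj', e, ← conj_mul, this, cz (h.cQ y1), mul_assoc, h.zz, mul_one]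
    have o2 : okw [16, 64, 64] := by decide
    have l4 : ∀ n < 256, α l⁻¹ n = wd [16, 64, 64] n := fun n hn => by
      conv_lhs => rw [← (by decide +kernel : ∀ n < 256, wd [64, 16, 16] (wd [16, 64, 64] n) = n) n hn, ← l2 _ (wd_lt o2 hn)]
      exact h.αi' l1 (wd_lt o2 hn)
    have c := (l1.mul_right b).mul_right l1.inv_right
    have e : ∀ n < 256, α (r * (l * r * l⁻¹)) n = α r (wd [64, 16, 16] (α r (wd [16, 64, 64] n))) := fun n hn => by
      rw [h.αm b c hn, h.αc l1 b hn, l4 n hn, l2 _ ((h.un b).lt (wd_lt o2 hn))]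
    have := (inv _ (mul_mem a (nm l l3 r a)) (b.mul_right c)).1 n n1
    rw [e _ ((h.un (b.mul_right c)).lt n1), e n n1] at this
    exact n2 this
  obtain ⟨y, y1, y2⟩ := L.exists_anti zQ h.ls.ne zt
  have c1 := L.toES.card_two le_rfl zQ y1 y2
  have c2 := card_le_two (B := Q1 ⊓ centralizer {z}) (K := Q) fun a a1 b b1 a2 b2 => by
    have a3 : Commute z a := (mem_centralizer_singleton_iff.1 a1.2).symm
    have b3 : Commute z b := (mem_centralizer_singleton_iff.1 b1.2).symm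
    obtain ⟨u, u1, rfl⟩ := h.same a3 b3 fun n hn => (((key a a1.1 a3).resolve_left fun e => a2 (h.ker a3 e)) n hn).trans
      (((key b b1.1 b3).resolve_left fun e => b2 (h.ker b3 e)) n hn).symm
    simpa [mul_assoc] using h.nm a3.inv_right u1
  have c3 := (h.ea_le (A := Q1 ⊓ centralizer {z} ⊓ Q) inf_le_right ⟨⟨zQ, mem_centralizer_singleton_iff.2 rfl⟩, h.ls.mem⟩
    fun a a1 b b1 => by_contra fun n => zt (mul_left_cancel ((h.ls.anti a1.2 b1.2 n).symm.trans (L.anti a1.1.1 b1.1.1 n)))).1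
  omega

end F8

end Cfsg.Lib.Par
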