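import Cfsg.Agent.Lib.Known2.P3

/-! The group `2^{1+8}.U₄(2)`: large elementary abelian subgroups. -/

set_option autoImplicit false
set_option synthInstance.maxSize 2000
set_option linter.unusedSectionVars false

namespace Cfsg.Lib.Par

open Subgroup Cfsg.Lib.Known2 Cfsg.Lib.Core Cfsg.Lib.Fi Cfsg.Lib.Amalg
open Cfsg.Lib.Comp (force force_eq allN allN_iff)

variable {G : Type*} [Group G]

theorem un_sc {f : ℕ → ℕ} (h : Un f) {a : ℕ} (ha : a < 256) (n : ℕ) : f (sc a n) = sc (f a) n ∧ sc a n < 256 := by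
  unfold sc
  cases n.testBit 0 <;> cases n.testBit 1 <;> simp [h.zero, h.xor ha (om_lt a ha), h.om ha, ha, om_lt a ha, xlt ha (om_lt a ha)]

def nf (x : ℕ) : ℕ := x ^^^ sc 5 x
def O9 : Finset ℕ := {80, 96, 112, 144, 160, 176, 208, 224, 240}

theorem c_chk : (∀ c < 256, inW 5 (c ^^^ 80) = true → c ≠ 80 → (∃ n < 256, tv c n ≠ tv 80 n) ∧
    ∀ u < 256, inU u = true → sc 5 u ^^^ sc c (u >>> 4) = u → inW 5 u = true) ∧
    (∀ u < 256, (inU u = true → sc 5 u ^^^ sc 80 (u >>> 4) = u) ∧ inW 5 (sc 5 u) = true ∧ (inW 5 u = true → inW 5 (om u) = true) ∧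
      (∀ w ∈ [0, 5, 10, 15], nf (u ^^^ w) = nf u) ∧ (q8 u = false → hz 5 u = true → inW 5 u = false → nf u ∈ O9) ∧
      (sg u → ((Finset.range 256).filter (inW u · = true)).card = 4 ∧ ∃ q ∈ PP, inW q u = true)) ∧
    (∀ n ∈ O9, n < 256 ∧ q8 n = false ∧ hz 5 n = true ∧ inW 5 n = false ∧ nf n = n) ∧
    ((Finset.range 256).filter (inU · = true)).card = 16 ∧ ((Finset.range 256).filter sg).card = 135 ∧
    (∀ q ∈ PP, sg q ∧ ∀ r ∈ PP, ∃ n ∈ [1, 4, 16, 64], tv 5 (tv q n) ≠ tv r n) := by decide +kernel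

theorem w5 {w : ℕ} (h : inW 5 w = true) : w ∈ [0, 5, 10, 15] := by rcases inW_cases h with rfl | rfl | rfl | rfl <;> decide

/-- Elementary abelian subgroups containing `z`. -/
def EA (z : G) (Y : Subgroup G) : Prop := z ∈ Y ∧ ∀ y ∈ Y, y * y = 1

theorem EA.c {z y : G} {Y : Subgroup G} (h : EA z Y) (hy : y ∈ Y) : Commute z y := comm_of_sq h.2 h.1 hy

theorem EA.cj {z g : G} {Y : Subgroup G} (h : EA z Y) (hg : Commute z g) : EA z (cj g Y) :=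
  ⟨cz hg ▸ conj_mem_cj g h.1, by rintro _ ⟨y, a, rfl⟩; exact conj_sq_iff.2 (h.2 y a)⟩

namespace F8
variable [Finite G] {Q : Subgroup G} {z : G} {ν : G → ℕ} {α : G → ℕ → ℕ} (h : F8 Q z ν α) {g k x y t u v w : G} {n p m : ℕ}
  {Y : Subgroup G}
include h

def St (hn : n < 256) : Subgroup G where
  carrier := {g | Commute z g ∧ α g n = n}
  one_mem' := ⟨Commute.one_right _, h.αQ (one_mem _) hn⟩
  mul_mem' := fun a b => ⟨a.1.mul_right b.1, by rw [h.αm a.1 b.1 hn, b.2, a.2]⟩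
  inv_mem' := fun a => ⟨a.1.inv_right, by conv_lhs => rw [← a.2]
                                          exact h.αi' a.1 hn⟩

theorem cardU : {y | y ∈ Q ∧ inU (ν y) = true}.ncard = 32 := by rw [h.ncard (inU · = true), c_chk.2.2.2.1]
theorem cardW (hp : sg p) : {y | y ∈ Q ∧ inW p (ν y) = true}.ncard = 8 := by
  rw [h.ncard (inW p · = true), ((c_chk.2.1 p hp.1).2.2.2.2.2 hp).1]

theorem eaQ (E : EA z Y) : Nat.card ↥(Y ⊓ Q) ≤ 32 ∧ (Nat.card ↥(Y ⊓ Q) = 32 → ∀ y ∈ Q, (∀ a ∈ Y ⊓ Q, Commute a y) → y ∈ Y ⊓ Q) :=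
  h.ea_le inf_le_right ⟨E.1, h.ls.mem⟩ fun _ a _ b => comm_of_sq E.2 a.1 b.1

theorem ffQ (hv : Commute z v) (hm : m < 16) (a : EQ (α v) (FF m)) : v ∈ Q ↔ m = 0 :=
  ⟨fun b => ((tr_chk m hm).2.2.2.2 0 (by norm_num)).2 fun n hn => by rw [← a n hn, h.αQ b hn, (ff_val n hn).1],
    fun b => h.ker hv fun n hn => by rw [a n hn, b, (ff_val n hn).1]⟩

theorem ff_same (hv : Commute z v) (hw : Commute z w) (a : EQ (α v) (FF m)) (b : EQ (α w) (FF m)) : v⁻¹ * w ∈ Q := by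
  obtain ⟨u, c, rfl⟩ := h.same hv hw fun n hn => (a n hn).trans (b n hn).symm
  simpa [mul_assoc] using h.nm hv.inv_right c

theorem le_V {A : Subgroup G} (hA : ∀ u ∈ A, u ∈ Q ∧ inU (ν u) = true) (hc : 32 ≤ Nat.card A) (ha : ∀ u ∈ A, Commute v u) :
    v ∈ VV Q ν := mem_VV.2 fun y a b => ha y (by
  have := Set.eq_of_subset_of_ncard_le (s := (A : Set G)) hA (h.cardU.trans_le hc)
  exact (Set.ext_iff.1 this y).2 ⟨a, b⟩)

theorem core (E : EA z Y) (hc : Nat.card Y = 512) (h5 : ∀ y ∈ Y, α y 5 = 5) (h80 : ∀ y ∈ Y, inW 5 (α y 80 ^^^ 80) = true) :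
    Y ≤ VV Q ν := by
  have l : 80 < 256 := by norm_num
  have c1 := card_le_fib (B := Y) (K := h.St l) (fun y => α y 80 ^^^ 80) [0, 5, 10, 15].toFinset
    (fun y a => List.mem_toFinset.2 (w5 (h80 y a))) fun x a y b e => ⟨(E.c a).inv_right.mul_right (E.c b), by
      rw [h.αm (E.c a).inv_right (E.c b) l, ← Nat.xor_left_inj.1 e, h.αi' (E.c a) l]⟩
  rw [show [0, 5, 10, 15].toFinset.card = 4 from rfl] at c1
  have i : Y ⊓ h.St l ⊓ Q = Y ⊓ Q := le_antisymm (fun _ a => ⟨a.1.1, a.2⟩) fun _ a => ⟨⟨a.1, h.cQ a.2, h.αQ a.2 l⟩, a.2⟩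
  choose! μ μ1 μ2 using fun y (a : y ∈ Y ⊓ h.St l) => ff_of (h.un a.2.1) (h5 y a.1) a.2.2
  have c2 := fun S a => i ▸ card_le_fib (B := Y ⊓ h.St l) (K := Q) μ S a fun x a y b e => h.ff_same a.2.1 b.2.1 (μ2 x a) (e ▸ μ2 y b)
  have c3 := (h.eaQ E).1
  have sU : ∀ u ∈ Y ⊓ Q, u ∈ Q ∧ inU (ν u) = true := fun u a => ⟨a.2, by_contra fun n => by
    have := i ▸ card_le_two (B := Y ⊓ h.St l) (K := Q) fun x b y c d e => by
      have f := fun x (b : x ∈ Y ⊓ h.St l) => (μ2 x b _ (h.lt u)).symm.trans (h.fix b.2.1 a.2 (comm_of_sq E.2 b.1 a.1))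
      exact h.ff_same b.2.1 c.2.1 (μ2 x b) ((ff_fix _ (h.lt u) (by simpa using n) _ (μ1 x b) (f x b)
        (fun e => d ((h.ffQ b.2.1 (μ1 x b) (μ2 x b)).2 e))).2 _ (μ1 y c) (f y c)
        (fun e' => e ((h.ffQ c.2.1 (μ1 y c) (μ2 y c)).2 e')) ▸ μ2 y c)
    omega⟩
  by_cases s : ∀ s ∈ Y, α s 80 = 80
  · have := c2 (Finset.range 16) fun x a => Finset.mem_range.2 (μ1 x a)
    rw [inf_eq_left.2 fun t a => (⟨E.c a, s t a⟩ : t ∈ h.St l), Finset.card_range] at this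
    exact fun y a => h.le_V sU (by omega) fun u b => comm_of_sq E.2 a b.1
  push Not at s
  obtain ⟨s, s1, s2⟩ := s
  have U := h.un (E.c s1)
  obtain ⟨⟨n, n1, n2⟩, k⟩ := c_chk.1 _ (U.lt l) (h80 s s1) s2
  have c4 := (card_le_ncard (B := Y ⊓ Q) fun u a => (⟨a.2, k _ (h.lt u) (sU u a).2 (by
    have e := (c_chk.2.1 _ (h.lt u)).1 (sU u a).2
    have a1 := un_sc U (a := 5) (by norm_num) (ν u)
    have a2 := un_sc U l (ν u >>> 4)
    conv_rhs => rw [← h.fix (E.c s1) a.2 (comm_of_sq E.2 s1 a.1), ← e, U.xor a1.2 a2.2, a1.1, a2.1, h5 s s1])⟩ :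
      u ∈ {y | y ∈ Q ∧ inW 5 (ν y) = true})).trans_eq (h.cardW (by decide))
  have c5 := c2 ((Finset.range 16).erase 2) fun x a => Finset.mem_erase.2 ⟨fun e => n2 (by
    have l1 := (h.un (E.c s1).inv_right).lt n1
    have := h.αm (E.c s1) a.2.1 l1
    rwa [(comm_of_sq E.2 s1 a.1).eq, h.αm a.2.1 (E.c s1) l1, μ2 x a _ l1, μ2 x a _ (U.lt l1), e, (ff_val _ l1).2.2.1,
      (ff_val _ (U.lt l1)).2.2.1, U.tv l l1, h.αi (E.c s1) n1, eq_comm] at this), Finset.mem_range.2 (μ1 x a)⟩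
  rw [show ((Finset.range 16).erase 2).card = 15 from rfl] at c5
  omega

theorem uniq (E : EA z Y) (hc : Nat.card Y = 512) : ∃ g, Commute z g ∧ cj g Y ≤ VV Q ν := by
  obtain ⟨p, hp, e⟩ := fixpt (pg_of_sq E.2) α ((Finset.range 256).filter sg) (by rw [c_chk.2.2.2.2.1]; decide)
    (fun y a n b => by
      have := (h.un (E.c a)).sg (Finset.mem_filter.1 b).2
      exact Finset.mem_filter.2 ⟨Finset.mem_range.2 this.1, this⟩)
    (fun n b => h.αQ (one_mem _) (Finset.mem_filter.1 b).2.1) fun a a1 b b1 n c => h.αm (E.c a1) (E.c b1) (Finset.mem_filter.1 c).2.1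
  have hp := (Finset.mem_filter.1 hp).2
  obtain ⟨g, g1, g2⟩ := h.tr1 hp
  have h5 : ∀ y ∈ cj g Y, α y 5 = 5 := by
    rintro _ ⟨y, a, rfl⟩
    exact (h.αc g1 (E.c a) (by norm_num)).trans (by rw [← g2, h.αi' g1 hp.1, e y a])
  suffices H : ∃ k, Commute z k ∧ cj k (cj g Y) ≤ VV Q ν by
    obtain ⟨k, a, b⟩ := H
    exact ⟨k * g, a.mul_right g1, cj_mul k g Y ▸ b⟩
  have E := E.cj g1
  rw [← card_cj g] at hc
  generalize cj g Y = Y at *
  have O := c_chk.2.2.1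
  obtain ⟨n, hn, e⟩ := fixpt (pg_of_sq E.2) (fun y n => nf (α y n)) O9 (by decide)
    (fun y a n b => by
      have U := h.un (E.c a)
      obtain ⟨b1, b2, b3, b4, -⟩ := O n b
      exact (c_chk.2.1 _ (U.lt b1)).2.2.2.2.1 ((U.q b1).trans b2) (h5 y a ▸ (U.hz (by norm_num) b1).trans b3)
        (h5 y a ▸ (U.inW (by norm_num) b1).trans b4))
    (fun n b => by rw [h.αQ (one_mem _) (O n b).1, (O n b).2.2.2.2]) fun a a1 b b1 n c => by
      have U := h.un (E.c a1)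
      have l := (h.un (E.c b1)).lt (O n c).1
      have w := (c_chk.2.1 _ l).2.1
      rw [h.αm (E.c a1) (E.c b1) (O n c).1, nf.eq_1 (α b n), U.xor l (un_sc U (by norm_num) _).2,
        fixW U (by norm_num) (h5 a a1) w, (c_chk.2.1 _ (U.lt l)).2.2.2.1 _ (w5 w)]
  obtain ⟨n1, n2, n3, n4, -⟩ := O n hn
  obtain ⟨k, k1, k2, k3⟩ := h.tr2 (by decide) n1 n2 n3 n4
  have K := h.un k1
  refine ⟨k, k1, h.core (E.cj k1) (by rwa [card_cj]) ?_ ?_⟩ <;> rintro _ ⟨y, a, rfl⟩ <;>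
    have c := (k1.mul_right (E.c a)).mul_right k1.inv_right
  · exact fix_sc (h.un c) (by norm_num) k2 (K.sg (by decide)).2.2 (by
      rw [h.αc k1 (E.c a) (K.lt (by norm_num)), h.αi' k1 (by norm_num), h5 y a])
  have l := (h.un (E.c a)).lt n1
  have e1 : inW 5 (α (k * y * k⁻¹) (α k n) ^^^ α k n) = true := by
    have : α y n ^^^ n = sc 5 (α y n) := by
      conv_lhs => rhs; rw [← e y a, nf]
      rw [← Nat.xor_assoc, Nat.xor_self, Nat.zero_xor]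
    rw [h.αc k1 (E.c a) (K.lt n1), h.αi' k1 n1, ← K.xor l n1, this, (un_sc K (by norm_num) _).1]
    rcases inW_cases k2 with e | e | e | e <;> rw [e] <;> unfold sc <;> cases (α y n).testBit 0 <;> cases (α y n).testBit 1 <;> rfl
  have e2 : ∀ q < 256, inW 5 (α (k * y * k⁻¹) q ^^^ q) = true → inW 5 (α (k * y * k⁻¹) (Par.om q) ^^^ Par.om q) = true :=
    fun q a b => by rw [h.om c a, ← om_xor ((h.un c).lt a) a]; exact (c_chk.2.1 _ (xlt ((h.un c).lt a) a)).2.2.1 b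
  show inW 5 (α (k * y * k⁻¹) 80 ^^^ 80) = true
  rcases inW_cases k3 with e | e | e | e <;> rw [e] at e1
  · exact absurd (K.inj n1 (by norm_num) (e.trans K.zero.symm)) fun e => by rw [e] at n4; exact absurd n4 (by decide)
  exacts [e1, e2 _ (by decide) (e2 _ (by decide) e1), e2 _ (by decide) e1]

theorem tv3 {q r : ℕ} (hp : sg p) (hq : sg q) (hr : sg r) : ¬ ∀ n < 256, tv p (tv q n) = tv r n := fun e => by
  obtain ⟨g, a, b⟩ := h.tr1 hp
  have U := h.un a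
  obtain ⟨q', q1, q2⟩ := ((c_chk.2.1 _ (U.lt hq.1)).2.2.2.2.2 (U.sg hq)).2
  obtain ⟨r', r1, r2⟩ := ((c_chk.2.1 _ (U.lt hr.1)).2.2.2.2.2 (U.sg hr)).2
  obtain ⟨n, n1, n2⟩ := (c_chk.2.2.2.2.2 q' q1).2 r' r1
  have hn : n < 256 := by simp only [List.mem_cons, List.not_mem_nil, or_false] at n1; omega
  have l := (h.un a.inv_right).lt hn
  have := congrArg (α g) (e _ l)
  rw [U.tv hp.1 (tv_lt hq.1 l), U.tv hq.1 l, U.tv hr.1 l, h.αi a hn, b,
    (sc_eq (c_chk.2.2.2.2.2 q' q1).1.1 q2 (U.sg hq).2.2 hn).1, (sc_eq (c_chk.2.2.2.2.2 r' r1).1.1 r2 (U.sg hr).2.2 hn).1] at this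
  exact n2 this

theorem tv_back (hg : Commute z g) (ht : Commute z t) (hp : sg p) (e : EQ (α (g * t * g⁻¹)) (tv p)) : EQ (α t) (tv (α g⁻¹ p)) :=
  fun n hn => by
    have U := h.un hg
    have := congrArg (α g⁻¹) (e _ (U.lt hn))
    rwa [h.αc hg ht (U.lt hn), h.αi' hg hn, h.αi' hg ((h.un ht).lt hn), (h.un hg.inv_right).tv hp.1 (U.lt hn), h.αi' hg hn] at this

section
variable (hB : ∀ v ∈ VV Q ν, ∀ m < 16, EQ (α v) (FF m) → rep m = 3 → v * v = z)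
include hB

theorem ns_inv (hz : Commute z t) (ht : t * t = 1) (hQ : t ∉ Q) :
    ∃ g, Commute z g ∧ g * t * g⁻¹ ∈ VV Q ν ∧ EQ (α (g * t * g⁻¹)) (tv 5) := by
  obtain ⟨g, a, b⟩ := h.inV hz ht
  obtain ⟨m, hm, c⟩ := h.v_ff b
  obtain ⟨k, k1, k2, k3⟩ := h.rep_conj hm
  obtain d | d | d := (by decide : ∀ m < 16, m = 0 ∨ rep m = 1 ∨ rep m = 3) m hm
  · exact absurd (by simpa [mul_assoc] using h.nm a.inv_right ((h.ffQ (h.vz b) hm c).2 d)) hQ
  · refine ⟨k * g, k1.mul_right a, conj_conj' k g t ▸ ⟨k2 _ b, fun n hn => ?_⟩⟩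
    rw [k3 _ (h.vz b) c n hn, d, (ff_val n hn).2.1]
  · exact absurd ((hB _ b m hm c d).symm.trans (conj_sq_iff.2 ht)) h.ls.ne

theorem ns_tv (hz : Commute z t) (ht : t * t = 1) (hQ : t ∉ Q) : ∃ p, sg p ∧ EQ (α t) (tv p) :=
  let ⟨_, a, _, c⟩ := h.ns_inv hB hz ht hQ
  ⟨_, (h.un a.inv_right).sg (by decide), h.tv_back a hz (by decide) c⟩

omit hB in
theorem ns2 {a b : G} (E : EA z Y) (hc : Nat.card ↥(Y ⊓ Q) = 32) (hy : y ∈ Y) (e : EQ (α y) (tv 5)) (hx : x ∈ Y ⊓ Q)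
    (e2 : inW 80 (ν x) = true) (e3 : ν x ≠ 0) (ha : ∀ y ∈ Y, Commute a y) (hb : ∀ y ∈ Y, Commute b y) :
    Commute a b ∨ b * a = a * b * z := by
  have s : ∀ u ∈ Y ⊓ Q, hz 5 (ν u) = true := fun u a => (sc_all (by norm_num) (h.lt u)).2.2.2.2.1 (by decide)
    ((e _ (h.lt u)).symm.trans (h.fix (E.c hy) a.2 (comm_of_sq E.2 hy a.1)))
  by_cases c : ∀ u ∈ Y ⊓ Q, inU (ν u) = true
  · exact h.v_anti (h.le_V (A := Y ⊓ Q) (fun u a => ⟨a.2, c u a⟩) hc.ge fun u a => ha u a.1)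
      (h.le_V (A := Y ⊓ Q) (fun u a => ⟨a.2, c u a⟩) hc.ge fun u a => hb u a.1)
  push Not at c
  obtain ⟨u, u1, u2⟩ := c
  obtain ⟨w, w1, w2⟩ := h.sur 5 (by norm_num)
  have w3 := (h.eaQ E).2 hc w w1 fun u a => ((h.comm w1 a.2).2 (by
    have := s u a
    rw [hz] at this; rw [w2]; simpa using (Bool.and_eq_true_iff.1 this).1)).symm
  have az := (ha z E.1).symm
  obtain ⟨m, hm, f⟩ := ff_of (h.un az) (w2 ▸ h.fix az w1 (ha w w3.1))
    (fix_sc (h.un az) (by norm_num) e2 e3 (h.fix az hx.2 (ha x hx.1)))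
  left
  by_cases m0 : m = 0
  · exact (hb a ((h.eaQ E).2 hc a ((h.ffQ az hm f).2 m0) fun u b => (ha u b.1).symm).1).symm
  obtain rfl := (ff_fix _ (h.lt u) (by simpa using u2) m hm ((f _ (h.lt u)).symm.trans (h.fix az u1.2 (ha u u1.1))) m0).1 (s u u1)
  obtain ⟨v, v1, rfl⟩ := h.same (E.c hy) az fun n hn => by rw [e n hn, f n hn, (ff_val n hn).2.1]
  exact ((hb v ((h.eaQ E).2 hc v v1 fun u b => by
    simpa using ((ha u b.1).mul_left (comm_of_sq E.2 hy b.1).inv_left).symm).1).mul_right (hb y hy)).symm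

theorem ns1 {a b : G} (E : EA z Y) (hc : 64 ≤ Nat.card Y) (ha : ∀ y ∈ Y, Commute a y) (hb : ∀ y ∈ Y, Commute b y) :
    Commute a b ∨ b * a = a * b * z := by
  have c1 := card_le_two (B := Y) (K := Q) fun x a y b c d => by_contra fun n => by
    have m := mul_mem (inv_mem a) b
    obtain ⟨p, p1, p2⟩ := h.ns_tv hB (E.c a) (E.2 _ a) c
    obtain ⟨q, q1, q2⟩ := h.ns_tv hB (E.c m) (E.2 _ m) n
    obtain ⟨r, r1, r2⟩ := h.ns_tv hB (E.c b) (E.2 _ b) d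
    exact h.tv3 p1 q1 r1 fun n hn => by
      rw [← q2 n hn, ← p2 _ ((h.un (E.c m)).lt hn), ← h.αm (E.c a) (E.c m) hn, mul_inv_cancel_left, r2 n hn]
  have c2 := (h.eaQ E).1
  obtain ⟨y, y1, y2⟩ := SetLike.not_le_iff_exists.1 fun l : Y ≤ Q => by rw [inf_eq_left.2 l] at c2; omega
  obtain ⟨p, p1, p2⟩ := h.ns_tv hB (E.c y1) (E.2 _ y1) y2
  obtain ⟨x, x1, x2⟩ : ∃ x ∈ Y ⊓ Q, inW p (ν x) = false := by
    by_contra! n
    have := (card_le_ncard (B := Y ⊓ Q) fun u a => (⟨a.2, by simpa using n u a⟩ :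
      u ∈ {y | y ∈ Q ∧ inW p (ν y) = true})).trans_eq (h.cardW p1)
    omega
  obtain ⟨g, g1, g2, g3⟩ := h.tr2 p1 (h.lt x) ((h.sq x1.2).1 (E.2 x x1.1)) ((sc_all p1.1 (h.lt x)).2.2.2.2.1 p1
    ((p2 _ (h.lt x)).symm.trans (h.fix (E.c y1) x1.2 (comm_of_sq E.2 y1 x1.1)))) x2
  have U := h.un g1
  have l := fun {n} => (h.un g1.inv_right).lt (n := n)
  have i : cj g Y ⊓ Q = cj g (Y ⊓ Q) := by
    rw [cj_inf, (h.ls.cj_eq (g' := 1) (by rw [cz g1]; group)).trans (cj_one Q)]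
  refine (h.ns2 (E.cj g1) (a := g * a * g⁻¹) (b := g * b * g⁻¹) (by rw [i, card_cj]; omega) (conj_mem_cj g y1) (fun n hn => ?_)
    (i ▸ conj_mem_cj g x1) (by rwa [h.conj g1 x1.2]) ?_ ?_ ?_).imp commute_conj_conj_iff.1 fun e => ?_
  · rw [h.αc g1 (E.c y1) hn, p2 _ (l hn), U.tv p1.1 (l hn), h.αi g1 hn, (sc_eq (by norm_num) g2 (U.sg p1).2.2 hn).1]
  · rw [h.conj g1 x1.2]
    exact fun e => by rw [U.inj (h.lt x) (by norm_num) (e.trans U.zero.symm)] at x2; simp [inW] at x2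
  · rintro _ ⟨y, c, rfl⟩; exact commute_conj_conj_iff.2 (ha y c)
  · rintro _ ⟨y, c, rfl⟩; exact commute_conj_conj_iff.2 (hb y c)
  · rw [← cz g1, conj_mul, conj_mul, conj_mul] at e
    exact mul_left_cancel (mul_right_cancel e)

theorem ns (hg : Commute z (g * z * g⁻¹)) : g * z * g⁻¹ = z := by
  by_contra ne
  obtain ⟨k, k1, k2, k3⟩ := h.ns_inv hB hg (h.ls.conj_sq g) fun a => ne (h.caseA a)
  have ne : k * (g * z * g⁻¹) * k⁻¹ ≠ z := fun e => ne (mul_left_cancel (mul_right_cancel (e.trans (cz k1).symm)))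
  rw [conj_conj'] at k2 k3 ne
  generalize k * g = g at *
  have tt := h.ls.conj_sq g
  obtain ⟨t, ht⟩ : ∃ t, t = g * z * g⁻¹ := ⟨_, rfl⟩
  rw [← ht] at k2 k3 ne tt
  have k4 : EQ (α t) (FF 1) := fun n hn => (k3 n hn).trans (ff_val n hn).2.1.symm
  have c := fun {u} (a : u ∈ Q ⊓ VV Q ν) {v} (b : v ∈ VV Q ν) => mem_VV.1 b u a.1 ((h.vQ a.1).1 a.2)
  let X : Subgroup G :=
    { carrier := {x | ∃ u ∈ Q ⊓ VV Q ν, x = u ∨ x = u * t}
      one_mem' := ⟨1, one_mem _, Or.inl rfl⟩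
      mul_mem' := by
        rintro _ _ ⟨u, a, rfl | rfl⟩ ⟨v, b, rfl | rfl⟩ <;> refine ⟨_, mul_mem a b, ?_⟩
        exacts [Or.inl rfl, Or.inr (mul_assoc _ _ _).symm, Or.inr (by rw [mul_assoc, (c b k2).eq, mul_assoc]),
          Or.inl (by rw [(c b k2).mul_mul_mul_comm, tt, mul_one])]
      inv_mem' := by
        rintro _ ⟨u, a, rfl | rfl⟩ <;> refine ⟨_, inv_mem a, ?_⟩
        exacts [Or.inl rfl, Or.inr (by rw [mul_inv_rev, inv_eq_of_mul_eq_one_right tt, (c (inv_mem a) k2).eq])] }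
  have l : Q ⊓ VV Q ν ≤ X := fun u a => ⟨u, a, Or.inl rfl⟩
  have tX : t ∈ X := ⟨1, one_mem _, Or.inr (one_mul t).symm⟩
  have cU : Nat.card ↥(Q ⊓ VV Q ν) = 32 := by
    rw [← h.cardU]; exact congrArg Set.ncard (Set.ext fun y => and_congr_right fun a => h.vQ a)
  have cX : 64 ≤ Nat.card X := by
    obtain ⟨j, hj⟩ := card_dvd_of_le l
    have := Nat.card_pos (α := X)
    have : j ≠ 1 := fun e => absurd ((h.ffQ (h.vz k2) (by norm_num) k4).1
      (eq_of_le_of_card_ge l (by rw [hj, e, mul_one]) ▸ tX :).1) (by norm_num)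
    rw [cU] at hj; omega
  have cm : ∀ a ∈ VV Q ν, Commute a t → ∀ y ∈ cj g⁻¹ X, Commute (g⁻¹ * a * g⁻¹⁻¹) y := by
    rintro a a1 a2 _ ⟨_, ⟨u, b, rfl | rfl⟩, rfl⟩
    exacts [commute_conj_conj_iff.2 (c b a1), commute_conj_conj_iff.2 ((c b a1).mul_right a2)]
  obtain ⟨x, x1, x2⟩ := h.ff_ex (m := 2) (by norm_num)
  obtain ⟨y, y1, y2⟩ := h.ff_ex (m := 4) (by norm_num)
  obtain ⟨w, w1, w2⟩ := h.ff_ex (m := 8) (by norm_num)
  have an : ∀ {a b m m'}, a ∈ VV Q ν → b ∈ VV Q ν → m < 16 → m' < 16 → EQ (α a) (FF m) → EQ (α b) (FF m') →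
      rep m = 1 ∧ rep m' = 1 ∧ rep (m ^^^ m') = 3 → b * a = a * b * z := fun a1 b1 hm hm' a2 b2 e =>
    (h.v_anti a1 b1).resolve_left fun c => h.ls.ne (by
      rw [← hB _ (mul_mem a1 b1) _ (Nat.xor_lt_two_pow (n := 4) hm hm') (h.ff_mul (h.vz a1) (h.vz b1) hm hm' a2 b2) e.2.2,
        c.symm.mul_mul_mul_comm, h.sing_sq a1 hm a2 e.1, h.sing_sq b1 hm' b2 e.2.1, mul_one])
  have c2 : ∀ {a b c : G}, Commute z b → c * a = a * c * z → c * b = b * c * z → Commute (a * b) c := fun {a b c} hb e1 e2 => by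
    have : c * (a * b) = a * (c * b) * z := by rw [← mul_assoc, e1, mul_assoc _ z, hb.eq]; group
    rw [Commute, SemiconjBy, this, e2, mul_assoc a, mul_assoc a, mul_assoc _ z z, h.zz, mul_one]
  have xt := an x1 k2 (by norm_num) (by norm_num) x2 k4 (by decide)
  have yt := an y1 k2 (by norm_num) (by norm_num) y2 k4 (by decide)
  have wt := an w1 k2 (by norm_num) (by norm_num) w2 k4 (by decide)
  have xy := an x1 y1 (by norm_num) (by norm_num) x2 y2 (by decide)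
  have e : x * w * (x * y) = x * y * (x * w) * z := by
    have := c2 (h.vz y1) (an x1 w1 (by norm_num) (by norm_num) x2 w2 (by decide)) (an y1 w1 (by norm_num) (by norm_num) y2 w2 (by decide))
    rw [show x * y * (x * w) * z = x * (y * x) * w * z by group, xy, mul_assoc x w, ← this.eq, mul_assoc x (x * y * z),
      mul_assoc (x * y) z, (h.vz w1).eq, ← mul_assoc (x * y), mul_assoc x _ z, mul_assoc _ z z, h.zz, mul_one]
  rcases h.ns1 hB (Y := cj g⁻¹ X) ⟨mem_cj.2 (by rw [inv_inv, ← ht]; exact tX), by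
      rintro _ ⟨_, ⟨u, b, rfl | rfl⟩, rfl⟩ <;> refine conj_sq_iff.2 ?_
      exacts [h.uu b.1 ((h.vQ b.1).1 b.2), by rw [(c b k2).mul_mul_mul_comm, tt, h.uu b.1 ((h.vQ b.1).1 b.2), mul_one]]⟩
    (by rwa [card_cj]) (cm _ (mul_mem x1 y1) (c2 (h.vz y1) xt yt)) (cm _ (mul_mem x1 w1) (c2 (h.vz w1) xt wt)) with f | f
  · rw [(commute_conj_conj_iff.1 f).eq] at e
    exact h.ls.ne (left_eq_mul.1 e).symm.symm
  · rw [conj_mul, conj_mul, e, ← conj_mul] at f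
    refine ne (ht.trans ?_)
    conv_lhs => rw [← mul_left_cancel f]
    group

end

end F8

end Cfsg.Lib.Par
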