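import Cfsg.Agent.Lib.Known2.P4

/-! The group `2^{1+8}.U₄(2)`: the conjugates of the central involution in the split case. -/

set_option autoImplicit false
set_option synthInstance.maxSize 2000
set_option linter.unusedSectionVars false

namespace Cfsg.Lib.Par

open Subgroup Cfsg.Lib.Known2 Cfsg.Lib.Core Cfsg.Lib.Fi Cfsg.Lib.Amalg

variable {G : Type*} [Group G]

/-- The conjugacy class. -/
def Cl (z : G) : Set G := {x | ∃ g, g * z * g⁻¹ = x}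

theorem Cl.self (z : G) : z ∈ Cl z := ⟨1, by simp⟩
theorem Cl.cj {z : G} (g : G) : ∀ x ∈ Cl z, g * x * g⁻¹ ∈ Cl z := by rintro _ ⟨k, rfl⟩; exact ⟨g * k, (conj_conj' g k z).symm⟩
theorem Cl.iff {z g x : G} : g * x * g⁻¹ ∈ Cl z ↔ x ∈ Cl z := conj_mem_iff Cl.cj

theorem ncard_part [Finite G] (S : Set G) (μ : G → ℕ) (N : ℕ) (h : ∀ x ∈ S, μ x < N) :
    S.ncard = ∑ i ∈ Finset.range N, {x | x ∈ S ∧ μ x = i}.ncard := by
  classical
  rw [Set.ncard_eq_toFinset_card S, Finset.card_eq_sum_card_fiberwise (f := μ) (t := Finset.range N)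
    fun x a => Finset.mem_range.2 (h x (by simpa using a))]
  exact Finset.sum_congr rfl fun i _ => by rw [← Set.ncard_coe_finset]; congr 1; ext; simp

theorem half [Finite G] {D C : Set G} {z : G} (hc : ∀ g, ∀ x ∈ D, g * x * g⁻¹ ∈ D) (zz : z * z = 1) (hz : ∀ v ∈ C, v * z ∈ C)
    (h : ∀ v ∈ C, ∀ w ∈ C, ∃ y, Commute z y ∧ (y * v * y⁻¹ = w ∨ y * v * y⁻¹ = w * z)) :
    (∀ v ∈ C, v ∉ D) ∨ (∀ v ∈ C, v ∈ D) ∨ ((∀ v ∈ C, v ∈ D ↔ v * z ∉ D) ∧ 2 * (D ∩ C).ncard = C.ncard) := by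
  have z2 : ∀ v : G, v * z * z = v := fun v => by rw [mul_assoc, zz, mul_one]
  refine or_iff_not_imp_left.2 fun a => or_iff_not_imp_left.2 fun b => ?_
  push Not at a b
  obtain ⟨v, v1, v2⟩ := a
  obtain ⟨u, u1, u2⟩ := b
  have k : ∀ w ∈ C, w ∈ D ↔ w * z ∉ D := fun w w1 => ⟨fun a b => by
    obtain ⟨y, y1, e | e⟩ := h w w1 u u1
    · exact u2 (e ▸ hc y w a)
    · exact u2 (by simpa only [← conj_mul, e, cz y1, z2] using hc y _ b), fun a => by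
    obtain ⟨y, -, e | e⟩ := h v v1 w w1
    exacts [e ▸ hc y v v2, (a (e ▸ hc y v v2)).elim]⟩
  refine ⟨k, ?_⟩
  rw [← Set.ncard_inter_add_ncard_sdiff_eq_ncard C D, Set.inter_comm, two_mul]
  congr 1
  rw [← Set.ncard_image_of_injective _ (mul_left_injective z)]
  congr 1
  ext w
  exact ⟨by rintro ⟨x, a, rfl⟩; exact ⟨hz x a.1, (k x a.1).1 a.2⟩, fun a =>
    ⟨w * z, ⟨hz w a.1, by_contra fun n => a.2 ((k w a.1).2 n)⟩, z2 w⟩⟩

theorem no_prime [Finite G] {V : Subgroup G} (hc : Nat.card V = 512) (hV : ∀ g, (∀ v ∈ V, Commute g v) → g * g = 1) {p : ℕ}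
    (hp : p.Prime) (h : p ∣ Nat.card (normalizer (V : Set G))) : ∃ k < 9, p ∣ 512 - 2 ^ k := by
  have := Fact.mk hp
  obtain ⟨⟨g, hg⟩, o⟩ := exists_prime_orderOf_dvd_card' p h
  rw [← Subgroup.orderOf_coe] at o
  obtain ⟨k, hk, e⟩ := (Nat.dvd_prime_pow Nat.prime_two (m := 9)).1 (hc ▸ card_dvd_of_le (inf_le_left : V ⊓ centralizer {g} ≤ V) :)
  have d := dvd_ncard_of_orbits (P := zpowers g) (k := p) ((V : Set G) \ centralizer {g}) (fun x a c b => ⟨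
    (mem_normalizer_iff.1 (zpowers_le.2 hg a) c).1 b.1, fun n => b.2 (by
      have : Commute x g := mem_cent_zpowers.2 (rfl : g * g = g * g) x a
      rw [SetLike.mem_coe, mem_centralizer_singleton_iff] at n ⊢
      exact commute_conj_conj_iff.1 (conj_eq_self_iff.2 this ▸ n :))⟩) fun c b => by
    refine ((Nat.dvd_prime hp).1 (?_ : _ ∣ p)).resolve_left (fun e => b.2 ?_) ▸ dvd_rfl
    · rw [← o, ← Nat.card_zpowers]; exact relIndex_dvd_card _ _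
    · exact mem_centralizer_singleton_iff.2 (mem_centralizer_singleton_iff.1 (relIndex_eq_one.1 e (mem_zpowers g))).symm
  have s := Set.ncard_inter_add_ncard_sdiff_eq_ncard (V : Set G) (centralizer {g})
  rw [← coe_inf, ← Nat.card_coe_set_eq, ← Nat.card_coe_set_eq (V : Set G)] at s
  by_cases k9 : k = 9
  · have : V ≤ centralizer {g} := inf_eq_left.1 (eq_of_le_of_card_ge inf_le_left (by rw [hc, e, k9]; norm_num))
    have := orderOf_dvd_of_pow_eq_one ((pow_two g).trans (hV g fun v a => (mem_centralizer_singleton_iff.1 (this a)).symm))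
    exact ⟨1, by norm_num, (o ▸ this).trans (by norm_num)⟩
  exact ⟨k, by omega, by convert d using 1; simp only [SetLike.coe_sort_coe] at s; omega⟩

def dg2 (u : ℕ) : ℕ := u / 16 % 4

theorem d_chk : (∀ u < 256, inU u = true → (inW 5 u = false ↔ dg2 u ≠ 0) ∧ ∀ w < 256, (inU w = true → dg2 u = dg2 w →
    inW 5 (w ^^^ u) = true) ∧ (inW 5 w = true → inU (w ^^^ wd [64, 16] u) = true ∧ dg2 (w ^^^ wd [64, 16] u) = om (dg2 u))) ∧
    inW 5 (wd [64, 16] 5) = true ∧ ∀ a < 4, ∀ b < 4, a ≠ 0 → b ≠ 0 → b = a ∨ b = om a ∨ b = om (om a) := by decide +kernel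

namespace F8
variable [Finite G] {Q : Subgroup G} {z : G} {ν : G → ℕ} {α : G → ℕ → ℕ} (h : F8 Q z ν α) {g k x y t u v w : G} {n p m : ℕ}
include h

/-- The cosets of the preimage of the base line. -/
def CC (_ : F8 Q z ν α) (m : ℕ) : Set G := {v | v ∈ VV Q ν ∧ EQ (α v) (FF m)}

theorem αl (hu : u ∈ Q) (hv : Commute z v) (hn : n < 256) : α (u * v) n = α v n := by
  rw [h.αm (h.cQ hu) hv hn, h.αQ hu ((h.un hv).lt hn)]

theorem cc_mul (hv : v ∈ h.CC m) (hu : u ∈ Q) (e : inU (ν u) = true) : u * v ∈ h.CC m :=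
  ⟨mul_mem ((h.vQ hu).2 e) hv.1, fun n hn => (h.αl hu (h.vz hv.1) hn).trans (hv.2 n hn)⟩

theorem cc_z (hv : v ∈ h.CC m) : v * z ∈ h.CC m := (h.vz hv.1).eq ▸ h.cc_mul hv h.ls.mem ((h.vQ h.ls.mem).1 h.zV)

theorem cc_same (hv : v ∈ h.CC m) (hw : w ∈ h.CC m) : ∃ u ∈ Q, inU (ν u) = true ∧ w = u * v :=
  h.v_same hv.1 hw.1 fun n hn => (hv.2 n hn).trans (hw.2 n hn).symm

theorem cc_card (hm : m < 16) : (h.CC m).ncard = 32 := by
  obtain ⟨v, a⟩ := h.ff_ex hm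
  refine Eq.trans ?_ ((Set.ncard_image_of_injective _ (mul_left_injective v)).trans h.cardU)
  congr 1
  ext w
  exact ⟨fun b => let ⟨u, c, d, e⟩ := h.cc_same a b; ⟨u, ⟨c, d⟩, e.symm⟩, by rintro ⟨u, b, rfl⟩; exact h.cc_mul a b.1 b.2⟩

theorem pt_card (hp : sg p) : {t | PT Q z ν α t p}.ncard = 8 := by
  obtain ⟨v, a⟩ := h.pt_ex hp
  refine Eq.trans ?_ ((Set.ncard_image_of_injective _ (mul_left_injective v)).trans (h.cardW hp))
  congr 1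
  ext w
  exact ⟨fun b => let ⟨u, c, d, e⟩ := h.pt_same a b; ⟨u, ⟨c, d⟩, e.symm⟩, by rintro ⟨u, b, rfl⟩; exact h.pt_mul a b.1 b.2⟩

theorem part (A : Set G) : (A ∩ VV Q ν).ncard = ∑ m ∈ Finset.range 16, (A ∩ h.CC m).ncard := by
  choose! μ μ1 μ2 using fun v (a : v ∈ VV Q ν) => h.v_ff a
  rw [ncard_part _ μ 16 fun x a => μ1 x a.2]
  refine Finset.sum_congr rfl fun m hm => congrArg _ (Set.ext fun x => ⟨fun a => ⟨a.1.1, a.1.2, a.2 ▸ μ2 x a.1.2⟩, fun a =>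
    ⟨⟨a.1, a.2.1⟩, ((tr_chk _ (μ1 x a.2.1)).2.2.2.2 m (Finset.mem_range.1 hm)).2 fun n hn =>
      (μ2 x a.2.1 n hn).symm.trans (a.2.2 n hn)⟩⟩)

theorem cardV : Nat.card (VV Q ν) = 512 := by
  have := h.part Set.univ
  simp only [Set.univ_inter] at this
  rw [Finset.sum_congr rfl fun m hm => h.cc_card (Finset.mem_range.1 hm)] at this
  exact this

theorem cc_rep (hm : m < 16) : (Cl z ∩ h.CC m).ncard = (Cl z ∩ h.CC (rep m)).ncard := by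
  obtain ⟨g, -, a, b⟩ := h.rep_conj hm
  have i : Function.Injective fun x : G => g * x * g⁻¹ := fun _ _ e => mul_left_cancel (mul_right_cancel e)
  have e := Set.eq_of_subset_of_ncard_le (s := (fun x : G => g * x * g⁻¹) '' h.CC m) (t := h.CC (rep m))
    (by rintro _ ⟨x, c, rfl⟩; exact ⟨a x c.1, b x (h.vz c.1) c.2⟩)
    (by rw [Set.ncard_image_of_injective _ i, h.cc_card hm, h.cc_card ((by decide : ∀ m < 16, rep m < 16) m hm)])
  rw [← e, ← Set.ncard_image_of_injective _ i]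
  congr 1
  ext x
  exact ⟨by rintro ⟨y, c, rfl⟩; exact ⟨Cl.cj g y c.1, y, c.2, rfl⟩, by rintro ⟨c, y, d, rfl⟩; exact ⟨y, ⟨Cl.iff.1 c, d⟩, rfl⟩⟩

theorem to_rep (hv : v ∈ VV Q ν) : v ∈ Q ∨ ∃ g, Commute z g ∧ (g * v * g⁻¹ ∈ h.CC 1 ∨ g * v * g⁻¹ ∈ h.CC 3) := by
  obtain ⟨m, hm, a⟩ := h.v_ff hv
  obtain ⟨g, g1, g2, g3⟩ := h.rep_conj hm
  obtain d | d | d := (by decide : ∀ m < 16, m = 0 ∨ rep m = 1 ∨ rep m = 3) m hm
  exacts [Or.inl ((h.ffQ (h.vz hv) hm a).2 d), Or.inr ⟨g, g1, Or.inl ⟨g2 v hv, d ▸ g3 v (h.vz hv) a⟩⟩,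
    Or.inr ⟨g, g1, Or.inr ⟨g2 v hv, d ▸ g3 v (h.vz hv) a⟩⟩]

theorem pt_cc (ht : PT Q z ν α t 5) : t ∈ h.CC 1 := ⟨h.pt_V ht rfl, fun n hn => (ht.2.2.1 n hn).trans (ff_val n hn).2.1.symm⟩

theorem pt_z (ht : PT Q z ν α t p) : PT Q z ν α (t * z) p :=
  ht.2.1.eq ▸ h.pt_mul ht h.ls.mem (by rw [(h.zero h.ls.mem).2 (Or.inr rfl)]; rfl)

theorem cov3 (hv : v ∈ h.CC 3) (hw : w ∈ h.CC 3) : ∃ y ∈ Q, y * v * y⁻¹ = w ∨ y * v * y⁻¹ = w * z := by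
  obtain ⟨u, a, b, rfl⟩ := h.cc_same hv hw
  obtain ⟨n, c, d⟩ := ((u_chk _ (h.lt u)).1 b).2.2
  obtain ⟨y, e, -, f⟩ := h.cov (h.vz hv.1) a c (by rwa [hv.2 n c])
  exact ⟨y, e, f⟩

theorem cov1 (hv : v ∈ h.CC 1) (hu : u ∈ Q) (e : inW 5 (ν u) = true) :
    ∃ y ∈ Q, y * v * y⁻¹ = u * v ∨ y * v * y⁻¹ = u * v * z := by
  obtain ⟨n, c, d⟩ := ((u_chk _ (h.lt u)).2.2.2 e).2
  obtain ⟨y, e, -, f⟩ := h.cov (h.vz hv.1) hu c (by rwa [hv.2 n c, (ff_val n c).2.1])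
  exact ⟨y, e, f⟩

theorem flip (hk : PT Q z ν α k p) (hu : u ∈ Q) (e : inW p (ν u) = false) :
    ∃ y ∈ Q, hz p (ν y) = true ∧ ¬ Commute u y ∧ y * (u * k) * y⁻¹ = u * k * z := by
  obtain ⟨n, a, b, c⟩ := (sc_all hk.1.1 (h.lt u)).2.2.2.2.2.2.2.2 hk.1 e
  obtain ⟨y, d, rfl⟩ := h.sur n a
  have n : ¬ Commute u y := fun e => by simpa [c] using (h.comm hu d).1 e
  exact ⟨y, d, b, n, by rw [← conj_mul, h.ls.conj_anti d hu fun e => n e.symm, conj_eq_self_iff.2 (hk.2.2.2 y d b).symm,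
    mul_assoc, hk.2.1.eq, mul_assoc]⟩

theorem not_pt (hk : PT Q z ν α k p) (hu : u ∈ Q) (e : inW p (ν u) = false) : ¬ PT Q z ν α (u * k) p := fun a => by
  obtain ⟨y, b, c, d, -⟩ := h.flip hk hu e
  exact d (by simpa using (a.2.2.2 y b c).mul_left (hk.2.2.2 y b c).inv_left)

theorem all24 (hv : v ∈ h.CC 1) (hv' : ¬ PT Q z ν α v 5) (hw : w ∈ h.CC 1) (hw' : ¬ PT Q z ν α w 5) (hD : v ∈ Cl z) : w ∈ Cl z := by
  obtain ⟨k, a⟩ := h.pt5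
  have s1 : ∀ u ∈ Q, inU (ν u) = true → ∀ u' ∈ Q, inU (ν u') = true → dg2 (ν u') ≠ 0 → dg2 (ν u) = dg2 (ν u') → u * k ∈ Cl z →
      u' * k ∈ Cl z := fun u b c u' d e f g i => by
    obtain ⟨y, -, j⟩ := h.cov1 (h.cc_mul (h.pt_cc a) b c) (mul_mem d (inv_mem b)) (by
      rw [h.mul d (inv_mem b), h.νi b]; exact ((d_chk.1 _ (h.lt u) c).2 _ (h.lt u')).1 e g)
    rw [mul_assoc u', inv_mul_cancel_left] at j
    obtain ⟨x, -, -, -, l⟩ := h.flip a d ((d_chk.1 _ (h.lt u') e).1.2 f)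
    exact j.elim (fun j => j ▸ Cl.cj y _ i) fun j => Cl.iff.1 (l ▸ j ▸ Cl.cj y _ i)
  obtain ⟨g, g1, g2⟩ := h.word (w := [64, 16]) (by decide)
  obtain ⟨x, x1, x2, x3⟩ := h.pt_same a ((h.pt_conj a g1).sc (by decide) (by rw [g2 5 (by norm_num)]; exact d_chk.2.1) h.lt)
  have s2 : ∀ d, (∃ u ∈ Q, inU (ν u) = true ∧ dg2 (ν u) = d ∧ u * k ∈ Cl z) →
      ∃ u ∈ Q, inU (ν u) = true ∧ dg2 (ν u) = Par.om d ∧ u * k ∈ Cl z := by
    rintro _ ⟨u, b, c, rfl, e⟩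
    have := ((d_chk.1 _ (h.lt u) c).2 _ (h.lt x)).2 x2
    rw [← g2 _ (h.lt u), ← h.conj g1 b, Nat.xor_comm, ← h.mul (h.nm g1 b) x1] at this
    exact ⟨_, mul_mem (h.nm g1 b) x1, this.1, this.2, by rw [mul_assoc, ← x3, conj_mul]; exact Cl.cj g _ e⟩
  obtain ⟨u, u1, u2, rfl⟩ := h.cc_same (h.pt_cc a) hv
  obtain ⟨u', b, c, rfl⟩ := h.cc_same (h.pt_cc a) hw
  have d1 := (d_chk.1 _ (h.lt u) u2).1.1 (by simpa using fun e => hv' (h.pt_mul a u1 e))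
  have d2 := (d_chk.1 _ (h.lt u') c).1.1 (by simpa using fun e => hw' (h.pt_mul a b e))
  have e0 : ∃ x ∈ Q, inU (ν x) = true ∧ dg2 (ν x) = dg2 (ν u) ∧ x * k ∈ Cl z := ⟨u, u1, u2, rfl, hD⟩
  obtain ⟨x, e1, e2, e3, e4⟩ : ∃ x ∈ Q, inU (ν x) = true ∧ dg2 (ν x) = dg2 (ν u') ∧ x * k ∈ Cl z := by
    rcases d_chk.2.2 _ (Nat.mod_lt _ (by norm_num)) _ (Nat.mod_lt _ (by norm_num)) d1 d2 with e | e | e <;> rw [dg2.eq_1 (ν u'), e]
    exacts [e0, s2 _ e0, s2 _ (s2 _ e0)]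
  exact s1 x e1 e2 u' b c d2 e3 e4

theorem clQ (ht : t ∈ Cl z) (hq : t ∈ Q) : t = z := by obtain ⟨g, rfl⟩ := ht; exact h.caseA hq
theorem cl_sq (ht : t ∈ Cl z) : t * t = 1 := by obtain ⟨g, rfl⟩ := ht; exact h.ls.conj_sq g

variable (hS : ∀ v ∈ VV Q ν, v * v = 1)
include hS

theorem ntr (ht : t ∈ Cl z) (hv : t ∈ VV Q ν) : ∃ g ∈ normalizer (VV Q ν : Set G), g * z * g⁻¹ = t := by
  obtain ⟨g, rfl⟩ := ht
  obtain ⟨k, a, b⟩ := h.uniq (Y := cj g⁻¹ (VV Q ν)) ⟨mem_cj.2 (by rwa [inv_inv]), by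
    rintro _ ⟨y, a, rfl⟩; exact conj_sq_iff.2 (hS y a)⟩ ((card_cj _ _).trans h.cardV)
  rw [← cj_mul] at b
  refine ⟨(k * g⁻¹)⁻¹, inv_mem (mem_normalizer_of_conj_mem fun y c => b (conj_mem_cj _ c)), ?_⟩
  conv_lhs => rw [← cz a]
  group

theorem split (hn : ∃ t ∈ Cl z, Commute z t ∧ t ≠ z) : (∀ t ∈ Cl z, Commute z t → t ≠ z → ∃ p, PT Q z ν α t p) ∧
    (∀ t, PT Q z ν α t 5 → (t ∈ Cl z ↔ t * z ∉ Cl z)) ∧ (Cl z ∩ {t | PT Q z ν α t 5}).ncard = 4 := by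
  have n0 : (Cl z ∩ h.CC 0).ncard = 1 := Set.ncard_eq_one.2 ⟨z, Set.ext fun x => ⟨fun a =>
    h.clQ a.1 ((h.ffQ (h.vz a.2.1) (by norm_num) a.2.2).2 rfl), by
      rintro rfl; exact ⟨Cl.self _, h.zV, fun n hn => (h.αQ h.ls.mem hn).trans (ff_val n hn).1.symm⟩⟩⟩
  have n1 := h.part (Cl z)
  rw [Finset.sum_congr rfl fun m hm => h.cc_rep (Finset.mem_range.1 hm)] at n1
  simp +decide only [Finset.sum_range_succ, Finset.sum_range_zero, rep, if_true, if_false, n0] at n1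
  have sp : ∀ A : Set G, (A ∩ h.CC 1).ncard = (A ∩ {t | PT Q z ν α t 5}).ncard + (A ∩ (h.CC 1 \ {t | PT Q z ν α t 5})).ncard :=
    fun A => by
      rw [← Set.ncard_inter_add_ncard_sdiff_eq_ncard _ {t | PT Q z ν α t 5}, Set.inter_sdiff_assoc, Set.inter_assoc,
        (Set.inter_eq_right (t := {t | PT Q z ν α t 5})).2 fun t a => h.pt_cc a]
  have c24 := sp Set.univ
  simp only [Set.univ_inter, h.cc_card (m := 1) (by norm_num), h.pt_card (p := 5) (by decide)] at c24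
  have hb := half (C := {t | PT Q z ν α t 5}) (Cl.cj (z := z)) h.zz (fun _ => h.pt_z) fun v a w b => by
    obtain ⟨u, c, d, rfl⟩ := h.pt_same a b
    obtain ⟨y, e, f⟩ := h.cov1 (h.pt_cc a) c d
    exact ⟨y, h.cQ e, f⟩
  have hd := half (C := h.CC 3) (Cl.cj (z := z)) h.zz (fun _ => h.cc_z) fun v a w b =>
    let ⟨y, e, f⟩ := h.cov3 a b; ⟨y, h.cQ e, f⟩
  have hc : (∀ v ∈ h.CC 1 \ {t | PT Q z ν α t 5}, v ∉ Cl z) ∨ ∀ v ∈ h.CC 1 \ {t | PT Q z ν α t 5}, v ∈ Cl z :=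
    or_iff_not_imp_left.2 fun a w b => by
      push Not at a
      obtain ⟨v, c, d⟩ := a
      exact h.all24 c.1 c.2 b.1 b.2 d
  rw [h.pt_card (by decide)] at hb
  rw [h.cc_card (by norm_num)] at hd
  have z0 : ∀ {C : Set G}, (∀ v ∈ C, v ∉ Cl z) → (Cl z ∩ C).ncard = 0 := fun a => by
    rw [Set.eq_empty_of_forall_notMem fun x (b : x ∈ Cl z ∩ _) => a x b.2 b.1, Set.ncard_empty]
  have z1 : ∀ {C : Set G}, (∀ v ∈ C, v ∈ Cl z) → (Cl z ∩ C).ncard = C.ncard := fun a => by rw [Set.inter_eq_right.2 a]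
  have pr : ∀ p, p.Prime → p ∣ (Cl z ∩ VV Q ν).ncard → ∃ k < 9, p ∣ 512 - 2 ^ k := fun p a b =>
    no_prime h.cardV (fun g c => hS g (mem_VV.2 fun y d e => c y ((h.vQ d).2 e))) a (b.trans (by
      rw [card_conj_orb _ z]
      refine Dvd.intro _ (congrArg (· * _) (congrArg _ (Set.ext fun x => ⟨fun a => h.ntr hS a.1 a.2, ?_⟩)))
      rintro ⟨g, c, rfl⟩
      exact ⟨Cl.cj g z (Cl.self z), (mem_normalizer_iff.1 c z).1 h.zV⟩))
  have bad : ∀ n ∈ [41, 121, 141, 161, 181, 201, 281, 301, 321, 341, 361, 461, 481], (Cl z ∩ VV Q ν).ncard ≠ n := fun n a e => by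
    obtain ⟨p, p1, p2⟩ := (by decide +kernel : ∀ n ∈ [41, 121, 141, 161, 181, 201, 281, 301, 321, 341, 361, 461, 481],
      ∃ p ∈ [41, 11, 47, 23, 181, 67, 281, 43, 107, 19, 461, 13], p ∣ n ∧ ¬ ∃ k < 9, p ∣ 512 - 2 ^ k) n a
    exact p2.2 (pr p (by simp only [List.mem_cons, List.not_mem_nil, or_false] at p1; rcases p1 with
      rfl | rfl | rfl | rfl | rfl | rfl | rfl | rfl | rfl | rfl | rfl | rfl <;> norm_num) (e ▸ p2.1))
  simp only [List.forall_mem_cons] at bad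
  have key : (∀ v ∈ h.CC 1 \ {t | PT Q z ν α t 5}, v ∉ Cl z) → (∀ v ∈ h.CC 3, v ∉ Cl z) →
      ∀ t ∈ Cl z, Commute z t → t ≠ z → ∃ g, Commute z g ∧ PT Q z ν α (g * t * g⁻¹) 5 := fun a b t c d e => by
    obtain ⟨g, g1, g2⟩ := h.inV d (h.cl_sq c)
    rcases h.to_rep g2 with f | ⟨k, k1, f | f⟩
    · exact absurd (mul_left_cancel (mul_right_cancel ((h.clQ (Cl.cj g t c) f).trans (cz g1).symm))) e
    · exact ⟨k * g, k1.mul_right g1, conj_conj' k g t ▸ by_contra fun n => a _ ⟨f, n⟩ (Cl.cj k _ (Cl.cj g t c))⟩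
    · exact absurd (Cl.cj k _ (Cl.cj g t c)) (b _ f)
  rw [sp] at n1
  rcases hb with b | b | b <;> rcases hc with c | c <;> rcases hd with d | d | d <;>
    (try have b' := z0 b) <;> (try have b' := (z1 b).trans (h.pt_card (by decide))) <;> (try have b' := b.2) <;>
    (try have c' := z0 c) <;> (try have c' := z1 c) <;>
    (try have d' := z0 d) <;> (try have d' := (z1 d).trans (h.cc_card (by norm_num))) <;> (try have d' := d.2) <;>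
    try omega
  · obtain ⟨t, t1, t2, t3⟩ := hn
    obtain ⟨g, -, a⟩ := key c d t t1 t2 t3
    exact absurd (Cl.cj g t t1) (b _ a)
  · exfalso
    obtain ⟨t, t1⟩ := h.ff_ex (m := 3) (by norm_num)
    obtain ⟨g, g1, g2⟩ := h.ntr hS (d t t1) t1.1
    obtain ⟨u, u1, u2⟩ := h.sur 5 (by norm_num)
    have m := h.cc_mul t1 u1 (u2 ▸ rfl)
    have P : ∀ x ∈ Cl z, x ∈ VV Q ν → x ≠ z → x * z ∈ Cl z := fun x a e f => by
      rcases h.to_rep e with i | ⟨k, k1, i | i⟩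
      · exact absurd (h.clQ a i) f
      all_goals refine (Cl.iff (g := k)).1 ?_; rw [← conj_mul, cz k1]
      · exact c _ ⟨h.cc_z i, fun n => b _ (by simpa [mul_assoc, h.zz] using h.pt_z n) (Cl.cj k x a)⟩
      · exact d _ (h.cc_z i)
    have := Cl.cj g _ (P (g⁻¹ * (u * t) * g⁻¹⁻¹) (Cl.cj _ _ (d _ m)) ((mem_normalizer_iff.1 (inv_mem g1) _).1 m.1) fun e => by
      have : u * t = t := by
        conv_rhs => rw [← g2, ← e]
        group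
      rw [mul_eq_right.1 this, h.ν1] at u2; omega)
    rw [← conj_mul, g2, show g * (g⁻¹ * (u * t) * g⁻¹⁻¹) * g⁻¹ = u * t by group, mul_assoc, hS t t1.1, mul_one] at this
    rw [h.clQ this u1, (h.zero h.ls.mem).2 (Or.inr rfl)] at u2; omega
  · refine ⟨fun t a e f => ?_, b.1, by omega⟩
    obtain ⟨g, g1, g2⟩ := key c d t a e f
    exact ⟨_, by simpa [mul_assoc] using h.pt_conj g2 g1.inv_right⟩

end F8

end Cfsg.Lib.Par
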