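import Cfsg.Agent.Lib.Known2.P5

/-! The group `2^{1+8}.U₄(2)`: the local structure of the class of the central involution. -/

set_option autoImplicit false
set_option synthInstance.maxSize 2000
set_option linter.unusedSectionVars false

namespace Cfsg.Lib.Par

open Subgroup Cfsg.Lib.Known2 Cfsg.Lib.Core Cfsg.Lib.Fi Cfsg.Lib.Amalg

variable {G : Type*} [Group G]

def Pr2 (D : Set G) (x : G) : Prop := ∃ p ∈ D, ∃ q ∈ D, p ≠ q ∧ Commute p q ∧ x = p * q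

theorem Pr2.cj {D : Set G} (hc : ∀ g, ∀ x ∈ D, g * x * g⁻¹ ∈ D) {x : G} (g : G) (h : Pr2 D x) : Pr2 D (g * x * g⁻¹) := by
  obtain ⟨p, a, q, b, c, d, rfl⟩ := h
  exact ⟨_, hc g p a, _, hc g q b, fun e => c (mul_left_cancel (mul_right_cancel e)), commute_conj_conj_iff.2 d, conj_mul.symm⟩

def Bas (D : Set G) (a v : G) : Prop := v ∈ D ∨ Pr2 D v ∨ ∃ x ∈ D, ∃ y ∈ D, Commute a x ∧ Commute a y ∧ Commute v x ∧
  Commute v y ∧ Pr2 D (v * x) ∧ ∀ p ∈ D, ∀ q ∈ D, Commute a p → Commute a q → v * y ≠ p * q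

theorem Bas.cj {D : Set G} (hc : ∀ g, ∀ x ∈ D, g * x * g⁻¹ ∈ D) {a v g : G} (hg : Commute a g) (h : Bas D a (g * v * g⁻¹)) :
    Bas D a v := by
  have e : g⁻¹ * (g * v * g⁻¹) * g⁻¹⁻¹ = v := by group
  have c : ∀ {g x}, Commute a g → Commute a x → Commute a (g * x * g⁻¹) := fun a b => (a.mul_right b).mul_right a.inv_right
  rcases h with h | h | ⟨x, x1, y, y1, a1, a2, a3, a4, a5, a6⟩
  · exact Or.inl (e ▸ hc _ _ h)
  · exact Or.inr (Or.inl (e ▸ h.cj hc _))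
  refine Or.inr (Or.inr ⟨_, hc g⁻¹ x x1, _, hc g⁻¹ y y1, c hg.inv_right a1, c hg.inv_right a2, e ▸ commute_conj_conj_iff.2 a3,
    e ▸ commute_conj_conj_iff.2 a4, by simpa only [← conj_mul, e] using a5.cj hc g⁻¹, fun p p1 q q1 p2 q2 f =>
      a6 _ (hc g p p1) _ (hc g q q1) (c hg p2) (c hg q2) ?_⟩)
  rw [conj_mul, ← f]; group

structure Loc1 (D : Set G) (a : G) : Prop where
  sq : a * a = 1
  ne : a ≠ 1
  pt : ∃ π : G → ℕ, (∀ x ∈ Dd D a, π x ∈ PP) ∧ (∀ x ∈ Dd D a, ∀ y ∈ Dd D a, Commute x y ↔ hz (π x) (π y) = true) ∧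
    ∀ p ∈ PP, {x | x ∈ Dd D a ∧ π x = p}.ncard = 4
  three : ∀ x ∈ Dd D a, ∀ y ∈ Dd D a, ¬ Commute x y → (x * y) ^ 3 = 1
  cen : centralizer {a} ≤ closure (Dd D a)
  tr : ∀ x ∈ Dd D a, ∀ y ∈ Dd D a, ∃ g, Commute a g ∧ g * x * g⁻¹ = y
  two : ∃ P : Subgroup G, IsPGroup 2 P ∧ P ≤ centralizer {a} ∧ ∀ d, (∀ y ∈ P, d * y = y * d) → d = 1 ∨ d = a
  pu : ∀ x ∈ Dd D a, a * x ∉ D ∧ ∀ y ∈ Dd D a, ∀ w ∈ Dd D a, a * x ≠ y * w
  odd : ∀ x ∈ Dd D a, ∃ x₁ ∈ Dd D a, ∃ x₂ ∈ Dd D a, ∃ x₃ ∈ Dd D a, Commute x x₁ ∧ Commute x x₂ ∧ Commute x x₃ ∧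
    a * x * x₁ * x₂ * x₃ = 1
  ns : ∃ x ∈ D, ∃ y ∈ D, ∃ w ∈ D, ¬ Commute x y ∧ ¬ Commute w x ∧ ¬ Commute w y ∧ ¬ Commute w (x * y * x)
  bas : ∀ v, Commute a v → v * v = 1 → v ≠ 1 → Bas D a v

def Gen (Q : Subgroup G) (z : G) (α : G → ℕ → ℕ) : Prop := ∀ K : Subgroup G, Q ≤ K →
  (∀ g v, Commute z g → v < 256 → q8 v = true → EQ (α g) (rf v) → g ∈ K) → ∀ g, Commute z g → g ∈ K

theorem e_chk : (∀ p ∈ PP, (∀ q ∈ PP, (∀ n ∈ [1, 4, 16, 64], tv p n = tv q n) → p = q) ∧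
      (∃ n < 256, ∃ n' < 256, b8 n (n' ^^^ tv p n') = true) ∧
      (hz 5 p = false → (∀ n ∈ [1, 4, 16, 64], tv 5 (tv p (tv 5 (tv p (tv 5 (tv p n))))) = n) ∧
        ∀ n < 256, n ≠ 0 → tv 5 (tv p n) = n → ∃ u < 256, hz 5 u = true ∧ hz p u = true ∧ b8 n u = true)) ∧
    (∀ p < 256, (sg p → (∃ n < 256, p = n ^^^ tv p n) ∧ (∃ n < 256, hz p n = false) ∧
      ∀ q ∈ PP, inW q (tv p q) = true → hz p q = true) ∧
      (p = 0 ∨ sg p ∨ ∃ a < 256, sg a ∧ sg (a ^^^ p)) ∧ lin 1 4 16 64 p = p ∧ inW p p = true) := by decide +kernel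

theorem inW_symm {p q : ℕ} (hp : p < 256) (h : inW p q = true) (h0 : q ≠ 0) : inW q p = true := by
  have := (om3 p hp).2.1
  rcases inW_cases h with rfl | rfl | rfl | rfl <;> simp_all [inW]

theorem inW_trans {p q r : ℕ} (hp : p < 256) (h : inW p q = true) (h' : inW q r = true) : inW p r = true := by
  have := (om3 p hp).2.1
  have := (om3 _ (om_lt p hp)).2.1
  have : om 0 = 0 := rfl
  rcases inW_cases h with rfl | rfl | rfl | rfl <;> rcases inW_cases h' with rfl | rfl | rfl | rfl <;> simp_all [inW]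

theorem nrm {p : ℕ} (hp : sg p) : ∃ q ∈ PP, sg q ∧ inW q p = true :=
  let ⟨q, a, b⟩ := ((c_chk.2.1 p hp.1).2.2.2.2.2 hp).2; ⟨q, a, (c_chk.2.2.2.2.2 q a).1, b⟩

theorem b4 {n : ℕ} (h : n ∈ [1, 4, 16, 64]) : n < 256 := by simp only [List.mem_cons, List.not_mem_nil, or_false] at h; omega

theorem tv_uniq {p q : ℕ} (hp : sg p) (hq : sg q) (e : EQ (tv p) (tv q)) : inW p q = true := by
  obtain ⟨a, a1, a2, a3⟩ := nrm hp
  obtain ⟨b, b1, b2, b3⟩ := nrm hq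
  obtain rfl := (e_chk.1 a a1).1 b b1 fun n hn => by
    rw [← (sc_eq a2.1 a3 hp.2.2 (b4 hn)).1, ← (sc_eq b2.1 b3 hq.2.2 (b4 hn)).1, e n (b4 hn)]
  exact inW_trans hp.1 (inW_symm a2.1 a3 hp.2.2) b3

theorem un_ext {f g : ℕ → ℕ} (hf : Un f) (hg : Un g) (e : ∀ n ∈ [1, 4, 16, 64], f n = g n) : EQ f g := fun n hn => by
  rw [hf.lin hn, hg.lin hn, e 1 (by decide), e 4 (by decide), e 16 (by decide), e 64 (by decide)]

namespace F8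
variable [Finite G] {Q : Subgroup G} {z : G} {ν : G → ℕ} {α : G → ℕ → ℕ} (h : F8 Q z ν α) {g k x y t u v w : G} {n p q m : ℕ}
include h

theorem pt_uniq (ht : PT Q z ν α t p) (ht' : PT Q z ν α t q) : inW p q = true :=
  tv_uniq ht.1 ht'.1 fun n hn => (ht.2.2.1 n hn).symm.trans (ht'.2.2.1 n hn)

theorem tv_ne (hp : sg p) (hv : EQ (α v) (tv p)) : v ∉ Q := fun a => by
  obtain ⟨n, b, c⟩ := ((e_chk.2 p hp.1).1 hp).2.1
  simpa [c] using (sc_all hp.1 b).2.2.2.2.1 hp ((hv n b).symm.trans (h.αQ a b))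

theorem pt_Q (ht : PT Q z ν α t p) (hy : y ∈ Q) : PT Q z ν α (y * t * y⁻¹) p := h.αQ hy ht.1.1 ▸ h.pt_conj ht (h.cQ hy)

theorem cy (ht : PT Q z ν α t p) (hy : y ∈ Q) : ∃ c ∈ Q, ν c = ν y ^^^ tv p (ν y) ∧ inW p (ν c) = true ∧ Commute t c ∧
    c * c = 1 ∧ y * t * y⁻¹ = c * t := by
  have m := h.nm ht.2.1 (inv_mem hy)
  have e : ν (y * (t * y⁻¹ * t⁻¹)) = ν y ^^^ tv p (ν y) := by rw [h.mul hy m, h.conj ht.2.1 (inv_mem hy), h.νi hy, ht.2.2.1 _ (h.lt y)]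
  have i := e ▸ (sc_all ht.1.1 (h.lt y)).2.2.2.2.2.1 ht.1
  refine ⟨_, mul_mem hy m, e, i, ht.2.2.2 _ (mul_mem hy m) ((sc_all ht.1.1 (h.lt _)).2.2.2.2.2.2.2.1 ht.1 i),
    (h.sq (mul_mem hy m)).2 ?_, by group⟩
  rcases inW_cases i with e | e | e | e <;> rw [e]
  exacts [rfl, ht.1.2.1, (om3 _ ht.1.1).2.2.trans ht.1.2.1, (om3 _ (om_lt _ ht.1.1)).2.2.trans ((om3 _ ht.1.1).2.2.trans ht.1.2.1)]

variable (hS : ∀ v ∈ VV Q ν, v * v = 1)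
include hS

theorem cm_iff (ht : PT Q z ν α t p) (hk : PT Q z ν α k q) : Commute t k ↔ hz p q = true := by
  refine ⟨fun c => ?_, fun e => ?_⟩
  · obtain ⟨r, r1, r2, r3⟩ := nrm hk.1
    have k2 := hk.sc r2 r3 h.lt
    have := h.pt_uniq k2 (conj_eq_self_iff.2 c ▸ h.pt_conj k2 ht.2.1)
    rw [ht.2.2.1 _ r2.1] at this
    rw [hz_comm ht.1.1 hk.1.1, (sc_eq r2.1 r3 hk.1.2.2 ht.1.1).2.1, hz_comm r2.1 ht.1.1]
    exact ((e_chk.2 p ht.1.1).1 ht.1).2.2 r r1 this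
  by_cases i : inW p q = true
  · obtain ⟨u, a, b, rfl⟩ := h.pt_same ht (hk.sc ht.1 i h.lt)
    exact (ht.2.2.2 u a ((sc_all ht.1.1 (h.lt u)).2.2.2.2.2.2.2.1 ht.1 b)).mul_right (Commute.refl t)
  obtain ⟨g, a, b, c⟩ := h.tr2 ht.1 hk.1.1 hk.1.2.1 e (by simpa using i)
  refine commute_conj_conj_iff.1 (comm_of_sq hS (h.pt_V (h.pt_conj ht a) ((u_chk _ ((h.un a).lt ht.1.1)).2.2.2 b).1)
    (h.pt_V (h.pt_conj hk a) ?_))
  rcases inW_cases c with e | e | e | e <;> rw [e] <;> rfl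

variable (hn : ∃ t ∈ Cl z, Commute z t ∧ t ≠ z)
include hn

theorem dpt (ht : t ∈ Dd (Cl z) z) : ∃ p ∈ PP, PT Q z ν α t p := by
  obtain ⟨p, a⟩ := (h.split hS hn).1 t ht.1 ht.2.2 ht.2.1
  obtain ⟨q, b, c, d⟩ := nrm a.1
  exact ⟨q, b, a.sc c d h.lt⟩

theorem dz_iff (ht : PT Q z ν α t p) : t ∈ Cl z ↔ t * z ∉ Cl z := by
  obtain ⟨g, a, b⟩ := h.tr1 ht.1
  rw [← Cl.iff (g := g), (h.split hS hn).2.1 _ (b ▸ h.pt_conj ht a), ← Cl.iff (g := g) (x := t * z), ← conj_mul, cz a]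

omit hS hn in
theorem ptd (ht : PT Q z ν α t p) (hD : t ∈ Cl z) : t ∈ Dd (Cl z) z :=
  ⟨hD, fun e => h.tv_ne ht.1 ht.2.2.1 (e ▸ h.ls.mem), ht.2.1⟩

theorem d4 (hp : sg p) : (Cl z ∩ {t | PT Q z ν α t p}).ncard = 4 := by
  obtain ⟨g, a, b⟩ := h.tr1 hp
  have i : Function.Injective fun x : G => g * x * g⁻¹ := fun _ _ e => mul_left_cancel (mul_right_cancel e)
  rw [← (h.split hS hn).2.2, ← Set.ncard_image_of_injective _ i]
  congr 1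
  ext x
  exact ⟨by rintro ⟨y, c, rfl⟩; exact ⟨Cl.cj g y c.1, b ▸ h.pt_conj c.2 a⟩, fun c =>
    ⟨g⁻¹ * x * g⁻¹⁻¹, ⟨Cl.cj _ x c.1, h.αi' a hp.1 ▸ b ▸ h.pt_conj c.2 a.inv_right⟩, by group⟩⟩

theorem dex (hp : sg p) : ∃ t ∈ Cl z, PT Q z ν α t p :=
  let ⟨t, a⟩ := Set.nonempty_of_ncard_ne_zero (s := Cl z ∩ {t | PT Q z ν α t p}) (by rw [h.d4 hS hn hp]; norm_num); ⟨t, a⟩

theorem neg (hw : Commute z w) (hp : sg p) (e : EQ (α w) (tv p)) (n : ¬ PT Q z ν α w p) :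
    ∀ r ∈ Cl z, ∀ s ∈ Cl z, Commute z r → Commute z s → w ≠ r * s := by
  have k : ∀ s ∈ Cl z, Commute z s → w ≠ s * z := by
    rintro s a b rfl
    by_cases c : s = z
    · exact h.tv_ne hp e (by rw [c, h.zz]; exact one_mem _)
    obtain ⟨q, -, d⟩ := h.dpt hS hn ⟨a, c, b⟩
    have d := h.pt_z d
    exact n (d.sc hp (tv_uniq hp d.1 fun n hn => (e n hn).symm.trans (d.2.2.1 n hn)) h.lt)
  rintro r a s b c d rfl
  by_cases e1 : r = z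
  · exact k s b d (by rw [e1, d.eq])
  by_cases e2 : s = z
  · exact k r a c (by rw [e2])
  obtain ⟨q, -, q1⟩ := h.dpt hS hn ⟨a, e1, c⟩
  obtain ⟨q', -, q2⟩ := h.dpt hS hn ⟨b, e2, d⟩
  exact h.tv3 q1.1 q2.1 hp fun n hn => by rw [← e n hn, h.αm c d hn, q1.2.2.1 _ ((h.un d).lt hn), q2.2.2.1 n hn]

theorem three (hx : x ∈ Dd (Cl z) z) (hy : y ∈ Dd (Cl z) z) (n : ¬ Commute x y) : (x * y) ^ 3 = 1 := by
  obtain ⟨p, -, a⟩ := h.dpt hS hn hx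
  obtain ⟨g, g1, g2⟩ := h.tr1 a.1
  have a := g2 ▸ h.pt_conj a g1
  obtain ⟨q, q1, b⟩ := h.dpt hS hn ⟨Cl.cj g y hy.1, fun e => hy.2.1 (mul_left_cancel (mul_right_cancel (e.trans (cz g1).symm))),
    (g1.mul_right hy.2.2).mul_right g1.inv_right⟩
  rw [← commute_conj_conj_iff (g := g)] at n
  rw [← conj_eq_one_iff (a := g), ← conj_pow, ← conj_mul]
  have x1 := Cl.cj g x hx.1
  have y1 := Cl.cj g y hy.1
  generalize g * x * g⁻¹ = x at *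
  generalize g * y * g⁻¹ = y at *
  obtain ⟨e1, e2⟩ := (e_chk.1 q q1).2.2 (by simpa using mt (h.cm_iff hS a b).2 n)
  have c := a.2.1.mul_right b.2.1
  have k : ∀ n < 256, α (x * y) n = tv 5 (tv q n) := fun n hn => by
    rw [h.αm a.2.1 b.2.1 hn, a.2.2.1 _ ((h.un b.2.1).lt hn), b.2.2.1 n hn]
  have l := fun {n} => (h.un c).lt (n := n)
  have m : (x * y) ^ 3 ∈ Q := h.ker (c.pow_right 3) (un_ext (g := α 1) (h.un (c.pow_right 3)) (h.un (Commute.one_right _))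
    (fun n hn => by
      rw [pow_three, h.αm c (c.mul_right c) (b4 hn), h.αm c c (b4 hn), k _ (l (l (b4 hn))), k _ (l (b4 hn)), k _ (b4 hn), e1 n hn,
        h.αQ (one_mem _) (b4 hn)]) · · |>.trans (h.αQ (one_mem _) ‹_›))
  refine ((h.zero m).1 (by_contra fun n0 => ?_)).resolve_right fun e => ?_
  · obtain ⟨u, u1, u2, u3, u4⟩ := e2 _ (h.lt _) n0 ((k _ (h.lt _)).symm.trans (h.fix c m ((Commute.refl _).pow_right 3)))
    obtain ⟨w, w1, rfl⟩ := h.sur u u1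
    simpa [u4] using (h.comm m w1).1 (((a.2.2.2 w w1 u2).mul_left (b.2.2.2 w w1 u3)).pow_left 3)
  · refine (h.dz_iff hS hn a).1 x1 ?_
    convert Cl.cj (y * x) y y1 using 1
    rw [← e, mul_inv_rev, inv_eq_of_mul_eq_one_right (h.pt_sq a), inv_eq_of_mul_eq_one_right (h.pt_sq b), pow_three]
    simp only [← mul_assoc, h.pt_sq a, one_mul]

theorem odd (hx : x ∈ Dd (Cl z) z) : ∃ x₁ ∈ Dd (Cl z) z, ∃ x₂ ∈ Dd (Cl z) z, ∃ x₃ ∈ Dd (Cl z) z, Commute x x₁ ∧ Commute x x₂ ∧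
    Commute x x₃ ∧ z * x * x₁ * x₂ * x₃ = 1 := by
  obtain ⟨p, p1, a⟩ := h.dpt hS hn hx
  obtain ⟨n, n1, n', n2, e⟩ := (e_chk.1 p p1).2.1
  obtain ⟨y, y1, rfl⟩ := h.sur n n1
  obtain ⟨w, w1, rfl⟩ := h.sur n' n2
  have d := fun {y} (hy : y ∈ Q) => h.ptd (h.pt_Q a hy) (Cl.cj y x hx.1)
  have cm := fun {y} (hy : y ∈ Q) => (h.cm_iff hS a (h.pt_Q a hy)).2
    ((sc_all a.1.1 a.1.1).2.2.2.2.2.2.2.1 a.1 (e_chk.2 p a.1.1).2.2.2)
  refine ⟨_, d (mul_mem y1 w1), _, d y1, _, d w1, cm (mul_mem y1 w1), cm y1, cm w1, ?_⟩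
  obtain ⟨c, c1, c2, -, c3, c4, c5⟩ := h.cy a w1
  have f := h.ls.conj_anti y1 c1 fun n => by simpa [c2, e] using (h.comm y1 c1).1 n
  have s := (conj_sq_iff (g := y)).2 (h.pt_sq a)
  rw [← conj_conj', c5, ← conj_mul, f]
  calc _ = z * (x * c) * z * (y * x * y⁻¹ * (y * x * y⁻¹)) * (c * x) := by group
    _ = 1 := by
      rw [s, mul_one, mul_assoc z, ← ((a.2.1.mul_right (h.cQ c1)).eq), ← mul_assoc z z, h.zz, one_mul, mul_assoc, ← mul_assoc c, c4, one_mul,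
        h.pt_sq a]

theorem cen (hG : Gen Q z α) : centralizer {z} ≤ closure (Dd (Cl z) z) := by
  obtain ⟨t, t1, t2⟩ := h.dex hS hn (p := 5) (by decide)
  obtain ⟨x, x1, y, y1, w, w1, -, -, -, e⟩ := h.odd hS hn (h.ptd t2 t1)
  have s := fun {x} (a : x ∈ Dd (Cl z) z) => subset_closure a
  have zL : z ∈ closure (Dd (Cl z) z) := by
    have := inv_mem (mul_mem (mul_mem (mul_mem (s (h.ptd t2 t1)) (s x1)) (s y1)) (s w1))
    rwa [inv_eq_of_mul_eq_one_left (a := z) (by rw [← e]; group)] at this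
  have S : ∀ p, sg p → ∃ c ∈ closure (Dd (Cl z) z), c ∈ Q ∧ ν c = p := fun p hp => by
    obtain ⟨t, t1, t2⟩ := h.dex hS hn hp
    obtain ⟨n, n1, n2⟩ := ((e_chk.2 p hp.1).1 hp).1
    obtain ⟨y, y1, rfl⟩ := h.sur n n1
    obtain ⟨c, c1, c2, -, -, -, c5⟩ := h.cy t2 y1
    exact ⟨c, (mul_mem_cancel_right (s (h.ptd t2 t1))).1 (c5 ▸ s (h.ptd (h.pt_Q t2 y1) (Cl.cj y t t1))), c1, c2.trans n2.symm⟩
  have QL : Q ≤ closure (Dd (Cl z) z) := fun y a => by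
    rcases (e_chk.2 _ (h.lt y)).2.1 with e | e | ⟨n, -, e, f⟩
    · exact h.mem_of zL (one_mem _) (one_mem _) a (h.ν1.trans e.symm)
    · obtain ⟨c, c1, c2, c3⟩ := S _ e
      exact h.mem_of zL c1 c2 a c3
    · obtain ⟨c, c1, c2, c3⟩ := S _ e
      obtain ⟨d, d1, d2, d3⟩ := S _ f
      exact h.mem_of zL (mul_mem c1 d1) (mul_mem c2 d2) a (by rw [h.mul c2 d2, c3, d3, ← Nat.xor_assoc, Nat.xor_self, Nat.zero_xor])
  have W : ∀ L : List ℕ, (∀ p ∈ L, sg p) → ∃ l ∈ closure (Dd (Cl z) z), Commute z l ∧ EQ (α l) (wt L) := fun L hL => by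
    induction L with
    | nil => exact ⟨1, one_mem _, Commute.one_right _, fun n hn => h.αQ (one_mem _) hn⟩
    | cons p L ih =>
      obtain ⟨l, a, b, c⟩ := ih fun x hx => hL x (List.mem_cons_of_mem _ hx)
      obtain ⟨t, t1, t2⟩ := h.dex hS hn (hL p List.mem_cons_self)
      exact ⟨t * l, mul_mem (s (h.ptd t2 t1)) a, t2.2.1.mul_right b, fun n hn => by
        rw [h.αm t2.2.1 b hn, t2.2.2.1 _ ((h.un b).lt hn), c n hn]; rfl⟩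
  refine fun g hg => hG _ QL (fun g v a b c d => ?_) g (mem_centralizer_singleton_iff.1 hg).symm
  obtain ⟨l, l1, l2, l3⟩ := W _ (tt_chk v b c).1
  obtain ⟨u, u1, rfl⟩ := h.same l2 a (un_ext (h.un l2) (h.un a) fun n hn => by rw [l3 n (b4 hn), (tt_chk v b c).2 n hn, d n (b4 hn)])
  exact mul_mem (QL u1) l1

theorem bas (hv : Commute z v) (h2 : v * v = 1) (h1 : v ≠ 1) : Bas (Cl z) z v := by
  obtain ⟨t, t1, t2⟩ := h.dex hS hn (p := 5) (by decide)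
  obtain ⟨s, s1, s2⟩ := h.dex hS hn (p := 80) (by decide)
  have cy5 : ∀ t ∈ Cl z, PT Q z ν α t 5 → ∃ c ∈ Q, ν c = 5 ∧ Commute t c ∧ c * t ∈ Cl z := fun t a b => by
    obtain ⟨y, y1, y2⟩ := h.sur 1 (by norm_num)
    obtain ⟨c, c1, c2, -, c3, -, c5⟩ := h.cy b y1
    exact ⟨c, c1, by rw [c2, y2]; decide, c3, c5 ▸ Cl.cj y t a⟩
  have ts : t * s ∈ h.CC 3 := ⟨mul_mem (h.pt_V t2 rfl) (h.pt_V s2 rfl), h.ff_mul t2.2.1 s2.2.1 (by norm_num) (by norm_num)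
    (h.pt_cc t2).2 fun n hn => (s2.2.2.1 n hn).trans (ff_val n hn).2.2.1.symm⟩
  have P : Pr2 (Cl z) (t * s) := ⟨t, t1, s, s1, fun e => absurd (h.pt_uniq t2 (e ▸ s2)) (by decide), (h.cm_iff hS t2 s2).2 rfl, rfl⟩
  have cm := fun {a b} => comm_of_sq hS (x := a) (y := b)
  obtain ⟨g, g1, g2⟩ := h.inV hv h2
  refine Bas.cj Cl.cj g1 ?_
  rw [ne_eq, ← conj_eq_one_iff (a := g)] at h1
  generalize g * v * g⁻¹ = v at *
  rcases h.to_rep g2 with a | ⟨k, k1, a⟩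
  · by_cases e : v = z
    · exact Or.inl (e ▸ Cl.self z)
    obtain ⟨k, k1, k2⟩ := h.tr1 ⟨h.lt v, (h.sq a).1 (hS v g2), fun e' => ((h.zero a).1 e').elim h1 e⟩
    obtain ⟨c, c1, c2, c3, c4⟩ := cy5 t t1 t2
    have P : Pr2 (Cl z) c := ⟨_, c4, t, t1, fun e => by rw [mul_eq_right.1 e, h.ν1] at c2; omega,
      c3.symm.mul_left (Commute.refl t), by rw [mul_assoc, h.pt_sq t2, mul_one]⟩
    refine Bas.cj Cl.cj k1 (Or.inr (Or.inl ?_))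
    rcases h.eq_or c1 (h.nm k1 a) (by rw [h.conj k1 a, k2, c2]) with e | e <;> rw [e]
    · exact P
    obtain ⟨y, y1, y2⟩ := h.sur 2 (by norm_num)
    exact h.ls.conj_anti y1 c1 (fun e => absurd ((h.comm y1 c1).1 e) (by rw [y2, c2]; decide)) ▸ P.cj Cl.cj y
  refine Bas.cj Cl.cj k1 ?_
  rw [← conj_eq_one_iff (a := k)] at h1
  generalize k * v * k⁻¹ = v at *
  rcases a with a | a
  · by_cases b : PT Q z ν α v 5
    · refine or_iff_not_imp_left.2 fun n => Or.inl ⟨v * z, by_contra fun m => n ((h.dz_iff hS hn b).2 m), z, Cl.self z,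
        fun e => h1 (mul_eq_right.1 e), b.2.1.symm.mul_left (Commute.refl z), by rw [mul_assoc, h.zz, mul_one]⟩
    have k : ∀ x ∈ Cl z, x ∈ VV Q ν → Pr2 (Cl z) (v * x) → Bas (Cl z) z v := fun x c d e =>
      Or.inr (Or.inr ⟨x, c, z, Cl.self z, h.vz d, Commute.refl z, cm a.1 d, (h.vz a.1).symm, e, h.neg hS hn (h.vz (h.cc_z a).1)
        (p := 5) (by decide) (fun n hn => ((h.cc_z a).2 n hn).trans (ff_val n hn).2.1) fun n => b (by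
          simpa [mul_assoc, h.zz] using h.pt_z n)⟩)
    obtain ⟨y, -, e | e⟩ := h.cov3 ts (w := v * s) ⟨mul_mem a.1 (h.pt_V s2 rfl), h.ff_mul (h.vz a.1) s2.2.1 (by norm_num) (by norm_num)
      a.2 fun n hn => (s2.2.2.1 n hn).trans (ff_val n hn).2.2.1.symm⟩
    · exact k s s1 (h.pt_V s2 rfl) (e ▸ P.cj Cl.cj y)
    obtain ⟨u, u1, u2, rfl⟩ := h.cc_same (h.pt_cc t2) a
    obtain ⟨x, x1, -, -, x2⟩ := h.flip t2 u1 (by simpa using fun e => b (h.pt_mul t2 u1 e))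
    refine k _ (Cl.cj x s s1) (h.pt_V (h.pt_Q s2 x1) rfl) ?_
    have := (e ▸ P.cj Cl.cj y).cj Cl.cj x
    rwa [← conj_mul, ← conj_mul, x2, cz (h.cQ x1), mul_assoc _ z, (h.pt_Q s2 x1).2.1.eq, mul_assoc, mul_assoc _ z z, h.zz, mul_one] at this
  obtain ⟨y, y1, e | e⟩ := h.cov3 ts a
  · exact Or.inr (Or.inl (e ▸ P.cj Cl.cj y))
  have t3 := h.pt_Q t2 y1
  have s3 := h.pt_z (h.pt_Q s2 y1)
  obtain ⟨c, c1, c2, c3, c4⟩ := cy5 _ (Cl.cj y t t1) t3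
  have cV := (h.vQ c1).2 (c2 ▸ rfl)
  have e2 : v * (c * (y * t * y⁻¹)) = c * (y * s * y⁻¹ * z) := by
    have e3 : v = y * t * y⁻¹ * (y * s * y⁻¹ * z) := by rw [← mul_assoc, conj_mul, e, mul_assoc, h.zz, mul_one]
    rw [e3, ← c3.eq, (cm (h.pt_V t3 rfl) (h.pt_V s3 rfl)).eq,
      mul_assoc _ (y * t * y⁻¹), ← mul_assoc (y * t * y⁻¹), h.pt_sq t3, one_mul, (cm (h.pt_V s3 rfl) cV).eq]
  exact Or.inr (Or.inr ⟨z, Cl.self z, _, c4, Commute.refl z, (h.cQ c1).mul_right t3.2.1, (h.vz a.1).symm,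
    cm a.1 (mul_mem cV (h.pt_V t3 rfl)), e ▸ P.cj Cl.cj y, e2 ▸ h.neg hS hn ((h.cQ c1).mul_right s3.2.1) s3.1
      (fun n hn => (h.αl c1 s3.2.1 hn).trans (s3.2.2.1 n hn)) (h.not_pt s3 c1 (c2 ▸ rfl))⟩)

theorem loc1 (hG : Gen Q z α) : Loc1 (Cl z) z := by
  choose! π π1 π2 using fun t (a : t ∈ Dd (Cl z) z) => h.dpt hS hn a
  refine ⟨h.zz, h.ls.ne, ⟨π, π1, fun x a y b => h.cm_iff hS (π2 x a) (π2 y b), fun p hp => ?_⟩, fun x a y b => h.three hS hn a b,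
    h.cen hS hn hG, fun x a y b => ?_, ⟨Q, h.ls.isPGroup, h.ls.le_cent, h.ls.selfc⟩, fun x a => ⟨?_, fun y b w c e => ?_⟩,
    fun x a => h.odd hS hn a, ?_, fun v => h.bas hS hn⟩
  · have s := (c_chk.2.2.2.2.2 p hp).1
    rw [← h.d4 hS hn s]
    refine congrArg _ (Set.ext fun x => ⟨fun a => ⟨a.1.1, a.2 ▸ π2 x a.1⟩, fun a => ⟨h.ptd a.2 a.1, ?_⟩⟩)
    exact (e_chk.1 _ (π1 x (h.ptd a.2 a.1))).1 p hp fun n hn =>
      ((π2 x (h.ptd a.2 a.1)).2.2.1 n (b4 hn)).symm.trans (a.2.2.2.1 n (b4 hn))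
  · obtain ⟨g, g1, g2⟩ := h.tr1 (π2 x a).1
    obtain ⟨k, k1, k2⟩ := h.tr1 (π2 y b).1
    have x2 := g2 ▸ h.pt_conj (π2 x a) g1
    have y2 := k2 ▸ h.pt_conj (π2 y b) k1
    obtain ⟨u, u1, u2, e⟩ := h.pt_same x2 y2
    obtain ⟨w, w1, f⟩ := h.cov1 (h.pt_cc x2) u1 u2
    rw [← e] at f
    refine ⟨k⁻¹ * w * g, (k1.inv_right.mul_right (h.cQ w1)).mul_right g1, ?_⟩
    rw [← conj_conj', ← conj_conj', f.resolve_right fun f => (h.dz_iff hS hn y2).1 (Cl.cj k y b.1) (f ▸ Cl.cj w _ (Cl.cj g x a.1))]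
    group
  · exact a.2.2.eq ▸ (h.dz_iff hS hn (π2 x a)).1 a.1
  · exact h.tv3 (π2 y b).1 (π2 w c).1 (π2 x a).1 fun n hn => by
      rw [← (π2 w c).2.2.1 n hn, ← (π2 y b).2.2.1 _ ((h.un c.2.2).lt hn), ← h.αm b.2.2 c.2.2 hn, ← e, h.αl h.ls.mem a.2.2 hn,
        (π2 x a).2.2.1 n hn]
  · obtain ⟨x, x1, x2⟩ := h.dex hS hn (p := 5) (by decide)
    obtain ⟨y, y1, y2⟩ := h.dex hS hn (p := 6) (by decide)
    obtain ⟨w, w1, w2⟩ := h.dex hS hn (p := 17) (by decide)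
    have := h.pt_conj y2 x2.2.1
    rw [inv_eq_of_mul_eq_one_right (h.pt_sq x2), x2.2.2.1 6 (by norm_num)] at this
    exact ⟨x, x1, y, y1, w, w1, by rw [h.cm_iff hS x2 y2]; decide, by rw [h.cm_iff hS w2 x2]; decide,
      by rw [h.cm_iff hS w2 y2]; decide, by rw [h.cm_iff hS w2 this]; decide⟩

end F8

end Cfsg.Lib.Par
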