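import Cfsg.Agent.Lib.Known2.P6
import Cfsg.Agent.Lib.Known2.Glob
import Cfsg.Agent.Lib.Known2.F9
import Cfsg.Agent.Lib.Comp.ThreeTr
import Cfsg.Agent.Lib.Forms.Bridge
import Cfsg.Agent.S0280

/-! From the local structure to the unitary group of degree six. -/

set_option autoImplicit false
set_option synthInstance.maxSize 2000
set_option linter.unusedSectionVars false

namespace Cfsg.Lib.Par

open Subgroup Cfsg.Lib.Known2 Cfsg.Lib.Core Cfsg.Lib.Fi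

variable {G : Type*} [Group G] {D : Set G}

theorem ncard_mod2 [Finite G] {P : Subgroup G} (hP : IsPGroup 2 P) {S : Set G} (hS : ∀ g ∈ P, ∀ s ∈ S, g * s * g⁻¹ ∈ S) :
    S.ncard % 2 = {s | s ∈ S ∧ ∀ g ∈ P, Commute g s}.ncard % 2 := by
  let : MulAction P S :=
    { smul := fun g s => ⟨g * s * (g : G)⁻¹, hS _ g.2 _ s.2⟩
      one_smul := fun s => Subtype.ext (show (1 : G) * s * 1⁻¹ = s by group)
      mul_smul := fun a b s => Subtype.ext (show (a * b : G) * s * (a * b : G)⁻¹ = a * (b * s * (b : G)⁻¹) * (a : G)⁻¹ by group) }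
  have h := hP.card_modEq_card_fixedPoints S
  rw [← Set.ncard_image_of_injective _ Subtype.val_injective |>.trans (Nat.card_coe_set_eq _).symm] at h
  rw [← Nat.card_coe_set_eq S, h]
  congr 2
  ext s
  constructor
  · rintro ⟨s, hs, rfl⟩
    exact ⟨s.2, fun g hg => conj_eq_self_iff.1 (congrArg Subtype.val (hs ⟨g, hg⟩))⟩
  · exact fun hs => ⟨⟨s, hs.1⟩, fun g => Subtype.ext (conj_eq_self_iff.2 (hs.2 g g.2)), rfl⟩

theorem pp_chk : ∀ p ∈ PP, hz p p = true ∧ (∃ r ∈ PP, hz p r = false) ∧ (PP.filter fun r => hz p r && r != p).card = 12 ∧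
    ∀ q ∈ PP, ((∀ r ∈ PP, hz p r = true → hz q r = true) → p = q) ∧
      (hz p q = false → (PP.filter fun r => hz p r && hz q r).card = 3 ∧ ∃ r ∈ PP, (hz p r && r != p) = true ∧ hz r q = true) := by
  decide +kernel

structure LP (D : Set G) (a : G) (π : G → ℕ) : Prop where
  mem : ∀ x ∈ Dd D a, π x ∈ PP
  cm : ∀ x ∈ Dd D a, ∀ y ∈ Dd D a, Commute x y ↔ hz (π x) (π y) = true
  four : ∀ p ∈ PP, {x | x ∈ Dd D a ∧ π x = p}.ncard = 4

namespace LP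
variable {a x y : G} {π : G → ℕ} (h : LP D a π)
include h

theorem sur {p : ℕ} (hp : p ∈ PP) : ∃ x ∈ Dd D a, π x = p :=
  Set.nonempty_of_ncard_ne_zero (s := {x | x ∈ Dd D a ∧ π x = p}) (by rw [h.four p hp]; norm_num)

theorem other (hx : x ∈ Dd D a) : ∃ y ∈ Dd D a, y ≠ x ∧ π y = π x :=
  let ⟨y, b, c⟩ := Set.exists_ne_of_one_lt_ncard (s := {y | y ∈ Dd D a ∧ π y = π x}) (by rw [h.four _ (h.mem x hx)]; norm_num) x
  ⟨y, b.1, c, b.2⟩

theorem same (hx : x ∈ Dd D a) (hy : y ∈ Dd D a) (e : π x = π y) {w : G} (hw : w ∈ Dd D a) : Commute x w ↔ Commute y w := by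
  rw [h.cm x hx w hw, h.cm y hy w hw, e]

theorem comm (hx : x ∈ Dd D a) (hy : y ∈ Dd D a) (e : π x = π y) : Commute x y := (h.same hx hy e hy).2 (Commute.refl y)

theorem nc (hx : x ∈ Dd D a) : ∃ y ∈ Dd D a, ¬ Commute x y := by
  obtain ⟨r, r1, r2⟩ := (pp_chk _ (h.mem x hx)).2.1
  obtain ⟨y, b, rfl⟩ := h.sur r1
  exact ⟨y, b, by simp [h.cm x hx y b, r2]⟩

theorem cnt [Finite G] (S : Finset ℕ) (hS : S ⊆ PP) : {x | x ∈ Dd D a ∧ π x ∈ S}.ncard = 4 * S.card := by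
  induction S using Finset.induction_on with
  | empty => simp
  | insert p S hp ih =>
    rw [Finset.card_insert_of_notMem hp, mul_add, ← ih fun _ b => hS (Finset.mem_insert_of_mem b), mul_one,
      ← h.four p (hS (Finset.mem_insert_self p S)), ← Set.ncard_union_eq]
    · congr 1; ext x; simp only [Finset.mem_insert, Set.mem_union, Set.mem_ofPred_eq]; tauto
    · exact Set.disjoint_left.2 fun x b c => hp (c.2 ▸ b.2)

end LP

structure LocH (D : Set G) : Prop where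
  conj : ∀ g, ∀ a ∈ D, g * a * g⁻¹ ∈ D
  loc : ∀ a ∈ D, Loc1 D a

namespace LocH

variable [Finite G] (h : LocH D) {a : G} (ha : a ∈ D)
include h

theorem lp (ha : a ∈ D) : ∃ π, LP D a π := let ⟨π, a, b, c⟩ := (h.loc a ha).pt; ⟨π, a, b, c⟩

theorem sq (ha : a ∈ D) : a * a = 1 := (h.loc a ha).sq

theorem ne (ha : a ∈ D) : ∃ x, x ∈ Dd D a := let ⟨_, L⟩ := h.lp ha; (L.sur (p := 5) (by decide)).imp fun _ x => x.1

theorem inj {x y m n : G} {π : G → ℕ} (hy : y ∈ D) (L : LP D y π) (hx : x ∈ D) (hn : ¬ Commute x y) (m1 : m ∈ Dd D y)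
    (n1 : n ∈ Dd D y) (m2 : Commute x m) (n2 : Commute x n) (e : π m = π n) : m = n := by
  by_contra ne
  obtain ⟨ρ, R⟩ := h.lp m1.1
  have y1 := mem_Dd_comm hy m1
  have n3 : n ∈ Dd D m := ⟨n1.1, Ne.symm ne, L.comm m1 n1 e⟩
  have x1 : x ∈ Dd D m := ⟨hx, fun e => hn (e ▸ y1.2.2), m2.symm⟩
  refine hn ((R.same y1 n3 (((pp_chk _ (R.mem y y1)).2.2.2 _ (R.mem n n3)).1 fun r r1 r2 => ?_) x1).2 n2.symm).symm
  obtain ⟨w, w1, rfl⟩ := R.sur r1
  have c := (R.cm y y1 w w1).2 r2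
  refine (R.cm n n3 w w1).1 ?_
  by_cases f : w = y
  · exact f ▸ n1.2.2.symm
  exact (L.same m1 n1 e ⟨w1.1, f, c⟩).1 w1.2.2

theorem dia {x y w v : G} (hx : x ∈ D) (hy : y ∈ D) (hn : ¬ Commute x y) (hw : w ∈ Dd D y) (c : Commute x w) (hv : v ∈ Dd D y) :
    ∃ z ∈ Dd D y, Commute x z ∧ Commute z v := by
  by_cases d : Commute w v
  · exact ⟨w, hw, c, d⟩
  obtain ⟨π, L⟩ := h.lp hy
  obtain ⟨ρ, R⟩ := h.lp hw.1
  have y1 := mem_Dd_comm hy hw
  have x1 : x ∈ Dd D w := ⟨hx, fun e => hn (e ▸ y1.2.2), c.symm⟩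
  have k := R.cnt _ (Finset.filter_subset (fun r => hz (ρ x) r && hz (ρ y) r) PP)
  rw [(((pp_chk _ (R.mem x x1)).2.2.2 _ (R.mem y y1)).2 (by simpa using mt (R.cm x x1 y y1).2 hn)).1] at k
  have m : ∀ m ∈ {m | m ∈ Dd D w ∧ ρ m ∈ PP.filter fun r => hz (ρ x) r && hz (ρ y) r}, m ∈ Dd D w ∧ m ∈ Dd D y ∧ Commute x m :=
    fun m b => by
      have := (Finset.mem_filter.1 b.2).2
      rw [Bool.and_eq_true, ← R.cm x x1 m b.1, ← R.cm y y1 m b.1] at this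
      exact ⟨b.1, ⟨b.1.1, fun e => hn (e ▸ this.1), this.2⟩, this.1⟩
  generalize {m | m ∈ Dd D w ∧ ρ m ∈ PP.filter fun r => hz (ρ x) r && hz (ρ y) r} = M at k m
  have e : π '' M = ↑(PP.filter fun r => hz (π w) r && r != π w) := Set.eq_of_subset_of_ncard_le (by
      rintro _ ⟨n, b, rfl⟩
      obtain ⟨b1, b2, b3⟩ := m n b
      simpa using ⟨L.mem n b2, (L.cm w hw n b2).1 b1.2.2, fun e => b1.2.1 (h.inj hy L hx hn b2 hw b3 c e)⟩) (by
    rw [Set.InjOn.ncard_image fun n b n' b' => h.inj hy L hx hn (m n b).2.1 (m n' b').2.1 (m n b).2.2 (m n' b').2.2, k,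
      Set.ncard_coe_finset, (pp_chk _ (L.mem w hw)).2.2.1])
  obtain ⟨r, r1, r2, r3⟩ := (((pp_chk _ (L.mem w hw)).2.2.2 _ (L.mem v hv)).2 (by simpa using mt (L.cm w hw v hv).2 d)).2
  obtain ⟨n, b, rfl⟩ : r ∈ π '' M := e ▸ Finset.mem_filter.2 ⟨r1, r2⟩
  exact ⟨n, (m n b).2.1, (m n b).2.2, (L.cm n (m n b).2.1 v hv).2 r3⟩

theorem step {b v : G} (ha : a ∈ D) (hb : b ∈ Cm D a) (hv : v ∈ D) (hc : Commute b v) : v ∈ Cm D a := by
  by_cases c : Commute a b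
  · exact ⟨hv, b, hb.1, c, hc⟩
  by_cases e : v = b
  · exact e ▸ hb
  obtain ⟨w, a1, a2, a3⟩ := hb.2
  obtain ⟨z, b1, b2⟩ := h.dia ha hb.1 c ⟨a1, fun e => c (e ▸ a2), a3.symm⟩ a2 ⟨hv, e, hc⟩
  exact ⟨hv, z, b1.1, b2⟩

include ha

theorem eq {b : G} (hb : b ∈ Cm D a) : Cm D b = Cm D a :=
  have k : ∀ {a b}, a ∈ D → b ∈ Cm D a → Cm D b ⊆ Cm D a := fun ha hb _ ⟨a1, _, a2, a3, a4⟩ =>
    h.step ha (h.step ha hb a2 a3) a1 a4
  (k ha hb).antisymm (k hb.1 (Cm.symm ha hb))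

theorem dd {b : G} (hb : b ∈ Cm D a) : Dd (Cm D a) b = Dd D b :=
  Set.ext fun _ => ⟨fun x => ⟨x.1.1, x.2⟩, fun x => ⟨h.step ha hb x.1 x.2.2, x.2⟩⟩

theorem ord : orderOf a = 2 := orderOf_eq_prime ((_root_.sq a).trans (h.sq ha)) (h.loc a ha).ne

theorem common {x y : G} (hx : x ∈ Cm D a) (hy : y ∈ Cm D a) (n : x ≠ y) : ∃ w ∈ Cm D a, x ∈ Dd D w ∧ y ∈ Dd D w := by
  by_cases c : Commute x y
  · obtain ⟨π, L⟩ := h.lp hx.1
    obtain ⟨w, a1, a2, a3⟩ := L.other ⟨hy.1, n.symm, c⟩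
    exact ⟨w, h.step ha hx a1.1 a1.2.2, mem_Dd_comm hx.1 a1, hy.1, a2.symm, L.comm a1 ⟨hy.1, n.symm, c⟩ a3⟩
  obtain ⟨w, a1, a2, a3⟩ := (h.eq ha hx ▸ hy :).2
  exact ⟨w, h.step ha hx a1 a2, mem_Dd_of_nc hx.1 c a2 a3, mem_Dd_of_nc hy.1 (fun e => c e.symm) a3.symm a2.symm⟩

theorem tt : Known2.TT (Cm D a) := by
  refine ⟨⟨fun x hx => h.ord hx.1, fun x hx y hy => ?_⟩, fun x hx y hy => ?_⟩ <;> by_cases n : Commute x y
  · left; rw [n.mul_pow, _root_.sq, _root_.sq, h.sq hx.1, h.sq hy.1, mul_one]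
  · obtain ⟨w, a1, a2, a3⟩ := h.common ha hx hy fun e => n (e ▸ Commute.refl x)
    exact Or.inr ((h.loc w a1.1).three x a2 y a3 n)
  · rwa [n.eq, mul_assoc, h.sq hx.1, mul_one]
  · obtain ⟨w, a1, a2, a3⟩ := h.common ha hx hy fun e => n (e ▸ Commute.refl x)
    exact h.step ha a1 (by simpa only [inv_eq_of_mul_eq_one_right (h.sq hx.1)] using h.conj x y hy.1) ((a2.2.2.mul_right a3.2.2).mul_right a2.2.2)

theorem vw : VW (Cm D a) := by
  have dd : ∀ x ∈ Cm D a, ∃ w, w ∈ Dd (Cm D a) x := fun x hx => h.dd ha hx ▸ h.ne hx.1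
  refine ⟨h.tt ha, ⟨a, Cm.self ha⟩, fun x hx y hy e => by_contra fun n => ?_, fun x hx y hy e => by_contra fun n => ?_,
    fun x hx => ?_, dd⟩
  · obtain ⟨π, L⟩ := h.lp hx.1
    obtain ⟨z, a1, a2⟩ := L.nc ⟨hy.1, Ne.symm n, e.commute hy⟩
    exact a2 ((e z (h.step ha hx a1.1 a1.2.2)).1 a1.2.2)
  · rw [RW, h.dd ha hx, h.dd ha hy] at e
    obtain ⟨w, a1, a2, a3⟩ := h.common ha hx hy n
    obtain ⟨π, L⟩ := h.lp a1.1
    obtain ⟨m, b1, b2, b3⟩ := L.other a2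
    have c := ((L.same b1 a2 b3 a3).1 (e ▸ (⟨b1.1, b2, L.comm a2 b1 b3.symm⟩ : m ∈ Dd D x) : m ∈ Dd D y).2.2.symm)
    exact (e ▸ (⟨hy.1, Ne.symm n, c⟩ : y ∈ Dd D x) : y ∈ Dd D y).2.1 rfl
  · obtain ⟨w, hw⟩ := h.ne hx.1
    obtain ⟨π, L⟩ := h.lp hw.1
    obtain ⟨z, a1, a2⟩ := L.nc (mem_Dd_comm hx.1 hw)
    exact ⟨z, h.step ha (h.step ha hx hw.1 hw.2.2) a1.1 a1.2.2, a2⟩

theorem sub {w : G} (hw : w ∈ Cm D a) {g : G} (hg : Commute w g) : g ∈ closure (Cm D a) :=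
  closure_mono (h.dd ha hw ▸ Dd_subset _ w) ((h.loc w hw.1).cen (mem_centralizer_singleton_iff.2 hg.symm))

theorem tr {x y : G} (hx : x ∈ Cm D a) (hy : y ∈ Cm D a) : ∃ g ∈ closure (Cm D a), g * x * g⁻¹ = y := by
  by_cases e : x = y
  · exact ⟨1, one_mem _, by simp [e]⟩
  obtain ⟨w, a1, a2, a3⟩ := h.common ha hx hy e
  obtain ⟨g, b1, b2⟩ := (h.loc w a1.1).tr x a2 y a3
  exact ⟨g, h.sub ha a1 b1, b2⟩

theorem r3 : R3 (Cm D a) := R3.of_vw (h.vw ha) (fun _ hx _ => h.tr ha hx) fun x hx _ hy n =>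
  let ⟨w, a1, a2, a3⟩ := h.common ha hx hy fun e => n (e ▸ Commute.refl x); ⟨w, a1, a2.2.2.symm, a3.2.2⟩

theorem mem_of_conj {g : G} (hg : g * a * g⁻¹ ∈ Cm D a) : g ∈ closure (Cm D a) := by
  obtain ⟨x, a1, a2⟩ := h.tr ha (Cm.self ha) hg
  refine (mul_mem_cancel_left (inv_mem a1)).1 (h.sub ha (Cm.self ha) (Commute.symm ?_))
  calc _ = x⁻¹ * (g * a * g⁻¹) * g := by group
    _ = _ := by rw [← a2]; group

theorem pair_unique {x y z : G} (hx : x ∈ Dd D a) (hy : y ∈ Cm D a) (hz : z ∈ Dd D y) (e : a * x = y * z) : y = a ∨ y = x := by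
  have T := h.tt ha
  have x1 := h.step ha (Cm.self ha) hx.1 hx.2.2
  have k1 := fun {e} he => T.commute_mul_iff (e := e) (Cm.self ha) x1 he hx.2.1.symm hx.2.2
  have c := (k1 hy).1 (e ▸ (Commute.refl y).mul_right hz.2.2)
  have d := (k1 (h.step ha hy hz.1 hz.2.2)).1 (e ▸ hz.2.2.symm.mul_right (Commute.refl z))
  refine or_iff_not_imp_left.2 fun n => by_contra fun m => ((h.loc a ha).pu x hx).2 y ⟨hy.1, n, c.1.symm⟩ z
    ⟨hz.1, fun f => m ?_, d.1.symm⟩ e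
  rw [f, c.1.eq] at e
  exact (mul_left_cancel e).symm

theorem nrm {g : G} (hg : g * a * g⁻¹ ∈ Cm D a) {x : G} (hx : x ∈ Cm D a) : g * x * g⁻¹ ∈ Cm D a := by
  obtain ⟨w, a1, a2, a3⟩ := hx.2
  exact h.eq ha hg ▸ ⟨h.conj g x hx.1, _, h.conj g w a1, commute_conj_conj_iff.2 a2, commute_conj_conj_iff.2 a3⟩

theorem oddc : (Cm D a).ncard % 2 = 1 := by
  obtain ⟨P, a1, a2, a3⟩ := (h.loc a ha).two
  have c : ∀ g ∈ P, Commute g a := fun g hg => mem_centralizer_singleton_iff.1 (a2 hg)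
  rw [ncard_mod2 a1 fun g hg s => h.nrm ha ((conj_eq_self_iff.2 (c g hg)).symm ▸ Cm.self ha), show {s | s ∈ Cm D a ∧ _} = {a} from
    Set.ext fun s => ⟨fun b => (a3 s fun y hy => (b.2 y hy).symm).resolve_left (h.loc s b.1.1).ne, fun (b : s = a) => by rw [b]; exact ⟨Cm.self ha, c⟩⟩,
    Set.ncard_singleton]

theorem fix {e : G} (he : e * e = 1) (hg : e * a * e⁻¹ ∈ Cm D a) : ∃ b ∈ Cm D a, Commute e b := by
  have k := ncard_mod2 (P := zpowers e) (pg_of_sq ?_) (S := Cm D a) fun g hg' s => ?_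
  · rw [h.oddc ha] at k
    obtain ⟨b, b1, b2⟩ := Set.nonempty_of_ncard_ne_zero (fun e => by rw [e] at k; omega)
    exact ⟨b, b1, b2 e (mem_zpowers e)⟩
  · rintro _ ⟨n, rfl⟩
    rw [← (Commute.refl e).mul_zpow, he, one_zpow]
  · exact (h.tt ha).conj_mem (zpowers_le.2 (h.mem_of_conj ha hg) hg')

theorem mem_of_fix {e : G} (he : e ∈ D) (hg : e * a * e⁻¹ ∈ Cm D a) : e ∈ Cm D a :=
  let ⟨_, b1, b2⟩ := h.fix ha (h.sq he) hg; h.step ha b1 he b2.symm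

theorem fix_of_comm {x g : G} (hx : x ∈ Dd D a) (hg : Commute g (a * x)) : g * a * g⁻¹ ∈ Cm D a := by
  have x1 := h.step ha (Cm.self ha) hx.1 hx.2.2
  have ax : a * (a * x) = x := by rw [← mul_assoc, h.sq ha, one_mul]
  obtain ⟨l, l4, l2, l3⟩ : ∃ l : List G, (∀ y ∈ l, y ∈ Cm D a ∧ y ∈ centralizer {a * x}) ∧ l.prod = 1 ∧ Odd l.length := by
    obtain ⟨y, y1, w, w1, v, v1, c1, c2, c3, e⟩ := (h.loc a ha).odd x hx
    have k : ∀ y ∈ D, Commute a y → Commute x y → y ∈ Cm D a ∧ y ∈ centralizer {a * x} := fun y b c d =>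
      ⟨h.step ha (Cm.self ha) b c, mem_centralizer_singleton_iff.2 (c.mul_left d).symm⟩
    refine ⟨[a, x, y, w, v], by simpa only [List.forall_mem_cons, List.not_mem_nil, false_imp_iff, implies_true, and_true] using
      ⟨k a ha (Commute.refl a) hx.2.2.symm, k x hx.1 hx.2.2 (Commute.refl x), k y y1.1 y1.2.2 c1, k w w1.1 w1.2.2 c2,
        k v v1.1 v1.2.2 c3⟩, by simpa [mul_assoc] using e, ⟨2, rfl⟩⟩
  have o : orderOf (a * x) = 2 := orderOf_eq_prime ((_root_.sq _).trans ((h.tt ha).sq_mul' (Cm.self ha) x1 hx.2.2)) fun e =>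
    hx.2.1 (by rw [← ax, e, mul_one])
  have c1 : Commute a (a * x) := (Commute.refl a).mul_right hx.2.2
  generalize a * x = u at *
  have : ((zpowers u).subgroupOf (centralizer {u})).Normal := normal_subgroupOf_of_le_normalizer (by
    rw [← Core.centralizer_zpowers]; exact centralizer_le_normalizer _)
  have V := cov_mk o
  generalize QuotientGroup.mk' ((zpowers u).subgroupOf (centralizer {u})) = π at V
  set S : Set (centralizer {u}) := {y | (y : G) ∈ D ∧ y * u ∈ D}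
  have u1 : u ≠ 1 := fun e => by simp [e] at o
  have dd : ∀ y ∈ S, y * u ∈ Dd D y := fun y hy =>
    ⟨hy.2, by simpa using u1, (Commute.refl _).mul_right (mem_centralizer_singleton_iff.1 y.2)⟩
  have eq : ∀ y ∈ S, ∀ z : centralizer {u}, π z = π y → (z : G) ∈ Cm D y := fun y hy z e => by
    rcases V.eq_iff.1 e with rfl | rfl
    exacts [Cm.self hy.1, h.step hy.1 (Cm.self hy.1) hy.2 (dd y hy).2.2]
  have fx : ∀ y ∈ S, ∀ e : centralizer {u}, (e : G) ∈ D → Commute (π e) (π y) → (e : G) ∈ Cm D y := fun y hy e he c =>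
    h.mem_of_fix hy.1 he (eq y hy (e * y * e⁻¹) (by simpa using conj_eq_self_iff.2 c))
  have un : ∀ y ∈ S, ∀ z ∈ S, (z : G) ∈ Cm D y → π z = π y := fun y hy z hz m => V.eq_iff.2 ((h.pair_unique hy.1 (dd y hy) m
    (dd z hz) (by rw [← mul_assoc, ← mul_assoc, h.sq hy.1, h.sq hz.1])).imp Subtype.ext Subtype.ext)
  have cj' : ∀ g, ∀ y ∈ S, g * y * g⁻¹ ∈ S := fun g y hy => ⟨h.conj g y hy.1, by
    convert h.conj g _ hy.2 using 1
    simp only [coe_mul, coe_inv, mul_assoc, mem_centralizer_singleton_iff.1 (inv_mem g.2)]⟩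
  let a' : centralizer {u} := ⟨a, mem_centralizer_singleton_iff.2 c1⟩
  have a1 : a' ∈ S := ⟨ha, ax ▸ hx.1⟩
  have y1 := cj' ⟨g, mem_centralizer_singleton_iff.2 hg⟩ a' a1
  refine eq a' a1 (⟨g, mem_centralizer_singleton_iff.2 hg⟩ * a' * (⟨g, mem_centralizer_singleton_iff.2 hg⟩)⁻¹) ?_
  generalize (⟨g, mem_centralizer_singleton_iff.2 hg⟩ : centralizer {u}) * a' * _ = y at y1
  have k : ∀ L : List (centralizer {u}), (∀ e ∈ L, (e : G) ∈ Cm D a) → ∀ y ∈ S,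
      π L.prod * π y * (π L.prod)⁻¹ = π a' ^ L.length * π y * (π a' ^ L.length)⁻¹ := fun L hL => by
    induction L with
    | nil => simp
    | cons e L ih =>
      intro y hy
      have := midpoint (D := π '' S) (by rintro _ ⟨y, a, rfl⟩; rw [← map_mul, show y * y = 1 from Subtype.ext (h.sq a.1), map_one])
        (by rintro g _ ⟨y, a, rfl⟩; obtain ⟨g, rfl⟩ := V.surj g; exact ⟨_, cj' g y a, by simp⟩)
        (by rintro _ ⟨y, a, rfl⟩ _ ⟨z, b, rfl⟩ c; exact un z b y a (fx z b y a.1 c)) (e := π e) (x := π a')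
        (by rw [← map_mul, show e * e = 1 from Subtype.ext (h.sq (hL e List.mem_cons_self).1), map_one])
        (by
          rintro _ ⟨s, b, rfl⟩ c
          exact un a' a1 s b (h.eq ha (hL e List.mem_cons_self) ▸ Cm.symm b.1 (fx s b e (hL e List.mem_cons_self).1 c)))
        ⟨_, cj' (a' ^ L.length) y hy, rfl⟩
      rw [map_mul, map_mul, map_inv, map_pow] at this
      rw [List.prod_cons, map_mul, ← conj_conj', ih (fun e he => hL e (List.mem_cons_of_mem _ he)) y hy, this, List.length_cons,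
        pow_succ', conj_conj']
  lift l to List (centralizer {u}) using fun x hx => (l4 x hx).2 with L
  have := k L (fun e he => (l4 _ (List.mem_map_of_mem he)).1) y y1
  rw [show L.prod = 1 from Subtype.ext ((val_list_prod _ L).trans l2)] at this
  obtain ⟨n, e⟩ := List.length_map Subtype.val ▸ l3
  rw [e, pow_succ, pow_mul, _root_.sq, ← map_mul π a', show a' * a' = 1 from Subtype.ext (h.sq ha)] at this
  exact un a' a1 y y1 (fx a' a1 y y1.1 (conj_eq_self_iff.1 (by simpa using this.symm)).symm)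

theorem mem_of_comm {x e : G} (hx : x ∈ Dd D a) (he : e ∈ D) (hg : Commute e (a * x)) : e ∈ Cm D a :=
  h.mem_of_fix ha he (h.fix_of_comm ha hx hg)

theorem odd {e : G} (he : e ∈ D) (n : e ∉ Cm D a) : ∃ m : ℕ, (a * e) ^ m * e * ((a * e) ^ m)⁻¹ = a :=
  (dih (h.sq ha) (h.sq he)).resolve_right fun ⟨m, a1, _, a3, a4, a5⟩ => n (h.mem_of_comm ha (x := a * (a * e) ^ (m + 1))
    ⟨a5 ▸ palindrome_mem (fun _ => h.sq) h.conj m a ha e he, by simpa using a1, (Commute.refl a).mul_right a3⟩ he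
    (by rwa [← mul_assoc, h.sq ha, one_mul]))

theorem all : Cm D a = D := by
  refine Set.Subset.antisymm (fun _ x => x.1) fun w hw => by_contra fun n => ?_
  obtain ⟨x, hx⟩ := h.ne ha
  have x1 := h.step ha (Cm.self ha) hx.1 hx.2.2
  rcases dih (h.sq hw) ((h.tt ha).sq_mul' (Cm.self ha) x1 hx.2.2) with ⟨m, e⟩ | ⟨m, u1, u2, u3, u4, -⟩
  · exact ((h.loc a ha).pu x hx).1 ((conj_mem_iff h.conj).1 (e ▸ hw))
  generalize (w * (a * x)) ^ (m + 1) = u at *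
  obtain ⟨b, b1, b2⟩ := h.fix ha u2 (h.fix_of_comm ha hx u4.symm)
  rw [← h.eq ha b1] at n
  have k : ∀ p ∈ D, ∀ q ∈ Dd D p, Commute b (p * q) → Cm D b = Cm D p := fun p p1 q q1 c => h.eq p1 (h.mem_of_comm p1 q1 b1.1 c)
  rcases (h.loc b b1.1).bas u b2.symm u2 u1 with c | ⟨p, p1, q, q1, c1, c2, rfl⟩ | ⟨x, x1, y, y1, c1, c2, c3, c4, c5, c6⟩
  · exact n ⟨hw, u, c, b2.symm, u3.symm⟩
  · exact n (k p p1 q ⟨q1, c1.symm, c2⟩ b2.symm ▸ h.mem_of_comm p1 ⟨q1, c1.symm, c2⟩ hw u3)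
  have k2 : ∀ x ∈ D, Commute b x → Commute u x → ∃ g, Commute g u ∧ g * x * g⁻¹ = w := fun x x1 c d => by
    obtain ⟨j, e⟩ := h.odd hw x1 fun a => n (h.eq b1.1 (h.step b1.1 (Cm.self b1.1) x1 c) ▸ Cm.symm hw a)
    exact ⟨_, (u3.mul_left d.symm).pow_left j, e⟩
  obtain ⟨g, g1, g2⟩ := k2 x x1 c1 c3
  obtain ⟨f, f1, f2⟩ := k2 y y1 c2 c4
  obtain ⟨p, p1, q, q1, d1, d2, e⟩ := c5.cj h.conj (f⁻¹ * g)
  rw [← conj_mul, (f1.inv_left.mul_left g1).eq, mul_inv_cancel_right, ← conj_conj', g2, ← f2,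
    show f⁻¹ * (f * y * f⁻¹) * f⁻¹⁻¹ = y by group] at e
  have c : Commute b (p * q) := e ▸ b2.symm.mul_right c2
  have := ((h.tt p1).commute_mul_iff (Cm.self p1) (h.step p1 (Cm.self p1) q1 d2) (h.mem_of_comm p1 ⟨q1, d1.symm, d2⟩ b1.1 c) d1 d2).1 c
  exact c6 p p1 q q1 this.1 this.2 e

theorem final : R3 D ∧ closure D = ⊤ ∧ Subgroup.center G = ⊥ := by
  have e := h.all ha
  obtain ⟨y, -, a2⟩ := (h.vw ha).nc a (Cm.self ha)
  obtain ⟨P, -, -, a3⟩ := (h.loc a ha).two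
  exact ⟨e ▸ h.r3 ha, eq_top_iff.2 fun g _ => e ▸ h.mem_of_conj ha (e.symm ▸ h.conj g a ha), (eq_bot_iff_forall _).2 fun z hz =>
    (a3 z fun y _ => (mem_center_iff.1 hz y).symm).resolve_right fun e => a2 (e ▸ (mem_center_iff.1 hz y).symm)⟩

end LocH

theorem map_mem_su' {F K : Type*} [Field F] [Field K] {n q : ℕ} (f : F ≃+* K) {g : Matrix.SpecialLinearGroup (Fin n) F}
    (hg : g ∈ SU n F q) : Linear.slMapEquiv (Fin n) f g ∈ SU n K q := fun u v => by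
  have := congrArg f (hg (f.symm ∘ u) (f.symm ∘ v))
  simpa [hermForm, Matrix.mulVec, dotProduct, slToMat] using this

def psuMap' {F K : Type*} [Field F] [Field K] (n q : ℕ) (f : F ≃+* K) : PSU n F q ≃* PSU n K q :=
  Linear.quotientCenterCongr (Forms.subgroupEquivOfIff (Linear.slMapEquiv (Fin n) f) _ _ fun g =>
    ⟨map_mem_su' f, fun h => (Linear.slMapEquiv (Fin n) f).symm_apply_apply g ▸ map_mem_su' f.symm h⟩)

theorem two_pow_eq {a b i j : ℕ} (ha : Odd a) (hb : Odd b) (e : 2 ^ i * a = 2 ^ j * b) : i = j :=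
  have k : ∀ {a b i j : ℕ}, Odd b → 2 ^ i * a = 2 ^ j * b → i ≤ j := fun hb e => (Nat.pow_dvd_pow_iff_le_right one_lt_two).1
    ((Nat.Coprime.pow_left _ (Nat.coprime_two_left.2 hb)).dvd_of_dvd_mul_right (e ▸ dvd_mul_right _ _))
  (k hb e).antisymm (k ha e.symm)

theorem LocH.psu [Finite G] {z : G} (h : LocH (Cl z)) (hc : Nat.card (centralizer {z}) = 512 * 25920) {K : Type*} [Field K] [Fintype K]
    (hK : Fintype.card K = 4) : Nonempty (G ≃* PSU 6 K 2) := by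
  obtain ⟨R, a1, a2⟩ := h.final (Cl.self z)
  obtain ⟨π, L⟩ := h.lp (Cl.self z)
  obtain ⟨y, y1⟩ := h.ne (Cl.self z)
  obtain ⟨w, w1, w2, w3⟩ := L.other y1
  rcases R.v_cases (Cl.self z) w1 y1 w2 fun e he => L.same w1 y1 w3 he with ⟨_, _, _, S, -⟩ | ⟨n, hn, T⟩
  · obtain ⟨x, x1, y, y1, w, w1, c1, c2, c3, c4⟩ := (h.loc z (Cl.self z)).ns
    exact absurd (S.symp x x1 y y1 w w1 c1 c2 c3) c4
  obtain ⟨F, _, _, hF, e, -⟩ := T.iso hn a1 a2
  have o := h.oddc (Cl.self z)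
  rw [h.all (Cl.self z), show Cl z = conjugatesOf z from Set.ext fun x => isConj_iff.symm, ← Nat.card_coe_set_eq,
    Comp.card_conjugatesOf, ← Nat.odd_iff] at o
  have k := Cfsg.Agent.S0280.result (q := 2) hF n (by omega)
  rw [← Nat.card_congr e.toEquiv, ← (centralizer {z}).card_mul_index, hc] at k
  have := two_pow_eq (i := 15) (((Odd.of_dvd_nat (by decide) (Nat.gcd_dvd_right n (2 + 1))).mul (by decide : Odd 1215)).mul o)
    (Finset.prod_induction _ Odd (fun _ _ => Odd.mul) odd_one fun i _ => ?_) (Eq.trans (by ring) k)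
  · obtain rfl : n = 6 := by
      rcases lt_trichotomy n 6 with c | c | c
      · interval_cases n <;> simp at this
      · exact c
      · have : 7 * 6 ≤ n * (n - 1) := Nat.mul_le_mul c (by omega)
        omega
    exact ⟨e.trans (psuMap' 6 2 (FiniteField.ringEquivOfCardEq (hF.trans hK.symm)))⟩
  have : Even (2 ^ (i + 1)) := even_two.pow_of_ne_zero (by omega)
  split_ifs
  exacts [this.add_one, Nat.Even.sub_odd Nat.one_le_two_pow this odd_one]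

end Cfsg.Lib.Par
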