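import Cfsg.Agent.Lib.Known2.P6

/-! Quadratic modules of order 256 for `U₄(2)`: the frame. -/

set_option autoImplicit false
set_option synthInstance.maxSize 2000
set_option linter.unusedSectionVars false

namespace Cfsg.Lib.Par

open Subgroup
open Cfsg.Lib.Comp (force force_eq)

variable {Γ V : Type*} [Group Γ] [AddCommGroup V] [DistribMulAction Γ V]

structure QM (Γ : Type*) [Group Γ] [DistribMulAction Γ V] (q : V → Bool) (B : V → V → Bool) : Prop where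
  card : Nat.card V = 256
  two : ∀ v : V, v + v = 0
  inv : ∀ (g : Γ) v, q (g • v) = q v
  qa : ∀ v w, q (v + w) = xor (xor (q v) (q w)) (B v w)
  ba : ∀ u v w, B u (v + w) = xor (B u v) (B u w)
  nd : ∀ v, (∀ w, B v w = false) → v = 0
  faith : ∀ g : Γ, (∀ v : V, g • v = v) → g = 1

structure MD (a₁ a₂ a₃ a₄ c d g k : Γ) : Prop where
  cube : a₁ * a₁ * a₁ = 1
  c3 : c * c * c = 1
  ne : a₁ ≠ 1
  c1 : c * a₁ * c⁻¹ = a₁
  c2 : c * a₂ * c⁻¹ = a₃
  c3' : c * a₃ * c⁻¹ = a₄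
  c4 : c * a₄ * c⁻¹ = a₂
  d1 : d * a₁ * d⁻¹ = a₂
  d2 : d * a₂ * d⁻¹ = a₃
  d3 : d * a₃ * d⁻¹ = a₁
  d4 : d * a₄ * d⁻¹ = a₄
  m12 : a₂ * a₁ = a₁ * a₂
  m13 : a₃ * a₁ = a₁ * a₃
  m14 : a₄ * a₁ = a₁ * a₄
  m23 : a₃ * a₂ = a₂ * a₃
  m24 : a₄ * a₂ = a₂ * a₄
  m34 : a₄ * a₃ = a₃ * a₄
  prod : a₂ * a₃ * a₄ * a₁ = 1
  b3 : a₂ * a₃⁻¹ * (a₂ * a₃⁻¹) * (a₂ * a₃⁻¹) = 1
  ba : a₂ * a₃⁻¹ * a₁ = a₁ * (a₂ * a₃⁻¹)
  cb : c * (a₂ * a₃⁻¹) = a₂ * a₃⁻¹ * a₁ * c
  g1 : g * a₁ * g⁻¹ = a₃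
  g2 : g * a₂ * g⁻¹ * a₁ ≠ a₁ * (g * a₂ * g⁻¹)
  k1 : k * a₁ * k⁻¹ = a₁
  k2 : k * a₂ * k⁻¹ * a₂ ≠ a₂ * (k * a₂ * k⁻¹)
  gen : ∀ K : Subgroup Γ, a₁ ∈ K → a₂ ∈ K → a₃ ∈ K → g * a₂ * g⁻¹ ∈ K → k * a₂ * k⁻¹ ∈ K → ∀ x, x ∈ K

def Fx (a : Γ) (x y : V) : Prop := a • x = x ∧ a • y = y
def Rt (a : Γ) (x y : V) : Prop := a • x = y ∧ a • y = x + y
theorem Fx.cj {a b : Γ} {x y : V} (h : Fx a x y) (g : Γ) (e : g * a * g⁻¹ = b) : Fx b (g • x) (g • y) := by
  subst e; exact ⟨by simp [mul_smul, h.1], by simp [mul_smul, h.2]⟩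
theorem Rt.cj {a b : Γ} {x y : V} (h : Rt a x y) (g : Γ) (e : g * a * g⁻¹ = b) : Rt b (g • x) (g • y) := by
  subst e; exact ⟨by simp [mul_smul, h.1], by simp [mul_smul, h.2]⟩

def pl (x y : V) (n : ℕ) : V := (bif n.testBit 0 then x else 0) + (bif n.testBit 1 then y else 0)
def fxb (m n : ℕ) : Bool := m.testBit 0 == n.testBit 0 && m.testBit 1 == n.testBit 1
def rtb (m n : ℕ) : Bool := m.testBit 0 == n.testBit 1 && m.testBit 1 == xor (n.testBit 0) (n.testBit 1)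
def nzb (n : ℕ) : Bool := n.testBit 0 || n.testBit 1

theorem Fx.pl {a : Γ} {x y : V} (h : Fx a x y) {m n : ℕ} (e : fxb m n = true) : a • pl x y n = pl x y m := by
  simp only [fxb, Bool.and_eq_true, beq_iff_eq] at e
  rw [Par.pl, Par.pl, e.1, e.2]
  cases n.testBit 0 <;> cases n.testBit 1 <;> simp [h.1, h.2]

theorem fr_chk : ∀ n < 256, q8 n = xor (nzb n) (xor (nzb (n >>> 2)) (xor (nzb (n >>> 4)) (nzb (n >>> 6)))) ∧
    (fxb (rf 1 n) n && rtb (rf 1 n >>> 2) (n >>> 2) && rtb (rf 1 n >>> 4) (n >>> 4) && rtb (rf 1 n >>> 6) (n >>> 6)) = true ∧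
    (rtb (rf 4 n) n && fxb (rf 4 n >>> 2) (n >>> 2) && rtb (rf 4 n >>> 4) (n >>> 4) && rtb (rf 4 n >>> 6) (n >>> 6)) = true ∧
    (rtb (rf 16 n) n && rtb (rf 16 n >>> 2) (n >>> 2) && fxb (rf 16 n >>> 4) (n >>> 4) && rtb (rf 16 n >>> 6) (n >>> 6)) = true ∧
    (rtb (rf 64 n) n && rtb (rf 64 n >>> 2) (n >>> 2) && rtb (rf 64 n >>> 4) (n >>> 4) && fxb (rf 64 n >>> 6) (n >>> 6)) = true := by
  decide +kernel

namespace QM
variable {q : V → Bool} {B : V → V → Bool} (h : QM Γ q B)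
include h

theorem fin : Finite V := Nat.finite_of_card_ne_zero (by rw [h.card]; norm_num)
theorem c2 (x y : V) : x + (x + y) = y := by rw [← add_assoc, h.two, zero_add]
theorem eq0 {x y : V} : x + y = 0 ↔ x = y := ⟨fun e => by rw [← h.c2 x y, e, add_zero], fun e => e ▸ h.two x⟩
theorem bs (v w : V) : B v w = B w v := by
  have := h.qa v w
  rw [add_comm, h.qa] at this
  revert this; cases q v <;> cases q w <;> simp [eq_comm]
theorem bi (g : Γ) (v w : V) : B (g • v) (g • w) = B v w := by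
  have := h.qa (g • v) (g • w)
  rw [← smul_add, h.inv, h.inv, h.inv, h.qa] at this
  revert this; cases q v <;> cases q w <;> simp [eq_comm]
theorem b0 (v : V) : B v 0 = false := by simpa using h.ba v 0 0
theorem q0 : q 0 = false := by simpa [h.b0] using h.qa 0 0
theorem bb (v : V) : B v v = false := by simpa [h.two, h.q0] using h.qa v v

theorem four {A b c : Γ} (hA : A * A * A = 1) (hb : b * b * b = 1) (h1 : b * A = A * b) (h2 : c * A * c⁻¹ = A)
    (h3 : c * b = b * A * c) (hn : A ≠ 1) : Nat.card {v : V // A • v = v} = 4 := by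
  have := h.fin
  have a3 : ∀ v : V, A • A • A • v = v := fun v => by rw [← mul_smul, ← mul_smul, hA, one_smul]
  have b3 : ∀ v : V, b • b • b • v = v := fun v => by rw [← mul_smul, ← mul_smul, hb, one_smul]
  have ab : ∀ v : V, b • A • v = A • b • v := fun v => by rw [← mul_smul, h1, mul_smul]
  have ca : ∀ v : V, c • A • v = A • c • v := fun v => by rw [← mul_smul, mul_inv_eq_iff_eq_mul.1 h2, mul_smul]
  have cb : ∀ v : V, c • b • v = A • b • c • v := fun v => by rw [← mul_smul, h3, mul_smul, mul_smul, ab]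
  let U : ℕ → Type _ := fun j => {v : V // v + A • v + A • A • v = 0 ∧ A ^ j • b • v = v}
  have e : ∀ j, Nat.card (U (j + 1)) = Nat.card (U j) := fun j => by
    refine (Nat.card_congr (Equiv.subtypeEquiv (MulAction.toPerm c) fun v => ?_)).symm
    have : c • A ^ j • b • v = A ^ (j + 1) • b • c • v := by
      rw [← mul_smul, (Commute.pow_right (show Commute c A from mul_inv_eq_iff_eq_mul.1 h2) j).eq, mul_smul, cb, pow_succ, mul_smul]
    rw [MulAction.toPerm_apply, ← this, ← ca, ← ca, ← smul_add, ← smul_add, smul_eq_zero_iff_eq, smul_left_cancel_iff]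
  have k : ∀ f x y w : V, A • f = f → x + A • x + A • A • x = 0 → b • x = x → y + A • y + A • A • y = 0 → A • b • y = y →
      w + A • w + A • A • w = 0 → A • A • b • w = w → f + (x + (y + w)) = 0 → f = 0 ∧ x = 0 ∧ y = 0 ∧ w = 0 := by
    intro f x y w f1 x1 x2 y1 y2 w1 w2 e
    have y3 : b • y = A • A • y := by conv_rhs => rw [← y2, a3]
    have w3 : b • w = A • w := by conv_rhs => rw [← w2, a3]
    have s : ∀ g : Γ, (f + g • f + g • g • f) + ((x + g • x + g • g • x) + ((y + g • y + g • g • y) + (w + g • w + g • g • w))) = 0 :=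
      fun g => by
        rw [← add_zero (0 : V), ← add_zero (0 + 0 : V)]
        conv_rhs => rw [← smul_zero g, ← smul_zero g]; lhs; rw [smul_zero, smul_zero]; rhs; rw [← smul_zero g]
        rw [← e]; simp only [smul_add]; abel
    have f0 : f = 0 := by simpa only [f1, x1, y1, w1, add_zero, h.two, zero_add] using s A
    have x0 : x = 0 := by
      have := s b
      simp only [f0, x2, y3, w3, ab, a3, smul_zero, add_zero, h.two, zero_add, w1] at this
      rwa [add_right_comm, y1, add_zero] at this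
    rw [f0, x0, zero_add, zero_add, h.eq0] at e
    subst e
    rw [y3, smul_left_cancel_iff] at w3
    rw [w3, w3, h.two, zero_add] at y1
    exact ⟨f0, x0, y1, y1⟩
  have t := Nat.card_congr (Equiv.ofBijective (fun x : {v : V // A • v = v} × U 0 × U 1 × U 2 => x.1.1 + (x.2.1.1 + (x.2.2.1.1 + x.2.2.2.1)))
    ⟨fun ⟨⟨f, f1⟩, ⟨x, x1, x2⟩, ⟨y, y1, y2⟩, w, w1, w2⟩ ⟨⟨f', f1'⟩, ⟨x', x1', x2'⟩, ⟨y', y1', y2'⟩, w', w1', w2'⟩ e => by
      have s : ∀ {x y : V}, x + A • x + A • A • x = 0 → y + A • y + A • A • y = 0 → x + y + A • (x + y) + A • A • (x + y) = 0 :=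
        fun a b => by rw [← add_zero 0]; conv_rhs => lhs; rw [← a]
                      rw [← b]; simp only [smul_add]; abel
      have e : f + (x + (y + w)) = f' + (x' + (y' + w')) := e
      simp only [pow_zero, one_smul, pow_one, sq, mul_smul] at x2 x2' y2 y2' w2 w2'
      simpa [U, h.eq0] using k (f + f') (x + x') (y + y') (w + w') (by simp [*]) (s x1 x1') (by simp [*]) (s y1 y1') (by simp [*])
        (s w1 w1') (by simp [*]) (by rw [← h.eq0.2 e]; abel), fun v => by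
      obtain ⟨u, u1, u2⟩ : ∃ u, u + A • u + A • A • u = 0 ∧ v = v + A • v + A • A • v + u := ⟨A • v + A • A • v, by
        simp only [smul_add, a3, add_assoc, add_comm, add_left_comm, h.two, h.c2, add_zero], by rw [add_assoc, add_assoc, ← add_assoc (A • v),
          h.two, add_zero]⟩
      have s : ∀ g g' : Γ, Commute A g → Commute A g' → u + g • u + g' • u + A • (u + g • u + g' • u) + A • A • (u + g • u + g' • u) = 0 :=
        fun g g' a b => by
          have := congrArg₂ (· + ·) (congrArg₂ (· + ·) u1 (congrArg (g • ·) u1)) (congrArg (g' • ·) u1)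
          simp only [smul_zero, add_zero] at this
          have k : ∀ {g : Γ}, Commute A g → ∀ v : V, A • g • v = g • A • v := fun a v => by rw [← mul_smul, a.eq, mul_smul]
          rw [← this]
          simp only [smul_add]
          rw [k a, k b, k a, k b]
          abel
      have c : Commute A b := h1.symm
      have r := Commute.refl A
      refine ⟨⟨⟨v + A • v + A • A • v, by simp only [smul_add, a3]; abel⟩, ⟨_, s b (b * b) c (c.mul_right c), ?_⟩,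
        ⟨_, s (A * b) (A * A * b * b) (r.mul_right c) (((r.mul_right r).mul_right c).mul_right c), ?_⟩,
        ⟨_, s (A * A * b) (A * b * b) ((r.mul_right r).mul_right c) ((r.mul_right c).mul_right c), ?_⟩⟩, ?_⟩
      iterate 3 simp only [pow_zero, one_smul, pow_one, sq, mul_smul, smul_add, a3, b3, ab]; abel
      have := congrArg₂ (· + ·) (congrArg (b • ·) u1) (congrArg (fun x => b • b • x) u1)
      simp only [smul_zero, add_zero, smul_add, ab] at this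
      simp only [mul_smul]
      linear_combination (norm := abel) this - u2 + h.two u⟩)
  rw [Nat.card_prod, Nat.card_prod, Nat.card_prod, e 1, e 0, h.card] at t
  have n1 : Nat.card (U 0) ≠ 1 := fun e => hn (h.faith A fun v => by
    rw [e, ← h.card, mul_one, mul_one, mul_one] at t
    exact Set.eq_univ_iff_forall.1 ((Set.eq_univ_iff_ncard {v : V | A • v = v}).2 t) v)
  have n2 : Nat.card (U 0) ≠ 2 := fun e => by
    obtain ⟨⟨u, u1, u2⟩, u3, u4⟩ := (Nat.card_eq_two_iff' (⟨0, by simp⟩ : U 0)).1 e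
    have u5 : u ≠ 0 := fun e => u3 (Subtype.ext e)
    have : A • u = u := congrArg Subtype.val (u4 ⟨A • u, by rw [← smul_add, ← smul_add, u1, smul_zero], by
      rw [pow_zero, one_smul] at u2 ⊢; rw [ab, u2]⟩ fun e => u5 ((smul_eq_zero_iff_eq A).1 (congrArg Subtype.val e)))
    rw [this, this, h.two, zero_add] at u1
    exact u5 u1
  generalize Nat.card (U 0) = n at *
  generalize Nat.card {v : V // A • v = v} = m at *
  have : n ≤ 6 := by
    by_contra c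
    have : 1 * (7 * (7 * 7)) ≤ m * (n * (n * n)) := by gcongr <;> [exact Nat.pos_of_ne_zero (by rintro rfl; omega); omega; omega; omega]
    omega
  interval_cases n <;> omega

theorem pla (x y : V) (m n : ℕ) : pl x y (m ^^^ n) = pl x y m + pl x y n := by
  simp only [pl, Nat.testBit_xor]
  cases m.testBit 0 <;> cases m.testBit 1 <;> cases n.testBit 0 <;> cases n.testBit 1 <;>
    simp [add_assoc, add_comm, add_left_comm, h.two, h.c2]

theorem rpl {a : Γ} {x y : V} (r : Rt a x y) {m n : ℕ} (e : rtb m n = true) : a • pl x y n = pl x y m := by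
  simp only [rtb, Bool.and_eq_true, beq_iff_eq] at e
  rw [Par.pl, Par.pl, e.1, e.2]
  cases n.testBit 0 <;> cases n.testBit 1 <;> simp [r.1, r.2, add_left_comm, h.two]

theorem orth {a : Γ} {x y x' y' : V} (f : Fx a x y) (r : Rt a x' y') (m n : ℕ) : B (pl x y m) (pl x' y' n) = false := by
  have e : pl x' y' n = a • a • pl x' y' n + a • pl x' y' n := by
    rw [pl]; cases n.testBit 0 <;> cases n.testBit 1 <;> simp [r.1, r.2, add_assoc, add_comm, add_left_comm, h.two, h.c2]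
  rw [e, h.ba, ← h.bi a _ (a • pl x' y' n), f.pl (m := m) (by simp [fxb]), Bool.xor_self]

theorem plq {x y : V} (a : q x = true) (b : q y = true) (c : q (x + y) = true) (n : ℕ) : q (pl x y n) = nzb n := by
  rw [pl, nzb]; cases n.testBit 0 <;> cases n.testBit 1 <;> simp [a, b, c, h.q0]

variable {a₁ a₂ a₃ a₄ c d g k : Γ} (M : MD a₁ a₂ a₃ a₄ c d g k)
include M

theorem four' : Nat.card {v : V // a₁ • v = v} = 4 := h.four M.cube M.b3 M.ba M.c1 M.cb M.ne

theorem part {x : V} (hx : a₁ • x = x) (x0 : x ≠ 0) : ∃ y, a₁ • y = y ∧ B x y = true := by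
  obtain ⟨w, hw⟩ := not_forall.1 (mt (h.nd x) x0)
  have a3 : ∀ v : V, a₁ • a₁ • a₁ • v = v := fun v => by rw [← mul_smul, ← mul_smul, M.cube, one_smul]
  have e : ∀ w, B x (a₁ • w) = B x w := fun w => by rw [← h.bi a₁ x w, hx]
  exact ⟨w + a₁ • w + a₁ • a₁ • w, by simp only [smul_add, a3]; abel, by simpa [h.ba, e] using hw⟩

theorem span {x y : V} (hx : a₁ • x = x) (hy : a₁ • y = y) (x0 : x ≠ 0) (y0 : y ≠ 0) (hn : y ≠ x) (v : V) (hv : a₁ • v = v) :
    v = 0 ∨ v = x ∨ v = y ∨ v = x + y := by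
  have := h.fin
  refine (Set.eq_of_subset_of_ncard_le (s := {0, x, y, x + y}) (t := {v : V | a₁ • v = v}) ?_
    (((h.four' M).trans (Set.ncard_eq_four.2 ⟨_, _, _, _, x0.symm, y0.symm, fun e => hn (h.eq0.1 e.symm).symm, hn.symm,
      by simpa using y0, by simpa using x0, rfl⟩).symm).le)).ge hv
  rintro _ (rfl | rfl | rfl | rfl)
  exacts [smul_zero _, hx, hy, by rw [Set.mem_ofPred_eq, smul_add, hx, hy]]

theorem caseN (hN : ∀ v : V, a₁ • v = v → a₂ • v = v) : ∃ x y : V, B x y = true ∧ (∀ γ : Γ, γ • x = x ∧ γ • y = y) ∧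
    ∀ v : V, a₁ • v = v → B x v = false → B y v = false → v = 0 := by
  have := h.fin
  have k : ∀ (g : Γ) {a b : Γ}, g * a * g⁻¹ = b → ∀ v : V, b • v = v ↔ a • g⁻¹ • v = g⁻¹ • v := fun g a b e v => by
    rw [← e, mul_smul, mul_smul, smul_eq_iff_eq_inv_smul]
  have h3 : ∀ v : V, a₁ • v = v → a₃ • v = v := fun v hv => (k c M.c2 v).2 (hN _ ((k c M.c1 v).1 hv))
  have K : ∀ v : V, a₁ • v = v → ∀ γ : Γ, γ • v = v := fun v hv => M.gen (MulAction.stabilizer Γ v) hv (hN v hv) (h3 v hv)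
    ((k g rfl v).2 (hN _ ((k g M.g1 v).1 (h3 v hv)))) ((k _ rfl v).2 (hN _ ((k _ M.k1 v).1 hv)))
  have : Nontrivial {v : V // a₁ • v = v} := Finite.one_lt_card_iff_nontrivial.1 (by rw [h.four' M]; norm_num)
  obtain ⟨⟨x, x1⟩, x2⟩ := exists_ne (⟨0, smul_zero _⟩ : {v : V // a₁ • v = v})
  have x0 : x ≠ 0 := fun e => x2 (Subtype.ext e)
  obtain ⟨y, y1, y2⟩ := h.part M x1 x0
  refine ⟨x, y, y2, fun γ => ⟨K x x1 γ, K y y1 γ⟩, fun v hv b1 b2 => ?_⟩
  rcases h.span M x1 y1 x0 (fun e => by simp [e, h.b0] at y2) (fun e => by simp [e, h.bb] at y2) v hv with e | e | e | e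
  · exact e
  · simp [e, h.bs y x, y2] at b2
  · simp [e, y2] at b1
  · simp [e, h.ba, h.bb, y2] at b1

theorem plane {x : V} (hx : a₁ • x = x) (hn : a₂ • x ≠ x) : ∃ y, Fx a₁ x y ∧ Rt a₂ x y ∧ Rt a₃ x y ∧ Rt a₄ x y ∧ q x = true ∧
    q y = true ∧ q (x + y) = true := by
  have := h.fin
  have cm : ∀ {a : Γ}, a * a₁ = a₁ * a → ∀ {v : V}, a₁ • v = v → a₁ • a • v = a • v := fun e v hv => by
    rw [← mul_smul, ← e, mul_smul, hv]
  have x0 : x ≠ 0 := by rintro rfl; exact hn (smul_zero _)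
  have F := h.span M hx (cm M.m12 hx) x0 (mt (smul_eq_zero_iff_eq _).1 x0) hn
  have c2 : ∀ v : V, a₂ • a₂ • a₂ • v = v := fun v => by
    rw [← mul_smul, ← mul_smul, ← M.d1, conj_mul, conj_mul, M.cube]; simp
  have y2 : a₂ • a₂ • x = x + a₂ • x := by
    rcases F _ (cm M.m12 (cm M.m12 hx)) with e | e | e | e
    · exact absurd ((smul_eq_zero_iff_eq _).1 ((smul_eq_zero_iff_eq _).1 e)) x0
    · exact absurd ((congrArg (a₂ • ·) e).symm.trans (c2 x)) hn
    · exact absurd ((smul_left_cancel_iff _).1 e) hn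
    · exact e
  have nt : ∀ {a b : Γ}, c * a * c⁻¹ = b → b * a₂ = a₂ * b → (a • x = x → a • a₂ • x = a₂ • x → False) → b • x ≠ x := fun {a b} e m n f => by
    have t : ∀ v : V, a₁ • v = v → b • v = v := fun v hv => by
      rcases F v hv with rfl | rfl | rfl | rfl
      exacts [smul_zero _, f, by rw [← mul_smul, m, mul_smul, f], by rw [smul_add, f, ← mul_smul, m, mul_smul, f]]
    have t' : ∀ v : V, a₁ • v = v → a • v = v := fun v hv => (smul_left_cancel_iff c).1 (by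
      simpa only [← e, mul_smul, inv_smul_smul] using t (c • v) (by rw [← M.c1, mul_smul, mul_smul, inv_smul_smul, hv]))
    exact n (t' x hx) (t' _ (cm M.m12 hx))
  have n3 := nt M.c2 M.m23 fun e _ => hn e
  have n4 := nt M.c3' M.m24 fun e _ => n3 e
  have p : a₂ • a₃ • a₄ • x = x := by rw [← hx, ← mul_smul, ← mul_smul, ← mul_smul, M.prod, one_smul, hx]
  have rt : ∀ {a b : Γ}, a * a₁ = a₁ * a → a * a₂ = a₂ * a → a • x ≠ x → b • x ≠ x → b • a₂ • a • x = x → Rt a x (a₂ • x) :=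
    fun {a b} m1 m2 n n' p => by
      have : a • x = a₂ • x := by
        rcases F _ (cm m1 hx) with e | e | e | e
        · exact absurd ((smul_eq_zero_iff_eq _).1 e) x0
        · exact absurd e n
        · exact e
        · rw [e, ← y2, c2] at p; exact absurd p n'
      exact ⟨this, by rw [← mul_smul, m2, mul_smul, this, y2]⟩
  obtain ⟨w, w1, w2⟩ := h.part M hx x0
  have b : B x (a₂ • x) = true := by
    rcases F w w1 with rfl | rfl | rfl | rfl <;> simp_all [h.b0, h.bb, h.ba]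
  have e := h.qa x (a₂ • x)
  rw [← y2, h.inv, h.inv, b, Bool.xor_self] at e
  refine ⟨_, ⟨hx, cm M.m12 hx⟩, ⟨rfl, y2⟩, rt M.m13 M.m23 n3 n4 ?_, rt M.m14 M.m24 n4 n3 ?_, e, by rw [h.inv, e]; rfl,
    by rw [← y2, h.inv, h.inv, e]; rfl⟩
  · rwa [← mul_smul, M.m24, mul_smul, ← mul_smul a₄, M.m34, mul_smul]
  · rwa [← mul_smul, M.m23, mul_smul]

theorem frame {x : V} (hx : a₁ • x = x) (hn : a₂ • x ≠ x) : ∃ κ : ℕ → V, (∀ m n, κ (m ^^^ n) = κ m + κ n) ∧ ∀ n < 256,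
    q (κ n) = q8 n ∧ a₁ • κ n = κ (rf 1 n) ∧ a₂ • κ n = κ (rf 4 n) ∧ a₃ • κ n = κ (rf 16 n) ∧ a₄ • κ n = κ (rf 64 n) := by
  obtain ⟨y, f1, r12, r13, r14, q1, q2, q3⟩ := h.plane M hx hn
  have f2 := f1.cj d M.d1; have r23 := r12.cj d M.d2; have r21 := r13.cj d M.d3; have r24 := r14.cj d M.d4
  have f3 := f2.cj c M.c2; have r34 := r23.cj c M.c3'; have r31 := r21.cj c M.c1; have r32 := r24.cj c M.c4
  have f4 := f3.cj c M.c3'; have r42 := r34.cj c M.c4; have r41 := r31.cj c M.c1; have r43 := r32.cj c M.c2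
  refine ⟨fun n => pl x y n + (pl (d • x) (d • y) (n >>> 2) + (pl (c • d • x) (c • d • y) (n >>> 4) +
    pl (c • c • d • x) (c • c • d • y) (n >>> 6))), fun m n => by simp only [Nat.shiftRight_xor_distrib, h.pla]; abel, fun n hn => ?_⟩
  obtain ⟨e0, e1, e2, e3, e4⟩ := fr_chk n hn
  simp only [Bool.and_eq_true] at e1 e2 e3 e4
  refine ⟨?_, ?_, ?_, ?_, ?_⟩
  · simp only [h.qa, h.ba, h.orth f1 r21, h.orth f1 r31, h.orth f1 r41, h.orth f2 r32, h.orth f2 r42, h.orth f3 r43, Bool.xor_false]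
    rw [e0, h.plq q1 q2 q3, h.plq, h.plq, h.plq] <;> simp only [← smul_add, h.inv, q1, q2, q3]
  · simp only [smul_add, f1.pl e1.1.1.1, h.rpl r21 e1.1.1.2, h.rpl r31 e1.1.2, h.rpl r41 e1.2]
  · simp only [smul_add, h.rpl r12 e2.1.1.1, f2.pl e2.1.1.2, h.rpl r32 e2.1.2, h.rpl r42 e2.2]
  · simp only [smul_add, h.rpl r13 e3.1.1.1, h.rpl r23 e3.1.1.2, f3.pl e3.1.2, h.rpl r43 e3.2]
  · simp only [smul_add, h.rpl r14 e4.1.1.1, h.rpl r24 e4.1.1.2, h.rpl r34 e4.1.2, f4.pl e4.2]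

end QM

structure FR (Γ : Type*) [Group Γ] [DistribMulAction Γ V] (q : V → Bool) (B : V → V → Bool) (μ : V → ℕ) (β : Γ → ℕ → ℕ) : Prop where
  lt : ∀ v, μ v < 256
  add : ∀ v w, μ (v + w) = μ v ^^^ μ w
  zero : ∀ v, μ v = 0 ↔ v = 0
  sur : ∀ n < 256, ∃ v, μ v = n
  q : ∀ v, q v = q8 (μ v)
  b : ∀ v w, B v w = b8 (μ v) (μ w)
  act : ∀ g v, μ (g • v) = β g (μ v)
  om : ∀ g, ∀ n < 256, β g (om n) = om (β g n)
  refl : ∀ v < 256, q8 v = true → ∃ g, EQ (β g) (rf v)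
  gen : ∀ K : Subgroup Γ, (∀ g v, v < 256 → q8 v = true → EQ (β g) (rf v) → g ∈ K) → ∀ g, g ∈ K

theorem om_chk1 : ∀ e ∈ [1, 16], ∀ n < 256, (n ^^^ rf e n ^^^ wd [e, e] n = 0 → rf e n = om n) ∧ (rf e n = n → inW e n = true) ∧
    (inW e (pj e n) = true ∧ wd [e] (n ^^^ pj e n) = om (n ^^^ pj e n)) ∧
    (q8 n = true → (∀ m ∈ [1, 4, 16, 64], rf n m = rf e m) → inW e n = true) := by decide +kernel

theorem om_chk2 : ∀ v < 256, q8 v = true →
    (hz 16 v = true → (∀ n ∈ [1, 4, 16, 64], wd [v, 1] n = wd [1, v] n) ∨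
      ∃ w ∈ [[], [1], [1, 1], [4], [4, 4], [1, 4], [1, 4, 4], [1, 1, 4], [1, 1, 4, 4]], (∀ x ∈ w, x ∈ [1, 4, 16, 64]) ∧
        force (wd w v) (inW · 69) = true) ∧
    (hz 1 v = true → (∀ n ∈ [1, 4, 16, 64], wd [v, 4] n = wd [4, v] n) ∨
      ∃ w ∈ [[], [16], [16, 16], [4], [4, 4], [16, 4], [16, 4, 4], [16, 16, 4], [16, 16, 4, 4]], (∀ x ∈ w, x ∈ [1, 4, 16, 64]) ∧
        force (wd w v) (inW · 84) = true) ∧
    ∃ w ∈ TG, (∀ x ∈ w, x ∈ [1, 4, 16, 64, 69, 84]) ∧ force (wd w 1) (inW · v) = true := by decide +kernel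

theorem fr2 : ∀ e ∈ [1, 16], ∀ r < 256, rf e r = om r → wd [e, e] r = r ^^^ rf e r := by decide +kernel

theorem wd2 (a b n : ℕ) : wd [a, b] n = rf a (rf b n) := by simp [wd, force_eq]

theorem om_of {f : ℕ → ℕ} {e : ℕ} (he : e ∈ [1, 16]) (lt : ∀ n < 256, f n < 256) (ad : ∀ m < 256, ∀ n < 256, f (m ^^^ n) = f m ^^^ f n)
    (h3 : ∀ n < 256, f (f (f n)) = n) (hc : ∀ n < 256, f (rf e n) = rf e (f n)) : ∀ n < 256, f (om n) = om (f n) := fun n hn => by
  have c := om_chk1 e he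
  have e1 : e < 256 := by simp at he; omega
  have f0 : f 0 = 0 := by simpa using ad 0 (by norm_num) 0 (by norm_num)
  obtain ⟨p, p1, r, r1, p2, r2, rfl⟩ : ∃ p < 256, ∃ r < 256, inW e p = true ∧ rf e r = om r ∧ n = p ^^^ r :=
    ⟨_, pj_lt e1 hn, _, xlt hn (pj_lt e1 hn), (c n hn).2.2.1.1, by simpa [wd, force_eq] using (c n hn).2.2.1.2, by
      rw [Nat.xor_comm n, ← Nat.xor_assoc, Nat.xor_self, Nat.zero_xor]⟩
  have l := rf_lt e1 r1
  have r3 : rf e (rf e r) = r ^^^ rf e r := by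
    have := (fr2 e he r r1 r2); rwa [wd2] at this
  rw [om_xor p1 r1, ad _ (om_lt p p1) _ (om_lt r r1), ad p p1 r r1, om_xor (lt p p1) (lt r r1), ← r2, hc r r1,
    (c _ (lt r r1)).1 (by rw [wd2, ← hc r r1, ← hc _ l, ← ad r r1 _ l, ← ad _ (xlt r1 l) _ (rf_lt e1 l), r3, Nat.xor_self, f0])]
  congr 1
  have o := om_lt e e1
  have k := fun n hn (a : rf e n = n) => inW_cases ((c _ (lt n hn)).2.1 (by rw [← hc n hn, a]))
  have a := ad e e1 _ o
  have b1 := h3 e e1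
  have b2 := h3 _ o
  have key : f (om e) = om (f e) := by
    have t : om 1 = 2 ∧ om 2 = 3 ∧ om 16 = 32 ∧ om 32 = 48 ∧ 1 ^^^ 2 = 3 ∧ 16 ^^^ 32 = 48 := by decide
    have x := k e e1 (by revert he; generalize e = e; revert e; decide)
    have y := k _ o (by revert he; generalize e = e; revert e; decide)
    have w := k _ (om_lt _ o) (by revert he; generalize e = e; revert e; decide)
    simp only [List.mem_cons, List.not_mem_nil, or_false] at he
    revert a b1 b2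
    rcases he with rfl | rfl <;> simp only [t] at x y w ⊢ <;> rcases x with x | x | x | x <;> rcases y with y | y | y | y <;>
      rcases w with w | w | w | w <;> simp only [x, y, w, f0] <;> decide
  have t := om3 _ (lt e e1)
  rcases inW_cases p2 with rfl | rfl | rfl | rfl
  · exact f0.trans (congrArg om f0).symm
  · exact key
  · rw [(om3 _ e1).1, a, key, t.1]
  · rw [(om3 _ e1).2.1, (om3 _ e1).1, a, key, ← t.1, t.2.1]

theorem QM.fr {q : V → Bool} {B : V → V → Bool} (h : QM Γ q B) {a₁ a₂ a₃ a₄ c d g k : Γ} (M : MD a₁ a₂ a₃ a₄ c d g k) {x : V}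
    (hx : a₁ • x = x) (hn : a₂ • x ≠ x) : ∃ μ β, FR Γ q B μ β := by
  have := h.fin
  obtain ⟨κ, k1, k2⟩ := h.frame M hx hn
  have kb : ∀ m < 256, ∀ n < 256, B (κ m) (κ n) = b8 m n := fun m hm n hn => by
    have := h.qa (κ m) (κ n)
    rw [← k1, (k2 _ (xlt hm hn)).1, (k2 m hm).1, (k2 n hn).1, q8_xor hm hn] at this
    revert this; cases q8 m <;> cases q8 n <;> simp [eq_comm]
  have ki : ∀ m < 256, ∀ n < 256, κ m = κ n → m = n := fun m hm n hn e => Nat.xor_eq_zero_iff.1 (b8_nd _ (xlt hm hn) fun i hi => by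
    rw [← kb _ (xlt hm hn) _ (Nat.pow_lt_pow_right (n := 8) one_lt_two hi), k1, e, h.two, h.bs, h.b0])
  choose μ' hμ using (Function.Injective.bijective_of_nat_card_le (f := fun n : Fin 256 => κ n)
    (fun m n e => Fin.ext (ki _ m.2 _ n.2 e)) (by simp [h.card])).2
  obtain ⟨μ, lt, m1⟩ : ∃ μ : V → ℕ, (∀ v, μ v < 256) ∧ ∀ v, κ (μ v) = v := ⟨fun v => μ' v, fun v => (μ' v).2, hμ⟩
  have m2 : ∀ n < 256, μ (κ n) = n := fun n hn => ki _ (lt _) n hn (m1 _)
  have ad : ∀ v w, μ (v + w) = μ v ^^^ μ w := fun v w => ki _ (lt _) _ (xlt (lt v) (lt w)) (by rw [k1, m1, m1, m1])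
  obtain ⟨β, hβ⟩ : ∃ β : Γ → ℕ → ℕ, ∀ g n, β g n = μ (g • κ n) := ⟨_, fun _ _ => rfl⟩
  have bm : ∀ g k n, β (g * k) n = β g (β k n) := fun g k n => by rw [hβ, hβ, hβ, m1, mul_smul]
  have b1 : ∀ n < 256, β 1 n = n := fun n hn => by rw [hβ, one_smul, m2 n hn]
  have bl : ∀ g n, β g n < 256 := fun g n => hβ g n ▸ lt _
  have ba : ∀ g m n, β g (m ^^^ n) = β g m ^^^ β g n := fun g m n => by rw [hβ, hβ, hβ, k1, smul_add, ad]
  have r : ∀ {a e}, e < 256 → (∀ n < 256, a • κ n = κ (rf e n)) → EQ (β a) (rf e) := fun he a n hn => by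
    rw [hβ, a n hn, m2 _ (rf_lt he hn)]
  have r1 := r (by norm_num) fun n hn => (k2 n hn).2.1
  have r2 := r (by norm_num) fun n hn => (k2 n hn).2.2.1
  have r3 := r (by norm_num) fun n hn => (k2 n hn).2.2.2.1
  have r4 := r (by norm_num) fun n hn => (k2 n hn).2.2.2.2
  have o : ∀ (t : Γ) {a s e}, e ∈ [1, 16] → EQ (β a) (rf e) → s * a = a * s → t * a₁ * t⁻¹ = s → ∀ n < 256, β s (om n) = om (β s n) :=
    fun t a s e he r m f => om_of he (fun n _ => bl s n) (fun m _ n _ => ba s m n) (fun n hn => by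
      rw [← bm, ← bm, ← f, conj_mul, conj_mul, M.cube, mul_one, mul_inv_cancel, b1 n hn]) fun n hn => by
      rw [← r n hn, ← bm, m, bm, r _ (bl _ _)]
  have O : ∀ g, ∀ n < 256, β g (om n) = om (β g n) := M.gen ⟨⟨⟨{g | ∀ n < 256, β g (om n) = om (β g n)},
      fun {a b} ha hb n hn => by rw [bm, bm, hb n hn, ha _ (bl _ _)]⟩, fun n hn => by rw [b1 n hn, b1 _ (om_lt n hn)]⟩,
      fun {a} ha n hn => by
        conv_lhs => rw [← b1 n hn, ← mul_inv_cancel a, bm, ← ha _ (bl _ _), ← bm, inv_mul_cancel, b1 _ (om_lt _ (bl _ _))]⟩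
    (o 1 (by simp) r1 rfl (by simp)) (o d (by simp) r1 M.m12 M.d1) (o g (by simp) r1 M.m13 M.g1)
    (o (g * d) (by simp) r3 (by rw [← M.g1, conj_mul, conj_mul, M.m12]) (by rw [← M.d1]; group))
    (o (k * d) (by simp) r1 (by rw [← M.k1, conj_mul, conj_mul, M.m12]) (by rw [← M.d1]; group))
  have U : ∀ g, Un (β g) := fun g => ⟨fun _ => bl g _, fun _ _ => ba g _ _, fun hn => by
    rw [hβ, ← (k2 _ (lt _)).1, m1, h.inv, (k2 _ hn).1], fun hn => O g _ hn⟩
  have cj' : ∀ (g : Γ) {a v}, v < 256 → EQ (β a) (rf v) → EQ (β (g * a * g⁻¹)) (rf (β g v)) := fun g a v hv e n hn => by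
    rw [bm, bm, e _ (bl _ _), (U g).rf hv (bl _ _), ← bm, mul_inv_cancel, b1 n hn]
  have W : ∀ (L w : List ℕ), (∀ x ∈ L, ∃ g, EQ (β g) (rf x)) → (∀ x ∈ w, x ∈ L) → ∀ v < 256, (∃ g, EQ (β g) (rf v)) → ∀ u,
      inW (wd w v) u = true → u ≠ 0 → ∃ g, EQ (β g) (rf u) := fun L w hL hw v hv ⟨a, ha⟩ u u1 u2 => by
    obtain ⟨g, hg⟩ : ∃ g, β g v = wd w v := by
      clear u1
      induction w with
      | nil => exact ⟨1, b1 v hv⟩
      | cons x w ih =>
        obtain ⟨g, e⟩ := ih fun y hy => hw y (List.mem_cons_of_mem _ hy)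
        obtain ⟨k, f⟩ := hL x (hw x List.mem_cons_self)
        exact ⟨k * g, by rw [bm, f _ (bl _ _), e]; rfl⟩
    rw [← hg] at u1
    exact ⟨_, fun n hn => (cj' g hv ha n hn).trans (sc_eq (bl _ _) u1 u2 hn).2.2.symm⟩
  have L4 : ∀ x ∈ [1, 4, 16, 64], ∃ g, EQ (β g) (rf x) := by simpa using ⟨⟨_, r1⟩, ⟨_, r2⟩, ⟨_, r3⟩, _, r4⟩
  have q4 : ∀ g, q8 (β g 4) = true := fun g => (U g).q (by norm_num)
  have s : ∀ (t : Γ) {a e}, e ∈ [1, 16] → EQ (β a) (rf e) → t * a₁ * t⁻¹ = a → hz e (β t 4) = true := fun t a e he r f => by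
    have q1 : q8 (β t 1) = true := (U t).q (by norm_num)
    have := (om_chk1 e he _ (bl t 1)).2.2.2 q1 fun m hm => (cj' t (by norm_num) r1 m (b4 hm)).symm.trans (f ▸ r m (b4 hm))
    rw [← (sc_eq (by simp at he; omega) this (fun e => by simp [e] at q1; exact absurd q1 (by decide)) (bl t 4)).2.1, (U t).hz (by norm_num) (by norm_num)]
    rfl
  have nc : ∀ {s a v e}, EQ (β s) (rf v) → EQ (β a) (rf e) → (∀ n ∈ [1, 4, 16, 64], wd [v, e] n = wd [e, v] n) → s * a = a * s :=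
    fun {s a v e} e1 e2 e3 => mul_inv_eq_one.1 (h.faith _ fun x => by
      rw [mul_smul, ← m1 (_⁻¹ • x), ← m1 (_ • _), ← hβ, un_ext (U (s * a)) (U (a * s)) (fun n hn => by
        rw [bm, bm, e1 _ (bl _ _), e2 _ (bl _ _), e1 _ (b4 hn), e2 _ (b4 hn), ← wd2, e3 n hn, wd2]) _ (lt _), hβ, m1, m1, smul_inv_smul])
  obtain ⟨w, -, w1, w2⟩ := ((om_chk2 _ (bl g 4) (q4 g)).1 (s g (by simp) r3 M.g1)).resolve_left
    fun e => M.g2 (nc (cj' g (by norm_num) r2) r1 e)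
  obtain ⟨w', -, w3, w4⟩ := ((om_chk2 _ (bl k 4) (q4 k)).2.1 (s k (by simp) r1 M.k1)).resolve_left
    fun e => M.k2 (nc (cj' k (by norm_num) r2) r2 e)
  rw [force_eq] at w2 w4
  refine ⟨μ, β, lt, ad, fun v => ⟨fun e => ?_, fun e => ?_⟩, fun n hn => ⟨_, m2 n hn⟩, fun v => by rw [← (k2 _ (lt v)).1, m1],
    fun v w => by rw [← kb _ (lt v) _ (lt w), m1, m1], fun g v => by rw [hβ, m1], O, fun v hv e => ?_, fun K hK => M.gen K
      (hK _ 1 (by norm_num) rfl r1) (hK _ 4 (by norm_num) rfl r2) (hK _ 16 (by norm_num) rfl r3)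
      (hK _ _ (bl g 4) (q4 g) (cj' g (by norm_num) r2)) (hK _ _ (bl k 4) (q4 k) (cj' k (by norm_num) r2))⟩
  · rw [← m1 v, e, ← Nat.xor_self 0, k1, h.two]
  · rw [e, ← h.two 0, ad, Nat.xor_self]
  obtain ⟨u, -, u1, u2⟩ := (om_chk2 v hv e).2.2
  rw [force_eq] at u2
  refine W _ u ?_ u1 1 (by norm_num) ⟨_, r1⟩ v u2 (by rintro rfl; exact absurd e (by decide))
  simpa using ⟨⟨_, r1⟩, ⟨_, r2⟩, ⟨_, r3⟩, ⟨_, r4⟩, W _ w L4 w1 _ (bl g 4) ⟨_, cj' g (by norm_num) r2⟩ 69 w2 (by norm_num),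
    W _ w' L4 w3 _ (bl k 4) ⟨_, cj' k (by norm_num) r2⟩ 84 w4 (by norm_num)⟩

end Cfsg.Lib.Par
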