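import Cfsg.Agent.Lib.Known2.P11
import Cfsg.Agent.S0815
import Cfsg.Agent.S0822

/-! The group `2^{1+8}.U₄(2).2`: the two possible modules. -/

set_option autoImplicit false
set_option synthInstance.maxSize 2000
set_option linter.unusedSectionVars false

namespace Cfsg.Lib.Par

open Subgroup Cfsg.Lib.Known2 Cfsg.Lib.FO Cfsg.Lib.Psp43 Cfsg.Lib.Golay Cfsg.Lib.MatB
open Cfsg.Lib.Comp (force force_eq)

section
variable {Γ V : Type*} [Group Γ] [AddCommGroup V] [DistribMulAction Γ V]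

theorem QM.fr' {q : V → Bool} {B : V → V → Bool} (h : QM Γ q B) {a₁ a₂ a₃ a₄ c d g k : Γ} (M : MD a₁ a₂ a₃ a₄ c d g k) {x : V}
    (hx : a₁ • x = x) (hn : a₂ • x ≠ x) : ∃ μ β, FR Γ q B μ β ∧ EQ (β a₁) (rf 1) ∧ EQ (β a₂) (rf 4) ∧ EQ (β a₃) (rf 16) ∧
      EQ (β a₄) (rf 64) := by
  have := h.fin
  obtain ⟨κ, k1, k2⟩ := h.frame M hx hn
  have kb : ∀ m < 256, ∀ n < 256, B (κ m) (κ n) = b8 m n := fun m hm n hn => by
    have := h.qa (κ m) (κ n)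
    rw [← k1, (k2 _ (xlt hm hn)).1, (k2 m hm).1, (k2 n hn).1, q8_xor hm hn] at this
    revert this; cases q8 m <;> cases q8 n <;> simp [eq_comm]
  have ki : ∀ m < 256, ∀ n < 256, κ m = κ n → m = n := fun m hm n hn e => Nat.xor_eq_zero_iff.1 (b8_nd _ (xlt hm hn) fun i hi => by
    rw [← kb _ (xlt hm hn) _ (Nat.pow_lt_pow_right (n := 8) one_lt_two hi), k1, e, h.two, h.bs, h.b0])
  choose μ' hμ using (Function.Injective.bijective_of_nat_card_le (f := fun n : Fin 256 => κ n)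
    (fun m n e => Fin.ext (ki _ m.2 _ n.2 e)) (by simp [h.card])).2
  obtain ⟨μ, lt, m1⟩ : ∃ μ : V → ℕ, (∀ v, μ v < 256) ∧ ∀ v, κ (μ v) = v := ⟨fun v => μ' v, fun v => (μ' v).2, hμ⟩
  have m2 : ∀ n < 256, μ (κ n) = n := fun n hn => ki _ (lt _) n hn (m1 _)
  have ad : ∀ v w, μ (v + w) = μ v ^^^ μ w := fun v w => ki _ (lt _) _ (xlt (lt v) (lt w)) (by rw [k1, m1, m1, m1])
  obtain ⟨β, hβ⟩ : ∃ β : Γ → ℕ → ℕ, ∀ g n, β g n = μ (g • κ n) := ⟨_, fun _ _ => rfl⟩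
  have bm : ∀ g k n, β (g * k) n = β g (β k n) := fun g k n => by rw [hβ, hβ, hβ, m1, mul_smul]
  have b1 : ∀ n < 256, β 1 n = n := fun n hn => by rw [hβ, one_smul, m2 n hn]
  have bl : ∀ g n, β g n < 256 := fun g n => hβ g n ▸ lt _
  have ba : ∀ g m n, β g (m ^^^ n) = β g m ^^^ β g n := fun g m n => by rw [hβ, hβ, hβ, k1, smul_add, ad]
  have r : ∀ {a e}, e < 256 → (∀ n < 256, a • κ n = κ (rf e n)) → EQ (β a) (rf e) := fun he a n hn => by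
    rw [hβ, a n hn, m2 _ (rf_lt he hn)]
  have r1 := r (by norm_num) fun n hn => (k2 n hn).2.1
  have r2 := r (by norm_num) fun n hn => (k2 n hn).2.2.1
  have r3 := r (by norm_num) fun n hn => (k2 n hn).2.2.2.1
  have r4 := r (by norm_num) fun n hn => (k2 n hn).2.2.2.2
  have o : ∀ (t : Γ) {a s e}, e ∈ [1, 16] → EQ (β a) (rf e) → s * a = a * s → t * a₁ * t⁻¹ = s → ∀ n < 256, β s (om n) = om (β s n) :=
    fun t a s e he r m f => om_of he (fun n _ => bl s n) (fun m _ n _ => ba s m n) (fun n hn => by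
      rw [← bm, ← bm, ← f, conj_mul, conj_mul, M.cube, mul_one, mul_inv_cancel, b1 n hn]) fun n hn => by
      rw [← r n hn, ← bm, m, bm, r _ (bl _ _)]
  have O : ∀ g, ∀ n < 256, β g (om n) = om (β g n) := M.gen ⟨⟨⟨{g | ∀ n < 256, β g (om n) = om (β g n)},
      fun {a b} ha hb n hn => by rw [bm, bm, hb n hn, ha _ (bl _ _)]⟩, fun n hn => by rw [b1 n hn, b1 _ (om_lt n hn)]⟩,
      fun {a} ha n hn => by
        conv_lhs => rw [← b1 n hn, ← mul_inv_cancel a, bm, ← ha _ (bl _ _), ← bm, inv_mul_cancel, b1 _ (om_lt _ (bl _ _))]⟩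
    (o 1 (by simp) r1 rfl (by simp)) (o d (by simp) r1 M.m12 M.d1) (o g (by simp) r1 M.m13 M.g1)
    (o (g * d) (by simp) r3 (by rw [← M.g1, conj_mul, conj_mul, M.m12]) (by rw [← M.d1]; group))
    (o (k * d) (by simp) r1 (by rw [← M.k1, conj_mul, conj_mul, M.m12]) (by rw [← M.d1]; group))
  have U : ∀ g, Un (β g) := fun g => ⟨fun _ => bl g _, fun _ _ => ba g _ _, fun hn => by
    rw [hβ, ← (k2 _ (lt _)).1, m1, h.inv, (k2 _ hn).1], fun hn => O g _ hn⟩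
  have cj' : ∀ (g : Γ) {a v}, v < 256 → EQ (β a) (rf v) → EQ (β (g * a * g⁻¹)) (rf (β g v)) := fun g a v hv e n hn => by
    rw [bm, bm, e _ (bl _ _), (U g).rf hv (bl _ _), ← bm, mul_inv_cancel, b1 n hn]
  have W : ∀ (L w : List ℕ), (∀ x ∈ L, ∃ g, EQ (β g) (rf x)) → (∀ x ∈ w, x ∈ L) → ∀ v < 256, (∃ g, EQ (β g) (rf v)) → ∀ u,
      inW (wd w v) u = true → u ≠ 0 → ∃ g, EQ (β g) (rf u) := fun L w hL hw v hv ⟨a, ha⟩ u u1 u2 => by
    obtain ⟨g, hg⟩ : ∃ g, β g v = wd w v := by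
      clear u1
      induction w with
      | nil => exact ⟨1, b1 v hv⟩
      | cons x w ih =>
        obtain ⟨g, e⟩ := ih fun y hy => hw y (List.mem_cons_of_mem _ hy)
        obtain ⟨k, f⟩ := hL x (hw x List.mem_cons_self)
        exact ⟨k * g, by rw [bm, f _ (bl _ _), e]; rfl⟩
    rw [← hg] at u1
    exact ⟨_, fun n hn => (cj' g hv ha n hn).trans (sc_eq (bl _ _) u1 u2 hn).2.2.symm⟩
  have L4 : ∀ x ∈ [1, 4, 16, 64], ∃ g, EQ (β g) (rf x) := by simpa using ⟨⟨_, r1⟩, ⟨_, r2⟩, ⟨_, r3⟩, _, r4⟩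
  have q4 : ∀ g, q8 (β g 4) = true := fun g => (U g).q (by norm_num)
  have s : ∀ (t : Γ) {a e}, e ∈ [1, 16] → EQ (β a) (rf e) → t * a₁ * t⁻¹ = a → hz e (β t 4) = true := fun t a e he r f => by
    have q1 : q8 (β t 1) = true := (U t).q (by norm_num)
    have := (om_chk1 e he _ (bl t 1)).2.2.2 q1 fun m hm => (cj' t (by norm_num) r1 m (b4 hm)).symm.trans (f ▸ r m (b4 hm))
    rw [← (sc_eq (by simp at he; omega) this (fun e => by simp [e] at q1; exact absurd q1 (by decide)) (bl t 4)).2.1, (U t).hz (by norm_num) (by norm_num)]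
    rfl
  have nc : ∀ {s a v e}, EQ (β s) (rf v) → EQ (β a) (rf e) → (∀ n ∈ [1, 4, 16, 64], wd [v, e] n = wd [e, v] n) → s * a = a * s :=
    fun {s a v e} e1 e2 e3 => mul_inv_eq_one.1 (h.faith _ fun x => by
      rw [mul_smul, ← m1 (_⁻¹ • x), ← m1 (_ • _), ← hβ, un_ext (U (s * a)) (U (a * s)) (fun n hn => by
        rw [bm, bm, e1 _ (bl _ _), e2 _ (bl _ _), e1 _ (b4 hn), e2 _ (b4 hn), ← wd2, e3 n hn, wd2]) _ (lt _), hβ, m1, m1, smul_inv_smul])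
  obtain ⟨w, -, w1, w2⟩ := ((om_chk2 _ (bl g 4) (q4 g)).1 (s g (by simp) r3 M.g1)).resolve_left
    fun e => M.g2 (nc (cj' g (by norm_num) r2) r1 e)
  obtain ⟨w', -, w3, w4⟩ := ((om_chk2 _ (bl k 4) (q4 k)).2.1 (s k (by simp) r1 M.k1)).resolve_left
    fun e => M.k2 (nc (cj' k (by norm_num) r2) r2 e)
  rw [force_eq] at w2 w4
  refine ⟨μ, β, ⟨lt, ad, fun v => ⟨fun e => ?_, fun e => ?_⟩, fun n hn => ⟨_, m2 n hn⟩, fun v => by rw [← (k2 _ (lt v)).1, m1],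
    fun v w => by rw [← kb _ (lt v) _ (lt w), m1, m1], fun g v => by rw [hβ, m1], O, fun v hv e => ?_, fun K hK => M.gen K
      (hK _ 1 (by norm_num) rfl r1) (hK _ 4 (by norm_num) rfl r2) (hK _ 16 (by norm_num) rfl r3)
      (hK _ _ (bl g 4) (q4 g) (cj' g (by norm_num) r2)) (hK _ _ (bl k 4) (q4 k) (cj' k (by norm_num) r2))⟩,
    r1, r2, r3, r4⟩
  · rw [← m1 v, e, ← Nat.xor_self 0, k1, h.two]
  · rw [e, ← h.two 0, ad, Nat.xor_self]
  obtain ⟨u, -, u1, u2⟩ := (om_chk2 v hv e).2.2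
  rw [force_eq] at u2
  refine W _ u ?_ u1 1 (by norm_num) ⟨_, r1⟩ v u2 (by rintro rfl; exact absurd e (by decide))
  simpa using ⟨⟨_, r1⟩, ⟨_, r2⟩, ⟨_, r3⟩, ⟨_, r4⟩, W _ w L4 w1 _ (bl g 4) ⟨_, cj' g (by norm_num) r2⟩ 69 w2 (by norm_num),
    W _ w' L4 w3 _ (bl k 4) ⟨_, cj' k (by norm_num) r2⟩ 84 w4 (by norm_num)⟩

end

def wR : List (List ℕ) := [[], [1], [5, 3, 2, 4, 2, 3, 5], [3], [4], [3, 4, 5, 3, 4]]
noncomputable def gs' : List ℕ := mapL (wordN 27 gs) wR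

theorem md1 : ∃ a₁ a₂ a₃ a₄ c d g k : P0, MD a₁ a₂ a₃ a₄ c d g k ∧ ∃ ρ : MulAut P0, ρ * ρ = 1 ∧ ρ a₁ = a₃ * a₃ ∧ ρ a₂ = a₄ * a₄ ∧
    ρ a₃ = a₁ * a₁ ∧ ρ a₄ = a₂ * a₂ := by
  have hC := R_cst (c := c27) (φ := MonoidHom.id P0) gsH
  have k := chk_tm (fun _ _ => id) hC tM chkM
  have e := fun K => range_eq (K := K) hC
  have g0 : ∀ i, 6 ≤ i ∨ i = 0 → cst c27 (MonoidHom.id P0) gs i = 1 := fun i hi => (hC i).2.symm.trans (gl1 i (by
    simp [Comp.P43x.L]; omega))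
  generalize cst c27 (MonoidHom.id P0) gs = γ at k e g0 hC
  have hH : ∀ y ∈ gs', c27.InH P0 y := Coding.inH_words gsH _
  have pr := presB_sound hH (iv := Comp.P43x.iv) (R := Comp.P43x.R) (by decide +kernel)
  obtain ⟨φ, f1, f2⟩ := sol pr.1 pr.2 (fun e => ev_gl_ne hH (u := [1]) (w := []) (by decide +kernel) ((Comp.ev_single _ _).trans e))
    fun i hi => by
      by_cases h : 6 ≤ i
      · exact gl_one hH (le_trans (by decide +kernel) h)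
      · rw [show i = 0 by simp [Comp.P43x.L] at hi; omega]; exact pr.1.1
  have key : ∀ t t' : Tm, t.B 27 gs' [] = t'.B 27 gs [] → φ (t.ev γ []) = t'.ev γ [] := fun t t' e =>
    ((congrArg φ (t.sound hC .nil).2.symm).trans (t.sound f2 .nil).2).trans ((R.eq_iff (φ := MonoidHom.id P0) (fun _ _ => id)
      (t.sound (C := gl hH) (fun i => ⟨inH_getL hH i, rfl⟩) .nil) (t'.sound hC .nil)).1 e)
  have ff : ∀ x, φ (φ x) = x := fun x => e ((φ.comp φ).eqLocus (MonoidHom.id _)) (fun i => by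
    by_cases h : 6 ≤ i
    · rw [g0 i (Or.inl h)]; exact one_mem _
    · exact (congrArg φ (key (.c i) (Psp43.wd (wR.getD i [])) ((by decide +kernel : ∀ i < 6, (Tm.c i).B 27 gs' [] =
        (Psp43.wd (wR.getD i [])).B 27 gs []) i (by omega)))).trans (key _ (.c i) ((by decide +kernel : ∀ i < 6,
          (Psp43.wd (wR.getD i [])).B 27 gs' [] = (Tm.c i).B 27 gs []) i (by omega)))) ⟨x, rfl⟩
  have r : ∀ i j, (nt 1 tM i).B 27 gs' [] = (nt 1 tM j * nt 1 tM j).B 27 gs [] → i < 4 → j < 4 → φ (nt 1 (tM.map (Tm.ev γ [])) i) =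
      nt 1 (tM.map (Tm.ev γ [])) j * nt 1 (tM.map (Tm.ev γ [])) j := fun i j e a b => by
    interval_cases i <;> interval_cases j <;> exact key _ _ e
  have r1 := r 0 2 (by decide +kernel) (by norm_num) (by norm_num)
  have r2 := r 1 3 (by decide +kernel) (by norm_num) (by norm_num)
  have r3 := r 2 0 (by decide +kernel) (by norm_num) (by norm_num)
  have r4 := r 3 1 (by decide +kernel) (by norm_num) (by norm_num)
  have m : ∀ i < 5, nt 1 (tM.map (Tm.ev γ [])) (8 + i) = γ (i + 1) := fun i hi => by interval_cases i <;> rfl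
  generalize nt 1 (tM.map (Tm.ev γ [])) = C at k m r1 r2 r3 r4
  obtain ⟨a1, a2, a3, a4, a5, a6, a7, a8, a9, a10, a11, a12, a13, a14, a15, a16, a17, a18, a19, a20, a21, a22, a23, a24, a25, b1, b2, b3, b4,
    b5⟩ := k
  refine ⟨C 0, C 1, C 2, C 3, C 4, C 5, C 6, C 7, ⟨a1, a2, a3, a4, a5, a6, a7, a8, a9, a10, a11, a12, a13, a14, a15, a16, a17, a18, a19, a20,
    a21, a22, a23, a24, a25, fun K k0 k1 k2 k3 k4 x => e K (fun i => ?_) ⟨x, rfl⟩⟩,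
    MonoidHom.toMulEquiv φ φ (MonoidHom.ext ff) (MonoidHom.ext ff), MulEquiv.ext ff, r1, r2, r3, r4⟩
  have w : ∀ l, (wM l).ev C [] ∈ K := fun l => by
    induction l with
    | nil => exact one_mem _
    | cons i l ih =>
      refine mul_mem ?_ ih
      rcases i with _ | _ | _ | _ | _ | i
      exacts [k0, k1, k2, k3, k4, one_mem _]
  rcases i with _ | _ | _ | _ | _ | _ | i
  exacts [g0 0 (Or.inr rfl) ▸ one_mem _, m 0 (by norm_num) ▸ (show C 8 = _ from b1) ▸ w _, m 1 (by norm_num) ▸ (show C 9 = _ from b2) ▸ w _,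
    m 2 (by norm_num) ▸ (show C 10 = _ from b3) ▸ w _, m 3 (by norm_num) ▸ (show C 11 = _ from b4) ▸ w _,
    m 4 (by norm_num) ▸ (show C 12 = _ from b5) ▸ w _, by rw [g0 _ (Or.inl (by omega))]; exact one_mem _]

theorem conj_inj0 : Function.Injective (MulAut.conj : P0 →* MulAut P0) := by
  have := simple0
  obtain ⟨a₁, a₂, a₃, a₄, c, d, g, k, D⟩ := md0
  refine (MonoidHom.ker_eq_bot_iff _).1 ((MonoidHom.normal_ker _).eq_bot_or_eq_top.resolve_right fun e => D.g2 ?_)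
  exact mul_inv_eq_iff_eq_mul.1 (congrArg (· a₁) (show MulAut.conj _ = 1 from e.ge (mem_top (g * a₂ * g⁻¹))))

theorem idx0 : (MulAut.conj : P0 →* MulAut P0).range.index = 2 := by
  have := Fintype.ofFinite (GaloisField 2 2)
  have h4 : Fintype.card (GaloisField 2 2) = 4 := by rw [← Nat.card_eq_fintype_card, GaloisField.card 2 2 (by norm_num)]; rfl
  obtain ⟨e⟩ := Cfsg.Agent.S0822.result h4 (ZMod.card 3)
  obtain ⟨f⟩ := isoP0 (ZMod.card 3)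
  have k := Cfsg.Agent.S0815.result 2 1 le_rfl (q := 2) rfl h4 4 (by norm_num) (by norm_num)
  rw [Nat.card_congr (MulAut.congr (e.trans f.symm)).toEquiv, Nat.card_congr (e.trans f.symm).toEquiv,
    ← (MulAut.conj : P0 →* MulAut P0).range.index_mul_card, ← Nat.card_congr (MonoidHom.ofInjective conj_inj0).toEquiv, card_P0] at k
  exact (Nat.eq_of_mul_eq_mul_right (by norm_num) (k.trans (by norm_num : _ = 2 * 25920)))

variable {G : Type*} [Group G]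

structure AH (Q H : Subgroup G) (z : G) : Prop where
  ls : LS Q z
  card : Nat.card Q = 512
  le : Q ≤ H
  hz : ∀ {g}, g ∈ H → Commute z g
  two : ∀ {a b}, Commute z a → Commute z b → (a * b ∈ H ↔ (a ∈ H ↔ b ∈ H))
  pi : ∃ π : H →* P0, Function.Surjective π ∧ ∀ g, π g = 1 ↔ (g : G) ∈ Q
  cen : ∀ g, Commute z g → (∀ k ∈ H, g * k * g⁻¹ * k⁻¹ ∈ Q) → g ∈ Q

structure CN2 (Q H : Subgroup G) (z x y : G) : Prop extends AH Q H z where
  hx : x ∈ Q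
  hy : y ∈ Q
  anti : ¬ Commute x y
  fx : ∀ g ∈ H, g * x * g⁻¹ = x ∨ g * x * g⁻¹ = x * z
  fy : ∀ g ∈ H, g * y * g⁻¹ = y ∨ g * y * g⁻¹ = y * z
  fix : ∀ r ∈ Q, Commute x r → Commute y r → (∀ g ∈ H, g * r * g⁻¹ = r ∨ g * r * g⁻¹ = r * z) → r = 1 ∨ r = z

structure F9 (Q H : Subgroup G) (z : G) (ν : G → ℕ) (α : G → ℕ → ℕ) : Prop extends AH Q H z where
  lt : ∀ y, ν y < 256
  mul : ∀ {x y}, x ∈ Q → y ∈ Q → ν (x * y) = ν x ^^^ ν y
  zero : ∀ {y}, y ∈ Q → (ν y = 0 ↔ y = 1 ∨ y = z)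
  sur : ∀ n < 256, ∃ y ∈ Q, ν y = n
  sq : ∀ {y}, y ∈ Q → (y * y = 1 ↔ q8 (ν y) = false)
  comm : ∀ {x y}, x ∈ Q → y ∈ Q → (Commute x y ↔ b8 (ν x) (ν y) = false)
  conj : ∀ {g y}, Commute z g → y ∈ Q → ν (g * y * g⁻¹) = α g (ν y)
  om : ∀ {g n}, g ∈ H → n < 256 → α g (om n) = om (α g n)
  om2 : ∀ {g n}, Commute z g → g ∉ H → n < 256 → α g (Par.om n) = Par.om (Par.om (α g n))
  refl : ∀ v < 256, q8 v = true → ∃ g ∈ H, EQ (α g) (rf v)
  out : ∃ w g, Commute z w ∧ w ∉ H ∧ w * w ∈ Q ∧ Commute z g ∧ EQ (α g) (Par.wd [1, 4]) ∧ EQ (α (w * g)) (α (g * w))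

theorem sum_chk : ∀ n < 256, om (om n) = rf 1 n ^^^ rf 4 n ^^^ rf 16 n ^^^ rf 64 n ∧
    om n = Par.wd [16, 16] n ^^^ Par.wd [64, 64] n ^^^ Par.wd [1, 1] n ^^^ Par.wd [4, 4] n := by decide +kernel

theorem dicho2 [Finite G] {Q : Subgroup G} {z : G} (h : LS Q z) (hc : Nat.card Q = 512) (π : centralizer {z} →* MulAut P0)
    (h1 : Function.Surjective π) (h2 : ∀ g, π g = 1 ↔ (g : G) ∈ Q) :
    ∃ H, (∃ x y, CN2 Q H z x y) ∨ ∃ ν α, F9 Q H z ν α := by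
  classical
  have zp : ∀ x : Q, x ∈ zpowers (⟨z, h.mem⟩ : Q) ↔ (x : G) = 1 ∨ (x : G) = z := fun x => by
    rw [mem_zpowers_invol (Subtype.ext h.sq), Subtype.ext_iff, Subtype.ext_iff]; rfl
  obtain ⟨V, _, _, M, hM⟩ := PGrp.exists_cExt (p := 2) (z := (⟨z, h.mem⟩ : Q)) ((orderOf_mk _ _).trans h.orderOf_eq)
    (mem_center_iff.2 fun g => Subtype.ext (h.cen g g.2)) (commutator_le.2 fun x _ y _ => (zp _).2 (h.mem_zp.1 (h.commutator_mem x.2 y.2)))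
    fun x => (zp _).2 (by simpa [sq] using h.sq_mem x x.2)
  have p0 : ∀ x : Q, M.pr x = 0 ↔ (x : G) = 1 ∨ (x : G) = z := fun x => by rw [M.pr_eq_zero', M.range_eq, hM, zp]
  have hN := M.nondeg_iff.2 (by
    ext x; rw [M.range_eq, hM, zp, mem_center_iff]
    exact ⟨fun a => h.of_cen x x.2 fun y hy => (congrArg Subtype.val (a ⟨y, hy⟩)).symm, fun a g => Subtype.ext (by
      rcases a with a | a <;> simp [a, h.cen g g.2])⟩)
  have t2 : ∀ v : V, v + v = 0 := fun v => by rw [← two_smul (ZMod 2), show (2 : ZMod 2) = 0 from rfl, zero_smul]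
  have pe : ∀ x y : Q, M.pr y = M.pr x ↔ (y : G) = x ∨ (y : G) = x * z := fun x y => by
    rw [← sub_eq_zero, sub_eq_neg_add, ← M.pr_inv, ← M.pr_mul, p0, coe_mul, coe_inv, inv_mul_eq_one, inv_mul_eq_iff_eq_mul, eq_comm]
  let φ := (M.autLin hN).comp (Q.normalizerMonoidHom.comp (inclusion h.cent_le_norm))
  have nm : ∀ g : centralizer {z}, ∀ x : Q, (g : G) * x * (g : G)⁻¹ ∈ Q := fun g x => h.norm g (mem_centralizer_singleton_iff.1 g.2) x x.2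
  have e0 : ∀ g x, φ g (M.pr x) = M.pr ⟨_, nm g x⟩ := fun g x => M.autLin_pr hN _ x
  let _ := DistribMulAction.compHom V (π.liftOfSurjective h1 ⟨φ, fun g hg => LinearEquiv.ext (M.pr_surjective.forall.2 fun x =>
    (e0 g x).trans ((pe _ _).2 (h.conj_eq ((h2 g).1 hg) x.2)))⟩)
  have e : ∀ g x, π g • M.pr x = M.pr ⟨_, nm g x⟩ := fun g x =>
    (congrArg (fun f : V ≃ₗ[ZMod 2] V => f (M.pr x)) (π.liftOfRightInverse_comp_apply _ _ _ g)).trans (e0 g x)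
  have cz' : ∀ {g}, Commute z g → g ∈ centralizer {z} := fun a => mem_centralizer_singleton_iff.2 a.symm
  have q1 : ∀ x : Q, decide (M.P (M.pr x) ≠ 0) = false ↔ (x : G) * x = 1 := fun x => by
    simp only [ne_eq, decide_not, Bool.not_eq_false', decide_eq_true_eq, M.P_eq_zero, sq, Subtype.ext_iff]; rfl
  have b1 : ∀ x y : Q, decide (M.B (M.pr x) (M.pr y) ≠ 0) = false ↔ Commute (x : G) y := fun x y => by
    simp only [ne_eq, decide_not, Bool.not_eq_false', decide_eq_true_eq, M.B_eq_zero, Subtype.ext_iff]; rfl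
  have cc : ∀ a : centralizer {z}, Commute z a := fun a => (mem_centralizer_singleton_iff.1 a.2).symm
  let _ := DistribMulAction.compHom V (MulAut.conj : P0 →* MulAut P0)
  have sm : ∀ (γ : P0) (v : V), γ • v = MulAut.conj γ • v := fun _ _ => rfl
  obtain ⟨H, mH⟩ : ∃ H : Subgroup G, ∀ g, g ∈ H ↔ ∃ a : Commute z g, π ⟨g, cz' a⟩ ∈ (MulAut.conj : P0 →* MulAut P0).range :=
    ⟨((MulAut.conj : P0 →* MulAut P0).range.comap π).map (centralizer {z}).subtype, fun g =>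
      ⟨by rintro ⟨g, a, rfl⟩; exact ⟨cc g, a⟩, fun ⟨a, b⟩ => ⟨⟨g, cz' a⟩, b, rfl⟩⟩⟩
  have mH' : ∀ {g} (a : Commute z g), g ∈ H ↔ π ⟨g, cz' a⟩ ∈ (MulAut.conj : P0 →* MulAut P0).range := fun a =>
    (mH _).trans ⟨fun b => b.2, fun b => ⟨a, b⟩⟩
  have sur : ∀ γ, ∃ g : centralizer {z}, (g : G) ∈ H ∧ π g = MulAut.conj γ := fun γ =>
    let ⟨g, a⟩ := h1 (MulAut.conj γ); ⟨g, (mH' (cc g)).2 ⟨γ, a.symm⟩, a⟩
  have cr : ∀ (ρ : MulAut P0) γ, MulAut.conj (ρ γ) * ρ = ρ * MulAut.conj γ := fun ρ γ => MulEquiv.ext fun x => by simp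
  have A : AH Q H z := by
    have l : H ≤ centralizer {z} := fun g a => cz' ((mH g).1 a).1
    let ψ := (MonoidHom.ofInjective conj_inj0).symm.toMonoidHom.comp ((π.comp (inclusion l)).codRestrict _ fun g => ((mH g).1 g.2).2)
    have p : ∀ g, MulAut.conj (ψ g) = π ⟨g, l g.2⟩ := fun g => MonoidHom.apply_ofInjective_symm conj_inj0 _
    refine ⟨h, hc, fun g a => (mH' (h.cen g a).symm).2 (((h2 ⟨g, _⟩).2 a).symm ▸ one_mem _), fun a => ((mH _).1 a).1,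
      fun a b => by rw [mH' a, mH' b, mH' (a.mul_right b), ← mul_mem_iff_of_index_two idx0, ← map_mul]; rfl,
      ⟨ψ, fun γ => let ⟨g, a, b⟩ := sur γ; ⟨⟨g, a⟩, conj_inj0 ((p _).trans b)⟩, fun g => by
        rw [← conj_inj0.eq_iff, p, map_one, h2]⟩, fun g a b => (h2 ⟨g, cz' a⟩).1 (MulEquiv.ext fun γ => conj_inj0 ?_)⟩
    obtain ⟨k, k1, k2⟩ := sur γ
    have := (h2 (⟨g, cz' a⟩ * k * (⟨g, cz' a⟩ : centralizer {z})⁻¹ * k⁻¹)).2 (b k k1)
    rw [map_mul, map_mul, map_mul, map_inv, map_inv, k2, ← cr, mul_inv_cancel_right, mul_inv_eq_one] at this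
    exact this
  have HQ : QM P0 (fun v : V => decide (M.P v ≠ 0)) fun v w => decide (M.B v w ≠ 0) := by
    refine ⟨by have := M.card_eq; omega, t2, fun γ => M.pr_surjective.forall.2 fun x => ?_, fun v w => ?_, fun u v w => ?_,
      M.pr_surjective.forall.2 fun x a => (p0 x).2 (h.of_cen x x.2 fun y hy => (b1 x ⟨y, hy⟩).1 (a _)), fun γ a => ?_⟩
    · obtain ⟨g, -, b⟩ := sur γ
      rw [← Bool.not_inj_iff, Bool.eq_iff_iff, Bool.not_eq_true', Bool.not_eq_true', sm, ← b, e, q1, q1, conj_sq_iff]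
    · rw [M.P_add, M.B_symm w]
      generalize M.P v = a; generalize M.P w = b; generalize M.B v w = c; revert a b c; decide
    · rw [map_add]
      generalize M.B u v = a; generalize M.B u w = b; revert a b; decide
    obtain ⟨g, -, b⟩ := sur γ
    exact conj_inj0 (b.symm.trans (((h2 g).2 (h.mem_of_inner (mem_centralizer_singleton_iff.1 g.2) fun x hx =>
      (pe ⟨x, hx⟩ ⟨_, nm g ⟨x, hx⟩⟩).1 ((e g _).symm.trans (b ▸ a _)))).trans (map_one _).symm))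
  obtain ⟨a₁, a₂, a₃, a₄, c, d, g, k, D, ρ, r0, r1, r2, r3, r4⟩ := md1
  refine ⟨H, ?_⟩
  by_cases hN : ∀ v : V, a₁ • v = v → a₂ • v = v
  · obtain ⟨x, y, c1, c2, c3⟩ := HQ.caseN D hN
    obtain ⟨x, rfl⟩ := M.pr_surjective x
    obtain ⟨y, rfl⟩ := M.pr_surjective y
    have k : ∀ x : Q, (∀ γ : P0, γ • M.pr x = M.pr x) → ∀ g ∈ H, g * x * g⁻¹ = x ∨ g * x * g⁻¹ = x * z := fun x a g b => by
      obtain ⟨c, γ, d⟩ := (mH g).1 b
      exact (pe x ⟨_, nm ⟨g, cz' c⟩ x⟩).1 ((e _ x).symm.trans (d ▸ a γ))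
    refine Or.inl ⟨x, y, A, x.2, y.2, fun a => by simp [(b1 x y).2 a] at c1, k x fun γ => (c2 γ).1, k y fun γ => (c2 γ).2,
      fun r r1 r2 r3 r4 => ?_⟩
    obtain ⟨a, a1, a2⟩ := sur a₁
    exact (p0 ⟨r, r1⟩).1 (c3 _ ((sm _ _).trans (a2 ▸ (e a _).trans ((pe _ _).2 (r4 a a1)))) ((b1 x _).2 r2) ((b1 y _).2 r3))
  push Not at hN
  obtain ⟨x, x1, x2⟩ := hN
  obtain ⟨μ, β, F, s1, s2, s3, s4⟩ := HQ.fr' D x1 x2
  obtain ⟨ν, n0, n1⟩ : ∃ ν : G → ℕ, (∀ y, ν y < 256) ∧ ∀ y (hy : y ∈ Q), ν y = μ (M.pr ⟨y, hy⟩) :=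
    ⟨fun y => if hy : y ∈ Q then μ (M.pr ⟨y, hy⟩) else 0, fun y => by dsimp only; split_ifs; exacts [F.lt _, by norm_num], fun y hy => dif_pos hy⟩
  choose! κ hκ using F.sur
  have mi : ∀ v, κ (μ v) = v := fun v => HQ.eq0.1 ((F.zero _).1 (by rw [F.add, hκ _ (F.lt v), Nat.xor_self]))
  obtain ⟨B, hB⟩ : ∃ B : MulAut P0 → ℕ → ℕ, ∀ f n, B f n = μ (f • κ n) := ⟨_, fun _ _ => rfl⟩
  have bl : ∀ f n, B f n < 256 := fun f n => hB f n ▸ F.lt _
  have bm : ∀ f f' n, B (f * f') n = B f (B f' n) := fun f f' n => by rw [hB, hB, hB, mi, mul_smul]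
  have bc : ∀ γ, EQ (B (MulAut.conj γ)) (β γ) := fun γ n hn => by rw [hB, ← sm, F.act, hκ n hn]
  have ba : ∀ f, ∀ m < 256, ∀ n < 256, B f (m ^^^ n) = B f m ^^^ B f n := fun f m hm n hn => by
    rw [hB, hB, hB, ← F.add, ← smul_add, ← mi (κ m + κ n), F.add, hκ m hm, hκ n hn]
  have t : ∀ {a a' e e'}, ρ a = a' * a' → EQ (β a) (rf e) → EQ (β a') (rf e') → ∀ n < 256, B ρ (rf e n) = Par.wd [e', e'] (B ρ n) :=
    fun {a a' e e'} r s s' n hn => by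
      rw [← s n hn, ← bc a n hn, ← bm, ← cr, r, map_mul, bm, bm, bc _ _ (bl _ _), s' _ (bl _ _), bc _ _ (bl _ _), s' _ (bl _ _), wd2]
  have o1 : ∀ n < 256, B ρ (om (om n)) = om (B ρ n) := fun n hn => by
    have l := fun e (he : e < 256) => rf_lt he hn
    rw [(sum_chk n hn).1, ba _ _ (xlt (xlt (l 1 (by norm_num)) (l 4 (by norm_num))) (l 16 (by norm_num))) _ (l 64 (by norm_num)),
      ba _ _ (xlt (l 1 (by norm_num)) (l 4 (by norm_num))) _ (l 16 (by norm_num)), ba _ _ (l 1 (by norm_num)) _ (l 4 (by norm_num)),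
      t r1 s1 s3 n hn, t r2 s2 s4 n hn, t r3 s3 s1 n hn, t r4 s4 s2 n hn, (sum_chk _ (bl _ _)).2]
  have o2 : ∀ n < 256, B ρ (om n) = om (om (B ρ n)) := fun n hn => by
    rw [← o1 n hn, ← o1 _ (om_lt _ (om_lt n hn)), (om3 _ (om_lt n hn)).2.1]
  have rn : ρ ∉ (MulAut.conj : P0 →* MulAut P0).range := by
    rintro ⟨γ, rfl⟩
    have := o2 _ (bl (MulAut.conj γ)⁻¹ 1)
    rw [bc _ _ (om_lt _ (bl _ _)), F.om _ _ (bl _ _), ← bc _ _ (bl _ _), ← bm, mul_inv_cancel, hB, one_smul, hκ 1 (by norm_num)] at this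
    exact absurd this (by decide)
  obtain ⟨α, a1⟩ : ∃ α : G → ℕ → ℕ, ∀ g (hg : Commute z g), α g = B (π ⟨g, cz' hg⟩) :=
    ⟨fun g => if hg : Commute z g then B (π ⟨g, cz' hg⟩) else id, fun g hg => dif_pos hg⟩
  refine Or.inr ⟨ν, α, A, n0, fun a b => by rw [n1 _ a, n1 _ b, n1 _ (mul_mem a b), ← F.add, ← M.pr_mul]; rfl,
    fun a => by rw [n1 _ a, F.zero, p0], fun n hn => ?_, fun a => by rw [n1 _ a, ← F.q, q1], fun a b => by rw [n1 _ a, n1 _ b, ← F.b, b1],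
    fun a b => by rw [a1 _ a, n1 _ b, hB, mi, e, n1], fun {g n} a b => ?_, fun {g n} a b c => ?_, fun v a b => ?_, ?_⟩
  · obtain ⟨y, a⟩ := M.pr_surjective (κ n)
    exact ⟨y, y.2, (n1 _ y.2).trans (a ▸ hκ n hn)⟩
  · obtain ⟨c, γ, d⟩ := (mH g).1 a
    rw [a1 _ c, ← d, bc _ _ (om_lt n b), bc _ _ b, F.om _ _ b]
  · obtain ⟨γ, d⟩ := (mul_mem_iff_of_index_two idx0).2 (iff_of_false rn (mt (mH' a).2 b))
    rw [a1 _ a, ← one_mul (π _), ← r0, mul_assoc, ← d, bm, bm, bc _ _ (om_lt n c), F.om _ _ c, ← bc _ _ c, o2 _ (bl _ _)]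
  · obtain ⟨γ, c⟩ := F.refl v a b
    obtain ⟨g, g1, g2⟩ := sur γ
    exact ⟨g, g1, fun n hn => by rw [a1 _ (cc g), g2, bc _ _ hn, c n hn]⟩
  obtain ⟨w, rfl⟩ := h1 ρ
  obtain ⟨g, -, g2⟩ := sur (a₁ * a₂)
  refine ⟨w, g, cc w, mt (mH' (cc w)).1 rn, (h2 (w * w)).1 ((map_mul _ _ _).trans r0), cc g, fun n hn => by
    rw [a1 _ (cc g), g2, map_mul, bm, bc _ _ (bl _ _), s1 _ (bl _ _), bc _ _ hn, s2 n hn, wd2], fun n hn => ?_⟩
  rw [a1 _ ((cc w).mul_right (cc g)), a1 _ ((cc g).mul_right (cc w))]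
  refine congrArg (B · n) ((map_mul π w g).trans (Eq.trans ?_ (map_mul π g w).symm))
  rw [g2, ← cr, map_mul, r1, r2]
  congr 2
  have c3 : a₃ * a₃ * a₃ = 1 := by rw [← D.g1, conj_mul, conj_mul, D.cube]; simp
  have c4 : a₄ * a₄ * a₄ = 1 := by rw [← D.c3', conj_mul, conj_mul, c3]; simp
  calc _ = a₃ * a₃ * (a₄ * a₄) * (a₄ * a₃ * (a₁ * a₂)) := by
        rw [D.m34, show a₃ * a₄ * (a₁ * a₂) = a₂⁻¹ * (a₂ * a₃ * a₄ * a₁) * a₂ by group, D.prod]; group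
    _ = _ := by rw [show a₃ * a₃ * (a₄ * a₄) * (a₄ * a₃ * (a₁ * a₂)) = a₃ * a₃ * (a₄ * a₄ * a₄) * a₃ * (a₁ * a₂) by group, c4, mul_one, c3, one_mul]

end Cfsg.Lib.Par
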