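import Cfsg.Agent.Lib.Known2.Q1

/-! The group `2^{1+8}.U₄(2).2`: weak closure of the central involution in `Q`. -/

set_option autoImplicit false
set_option synthInstance.maxSize 2000
set_option linter.unusedSectionVars false

namespace Cfsg.Lib.Par

open Subgroup Cfsg.Lib.Known2 Cfsg.Lib.Core Cfsg.Lib.Fi Cfsg.Lib.Amalg
open Cfsg.Lib.Comp (force force_eq)

variable {G : Type*} [Group G]

theorem AH.card_two [Finite G] {Q H : Subgroup G} {z : G} (h : AH Q H z) {B : Subgroup G} (hB : ∀ b ∈ B, Commute z b) :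
    Nat.card B ≤ 2 * Nat.card ↥(B ⊓ H) := card_le_two fun a a1 b b1 a2 b2 =>
  (h.two (hB a a1).inv_right (hB b b1)).2 (iff_of_false (mt H.inv_mem_iff.1 a2) b2)

theorem tv4_chk : ∀ p ∈ [80, 144], ∀ m ∈ [5, 10, 15], ∃ l ∈ [5, 10, 15], sg (p ^^^ l) ∧ tv p (tv (p ^^^ l) 5) = 5 ∧
    tv (p ^^^ m) (tv (p ^^^ m ^^^ l) 1) = tv 5 (tv p (tv (p ^^^ l) 1)) ∧ tv (p ^^^ m) (tv (p ^^^ m ^^^ l) 4) = tv 5 (tv p (tv (p ^^^ l) 4)) ∧
    tv (p ^^^ m) (tv (p ^^^ m ^^^ l) 16) = tv 5 (tv p (tv (p ^^^ l) 16)) ∧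
    tv (p ^^^ m) (tv (p ^^^ m ^^^ l) 64) = tv 5 (tv p (tv (p ^^^ l) 64)) := by decide +kernel

namespace F9
variable [Finite G] {Q H : Subgroup G} {z : G} {ν : G → ℕ} {α : G → ℕ → ℕ} (h : F9 Q H z ν α) {g k x y t u v : G} {m n p : ℕ}
include h

theorem nm (hg : Commute z g) (hy : y ∈ Q) : g * y * g⁻¹ ∈ Q := h.ls.norm g hg.symm y hy
theorem cQ (hy : y ∈ Q) : Commute z y := (h.ls.cen y hy).symm
theorem zz : z * z = 1 := h.ls.sq
theorem ν1 : ν 1 = 0 := (h.zero (one_mem _)).2 (Or.inl rfl)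
theorem ν0 : ν z = 0 := (h.zero h.ls.mem).2 (Or.inr rfl)
theorem νz (hy : y ∈ Q) : ν (y * z) = ν y := by rw [h.mul hy h.ls.mem, h.ν0, Nat.xor_zero]
theorem νi (hy : y ∈ Q) : ν y⁻¹ = ν y := by
  have := h.mul (inv_mem hy) hy
  rw [inv_mul_cancel, h.ν1] at this
  exact Nat.xor_eq_zero_iff.1 this.symm

theorem eq_or (hx : x ∈ Q) (hy : y ∈ Q) (e : ν x = ν y) : y = x ∨ y = x * z :=
  ((h.zero (mul_mem (inv_mem hx) hy)).1 (by rw [h.mul (inv_mem hx) hy, h.νi hx, e, Nat.xor_self])).imp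
    (fun a => (inv_mul_eq_one.1 a).symm) fun a => inv_mul_eq_iff_eq_mul.1 a

theorem al (hg : Commute z g) (hn : n < 256) : α g n < 256 := by
  obtain ⟨y, a, rfl⟩ := h.sur n hn
  exact h.conj hg a ▸ h.lt _

theorem ax (hg : Commute z g) (hm : m < 256) (hn : n < 256) : α g (m ^^^ n) = α g m ^^^ α g n := by
  obtain ⟨y, a, rfl⟩ := h.sur n hn
  obtain ⟨x, b, rfl⟩ := h.sur m hm
  rw [← h.mul b a, ← h.conj hg a, ← h.conj hg b, ← h.conj hg (mul_mem b a), ← h.mul (h.nm hg b) (h.nm hg a), conj_mul]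

theorem aq (hg : Commute z g) (hn : n < 256) : q8 (α g n) = q8 n := by
  obtain ⟨y, a, rfl⟩ := h.sur n hn
  rw [← h.conj hg a, ← Bool.not_inj_iff, Bool.eq_iff_iff, Bool.not_eq_true', Bool.not_eq_true', ← h.sq a, ← h.sq (h.nm hg a),
    conj_sq_iff]

theorem ab (hg : Commute z g) (hm : m < 256) (hn : n < 256) : b8 (α g m) (α g n) = b8 m n := by
  have := q8_xor (h.al hg hm) (h.al hg hn)
  rw [← h.ax hg hm hn, h.aq hg (xlt hm hn), h.aq hg hm, h.aq hg hn, q8_xor hm hn] at this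
  revert this; cases q8 m <;> cases q8 n <;> simp [eq_comm]

theorem un (hg : g ∈ H) : Un (α g) := ⟨h.al (h.hz hg), h.ax (h.hz hg), h.aq (h.hz hg), h.om hg⟩

theorem αm (hg : Commute z g) (hk : Commute z k) (hn : n < 256) : α (g * k) n = α g (α k n) := by
  obtain ⟨y, a, rfl⟩ := h.sur n hn
  rw [← h.conj hk a, ← h.conj hg (h.nm hk a), ← h.conj (hg.mul_right hk) a, conj_conj']

theorem αQ (hx : x ∈ Q) (hn : n < 256) : α x n = n := by
  obtain ⟨y, a, rfl⟩ := h.sur n hn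
  rw [← h.conj (h.cQ hx) a]
  rcases h.ls.conj_eq hx a with e | e <;> rw [e]
  exact h.νz a

theorem αi (hg : Commute z g) (hn : n < 256) : α g (α g⁻¹ n) = n := by
  rw [← h.αm hg hg.inv_right hn, mul_inv_cancel, h.αQ (one_mem _) hn]

theorem αi' (hg : Commute z g) (hn : n < 256) : α g⁻¹ (α g n) = n := by
  simpa using h.αi hg.inv_right hn

theorem αc (hg : Commute z g) (hk : Commute z k) (hn : n < 256) : α (g * k * g⁻¹) n = α g (α k (α g⁻¹ n)) := by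
  rw [h.αm (hg.mul_right hk) hg.inv_right hn, h.αm hg hk (h.al hg.inv_right hn)]

theorem fix (hg : Commute z g) (hy : y ∈ Q) (e : Commute g y) : α g (ν y) = ν y := by
  rw [← h.conj hg hy, e.eq, mul_inv_cancel_right]

theorem fix' (hg : Commute z g) (hy : y ∈ Q) (e : α g (ν y) = ν y) : g * y * g⁻¹ = y ∨ g * y * g⁻¹ = y * z :=
  h.eq_or hy (h.nm hg hy) ((h.conj hg hy).trans e).symm

theorem ker (hg : Commute z g) (e : ∀ n < 256, α g n = n) : g ∈ Q :=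
  h.ls.mem_of_inner hg.symm fun _ hx => h.fix' hg hx (e _ (h.lt _))

theorem same (hg : Commute z g) (hk : Commute z k) (e : EQ (α g) (α k)) : g⁻¹ * k ∈ Q :=
  h.ker (hg.inv_right.mul_right hk) fun n hn => by rw [h.αm hg.inv_right hk hn, ← e _ hn, h.αi' hg hn]

theorem νc (hg : Commute z g) (hy : y ∈ Q) : ν (g * y * g⁻¹ * y⁻¹) = α g (ν y) ^^^ ν y := by
  rw [h.mul (h.nm hg hy) (inv_mem hy), h.conj hg hy, h.νi hy]

theorem word {w : List ℕ} (hw : okw w) : ∃ g ∈ H, EQ (α g) (wd w) := by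
  induction w with
  | nil => exact ⟨1, one_mem _, fun n hn => h.αQ (one_mem _) hn⟩
  | cons v w ih =>
    obtain ⟨g, a, b⟩ := ih fun x hx => hw x (List.mem_cons_of_mem _ hx)
    obtain ⟨k, c, d⟩ := h.refl v (hw v List.mem_cons_self).1 (hw v List.mem_cons_self).2
    exact ⟨k * g, mul_mem c a, fun n hn => by rw [h.αm (h.hz c) (h.hz a) hn, d _ ((h.un a).lt hn), b n hn]; rfl⟩

theorem tr1 (hp : sg p) : ∃ g ∈ H, α g p = 5 := by
  obtain ⟨g, a, b⟩ := h.word (t1_chk p hp.1 hp).1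
  exact ⟨g, a, (b p hp.1).trans (t1_chk p hp.1 hp).2⟩

theorem tvx (hp : sg p) : ∃ g ∈ H, EQ (α g) (tv p) := by
  obtain ⟨k, a, b⟩ := h.word (w := [26, 21, 16]) (by decide)
  obtain ⟨g, c, d⟩ := h.tr1 hp
  refine ⟨g⁻¹ * k * g⁻¹⁻¹, mul_mem (mul_mem (inv_mem c) a) (inv_mem (inv_mem c)), fun n hn => ?_⟩
  rw [h.αc (h.hz c).inv_right (h.hz a) hn, inv_inv, b _ ((h.un c).lt hn),
    (by decide +kernel : ∀ n < 256, wd [26, 21, 16] n = tv 5 n) _ ((h.un c).lt hn), ← d, ← (h.un c).tv hp.1 hn,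
    h.αi' (h.hz c) (tv_lt hp.1 hn)]

theorem adj (hg : g ∈ H) (ht : t ∈ Q) (e : α g (ν t) = ν t) (h0 : ν t ≠ 0) : ∃ l ∈ H, EQ (α l) (α g) ∧ Commute l t := by
  rcases h.fix' (h.hz hg) ht e with e | e
  · exact ⟨g, hg, fun _ _ => rfl, conj_eq_self_iff.1 e⟩
  obtain ⟨y, y1, y2⟩ := h.ls.exists_anti ht (fun e => h0 (e ▸ h.ν1)) fun e => h0 (e ▸ h.ν0)
  refine ⟨y * g, mul_mem (h.le y1) hg, fun n hn => by
    rw [h.αm (h.cQ y1) (h.hz hg) hn, h.αQ y1 ((h.un hg).lt hn)], conj_eq_self_iff.1 ?_⟩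
  rw [← conj_conj', e, ← conj_mul, h.ls.conj_anti y1 ht y2.symm, cz (h.cQ y1), mul_assoc, h.zz, mul_one]

theorem ea_le' {A : Subgroup G} (hA : A ≤ Q) (hz : z ∈ A) (hc : ∀ a ∈ A, ∀ b ∈ A, Commute a b) : Nat.card A ≤ 32 := by
  have e := h.ls.card_cent hA hz
  have := card_le_of_le (show A ≤ Q ⊓ centralizer A from fun a ha => ⟨hA ha, fun b hb => hc b hb a ha⟩)
  rw [h.card] at e
  nlinarith

theorem wc (hg : g * z * g⁻¹ ∈ Q) : g * z * g⁻¹ = z := by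
  by_contra ne
  obtain ⟨k, k1, k2⟩ := h.tr1 ⟨h.lt _, (h.sq hg).1 (h.ls.conj_sq g), fun e =>
    ((h.zero hg).1 e).elim (fun e => h.ls.ne (conj_eq_one_iff.1 e)) ne⟩
  rw [← h.conj (h.hz k1) hg, conj_conj'] at k2
  have hg := conj_conj' k g z ▸ h.nm (h.hz k1) hg
  generalize k * g = g at *
  have L := h.ls.conj g
  have zQ := h.ls.sym hg (by rw [h.card]; norm_num)
  have cQ := (card_cj g Q).trans h.card
  have nm : ∀ k, Commute k (g * z * g⁻¹) → ∀ r ∈ cj g Q, k * r * k⁻¹ ∈ cj g Q := L.norm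
  generalize cj g Q = Q1 at *
  generalize g * z * g⁻¹ = t at *
  have zt : z ≠ t := fun e => by rw [← e, h.ν0] at k2; omega
  have f5 : ∀ r ∈ Q1, Commute z r → α r 5 = 5 := fun r a b => k2 ▸ h.fix b hg (L.cen r a)
  have inv : ∀ r ∈ Q1, Commute z r → ∀ n < 256, α r (α r n) = n := fun r a b n hn => by
    rw [← h.αm b b hn]
    rcases L.sq_mem r a with e | e <;> rw [e]
    exacts [h.αQ (one_mem _) hn, h.αQ hg hn]
  have cm : ∀ r ∈ Q1, Commute z r → ∀ x < 256, b8 5 x = false → ∃ c ∈ Q, c ∈ Q1 ∧ ν c = α r x ^^^ x := fun r a b x x1 x2 => by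
    obtain ⟨y, y1, rfl⟩ := h.sur x x1
    exact ⟨_, mul_mem (h.nm b y1) (inv_mem y1), by
      simpa [mul_assoc] using mul_mem a (nm y ((h.comm hg y1).2 (k2 ▸ x2)).symm _ (inv_mem a)), h.νc b y1⟩
  have fc : ∀ s ∈ Q1, Commute z s → ∀ c ∈ Q, c ∈ Q1 → α s (ν c) = ν c → Commute s c := fun s s1 s2 c m1 m2 f =>
    comm_of_conj_eq ((h.fix' s2 m1 f).resolve_right fun e => by
      rcases L.conj_eq s1 m2 with e' | e' <;> rw [e] at e'
      exacts [h.ls.ne (mul_eq_left.1 e'), zt (mul_left_cancel e')])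
  have ii : ∀ a ∈ Q, a ∈ Q1 → ∀ b ∈ Q, b ∈ Q1 → Commute a b := fun a a1 a2 b b1 b2 => fc a a2 (h.cQ a1) b b1 b2 (h.αQ a1 (h.lt _))
  obtain ⟨y, y1, y2⟩ := L.exists_anti zQ h.ls.ne zt
  have c1 := L.toES.card_two le_rfl zQ y1 y2
  have c2 := h.card_two (B := Q1 ⊓ centralizer {z}) fun b a => (mem_centralizer_singleton_iff.1 a.2).symm
  have c3 := (h.ea_le' (A := Q1 ⊓ centralizer {z} ⊓ H ⊓ Q) inf_le_right ⟨⟨⟨zQ, mem_centralizer_singleton_iff.2 rfl⟩, h.le h.ls.mem⟩,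
    h.ls.mem⟩ fun a a1 b b1 => ii a a1.2 a1.1.1.1 b b1.2 b1.1.1.1)
  have two : ∀ B : Subgroup G, (∀ r ∈ B, r ∈ H ∧ (EQ (α r) id ∨ EQ (α r) (tv 5))) → Nat.card B ≤ 2 * Nat.card ↥(B ⊓ Q) :=
    fun B key => card_le_two fun a a1 b b1 a2 b2 => h.same (h.hz (key a a1).1) (h.hz (key b b1).1) fun n hn =>
      (((key a a1).2.resolve_left fun e => a2 (h.ker (h.hz (key a a1).1) e)) n hn).trans
      (((key b b1).2.resolve_left fun e => b2 (h.ker (h.hz (key b b1).1) e)) n hn).symm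
  by_cases hc : ¬ ∃ c ∈ Q, c ∈ Q1 ∧ (ν c = 10 ∨ ν c = 15)
  · suffices K : ∀ r ∈ Q1, r ∈ H → EQ (α r) id ∨ EQ (α r) (tv 5) by
      have := two (Q1 ⊓ centralizer {z} ⊓ H) fun r a => ⟨a.2, K r a.1.1 a.2⟩
      omega
    intro r a b'
    have b := h.hz b'
    rcases inv5 (h.un b') (inv r a b) (f5 r a b) with e | e | ⟨x, x1, x2, x3⟩ | ⟨n, n1, n2⟩
    · exact Or.inl e
    · exact Or.inr e
    · obtain ⟨c, c1, c2, c3⟩ := cm r a b x x1 x2
      exact absurd ⟨c, c1, c2, c3 ▸ x3⟩ hc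
    exfalso
    obtain ⟨l, l1, l2⟩ := h.word (w := [64, 16, 16]) (by decide)
    obtain ⟨l, l1, l5, l3⟩ := h.adj l1 hg (by rw [k2, l2 5 (by norm_num)]; decide +kernel) (by omega)
    have l2 : EQ (α l) (wd [64, 16, 16]) := fun n hn => (l5 n hn).trans (l2 n hn)
    have l1 := h.hz l1
    have o2 : okw [16, 64, 64] := by decide
    have l4 : ∀ n < 256, α l⁻¹ n = wd [16, 64, 64] n := fun n hn => by
      conv_lhs => rw [← (by decide +kernel : ∀ n < 256, wd [64, 16, 16] (wd [16, 64, 64] n) = n) n hn, ← l2 _ (wd_lt o2 hn)]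
      exact h.αi' l1 (wd_lt o2 hn)
    have c := (l1.mul_right b).mul_right l1.inv_right
    have e : ∀ n < 256, α (r * (l * r * l⁻¹)) n = α r (wd [64, 16, 16] (α r (wd [16, 64, 64] n))) := fun n hn => by
      rw [h.αm b c hn, h.αc l1 b hn, l4 n hn, l2 _ (h.al b (wd_lt o2 hn))]
    have := inv _ (mul_mem a (nm l l3 r a)) (b.mul_right c) n n1
    rw [e _ (h.al (b.mul_right c) n1), e n n1] at this
    exact n2 this
  obtain ⟨c, m1, m2, x3⟩ := not_not.1 hc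
  have fH : ∀ s ∈ Q1, s ∈ H → α s (ν c) = ν c := fun s s1 s2 =>
    fixW (h.un s2) (by norm_num) (f5 s s1 (h.hz s2)) (by rcases x3 with e | e <;> rw [e] <;> rfl)
  obtain ⟨s, s1, s2, s3⟩ : ∃ s ∈ Q1, Commute z s ∧ s ∉ H := by
    by_contra n
    push Not at n
    rcases L.double_perp zQ m2 fun s s1 s2 => (fc s s1 s2 c m1 m2 (fH s s1 (n s s1 s2))).symm with (rfl | rfl) | rfl | rfl
    · rw [h.ν1] at x3; omega
    · omega
    · rw [h.ν0] at x3; omega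
    · rw [(h.cQ hg).eq, h.νz hg] at x3; omega
  have dec : ∀ p ∈ [80, 144], ∃ a ∈ Q, a ∈ Q1 ∧ ∃ b ∈ Q, b ∈ Q1 ∧ p = Par.om (Par.om (ν a)) ^^^ ν b := fun p hp => by
    obtain ⟨p1, p2, p3⟩ := (by decide : ∀ p ∈ [80, 144], p < 256 ∧ b8 5 p = false ∧ b8 5 (Par.om p) = false) p hp
    obtain ⟨a, a1, a2, a3⟩ := cm s s1 s2 p p1 p2
    obtain ⟨b, b1, b2, b3⟩ := cm s s1 s2 _ (om_lt p p1) p3
    refine ⟨a, a1, a2, b, b1, b2, ?_⟩
    have l := h.al s2 p1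
    rw [a3, b3, h.om2 s2 s3 p1, om_xor l p1, om_xor (om_lt _ l) (om_lt _ p1), (om3 p p1).1]
    generalize Par.om (Par.om (α s p)) = x
    rw [Nat.xor_comm x, Nat.xor_assoc, ← Nat.xor_assoc x, Nat.xor_self, Nat.zero_xor, Nat.xor_assoc, Nat.xor_self, Nat.xor_zero]
  have T : ∀ r ∈ Q1, r ∈ H → α r 80 = 80 → α r 144 = 144 → EQ (α r) id ∨ EQ (α r) (tv 5) := fun r a b e1 e2 => by
    obtain ⟨m, hm, e⟩ := ff_of (h.un b) (f5 r a (h.hz b)) e1
    by_cases m0 : m = 0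
    · exact Or.inl fun n hn => by rw [e n hn, m0, (ff_val n hn).1]; rfl
    · exact Or.inr fun n hn => by
        rw [e n hn, (ff_fix 144 (by norm_num) rfl m hm ((e _ (by norm_num)).symm.trans e2) m0).1 rfl, (ff_val n hn).2.1]
  have e1 := L.card_cent (A := Q1 ⊓ Q) inf_le_left ⟨L.mem, hg⟩
  have zN : ∀ r ∈ Q1 ⊓ centralizer ↑(Q1 ⊓ Q), Commute z r := fun r a => a.2 z ⟨zQ, h.ls.mem⟩
  have e2 := two (Q1 ⊓ centralizer ↑(Q1 ⊓ Q)) fun r a => by
    have b : r ∈ H := by_contra fun b => by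
      have := h.om2 (zN r a) b (n := 5) (by norm_num)
      have f := h.fix (zN r a) m1 (Commute.symm (a.2 c ⟨m2, m1⟩))
      rw [f5 r a.1 (zN r a)] at this
      rcases x3 with e | e <;> rw [e] at f
      · exact absurd (f.symm.trans this) (by decide)
      · rw [show 15 = 5 ^^^ Par.om 5 from rfl, h.ax (zN r a) (by norm_num) (by decide), this, f5 r a.1 (zN r a)] at f
        exact absurd f (by decide)
    have k : ∀ p ∈ [80, 144], α r p = p := fun p hp => by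
      obtain ⟨x, x1, x2, y, y1, y2, rfl⟩ := dec p hp
      rw [h.ax (zN r a) (om_lt _ (om_lt _ (h.lt _))) (h.lt _), h.om b (om_lt _ (h.lt _)), h.om b (h.lt _),
        h.fix (zN r a) x1 (Commute.symm (a.2 x ⟨x2, x1⟩)), h.fix (zN r a) y1 (Commute.symm (a.2 y ⟨y2, y1⟩))]
    exact ⟨b, T r a.1 b (k 80 (by simp)) (k 144 (by simp))⟩
  have l1 : Q1 ⊓ Q ≤ Q1 ⊓ centralizer ↑(Q1 ⊓ Q) := fun a a1 => ⟨a1.1, fun b b1 => ii b b1.2 b1.1 a a1.2 a1.1⟩
  have e3 : Nat.card ↥(Q1 ⊓ centralizer ↑(Q1 ⊓ Q) ⊓ Q) ≤ Nat.card ↥(Q1 ⊓ Q) := card_le_of_le (inf_le_inf_right _ inf_le_left)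
  have e4 := card_le_of_le l1
  have e5 : Nat.card ↥(Q1 ⊓ Q) ∣ 2 ^ 9 := (card_dvd_of_le inf_le_right).trans (h.card ▸ dvd_rfl)
  have e6 : Nat.card ↥(Q1 ⊓ centralizer ↑(Q1 ⊓ Q)) ≤ Nat.card ↥(Q1 ⊓ Q) := by
    obtain ⟨i, hi, e⟩ := (Nat.dvd_prime_pow Nat.prime_two).1 e5
    rw [cQ] at e1
    rw [e] at e1 e3 e4 ⊢
    interval_cases i <;> omega
  have TQ : ∀ r ∈ Q1, Commute z r → EQ (α r) id ∨ EQ (α r) (tv 5) → r ∈ Q := fun r a b e =>
    ((eq_of_le_of_card_ge l1 e6).ge ⟨a, fun x hx => (fc r a b x hx.2 hx.1 (e.elim (· _ (h.lt _)) fun e => by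
      have u1 := (h.comm hg hx.2).1 (ii _ hg L.mem _ hx.2 hx.1)
      have u2 := (h.comm m1 hx.2).1 (ii _ m1 m2 _ hx.2 hx.1)
      rw [k2] at u1
      refine (e _ (h.lt _)).trans ((sc_all (by norm_num) (h.lt _)).2.2.2.1 ?_)
      rcases x3 with f | f <;> rw [f] at u2
      · rw [Par.hz, u1]; exact congrArg (!false && !·) u2
      · rw [show 15 = 5 ^^^ Par.om 5 from rfl, b8_left (by norm_num) (by decide), u1] at u2
        rw [Par.hz, u1]; simpa using u2)).symm⟩).2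
  suffices K : Q1 ⊓ centralizer {z} ⊓ H ≤ Q by rw [inf_eq_left.2 K] at c3; omega
  rintro r ⟨⟨a, -⟩, b⟩
  have b' := h.hz b
  refine TQ r a b' (by_contra fun n => ?_)
  obtain ⟨p, p1, p2⟩ : ∃ p ∈ [80, 144], α r p ≠ p := by
    by_contra m
    push Not at m
    exact n (T r a b (m 80 (by simp)) (m 144 (by simp)))
  have pl : sg p := by revert p1; clear p2; revert p; decide
  obtain ⟨m, m1, m2⟩ : ∃ m ∈ [5, 10, 15], α r p = p ^^^ m := by
    have k : ∀ x ∈ Q, x ∈ Q1 → α r (ν x) = ν x ∨ α r (ν x) = ν x ^^^ 5 := fun x x1 x2 => by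
      rw [← h.conj b' x1]
      rcases L.conj_eq a x2 with e | e <;> rw [e]
      exacts [Or.inl rfl, Or.inr ((h.mul x1 hg).trans (k2 ▸ rfl))]
    obtain ⟨x, x1, x2, y, y1, y2, rfl⟩ := dec p p1
    have lx := h.lt x
    rw [h.ax b' (om_lt _ (om_lt _ lx)) (h.lt _), h.om b (om_lt _ lx), h.om b lx] at p2 ⊢
    rcases k x x1 x2 with e | e <;> rcases k y y1 y2 with f | f <;> rw [e, f] at p2 ⊢
    · exact absurd rfl p2
    · exact ⟨5, by simp, by rw [Nat.xor_assoc]⟩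
    · exact ⟨15, by simp, by rw [om_xor lx (by norm_num), om_xor (om_lt _ lx) (by decide), Nat.xor_right_comm]; rfl⟩
    · exact ⟨10, by simp, by
        rw [om_xor lx (by norm_num), om_xor (om_lt _ lx) (by decide), Nat.xor_comm (ν y), ← Nat.xor_assoc, Nat.xor_assoc _ _ 5,
          Nat.xor_right_comm]; rfl⟩
  obtain ⟨l, l1, l2, l3, l4⟩ := tv4_chk p p1 m m1
  obtain ⟨a1, a2, a3⟩ := h.tvx pl
  obtain ⟨b1, b2, b3⟩ := h.tvx l2
  have e : EQ (α (a1 * b1)) fun n => tv p (tv (p ^^^ l) n) := fun n hn => by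
    rw [h.αm (h.hz a2) (h.hz b2) hn, a3 _ ((h.un b2).lt hn), b3 n hn]
  obtain ⟨k, k1, k3, k4⟩ := h.adj (mul_mem a2 b2) hg (by rw [k2, e 5 (by norm_num)]; exact l3) (by omega)
  have k5 := h.hz k1
  have U := h.un b
  have rl : α r l = l := fixW U (by norm_num) (f5 r a b') (by revert l1; clear l2 l3 l4 b3 e; revert l; decide)
  have ll : l < 256 := by revert l1; clear l2 l3 l4 b3 e rl; revert l; decide
  obtain ⟨t5, t1, t2⟩ := h.tvx (p := 5) (by decide)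
  have c := (b'.mul_right k5).mul_right b'.inv_right
  have f : EQ (α (r * k * r⁻¹)) (α (t5 * k)) := un_ext (h.un (mul_mem (mul_mem b k1) (inv_mem b))) (h.un (mul_mem t1 k1)) fun n hn => by
    have n1 := b4 hn
    have n2 := h.al b'.inv_right n1
    rw [h.αc b' k5 n1, k3 _ n2, e _ n2, U.tv pl.1 (tv_lt l2.1 n2), U.tv l2.1 n2, h.αi b' n1, U.xor pl.1 ll, m2, rl,
      h.αm (h.hz t1) k5 n1, k3 _ n1, e _ n1, t2 _ (tv_lt pl.1 (tv_lt l2.1 n1))]
    simp only [List.mem_cons, List.not_mem_nil, or_false] at hn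
    rcases hn with rfl | rfl | rfl | rfl
    exacts [l4.1, l4.2.1, l4.2.2.1, l4.2.2.2]
  have f : EQ (α (r * k * r⁻¹ * k⁻¹)) (tv 5) := fun n hn => by
    rw [h.αm c k5.inv_right hn, f _ (h.al k5.inv_right hn), h.αm (h.hz t1) k5 (h.al k5.inv_right hn), h.αi k5 hn, t2 n hn]
  have := h.αQ (TQ _ (by simpa [mul_assoc] using mul_mem a (nm k k4 _ (inv_mem a))) (c.mul_right k5.inv_right) (Or.inr f))
    (n := 1) (by norm_num)
  rw [f 1 (by norm_num)] at this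
  exact absurd this (by decide)

end F9

end Cfsg.Lib.Par
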