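import Cfsg.Agent.Lib.Known2.Q2

/-! The group `2^{1+8}.U₄(2).2`: conjugates of the central involution are inner. -/

set_option autoImplicit false
set_option synthInstance.maxSize 2000
set_option linter.unusedSectionVars false

namespace Cfsg.Lib.Par

open Subgroup Cfsg.Lib.Known2 Cfsg.Lib.Core Cfsg.Lib.Fi Cfsg.Lib.Amalg

variable {G : Type*} [Group G]

/-- Elements of `P` fixed by `g` modulo `z`. -/
def fxs {P : Subgroup G} {z : G} (h : ES P z) (g : G) : Subgroup G where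
  carrier := {x | x ∈ P ∧ (g * x * g⁻¹ = x ∨ g * x * g⁻¹ = x * z)}
  one_mem' := ⟨one_mem _, Or.inl (by simp)⟩
  mul_mem' := fun {a b} ha hb => ⟨mul_mem ha.1 hb.1, by
    rw [← conj_mul]
    rcases ha.2 with e | e <;> rcases hb.2 with f | f <;> rw [e, f]
    exacts [Or.inl rfl, Or.inr (mul_assoc _ _ _).symm, Or.inr (by rw [mul_assoc, ← h.cen b hb.1, mul_assoc]),
      Or.inl (by rw [mul_assoc, ← mul_assoc z, ← h.cen b hb.1, mul_assoc b, h.sq, mul_one])]⟩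
  inv_mem' := fun {a} ha => ⟨inv_mem ha.1, by
    rw [show g * a⁻¹ * g⁻¹ = (g * a * g⁻¹)⁻¹ by group]
    rcases ha.2 with e | e <;> rw [e]
    exacts [Or.inl rfl, Or.inr (by rw [h.cen a ha.1, mul_inv_rev, h.inv_z])]⟩

theorem fxs_two [Finite G] {P : Subgroup G} {z : G} (h : ES P z) (g : G) :
    Nat.card (fxs h g) ≤ 2 * Nat.card ↥(P ⊓ centralizer {g}) :=
  (card_le_two (K := centralizer {g}) fun a a1 b b1 a2 b2 => mem_centralizer_singleton_iff.2 (conj_eq_self_iff.1 (by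
    rw [← conj_mul, show g * a⁻¹ * g⁻¹ = (g * a * g⁻¹)⁻¹ by group,
      a1.2.resolve_left fun e => a2 (mem_centralizer_singleton_iff.2 (conj_eq_self_iff.1 e).symm),
      b1.2.resolve_left fun e => b2 (mem_centralizer_singleton_iff.2 (conj_eq_self_iff.1 e).symm), h.cen a a1.1, h.cen b b1.1]
    group)).symm).trans (Nat.mul_le_mul_left _ (card_le_of_le (inf_le_inf_right _ fun _ a => a.1)))

theorem cm_fxs {P : Subgroup G} {z t x : G} (h : ES P z) (tt : t * t = 1) (nm : ∀ x ∈ P, t * x * t⁻¹ ∈ P) (hx : x ∈ P) :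
    x * t * x⁻¹ * t⁻¹ ∈ fxs h t := by
  have m : x * t * x⁻¹ * t⁻¹ ∈ P := by simpa [mul_assoc] using mul_mem hx (nm _ (inv_mem hx))
  refine ⟨m, ?_⟩
  rw [show t * (x * t * x⁻¹ * t⁻¹) * t⁻¹ = (x * t * x⁻¹ * t⁻¹)⁻¹ * (x * (t * t) * x⁻¹ * (t * t)⁻¹) by group, tt]
  generalize x * t * x⁻¹ * t⁻¹ = c at *
  refine (h.sq_mem c m).imp (fun e => by simp [inv_eq_of_mul_eq_one_right e]) fun e => ?_
  rw [mul_one, mul_inv_cancel, inv_one, mul_one, mul_one, inv_eq_iff_mul_eq_one, ← mul_assoc, e, h.sq]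

theorem card_fix [Finite G] {P : Subgroup G} {z t : G} (h : ES P z) (tt : t * t = 1) (nm : ∀ x ∈ P, t * x * t⁻¹ ∈ P) :
    Nat.card P ≤ Nat.card (fxs h t) * Nat.card ↥(P ⊓ centralizer {t}) := by
  classical
  have := Fintype.ofFinite G
  refine (card_le_fib (fun x => x * t * x⁻¹ * t⁻¹) (fxs h t : Set G).toFinset (fun x hx => Set.mem_toFinset.2 (cm_fxs h tt nm hx))
    fun x _ y _ e => mem_centralizer_singleton_iff.2 (conj_eq_self_iff.1 ?_)).trans (by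
      rw [Set.toFinset_card, ← Nat.card_eq_fintype_card]; rfl)
  rw [← conj_conj', ← mul_right_cancel e]; group

namespace F9
variable [Finite G] {Q H : Subgroup G} {z : G} {ν : G → ℕ} {α : G → ℕ → ℕ} (h : F9 Q H z ν α) {g k w : G} {a b d n : ℕ}
  (w1 : Commute z w) (w2 : w ∉ H) (w3 : w * w ∈ Q)
include h w1 w2 w3

theorem o1 (ha : a < 256) (e : α w a = a) : Par.om a ^^^ α w (Par.om a) = a := by
  rw [h.om2 w1 w2 ha, e, (om3 a ha).1, Nat.xor_comm a, ← Nat.xor_assoc, Nat.xor_self, Nat.zero_xor]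

theorem tr (hn : n < 256) : α w (n ^^^ α w n) = n ^^^ α w n := by
  rw [h.ax w1 hn (h.al w1 hn), ← h.αm w1 w1 hn, h.αQ w3 hn, Nat.xor_comm]

theorem iso (ha : a < 256) (e : α w a = a) (hb : b < 256) (f : α w b = b) : b8 a b = false := by
  rw [← h.o1 w1 w2 w3 ha e, b8_left (om_lt a ha) (h.al w1 (om_lt a ha))]
  conv_lhs => rw [← h.ab w1 (om_lt a ha) hb, f]
  simp

theorem dec (hn : n < 256) : ∃ a < 256, α w a = a ∧ ∃ b < 256, α w b = b ∧ n = Par.om a ^^^ b := by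
  have l := xlt hn (h.al w1 hn)
  have t := h.tr w1 w2 w3 hn
  refine ⟨_, l, t, n ^^^ Par.om (n ^^^ α w n), xlt hn (om_lt _ l), ?_, by
    generalize Par.om (n ^^^ α w n) = x
    rw [Nat.xor_comm n, ← Nat.xor_assoc, Nat.xor_self, Nat.zero_xor]⟩
  rw [h.ax w1 hn (om_lt _ l), h.om2 w1 w2 l, t, (om3 _ l).1, ← Nat.xor_assoc, Nat.xor_comm n, ← Nat.xor_assoc, Nat.xor_self, Nat.zero_xor]

theorem nd (hd : d < 256) (e : α w d = d) (f : ∀ a < 256, α w a = a → b8 (Par.om a) d = false) : d = 0 := b8_nd d hd fun i hi => by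
  obtain ⟨a, a1, a2, b, b1, b2, c⟩ := h.dec w1 w2 w3 (Nat.pow_lt_pow_right (n := 8) one_lt_two hi)
  rw [c, b8_right hd (om_lt a a1) b1, b8_comm hd (om_lt a a1), f a a1 a2, h.iso w1 w2 w3 hd e b1 b2]; rfl

theorem fa (hk : k ∈ H) (f : ∀ a < 256, α w a = a → α k a = a) : k ∈ Q := h.ker (h.hz hk) fun n hn => by
  obtain ⟨a, a1, a2, b, b1, b2, rfl⟩ := h.dec w1 w2 w3 hn
  rw [h.ax (h.hz hk) (om_lt a a1) b1, h.om hk a1, f a a1 a2, f b b1 b2]

theorem tvb {B : Subgroup G} (hB : ∀ r ∈ B, r ∈ H ∧ Commute r w) (K : ℕ → Prop)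
    (k1 : ∀ a < 256, α w a = a → ∀ b < 256, α w b = b → ¬ K a → ¬ K b → K (a ^^^ b))
    (k2 : ∀ r ∈ B, ∀ a < 256, α w a = a → K a → α r a = a) : Nat.card B ≤ 2 * Nat.card ↥(B ⊓ Q) :=
  card_le_two fun r r1 s s1 r2 s2 => by
    have c := fun r hr => h.hz (hB r hr).1
    obtain ⟨x, x1, x2, x3⟩ : ∃ x < 256, α w x = x ∧ α r x ≠ x := by
      by_contra n
      push Not at n
      exact r2 (h.fa w1 w2 w3 (hB r r1).1 n)
    have x4 : ¬ K x := fun e => x3 (k2 r r1 x x1 x2 e)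
    have sp : ∀ p : ℕ → Prop, p x → (∀ a < 256, α w a = a → K a → p a) → (∀ a < 256, p a → p (a ^^^ x)) →
        ∀ a < 256, α w a = a → p a := fun p p1 p2 p3 a a1 a2 => by
      by_cases e : K a
      · exact p2 a a1 a2 e
      have := p3 _ (xlt a1 x1) (p2 _ (xlt a1 x1) (by rw [h.ax w1 a1 x1, a2, x2]) (k1 a a1 a2 x x1 x2 e x4))
      rwa [Nat.xor_assoc, Nat.xor_self, Nat.xor_zero] at this
    have fq : ∀ r ∈ B, α r x = x → r ∈ Q := fun r r1 e => h.fa w1 w2 w3 (hB r r1).1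
      (sp _ e (k2 r r1) fun a a1 f => by rw [h.ax (c r r1) a1 x1, f, e])
    have pw : ∀ r ∈ B, α w (α r x) = α r x := fun r r1 => by rw [← h.αm w1 (c r r1) x1, ← (hB r r1).2.eq, h.αm (c r r1) w1 x1, x2]
    have C : ∀ r ∈ B, ∀ s ∈ B, b8 (Par.om x) (α r x) = b8 (Par.om x) (α s x) → α r x = α s x := fun r r1 s s1 e => by
      have l1 := h.al (c r r1) x1
      have l2 := h.al (c s s1) x1
      refine Nat.xor_eq_zero_iff.1 (h.nd w1 w2 w3 (xlt l1 l2) (by rw [h.ax w1 l1 l2, pw r r1, pw s s1])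
        (sp _ (by rw [b8_right (om_lt x x1) l1 l2, e]; simp) (fun a a1 a2 a3 => ?_) fun a a1 f => by
          rw [om_xor a1 x1, b8_left (om_lt a a1) (om_lt x x1), f, b8_right (om_lt x x1) l1 l2, e]; simp))
      have k : ∀ r ∈ B, b8 (Par.om a) (α r x) = b8 (Par.om a) x := fun r r1 => by
        conv_lhs => rw [← k2 r r1 a a1 a2 a3, ← h.om (hB r r1).1 a1, h.ab (c r r1) (om_lt a a1) x1]
      rw [b8_right (om_lt a a1) l1 l2, k r r1, k s s1]; simp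
    have D : ∀ r ∈ B, r ∉ Q → b8 (Par.om x) (α r x) = !b8 (Par.om x) x := fun r r1 r2 => Bool.eq_not_iff.2 fun e =>
      r2 (fq r r1 ((C r r1 1 (one_mem _) (by rwa [h.αQ (one_mem _) x1])).trans (h.αQ (one_mem _) x1)))
    exact fq _ (mul_mem (inv_mem r1) s1) (by
      rw [h.αm (c r r1).inv_right (c s s1) x1, ← C r r1 s s1 ((D r r1 r2).trans (D s s1 s2).symm), h.αi' (c r r1) x1])

omit w1 w2 w3 in
theorem inner (w1 : Commute z (g * z * g⁻¹)) : g * z * g⁻¹ ∈ H := by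
  by_contra w2
  have L := h.ls.conj g
  have cQ := (card_cj g Q).trans h.card
  have wt : ∀ k, k * (g * z * g⁻¹) * k⁻¹ ∈ cj g Q → k * (g * z * g⁻¹) * k⁻¹ = g * z * g⁻¹ := fun k a => by
    have := h.wc (g := g⁻¹ * k * g) (by convert mem_cj.1 a using 1; group)
    conv_rhs => rw [← this]
    group
  have zQ : z ∉ cj g Q := fun a => w2 ((wt g⁻¹ (by simpa [mul_assoc] using a)) ▸ by simpa [mul_assoc] using h.le h.ls.mem)
  have nm : ∀ k, Commute k (g * z * g⁻¹) → ∀ r ∈ cj g Q, k * r * k⁻¹ ∈ cj g Q := L.norm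
  generalize cj g Q = Q1 at *
  generalize g * z * g⁻¹ = t at *
  have tt := L.sq
  have w3 : t * t ∈ Q := tt ▸ one_mem _
  have c1 := card_fix L.toES h.zz (nm z w1)
  have c2 := fxs_two L.toES z
  have c3 := h.card_two (B := Q1 ⊓ centralizer {z}) fun b a => (mem_centralizer_singleton_iff.1 a.2).symm
  suffices K : Nat.card ↥(Q1 ⊓ centralizer {z} ⊓ H) ≤ 4 by rw [cQ] at c1; nlinarith
  have hB : ∀ r ∈ Q1 ⊓ centralizer {z} ⊓ H, r ∈ H ∧ Commute r t := fun r a => ⟨a.2, L.cen r a.1.1⟩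
  have fI : ∀ r ∈ Q1, r ∈ H → ∀ i ∈ Q, i ∈ Q1 → Commute r i := fun r a b i i1 i2 => conj_eq_self_iff.1 ((L.conj_eq a i2).resolve_right
    fun e => w2 (h.le ((mul_mem_cancel_left i1).1 (e ▸ h.nm (h.hz b) i1))))
  have cm : ∀ r ∈ Q1, r ∈ H → ∀ y ∈ Q, Commute t y → ∃ d ∈ Q, d ∈ Q1 ∧ ν d = α r (ν y) ^^^ ν y := fun r a b y y1 y2 =>
    ⟨_, mul_mem (h.nm (h.hz b) y1) (inv_mem y1), by simpa [mul_assoc] using mul_mem a (nm y y2.symm _ (inv_mem a)), h.νc (h.hz b) y1⟩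
  have IW : ∀ i ∈ Q, i ∈ Q1 → α t (ν i) = ν i := fun i a b => h.fix w1 a (L.cen i b).symm
  have key : ∀ q, q * t * q⁻¹ * t⁻¹ ∈ Q1 → q * t * q⁻¹ * t⁻¹ = 1 := fun q a => by
    rw [wt q ((mul_mem_cancel_right (inv_mem L.mem)).1 a), mul_inv_cancel]
  have lf : ∀ i ∈ Q, i ∈ Q1 → i ≠ 1 → ∃ q ∈ Q, ν q = Par.om (ν i) ∧ q * t * q⁻¹ * t⁻¹ = i * z := fun i a b c => by
    obtain ⟨q, q1, q2⟩ := h.sur _ (om_lt _ (h.lt i))
    have m := h.nm w1 (inv_mem q1)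
    have e := h.eq_or a (mul_mem q1 m) (by
      rw [h.mul q1 m, h.conj w1 (inv_mem q1), h.νi q1, q2, h.o1 w1 w2 w3 (h.lt i) (IW i a b)])
    rw [← mul_assoc, ← mul_assoc] at e
    exact ⟨q, q1, q2, e.resolve_left fun e => c (e ▸ key q (e ▸ b))⟩
  have f0 : ∀ r ∈ Q1, r ∈ H → ∀ a < 256, ∀ i ∈ Q, i ∈ Q1 → b8 (Par.om (α r a ^^^ a)) (ν i) = false := fun r r1 r2 a a1 i i1 i2 => by
    have l := h.al (h.hz r2) a1
    rw [om_xor l a1, b8_left (om_lt _ l) (om_lt _ a1), ← h.om r2 a1, ← h.ab (h.hz r2) (om_lt a a1) (h.lt i),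
      h.fix (h.hz r2) i1 (fI r r1 r2 i i1 i2)]
    simp
  have z0 : ∀ i ∈ Q, i ∈ Q1 → ν i = 0 → i = 1 := fun i a b e => ((h.zero a).1 e).resolve_right fun e => zQ (e ▸ b)
  by_cases n1 : ¬ ∃ i ∈ Q, i ∈ Q1 ∧ i ≠ 1
  · push Not at n1
    have e1 := h.tvb w1 w2 w3 hB (fun n => ∀ y ∈ Q, ν y = n → Commute t y) (fun a a1 a2 b b1 b2 a3 b3 y y1 y2 => by
      push Not at a3 b3
      obtain ⟨u, u1, rfl, u2⟩ := a3
      obtain ⟨v, v1, rfl, v2⟩ := b3
      have : Commute t (u * v) := conj_eq_self_iff.1 (by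
        rw [← conj_mul, (h.fix' w1 u1 a2).resolve_left fun e => u2 (conj_eq_self_iff.1 e),
          (h.fix' w1 v1 b2).resolve_left fun e => v2 (conj_eq_self_iff.1 e), (h.cQ v1).mul_mul_mul_comm, h.zz, mul_one])
      rcases h.eq_or (mul_mem u1 v1) y1 ((h.mul u1 v1).trans y2.symm) with rfl | rfl
      exacts [this, this.mul_right w1.symm]) fun r r1 a a1 a2 a3 => by
        obtain ⟨y, y1, rfl⟩ := h.sur a a1
        obtain ⟨d, d1, d2, d3⟩ := cm r r1.1.1 r1.2 y y1 (a3 y y1 rfl)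
        rw [n1 d d1 d2, h.ν1] at d3
        exact Nat.xor_eq_zero_iff.1 d3.symm
    have e2 := (card_le_ncard (B := Q1 ⊓ centralizer {z} ⊓ H ⊓ Q) (S := {1}) fun u a => n1 u a.2 a.1.1.1).trans (Set.ncard_singleton _).le
    omega
  obtain ⟨i, i1, i2, i3⟩ := not_not.1 n1
  have cd : ∀ r ∈ Q1, r ∈ H → ∀ a < 256, α t a = a → ∃ d ∈ Q, d ∈ Q1 ∧ ν d = α r a ^^^ a := fun r r1 r2 a a1 a2 => by
    obtain ⟨y, y1, rfl⟩ := h.sur a a1
    refine cm r r1 r2 y y1 (conj_eq_self_iff.1 ((h.fix' w1 y1 a2).resolve_right fun e => i3 ?_))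
    obtain ⟨q, q1, -, q2⟩ := lf i i1 i2 i3
    have : q * y * t * (q * y)⁻¹ * t⁻¹ = i := by
      rw [show q * y * t * (q * y)⁻¹ * t⁻¹ = q * (y * (t * y * t⁻¹)⁻¹) * q⁻¹ * (q * t * q⁻¹ * t⁻¹) by group, e, q2, mul_inv_rev,
        ← mul_assoc y, h.ls.inv_z, cz (h.cQ y1), cz (h.cQ q1), ← (h.cQ i1).eq, ← mul_assoc, h.zz, one_mul]
    exact this ▸ key _ (this ▸ i2)
  have f1 : ∀ i ∈ Q, i ∈ Q1 → i ≠ 1 → ∀ j ∈ Q, j ∈ Q1 → j ≠ 1 → i ≠ j → b8 (Par.om (ν i)) (ν j) = true :=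
    fun i i1 i2 i3 j j1 j2 j3 n => by
      obtain ⟨q, q1, q2, q3⟩ := lf i i1 i2 i3
      obtain ⟨p, p1, -, p3⟩ := lf j j1 j2 j3
      refine by_contra fun e => n ?_
      have : q * p * t * (q * p)⁻¹ * t⁻¹ = j * i := by
        rw [show q * p * t * (q * p)⁻¹ * t⁻¹ = q * (p * t * p⁻¹ * t⁻¹) * q⁻¹ * (q * t * q⁻¹ * t⁻¹) by group, p3, q3, ← conj_mul,
          cz (h.cQ q1), cz ((h.comm q1 j1).2 (by simpa [q2] using e)).symm, (h.cQ i1).mul_mul_mul_comm, h.zz, mul_one]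
      have e1 := this ▸ key _ (this ▸ mul_mem j2 i2)
      refine (z0 _ (mul_mem (inv_mem i1) j1) (mul_mem (inv_mem i2) j2) ?_ |> inv_mul_eq_one.1)
      rw [h.mul (inv_mem i1) j1, h.νi i1, Nat.xor_comm, ← h.mul j1 i1, e1, h.ν1]
  by_cases n2 : ∃ j ∈ Q, j ∈ Q1 ∧ j ≠ 1 ∧ j ≠ i
  · obtain ⟨j, j1, j2, j3, j4⟩ := n2
    refine (card_le_ncard (S := {1, i, j, i * j}) fun r a => ?_).trans ((Set.ncard_insert_le _ _).trans (Nat.succ_le_succ ((Set.ncard_insert_le _ _).trans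
      (Nat.succ_le_succ ((Set.ncard_insert_le _ _).trans (by simp))))))
    have r1 := h.fa w1 w2 w3 a.2 fun x x1 x2 => by
      obtain ⟨d, d1, d2, d3⟩ := cd r a.1.1 a.2 x x1 x2
      refine Nat.xor_eq_zero_iff.1 (by_contra fun n => ?_)
      have d4 : d ≠ 1 := fun e => n (by rw [← d3, e, h.ν1])
      by_cases e : d = i
      · simpa [← d3, f1 d d1 d2 d4 j j1 j2 j3 (e ▸ j4.symm)] using f0 r a.1.1 a.2 x x1 j j1 j2
      · simpa [← d3, f1 d d1 d2 d4 i i1 i2 i3 e] using f0 r a.1.1 a.2 x x1 i i1 i2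
    by_contra n
    simp only [Set.mem_insert_iff, Set.mem_singleton_iff, not_or] at n
    have := f1 r r1 a.1.1 n.1 _ (mul_mem i1 j1) (mul_mem i2 j2) (fun e => j4 (by
      refine (z0 _ (mul_mem (inv_mem j1) i1) (mul_mem (inv_mem j2) i2) ?_ |> inv_mul_eq_one.1)
      rw [h.mul (inv_mem j1) i1, h.νi j1, Nat.xor_comm, ← h.mul i1 j1, e, h.ν1])) n.2.2.2
    rw [h.mul i1 j1, b8_right (om_lt _ (h.lt r)) (h.lt i) (h.lt j), f1 r r1 a.1.1 n.1 i i1 i2 i3 n.2.1,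
      f1 r r1 a.1.1 n.1 j j1 j2 j3 n.2.2.1] at this
    exact absurd this (by decide)
  push Not at n2
  have li := om_lt _ (h.lt i)
  have e1 := h.tvb w1 w2 w3 hB (fun n => b8 (Par.om (ν i)) n = false) (fun a a1 _ b b1 _ a3 b3 => by
    rw [b8_right li a1 b1, Bool.eq_true_of_not_eq_false a3, Bool.eq_true_of_not_eq_false b3]; rfl) fun r r1 a a1 a2 a3 => by
      obtain ⟨d, d1, d2, d3⟩ := cd r r1.1.1 r1.2 a a1 a2
      refine Nat.xor_eq_zero_iff.1 (by_contra fun n => i3 (z0 i i1 i2 (h.nd w1 w2 w3 (h.lt i) (IW i i1 i2) fun b b1 b2 => ?_)))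
      obtain rfl := n2 d d1 d2 fun e => n (by rw [← d3, e, h.ν1])
      obtain ⟨u, c1, c2, c3⟩ := cd r r1.1.1 r1.2 b b1 b2
      have c := h.hz r1.2
      have u1 := h.ab c (om_lt b b1) a1
      have u2 := f0 r r1.1.1 r1.2 b b1 d d1 d2
      have u3 : b8 (Par.om (α r b ^^^ b)) a = false := by
        by_cases e : u = 1
        · rw [← c3, e, h.ν1]; exact (b8_zero a a1).1
        · rw [← c3, n2 _ c1 c2 e]; exact a3
      rw [om_xor (h.al c b1) b1, b8_left (om_lt _ (h.al c b1)) (om_lt b b1)] at u2 u3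
      rw [d3, b8_right (om_lt b b1) (h.al c a1) a1]
      rw [d3, b8_right (om_lt _ (h.al c b1)) (h.al c a1) a1, b8_right (om_lt b b1) (h.al c a1) a1] at u2
      rw [h.om r1.2 b1] at u1
      revert u1 u2 u3
      generalize b8 (Par.om (α r b)) (α r a) = s1; generalize b8 (Par.om b) a = s2; generalize b8 (Par.om (α r b)) a = s3
      generalize b8 (Par.om b) (α r a) = s4
      revert s1 s2 s3 s4; decide
  have e2 := (card_le_ncard (B := Q1 ⊓ centralizer {z} ⊓ H ⊓ Q) (S := {1, i}) fun u a => (em (u = 1)).imp id (n2 u a.2 a.1.1.1)).trans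
    (Set.ncard_pair i3.symm).le
  omega

end F9

end Cfsg.Lib.Par
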