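import Cfsg.Agent.Lib.Known2.Q3

/-! The group `2^{1+8}.U₄(2).2`: transfer onto a subgroup of index two. -/

set_option autoImplicit false
set_option synthInstance.maxSize 2000
set_option linter.unusedSectionVars false

namespace Cfsg.Lib.Par

open Subgroup Cfsg.Lib.Known2 Cfsg.Lib.Core Cfsg.Lib.Fi Cfsg.Lib.Amalg Equiv Equiv.Perm

variable {G : Type*} [Group G]

theorem fxs_iff {P : Subgroup G} {z w a b : G} (h : ES P z) (ha : a ∈ fxs h w) (hb : b ∈ fxs h w) :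
    Commute w (a * b) ↔ (Commute w a ↔ Commute w b) := by
  have k : ∀ g, Commute w g ↔ w * g * w⁻¹ = g := fun g => conj_eq_self_iff.symm
  have e1 : a * z * b = a * b * z := by rw [mul_assoc, ← h.cen b hb.1, mul_assoc]
  have e2 : a * z * (b * z) = a * b := by rw [← mul_assoc, e1, mul_assoc, h.sq, mul_one]
  rw [k, k, k, ← conj_mul]
  rcases ha.2 with e | e <;> rcases hb.2 with f | f <;> rw [e, f] <;> simp [h.ne, e1, e2]

theorem chi_z {P : Subgroup G} {z : G} (h : ES P z) (χ : G →* ℤˣ) : χ z = 1 := by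
  obtain ⟨p, p1, q, q1, n⟩ := h.nonab
  simpa [mul_comm] using congrArg χ (h.anti p1 q1 n)

theorem chi_mul (χ : G →* ℤˣ) (a b : G) : χ (a * b) = 1 ↔ (χ a = 1 ↔ χ b = 1) := by
  rw [map_mul]; rcases Int.units_eq_one_or (χ a) with e | e <;> rcases Int.units_eq_one_or (χ b) with f | f <;> simp [e, f]

namespace AH
variable [Finite G] {Q H : Subgroup G} {z : G} (h : AH Q H z) {g w : G}
include h

theorem perf (p : G → Prop) (p1 : ∀ a ∈ H, ∀ b ∈ H, p (a * b) ↔ (p a ↔ p b)) (p2 : ∀ q ∈ Q, p q) (hg : g ∈ H) : p g := by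
  classical
  obtain ⟨π, h1, h2⟩ := h.pi
  let ψ : H →* ℤˣ := MonoidHom.mk' (fun a => if p a then 1 else -1) fun a b => by
    rw [Subgroup.coe_mul, p1 _ a.2 _ b.2]; by_cases p a <;> by_cases p b <;> simp [*]
  have hψ : ∀ a, ψ a = 1 ↔ p a := fun a => by
    show (if p a then (1 : ℤˣ) else -1) = 1 ↔ _
    by_cases p a <;> simp [*]
  have := simple0
  rcases (π.liftOfSurjective h1 ⟨ψ, fun a b => (hψ a).2 (p2 _ ((h2 a).1 b))⟩).normal_ker.eq_bot_or_eq_top with f | f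
  · have := Nat.card_le_card_of_injective _ ((MonoidHom.ker_eq_bot_iff _).1 f)
    rw [Psp43.card_P0] at this
    simp at this
  · exact (hψ ⟨g, hg⟩).1 ((π.liftOfRightInverse_comp_apply _ _ _ _).symm.trans (show π ⟨g, hg⟩ ∈ MonoidHom.ker _ from f ▸ mem_top _))

theorem nrm {k : G} (hg : Commute z g) (hk : k ∈ H) : g * k * g⁻¹ ∈ H := by
  rw [h.two (hg.mul_right (h.hz hk)) hg.inv_right, h.two hg (h.hz hk), inv_mem_iff]; tauto

theorem tra (w1 : Commute z w) (w2 : w ∉ H) (w4 : w * w = 1 ∨ w * w = z) {U : Subgroup G} (hU : IsPGroup 2 U) (u1 : U ≤ H)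
    (u2 : ∀ u ∈ U, Commute u w) (hin : ∀ g, Commute z (g * z * g⁻¹) → g * z * g⁻¹ ∈ H)
    (hc : ∀ g, (∀ u ∈ U, Commute u (g * z * g⁻¹)) → g * z * g⁻¹ = z) : ∃ χ : G →* ℤˣ, χ w = -1 := by
  classical
  have := Fintype.ofFinite (G ⧸ H)
  have ww : w * w ∈ H := (h.two w1 w1).2 Iff.rfl
  have w5 : w * w * (w * w) = 1 := by rcases w4 with e | e <;> simp only [e, h.ls.sq, mul_one]
  obtain ⟨φ, hφ⟩ : ∃ φ : G →* Perm (G ⧸ H), ∀ g k : G, φ g k = (g * k : G) := ⟨MulAction.toPermHom G _, fun _ _ => rfl⟩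
  have hi : ∀ g i, (φ w ^ i) (g : G) = (w ^ i * g : G) := fun g i => by rw [← map_pow, hφ]
  obtain ⟨τ, hτ⟩ : ∃ τ : Perm (G ⧸ H), ∀ k : G, τ k = (k * w : G) := ⟨Function.Involutive.toPerm (Quotient.map' (· * w) fun a b e =>
    QuotientGroup.leftRel_apply.2 (by simpa [mul_assoc] using h.nrm w1.inv_right (QuotientGroup.leftRel_apply.1 e)))
    (QuotientGroup.mk_surjective.forall.2 fun k => QuotientGroup.eq.2 (by simpa [mul_assoc] using inv_mem ww)), fun _ => rfl⟩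
  have ext : ∀ {a b : Perm (G ⧸ H)}, (∀ k : G, a k = b k) → a = b := fun e => Equiv.ext (QuotientGroup.mk_surjective.forall.2 e)
  have ct : ∀ g, Commute (φ g) τ := fun g => ext fun k => by simp only [mul_apply, hφ, hτ, mul_assoc]
  refine ⟨sign.comp φ, sign_fix (R := U.map φ) (τ := τ) (hU.map φ) ?_
    (ext fun k => by rw [mul_apply, hτ, hτ]; exact QuotientGroup.eq.2 (by simpa [mul_assoc] using inv_mem ww)) ?_ (ct w).symm ?_
    (a := (1 : G)) (b := w) (fun e => w2 (by simpa using QuotientGroup.eq.1 e)) (by rw [hφ, mul_one])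
    (by rw [hφ]; exact QuotientGroup.eq.2 (by simpa using inv_mem ww)) (by rw [hτ, one_mul])
    (by rw [hτ]; exact QuotientGroup.eq.2 (by simpa using inv_mem ww)) ?_ (QuotientGroup.mk_surjective.forall.2 fun g h1 ⟨i, h2⟩ => ?_)⟩
  · rw [← map_pow, show w ^ 2 ^ 2 = w * w * (w * w) by simp [pow_succ, mul_assoc], w5, map_one]
  · rintro _ ⟨p, a, rfl⟩; exact (u2 p a).map φ
  · rintro _ ⟨p, a, rfl⟩; exact ct p
  · rintro _ ⟨p, a, rfl⟩
    exact ⟨by rw [hφ]; exact QuotientGroup.eq.2 (by simpa using u1 a),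
      by rw [hφ, (u2 p a).eq]; exact QuotientGroup.eq.2 (by simpa [mul_assoc] using u1 a)⟩
  have f2 : ∀ i : ℕ, w ^ i = 1 ∨ w ^ i = w * w ∨ w ^ i = w ∨ w ^ i = w⁻¹ := fun i => by
    induction i with
    | zero => exact Or.inl (pow_zero _)
    | succ i ih =>
      rw [pow_succ]
      rcases ih with e | e | e | e <;> rw [e]
      exacts [by simp, Or.inr (Or.inr (Or.inr (eq_inv_of_mul_eq_one_left ((mul_assoc _ _ _).trans w5)))), by simp, by simp]
  rw [hτ, hi] at h2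
  have a1 : w⁻¹ * (g⁻¹ * w ^ i * g) ∈ H := by simpa [mul_assoc] using QuotientGroup.eq.1 h2
  have a2 : Commute z (g⁻¹ * w ^ i * g) := by simpa using w1.mul_right (h.hz a1)
  have a3 : g⁻¹ * w ^ i * g ∉ H := fun e => w2 (inv_mem_iff.1 ((mul_mem_cancel_right e).1 a1))
  have a4 : Commute z (g⁻¹ * w * g) := by
    rcases f2 i with e | e | e | e <;> rw [e] at a2 a3
    · simp at a3
    · rcases w4 with e | e <;> rw [e] at a2 a3
      · simp at a3
      · exact absurd (by simpa using hin g⁻¹ (by simpa using a2)) a3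
    · exact a2
    · simpa [mul_assoc] using a2.inv_right
  have e := hc g fun u hu => by
    obtain ⟨j, a⟩ := h1 (φ u) ⟨u, hu, rfl⟩
    rw [hφ, hi] at a
    have b : Commute z ((g⁻¹ * w * g) ^ j) := a4.pow_right j
    rw [show g⁻¹ * w * g = g⁻¹ * w * g⁻¹⁻¹ by simp, conj_pow, inv_inv] at b
    exact (commute_conj_left_iff.2 (by simpa [mul_assoc] using b.mul_right (h.hz (QuotientGroup.eq.1 a)).inv_right)).symm
  have c : Commute z g := (conj_eq_self_iff.1 e).symm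
  by_cases m : g ∈ H
  · exact Or.inl (QuotientGroup.eq.2 (by simpa using m))
  · exact Or.inr (QuotientGroup.eq.2 ((h.two c.inv_right w1).2 (iff_of_false (mt inv_mem_iff.1 m) w2)))

theorem fin (w1 : Commute z w) (χ : G →* ℤˣ) (c1 : χ w = -1) (c2 : ∀ k ∈ H, χ k = 1) (g1 : Commute z (g * z * g⁻¹))
    (g2 : g * z * g⁻¹ ≠ z) {K : Type*} [Field K] [Fintype K] (hK : Fintype.card K = 4) :
    ∃ G₀ : Subgroup G, G₀.index = 2 ∧ Nonempty (G₀ ≃* PSU 6 K 2) ∧ centralizer (G₀ : Set G) = ⊥ := by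
  have w2 : w ∉ H := fun e => by simp [c2 w e] at c1
  have l : Q ≤ χ.ker := fun q a => c2 q (h.le a)
  have m : ∀ k, Commute z k → χ k = 1 → k ∈ H := fun k a b => by_contra fun n => by
    simpa [b, c1] using c2 _ ((h.two a w1).2 (iff_of_false n w2))
  obtain ⟨g, g0, g1, g2⟩ : ∃ g ∈ χ.ker, Commute z (g * z * g⁻¹) ∧ g * z * g⁻¹ ≠ z := by
    rcases Int.units_eq_one_or (χ g) with e | e
    · exact ⟨g, e, g1, g2⟩
    · exact ⟨g * w, by simp [e, c1], by rwa [← conj_conj', cz w1], by rwa [← conj_conj', cz w1]⟩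
  obtain ⟨π, h1, h2⟩ := h.pi
  have L := h.ls
  have s := fun {a b : χ.ker} => Subtype.ext_iff (a1 := a) (a2 := b)
  let z' : χ.ker := ⟨z, l L.mem⟩
  have cc : ∀ a : centralizer {z'}, ((a : χ.ker) : G) ∈ H := fun a =>
    m _ (congrArg Subtype.val (mem_centralizer_singleton_iff.1 a.2)).symm a.1.2
  refine ⟨χ.ker, ?_, psu6 (Q := Q.subgroupOf χ.ker) (z := z') ⟨⟨L.mem, mt s.1 L.ne, s.2 L.sq, fun x a => s.2 (L.cen x a),
    fun x a b => (L.of_cen x a fun y c => s.1 (b ⟨y, l c⟩ c)).imp s.2 s.2, fun x a y b => (L.comm x a y b).imp s.2 s.2,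
    fun x a => (L.sq_mem x a).imp s.2 s.2, let ⟨x, a, y, b, c⟩ := L.nonab; ⟨⟨x, l a⟩, a, ⟨y, l b⟩, b, mt s.1 c⟩⟩,
    fun x b => (L.selfc x fun y c => s.1 (b ⟨y, l c⟩ c)).imp s.2 s.2, fun g a x b => L.norm g (s.1 a) x b⟩
    ((Nat.card_congr (subgroupOfEquivOfLe l).toEquiv).trans h.card)
    (π.comp ((χ.ker.subtype.comp (centralizer {z'}).subtype).codRestrict H cc))
    (fun γ => let ⟨k, a⟩ := h1 γ; ⟨⟨⟨k, c2 k k.2⟩, mem_centralizer_singleton_iff.2 (s.2 (h.hz k.2).symm)⟩, a⟩) (fun g => h2 _)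
    ⟨⟨g, g0⟩, s.2 g1, mt s.1 g2⟩ hK, (eq_bot_iff_forall _).2 fun c a => (L.selfc c fun x b => (a x (l b)).symm).resolve_right ?_⟩
  · rw [index_ker, MonoidHom.range_eq_top.2 fun u => (Int.units_eq_one_or u).elim (fun e => ⟨1, by simp [e]⟩) fun e => ⟨w, e ▸ c1⟩]
    simp
  · rintro rfl
    exact g2 (conj_eq_self_iff.2 (a g g0))

end AH

theorem fpf_chk : ∀ n < 256, n ^^^ wd [1, 4] n ^^^ wd [1, 4] (wd [1, 4] n) = 0 := by decide +kernel

theorem F9.chi [Finite G] {Q H : Subgroup G} {z : G} {ν : G → ℕ} {α : G → ℕ → ℕ} (h : F9 Q H z ν α) :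
    ∃ w, Commute z w ∧ ∃ χ : G →* ℤˣ, χ w = -1 ∧ ∀ k ∈ H, χ k = 1 := by
  obtain ⟨w, g, w1, w2, w4, g1, g2, g3⟩ : ∃ w g, Commute z w ∧ w ∉ H ∧ (w * w = 1 ∨ w * w = z) ∧ Commute z g ∧
      EQ (α g) (wd [1, 4]) ∧ EQ (α (w * g)) (α (g * w)) := by
    obtain ⟨w, g, w1, w2, w3, g1, g2, g3⟩ := h.out
    obtain ⟨q, q1, q2⟩ := h.sur _ (om_lt _ (h.lt (w * w)))
    have c := h.cQ q1
    have m := mul_mem q1 (h.nm w1 q1)
    refine ⟨q * w, g, c.mul_right w1, mt (mul_mem_cancel_left (h.le q1)).1 w2, ?_, g1, g2, fun n hn => ?_⟩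
    · rw [show q * w * (q * w) = q * (w * q * w⁻¹) * (w * w) by group, ← h.zero (mul_mem m w3), h.mul m w3, h.mul q1 (h.nm w1 q1),
        h.conj w1 q1, q2, h.o1 w1 w2 w3 (h.lt _) (h.fix w1 w3 ((Commute.refl w).mul_right (Commute.refl w))), Nat.xor_self]
    · rw [mul_assoc, h.αm c (w1.mul_right g1) hn, h.αQ q1 (h.al (w1.mul_right g1) hn), g3 n hn, h.αm g1 (c.mul_right w1) hn,
        h.αm c w1 hn, h.αQ q1 (h.al w1 hn), h.αm g1 w1 hn]
  have w3 : w * w ∈ Q := by rcases w4 with e | e <;> rw [e]; exacts [one_mem _, h.ls.mem]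
  have E := h.ls.toES
  have tri : ∀ y ∈ Q, y * (g * y * g⁻¹) * (g * (g * y * g⁻¹) * g⁻¹) = 1 ∨ y * (g * y * g⁻¹) * (g * (g * y * g⁻¹) * g⁻¹) = z :=
    fun y a => by
      have b := h.nm g1 a
      rw [← h.zero (mul_mem (mul_mem a b) (h.nm g1 b)), h.mul (mul_mem a b) (h.nm g1 b), h.mul a b, h.conj g1 b, h.conj g1 a,
        g2 _ (h.al g1 (h.lt y)), g2 _ (h.lt y), fpf_chk _ (h.lt y)]
  have mU : ∀ y, y ∈ fxs E w ↔ y ∈ Q ∧ α w (ν y) = ν y := fun y => and_congr_right fun a =>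
    ⟨fun e => by
      rw [← h.conj w1 a]
      rcases e with e | e <;> rw [e]
      exact h.νz a, h.fix' w1 a⟩
  have q1 := h.same (w1.mul_right g1) (g1.mul_right w1) g3
  have q2 : g⁻¹ * w * g = w * ((w * g)⁻¹ * (g * w))⁻¹ := by group
  generalize (w * g)⁻¹ * (g * w) = q at q1 q2
  have q3 : α w (ν q) = ν q := by
    have m := h.nm w1 (inv_mem q1)
    have e : w * q⁻¹ * w⁻¹ * (w * w) * q⁻¹ = g⁻¹ * (w * w) * g⁻¹⁻¹ := by rw [← conj_mul, inv_inv, q2]; group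
    have f := h.mul (mul_mem m w3) (inv_mem q1)
    have o : ν (w * w) = 0 := (h.zero w3).2 w4
    rw [e, h.conj g1.inv_right w3, h.mul m w3, h.conj w1 (inv_mem q1), h.νi q1, o, Nat.xor_zero, ← h.ν1,
      h.fix g1.inv_right (one_mem _) (Commute.one_right _), h.ν1] at f
    exact Nat.xor_eq_zero_iff.1 f.symm
  have st : ∀ y ∈ fxs E w, g * y * g⁻¹ ∈ fxs E w ∧ (Commute w (g * y * g⁻¹) ↔ Commute w y) := fun y a => by
    obtain ⟨a, b⟩ := (mU y).1 a
    have c := (h.comm q1 a).2 (h.iso w1 w2 w3 (h.lt q) q3 (h.lt y) b)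
    refine ⟨(mU _).2 ⟨h.nm g1 a, by rw [h.conj g1 a, ← h.αm w1 g1 (h.lt y), g3 _ (h.lt y), h.αm g1 w1 (h.lt y), b]⟩, ?_⟩
    rw [Commute.symm_iff, commute_conj_left_iff, q2]
    exact ⟨fun e => by simpa using e.symm.mul_left c, fun e => (e.mul_left c.inv_left).symm⟩
  obtain ⟨χ, c⟩ := h.tra w1 w2 w4 (U := fxs E w) (E.isPGroup.to_le fun _ a => a.1) (fun _ a => h.le a.1) (fun y a => by
    have b := st y a
    have c := st _ b.1
    have d := fxs_iff E (mul_mem a b.1) c.1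
    rw [fxs_iff E a b.1, c.2, b.2] at d
    refine ((d.1 ?_).1 Iff.rfl).symm
    rcases tri y a.1 with e | e <;> rw [e]
    exacts [Commute.one_right _, w1.symm]) (fun g => h.inner) fun k a => by
      have b := a z ⟨E.mem, Or.inl (cz w1)⟩
      refine h.wc (h.fa w1 w2 w3 (h.inner b) fun n n1 n2 => ?_)
      obtain ⟨y, y1, rfl⟩ := h.sur n n1
      exact h.fix b y1 (a y ((mU y).2 ⟨y1, n2⟩)).symm
  refine ⟨w, w1, χ, c, fun k => h.perf (χ · = 1) (fun a _ b _ => chi_mul χ a b) fun y a => ?_⟩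
  have k : ∀ y, χ (g * y * g⁻¹) = χ y := fun y => by rw [map_mul, map_mul, map_inv, mul_inv_cancel_comm]
  have : χ (y * (g * y * g⁻¹) * (g * (g * y * g⁻¹) * g⁻¹)) = 1 := by rcases tri y a with e | e <;> rw [e]; exacts [map_one _, chi_z E χ]
  rwa [map_mul, map_mul, k, k, k, Int.units_mul_self, one_mul] at this

end Cfsg.Lib.Par
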