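import Cfsg.Agent.Lib.Known2.Q4

/-! The group `2^{1+8}.U₄(2).2`: the reducible module, basic facts. -/

set_option autoImplicit false
set_option linter.unusedSectionVars false

namespace Cfsg.Lib.Par

open Subgroup Cfsg.Lib.Known2 Cfsg.Lib.Core Cfsg.Lib.Fi Cfsg.Lib.Amalg

variable {G : Type*} [Group G] {Q H P : Subgroup G} {z x y : G}

theorem chom' (h1 : z ≠ 1) (zz : z * z = 1) {a b : G} (ha : Commute z a) (fa : a * x * a⁻¹ = x ∨ a * x * a⁻¹ = x * z)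
    (fb : b * x * b⁻¹ = x ∨ b * x * b⁻¹ = x * z) : Commute x (a * b) ↔ (Commute x a ↔ Commute x b) := by
  have k : ∀ g, Commute x g ↔ g * x * g⁻¹ = x := fun g => Commute.symm_iff.trans conj_eq_self_iff.symm
  rw [k, k, k, ← conj_conj']
  rcases fb with e | e <;> simp only [e, ← conj_mul, cz ha] <;> rcases fa with f | f <;> simp only [f] <;> simp [h1, mul_assoc, zz]

namespace CN2
variable [Finite G] (h : CN2 Q H z x y) {g k r s : G}
include h

theorem zq (hg : g ∈ Q) : Commute z g := (h.ls.cen g hg).symm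
theorem cx {a b : G} (ha : a ∈ H) (hb : b ∈ H) : Commute x (a * b) ↔ (Commute x a ↔ Commute x b) :=
  chom' h.ls.ne h.ls.sq (h.hz ha) (h.fx a ha) (h.fx b hb)
theorem cy {a b : G} (ha : a ∈ H) (hb : b ∈ H) : Commute y (a * b) ↔ (Commute y a ↔ Commute y b) :=
  chom' h.ls.ne h.ls.sq (h.hz ha) (h.fy a ha) (h.fy b hb)

theorem fxy (g : G) (a : g ∈ H) : g * (x * y) * g⁻¹ = x * y ∨ g * (x * y) * g⁻¹ = x * y * z :=
  ((fxs h.ls.toES g).mul_mem ⟨h.hx, h.fx g a⟩ ⟨h.hy, h.fy g a⟩).2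

theorem swap : CN2 Q H z y x := ⟨h.toAH, h.hy, h.hx, fun e => h.anti e.symm, h.fy, h.fx, fun r a b c => h.fix r a c b⟩

theorem shear : CN2 Q H z x (x * y) := ⟨h.toAH, h.hx, mul_mem h.hx h.hy, fun e => h.anti (by
  simpa using (Commute.refl x).inv_right.mul_right e), h.fx, h.fxy, fun r a b c => h.fix r a b (by simpa using b.inv_left.mul_left c)⟩

theorem dec (hg : g ∈ H) : ∃ k s, k ∈ H ∧ Commute x k ∧ Commute y k ∧ (s = 1 ∨ s = x ∨ s = y ∨ s = x * y) ∧ g = k * s := by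
  have a := h.anti
  have b : ¬ Commute y x := fun e => a e.symm
  have k : ∀ s ∈ Q, (Commute x g ↔ Commute x s) → (Commute y g ↔ Commute y s) →
      g * s⁻¹ ∈ H ∧ Commute x (g * s⁻¹) ∧ Commute y (g * s⁻¹) := fun s m c d =>
    ⟨mul_mem hg (h.le (inv_mem m)), by simp [h.cx hg (h.le (inv_mem m)), h.cy hg (h.le (inv_mem m)), c, d]⟩
  have zx := h.le h.hx
  have zy := h.le h.hy
  by_cases c : Commute x g <;> by_cases d : Commute y g
  · exact ⟨g, 1, hg, c, d, by simp, by simp⟩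
  · exact let ⟨m, a, b⟩ := k x h.hx (by simp [c]) (by simp [d, b]); ⟨_, x, m, a, b, by simp, by simp⟩
  · exact let ⟨m, a, b⟩ := k y h.hy (by simp [c, a]) (by simp [d]); ⟨_, y, m, a, b, by simp, by simp⟩
  · exact let ⟨m, a, b⟩ := k _ (mul_mem h.hx h.hy) (by simp [c, a, h.cx zx zy]) (by simp [d, b, h.cy zx zy])
      ⟨_, x * y, m, a, b, by simp, by group⟩

theorem sQ (hs : s = 1 ∨ s = x ∨ s = y ∨ s = x * y) : s ∈ Q ∧ (∀ k, Commute x k → Commute y k → Commute s k) ∧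
    ∀ g ∈ H, g * s * g⁻¹ = s ∨ g * s * g⁻¹ = s * z := by
  rcases hs with rfl | rfl | rfl | rfl
  exacts [⟨one_mem _, fun _ _ _ => Commute.one_left _, by simp⟩, ⟨h.hx, fun _ a _ => a, h.fx⟩, ⟨h.hy, fun _ _ a => a, h.fy⟩,
    ⟨mul_mem h.hx h.hy, fun _ a b => a.mul_left b, h.fxy⟩]

def PK (_ : CN2 Q H z x y) : Subgroup G := Q ⊓ centralizer {x} ⊓ centralizer {y}

theorem mem_PK : k ∈ h.PK ↔ k ∈ Q ∧ Commute x k ∧ Commute y k := by
  simp only [PK, mem_inf, mem_centralizer_singleton_iff, and_assoc]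
  exact and_congr_right fun _ => and_congr Commute.symm_iff Commute.symm_iff

theorem decQ (hg : g ∈ Q) : ∃ k ∈ h.PK, ∃ s, (s = 1 ∨ s = x ∨ s = y ∨ s = x * y) ∧ g = k * s :=
  let ⟨k, s, _, a, b, c, d⟩ := h.dec (h.le hg); ⟨k, h.mem_PK.2 ⟨(mul_mem_cancel_right (h.sQ c).1).1 (d ▸ hg), a, b⟩, s, c, d⟩

theorem cardP : 128 ≤ Nat.card h.PK := by
  have t : ∀ {x} {B : Subgroup G}, B ≤ Q → (∀ g ∈ H, g * x * g⁻¹ = x ∨ g * x * g⁻¹ = x * z) →
      Nat.card B ≤ 2 * Nat.card ↥(B ⊓ centralizer {x}) := fun hB f => card_le_two fun a a1 b b1 a2 b2 =>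
    mem_centralizer_singleton_iff.2 ((chom' h.ls.ne h.ls.sq (h.zq (hB (inv_mem a1))) (f _ (h.le (hB (inv_mem a1)))) (f _ (h.le (hB b1)))).2
      (iff_of_false (fun e => a2 (mem_centralizer_singleton_iff.2 (Commute.inv_right_iff.1 e).symm))
        fun e => b2 (mem_centralizer_singleton_iff.2 e.symm))).symm
  have t1 := t le_rfl h.fx
  have t2 := t (inf_le_left (b := centralizer {x})) h.fy
  rw [h.card] at t1
  rw [PK]
  omega

theorem es : ES h.PK z := by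
  have m := fun {k} => (h.mem_PK (k := k)).1
  have c : ∀ u ∈ h.PK, (∀ v ∈ h.PK, u * v = v * u) → u = 1 ∨ u = z := fun u a b => h.ls.of_cen u (m a).1 fun v hv => by
    obtain ⟨k, k1, s, s1, rfl⟩ := h.decQ hv
    exact Commute.mul_right (b k k1) ((h.sQ s1).2.1 u (m a).2.1 (m a).2.2).symm
  refine ⟨h.mem_PK.2 ⟨h.ls.mem, (h.zq h.hx).symm, (h.zq h.hy).symm⟩, h.ls.ne, h.ls.sq, fun u a => h.ls.cen u (m a).1, c,
    fun u a v b => h.ls.comm u (m a).1 v (m b).1, fun u a => h.ls.sq_mem u (m a).1, by_contra fun n => ?_⟩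
  push Not at n
  have E1 := h.ls.ne
  have t3 := (card_le_ncard (B := h.PK) (S := {1, z}) fun u a => c u a (n u a)).trans (Set.ncard_pair E1.symm).le
  have := h.cardP
  omega

theorem n2 (p : G → Prop)
    (hp : ∀ a ∈ H, ∀ b ∈ H, Commute x a → Commute y a → Commute x b → Commute y b → (p (a * b) ↔ (p a ↔ p b)))
    (h0 : k ∈ H) (h1 : Commute x k) (h2 : Commute y k) : p k := by
  have m := fun {k} => (h.mem_PK (k := k)).1
  have E := h.es
  have p1 : p 1 := by simpa using hp 1 (one_mem _) 1 (one_mem _)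
  have pc : ∀ k ∈ H, ∀ u ∈ H, Commute x k → Commute y k → Commute x u → Commute y u → (p (k⁻¹ * u * k) ↔ p u) :=
    fun k k1 u u1 a b c d => by
      have := hp _ (inv_mem k1) _ k1 a.inv_right b.inv_right a b
      rw [hp _ (mul_mem (inv_mem k1) u1) _ k1 (a.inv_right.mul_right c) (b.inv_right.mul_right d) a b,
        hp _ (inv_mem k1) _ u1 a.inv_right b.inv_right c d]
      rw [inv_mul_cancel] at this
      tauto
  obtain ⟨r, r1, r2⟩ := E.exists_rep p fun a a1 b b1 => hp a (h.le (m a1).1) b (h.le (m b1).1) (m a1).2.1 (m a1).2.2 (m b1).2.1 (m b1).2.2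
  have cj' : ∀ k ∈ H, ∀ u, Commute x k → Commute y k → u ∈ h.PK → k * u * k⁻¹ ∈ h.PK := fun k k1 u a b c => h.mem_PK.2
    ⟨h.ls.norm k (h.hz k1).symm u (m c).1, (a.mul_right (m c).2.1).mul_right a.inv_right, (b.mul_right (m c).2.2).mul_right b.inv_right⟩
  have pP : ∀ u ∈ h.PK, p u := fun u hu => (r2 u hu).2 (by
    refine (h.fix r (m r1).1 (m r1).2.1 (m r1).2.2 fun g hg => ?_).elim (fun e => by simp [e]) fun e => e ▸ (E.cen u hu).symm
    obtain ⟨k, s, k1, a, b, c, rfl⟩ := h.dec hg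
    have d := cj' k k1 r a b r1
    rw [← conj_conj', cz ((h.sQ c).2.1 r (m r1).2.1 (m r1).2.2).symm, ← inv_mul_eq_iff_eq_mul, eq_comm, ← inv_mul_eq_one]
    refine E.of_cen _ (mul_mem (inv_mem r1) d) fun v hv => ((E.mul_comm_iff hv (inv_mem r1) d).2 ?_).symm
    have e := cj' k⁻¹ (inv_mem k1) v a.inv_right b.inv_right hv
    rw [inv_inv] at e
    exact (Commute.inv_right_iff.trans (Commute.symm_iff.trans (((r2 v hv).symm.trans
      (pc k k1 v (h.le (m hv).1) a b (m hv).2.1 (m hv).2.2).symm).trans (r2 _ e)))).trans (commute_conj_left_iff.symm.trans Commute.symm_iff))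
  have wd : ∀ g, ∀ k ∈ H, Commute x k → Commute y k → k⁻¹ * g ∈ Q →
      ((∃ k ∈ H, Commute x k ∧ Commute y k ∧ k⁻¹ * g ∈ Q ∧ p k) ↔ p k) :=
    fun g k k1 a b c => ⟨fun ⟨l, l1, d, e, f, q⟩ => by
      have := pP (l⁻¹ * k) (h.mem_PK.2 ⟨by simpa [mul_assoc] using mul_mem f (inv_mem c), d.inv_right.mul_right a, e.inv_right.mul_right b⟩)
      have t := hp l l1 (l⁻¹ * k) (mul_mem (inv_mem l1) k1) d e (d.inv_right.mul_right a) (e.inv_right.mul_right b)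
      rw [mul_inv_cancel_left] at t
      tauto, fun q => ⟨k, k1, a, b, c, q⟩⟩
  refine (wd k k h0 h1 h2 (by simp)).1 (h.perf (fun g => ∃ k ∈ H, Commute x k ∧ Commute y k ∧ k⁻¹ * g ∈ Q ∧ p k)
    (fun a a1 b b1 => ?_) (fun q hq => ⟨1, one_mem _, by simp, by simp, by simpa, p1⟩) h0)
  obtain ⟨k, s, k0, k1, k2, k3, rfl⟩ := h.dec a1
  obtain ⟨l, t, l0, l1, l2, l3, rfl⟩ := h.dec b1
  rw [wd (k * s) k k0 k1 k2 (by simpa using (h.sQ k3).1), wd (l * t) l l0 l1 l2 (by simpa using (h.sQ l3).1), wd _ (k * l) (mul_mem k0 l0)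
    (k1.mul_right l1) (k2.mul_right l2) (by
      convert mul_mem (h.ls.norm l⁻¹ (h.hz l0).inv_right.symm s (h.sQ k3).1) (h.sQ l3).1 using 1; group), hp k k0 l l0 k1 k2 l1 l2]

/-- Conjugates of vectors fixed by `H`. -/
theorem nS (hg : Commute z g) (f : ∀ k ∈ H, k * r * k⁻¹ = r ∨ k * r * k⁻¹ = r * z) (k : G) (a : k ∈ H) :
    k * (g * r * g⁻¹) * k⁻¹ = g * r * g⁻¹ ∨ k * (g * r * g⁻¹) * k⁻¹ = g * r * g⁻¹ * z := by
  rw [show k * (g * r * g⁻¹) * k⁻¹ = g * (g⁻¹ * k * g⁻¹⁻¹ * r * (g⁻¹ * k * g⁻¹⁻¹)⁻¹) * g⁻¹ by group]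
  refine (f _ (h.nrm hg.inv_right a)).imp (fun e => by rw [e]) fun e => by rw [e, ← conj_mul, cz hg]

theorem eqS (r1 : r ∈ Q) (s1 : s ∈ Q) (r2 : ∀ k ∈ H, k * r * k⁻¹ = r ∨ k * r * k⁻¹ = r * z)
    (s2 : ∀ k ∈ H, k * s * k⁻¹ = s ∨ k * s * k⁻¹ = s * z) (e1 : Commute x s ↔ Commute x r) (e2 : Commute y s ↔ Commute y r) :
    s = r ∨ s = r * z :=
  (h.fix _ (mul_mem (inv_mem r1) s1) ((h.cx (h.le (inv_mem r1)) (h.le s1)).2 (by simp [e1]))
    ((h.cy (h.le (inv_mem r1)) (h.le s1)).2 (by simp [e2])) fun k a =>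
      ((fxs h.ls.toES k).mul_mem ((fxs h.ls.toES k).inv_mem ⟨r1, r2 k a⟩) ⟨s1, s2 k a⟩).2).imp
    (fun a => (inv_mul_eq_one.1 a).symm) fun a => inv_mul_eq_iff_eq_mul.1 a

theorem cS (r1 : r ∈ Q) (r2 : ∀ k ∈ H, k * r * k⁻¹ = r ∨ k * r * k⁻¹ = r * z) (k1 : Commute x k) (k2 : Commute y k) : Commute r k := by
  have zk : Commute z k := by
    rw [show z = (y * x)⁻¹ * (x * y) by rw [h.ls.anti h.hx h.hy h.anti]; group]
    exact (k2.mul_left k1).inv_left.mul_left (k1.mul_left k2)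
  obtain ⟨p, p1, s, s1, rfl⟩ := h.decQ r1
  have := h.sQ s1
  have m := h.mem_PK.1 p1
  refine Commute.mul_left ?_ (this.2.1 k k1 k2)
  rcases h.fix p m.1 m.2.1 m.2.2 fun k a => by
    simpa using ((fxs h.ls.toES k).mul_mem ⟨r1, r2 k a⟩ ((fxs h.ls.toES k).inv_mem ⟨this.1, this.2.2 k a⟩)).2 with rfl | rfl
  exacts [Commute.one_left _, zk]

theorem nP (hg : Commute z g) (hk : k ∈ h.PK) : g * k * g⁻¹ ∈ h.PK := by
  have m := h.mem_PK.1 hk
  have c : ∀ r ∈ Q, (∀ k ∈ H, k * r * k⁻¹ = r ∨ k * r * k⁻¹ = r * z) → Commute r (g * k * g⁻¹) := fun r a b =>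
    (commute_conj_left_iff.2 (by
      simpa using (h.cS (h.ls.norm _ hg.inv_right.symm r a) (h.nS hg.inv_right b) m.2.1 m.2.2).symm)).symm
  exact h.mem_PK.2 ⟨h.ls.norm g hg.symm k m.1, c x h.hx h.fx, c y h.hy h.fy⟩

theorem cP : ∀ t ∈ Cl z, (∀ p ∈ h.PK, Commute t p) → t = z := by
  rintro _ ⟨g, rfl⟩ ht
  have E := h.es
  have m := fun {k} => (h.mem_PK (k := k)).1
  have t1 : g * z * g⁻¹ ≠ 1 := by simpa using E.ne
  have zt := (ht z E.mem).symm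
  obtain ⟨k, k1, s, s1, e⟩ := h.decQ (h.cen _ zt fun k a => by
    have b := mul_mem (h.nrm zt a) (inv_mem a)
    refine h.ls.mem_of_inner (h.hz b).symm fun q hq => ?_
    obtain ⟨p, p1, s, s1, rfl⟩ := h.decQ hq
    have c : Commute (g * z * g⁻¹ * k * (g * z * g⁻¹)⁻¹ * k⁻¹) p := by
      rw [mul_assoc _ k, mul_assoc _ (k * _)]
      exact (ht p p1).mul_left (commute_conj_left_iff.2 (by simpa using (ht _ (h.nP (h.hz a).inv_right p1)).inv_left))
    rw [← conj_mul, cz c.symm, mul_assoc p s, mul_right_inj, mul_right_inj]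
    exact (h.sQ s1).2.2 _ b)
  have K : ∀ l ∈ H, Commute x l → Commute y l → Commute z (g⁻¹ * l * g) := fun l l1 a b => by
    refine commute_conj_left_iff.1 (e ▸ Commute.mul_left ?_ ((h.sQ s1).2.1 l a b))
    rcases E.of_cen k k1 fun v hv => by
      simpa [e] using ((ht v hv).mul_left ((h.sQ s1).2.1 v (m hv).2.1 (m hv).2.2).inv_left).eq with rfl | rfl
    exacts [Commute.one_left _, h.hz l1]
  have c : ∀ a b, g⁻¹ * (a * b) * g = g⁻¹ * a * g * (g⁻¹ * b * g) := fun a b => by group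
  have K' : ∀ l ∈ H, Commute x l → Commute y l → g⁻¹ * l * g ∈ H := fun l =>
    h.n2 (fun l => g⁻¹ * l * g ∈ H) fun a a0 b b0 a1 a2 b1 b2 => c a b ▸ h.two (K a a0 a1 a2) (K b b0 b1 b2)
  obtain ⟨l, l1, l2⟩ := ((Set.toFinite {l | l ∈ H ∧ Commute x l ∧ Commute y l}).injOn_iff_bijOn_of_mapsTo (f := fun l => g⁻¹ * l * g)
    fun l a => ⟨K' l a.1 a.2.1 a.2.2,
      h.n2 (fun l => Commute x (g⁻¹ * l * g)) (fun a a0 b b0 a1 a2 b1 b2 => c a b ▸ h.cx (K' a a0 a1 a2) (K' b b0 b1 b2)) a.1 a.2.1 a.2.2,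
      h.n2 (fun l => Commute y (g⁻¹ * l * g)) (fun a a0 b b0 a1 a2 b1 b2 => c a b ▸ h.cy (K' a a0 a1 a2) (K' b b0 b1 b2)) a.1 a.2.1 a.2.2⟩).1
    (fun _ _ _ _ e => mul_left_cancel (mul_right_cancel e)) |>.surjOn ⟨h.le h.ls.mem, (m E.mem).2⟩
  obtain rfl : l = g * z * g⁻¹ := by rw [← l2]; group
  exact (E.of_cen _ (h.mem_PK.2 ⟨e ▸ mul_mem (m k1).1 (h.sQ s1).1, l1.2⟩) ht).resolve_left t1

theorem chi (fy : ∀ g, Commute z g → g * y * g⁻¹ = y ∨ g * y * g⁻¹ = y * z) :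
    ∃ χ : G →* ℤˣ, χ x = -1 ∧ χ y = 1 ∧ ∀ k ∈ H, (χ k = 1 ↔ Commute y k) := by
  have m := fun {k} => (h.mem_PK (k := k)).1
  have zx := h.zq h.hx
  have zy := h.zq h.hy
  have xy := mul_mem h.hx h.hy
  have a := h.anti
  have b : ¬ Commute y x := fun e => a e.symm
  obtain ⟨χ, c⟩ := sgn h.es fy zy (fun p hp => (m hp).2.2) h.cP zx (h.ls.conj_anti h.hx h.hy a)
  have d1 := c x zx (h.ls.conj_anti h.hx h.hy a) (h.ls.sq_mem x h.hx) fun p hp => (m hp).2.1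
  have e : ¬ Commute y (x * y) := by simp [h.cy (h.le h.hx) (h.le h.hy), b]
  have d2 := c _ (zx.mul_right zy) (h.ls.conj_anti xy h.hy fun f => e (Commute.symm f)) (h.ls.sq_mem _ xy)
    fun p hp => (m hp).2.1.mul_left (m hp).2.2
  have d3 : χ y = 1 := by simpa [d1] using d2
  refine ⟨χ, d1, d3, fun k a => ?_⟩
  obtain ⟨k, s, k0, k1, k2, s1, rfl⟩ := h.dec a
  rw [map_mul, h.n2 (χ · = 1) (fun a _ b _ _ _ _ _ => chi_mul χ a b) k0 k1 k2, one_mul, h.cy k0 (h.le (h.sQ s1).1)]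
  rcases s1 with rfl | rfl | rfl | rfl <;> simp [k2, d1, d3, b, e]

theorem rel : ∃ x y, CN2 Q H z x y ∧ ∀ g, Commute z g → g * y * g⁻¹ = y ∨ g * y * g⁻¹ = y * z := by
  by_cases n : ∀ g, Commute z g → g ∈ H
  · exact ⟨x, y, h, fun g a => h.fy g (n g a)⟩
  push Not at n
  obtain ⟨w, w1, w2⟩ := n
  have K : ∀ {x y}, CN2 Q H z x y → (w * y * w⁻¹ = y ∨ w * y * w⁻¹ = y * z) →
      ∃ x y, CN2 Q H z x y ∧ ∀ g, Commute z g → g * y * g⁻¹ = y ∨ g * y * g⁻¹ = y * z := fun {x y} C e => ⟨x, y, C, fun g a => by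
    by_cases m : g ∈ H
    · exact C.fy g m
    have b := (h.two a w1.inv_right).2 (iff_of_false m (mt inv_mem_iff.1 w2))
    rw [← inv_mul_cancel_right g w, ← conj_conj']
    rcases e with e | e <;> rw [e]
    · exact C.fy _ b
    · rw [← conj_mul, cz (h.hz b)]
      exact (C.fy _ b).symm.imp (fun e => by rw [e, mul_assoc, h.ls.sq, mul_one]) fun e => by rw [e]⟩
  have nx := h.ls.norm w w1.symm x h.hx
  have ny := h.ls.norm w w1.symm y h.hy
  have sx := h.nS w1 h.fx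
  have sy := h.nS w1 h.fy
  have a := h.anti
  have b : ¬ Commute y x := fun e => a e.symm
  have an : ¬ Commute (w * x * w⁻¹) (w * y * w⁻¹) := fun e => a (by simpa [mul_assoc] using commute_conj_left_iff.1 e)
  have bc : Commute x (w * y * w⁻¹) ↔ Commute y (w * x * w⁻¹) := by
    rw [Commute.symm_iff, commute_conj_left_iff, show w * x * w⁻¹ = w * w * (w⁻¹ * x * w⁻¹⁻¹) * (w * w)⁻¹ by group]
    rcases h.nS w1.inv_right h.fx _ ((h.two w1 w1).2 Iff.rfl) with e | e <;> rw [e, inv_inv]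
    exact ⟨fun e => e.mul_right (h.zq h.hy).symm, fun e => by
      simpa [mul_assoc, h.ls.sq] using e.mul_right (h.zq h.hy).symm⟩
  by_cases c : Commute x (w * y * w⁻¹)
  · refine K h.shear (h.eqS (mul_mem h.hx h.hy) (h.ls.norm w w1.symm _ (mul_mem h.hx h.hy)) h.fxy (h.nS w1 h.fxy) ?_ ?_)
    · rw [← conj_mul, h.cx (h.le nx) (h.le ny), h.cx (h.le h.hx) (h.le h.hy)]
      simpa [c, a] using fun e => an (h.cS ny sy e (bc.1 c)).symm
    · rw [← conj_mul, h.cy (h.le nx) (h.le ny), h.cy (h.le h.hx) (h.le h.hy)]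
      simpa [bc.1 c, b] using fun e => an (h.cS nx sx c e)
  by_cases d : Commute y (w * y * w⁻¹)
  · exact K h (h.eqS h.hy ny h.fy sy (by simp [c, a]) (by simp [d]))
  by_cases e : Commute x (w * x * w⁻¹)
  · exact K h.swap (h.eqS h.hx nx h.fx sx (by simp [e]) (by simp [← bc, c, b]))
  rcases h.eqS nx ny sx sy (by simp [c, e]) (by simp [d, ← bc, c]) with f | f <;> rw [f] at an
  exacts [absurd (Commute.refl _) an, absurd ((Commute.refl _).mul_right (h.zq nx).symm) an]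

end CN2

end Cfsg.Lib.Par
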