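import Cfsg.Agent.Lib.Known2.Q5

/-! The group `2^{1+8}.U₄(2).2`: the central involution is isolated when the module is reducible. -/

set_option autoImplicit false
set_option linter.unusedSectionVars false

namespace Cfsg.Lib.Par

open Subgroup Cfsg.Lib.Known2 Cfsg.Lib.Core Cfsg.Lib.Fi Cfsg.Lib.Amalg

variable {G : Type*} [Group G] [Finite G] {Q H P : Subgroup G} {z x y : G}

theorem cm_mul {a b t : G} : a * b * t * (a * b)⁻¹ * t⁻¹ = a * (b * t * b⁻¹ * t⁻¹) * a⁻¹ * (a * t * a⁻¹ * t⁻¹) := by group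

theorem jord (E : ES P z) (hP : 128 ≤ Nat.card P) {w : G} (nm : ∀ p ∈ P, w * p * w⁻¹ ∈ P) (nm' : ∀ p ∈ P, w⁻¹ * p * w ∈ P)
    (w4 : w * w * (w * w) = 1) (h1 : ∀ u ∈ P, Commute (w * w) u → Commute w u)
    (h2 : ∀ u ∈ P, Commute w u → ∀ v ∈ P, Commute w v → Commute u v) (zw : Commute z w) : False := by
  have cP : ∀ q ∈ P, q * w * q⁻¹ * w⁻¹ ∈ P := fun q a => by simpa [mul_assoc] using mul_mem a (nm _ (inv_mem a))
  have fU : ∀ u ∈ fxs E w, Commute w u := fun u a => h1 u a.1 (conj_eq_self_iff.1 (by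
    rw [← conj_conj']
    rcases a.2 with e | e <;> rw [e]
    · exact e
    · rw [← conj_mul, e, cz zw, mul_assoc, E.sq, mul_one]))
  let M : Subgroup G :=
    { carrier := {p | ∃ q ∈ P, p⁻¹ * (q * w * q⁻¹ * w⁻¹) ∈ zpowers z ∧ p ∈ P}
      one_mem' := ⟨1, one_mem _, by simp, one_mem _⟩
      mul_mem' := by
        rintro a b ⟨q, q1, q2, q3⟩ ⟨r, r1, r2, r3⟩
        refine ⟨r * q, mul_mem r1 q1, ?_, mul_mem q3 r3⟩
        have c : ∀ u ∈ zpowers z, u * b = b * u := fun u hu => (mem_cent_zpowers.2 (E.cen b r3) u hu)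
        rw [cm_mul]
        have m := cP q q1
        generalize q * w * q⁻¹ * w⁻¹ = u at *
        generalize r * w * r⁻¹ * w⁻¹ = v at *
        rw [show (a * b)⁻¹ * (r * u * r⁻¹ * v) = b⁻¹ * (a⁻¹ * u * (u⁻¹ * r * u⁻¹⁻¹ * r⁻¹) * b) * (b⁻¹ * v) by group,
          c _ (mul_mem q2 (E.commutator_mem (inv_mem m) r1)), inv_mul_cancel_left]
        exact mul_mem (mul_mem q2 (E.commutator_mem (inv_mem m) r1)) r2
      inv_mem' := by
        rintro a ⟨q, q1, q2, q3⟩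
        exact ⟨q, q1, by simpa [mul_assoc] using mul_mem (E.mem_zp.2 (E.sq_mem a q3)) q2, inv_mem q3⟩ }
  have UM : ∀ u ∈ P, Commute w u → u ∈ M := fun u a b => by_contra fun n => by
    obtain ⟨r, r1, r2, r3⟩ := E.exists_sep (A := M) (fun _ ⟨_, _, _, a⟩ => a) ⟨1, one_mem _, by simp, E.mem⟩ a n
    refine r3 (h2 r r1 (fU r (inv_inv r ▸ inv_mem ⟨inv_mem r1, ?_⟩)) u a b)
    have m := mul_mem r1 (nm _ (inv_mem r1))
    refine (E.of_cen _ m fun q q1 => ?_).imp (fun e => (inv_eq_of_mul_eq_one_right e).symm) fun e => eq_inv_mul_iff_mul_eq.2 e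
    have q2 := nm' q q1
    have c := r2 _ ⟨_, q2, by rw [inv_mul_cancel]; exact one_mem _, cP _ q2⟩
    rw [show w⁻¹ * q * w * w * (w⁻¹ * q * w)⁻¹ * w⁻¹ = w⁻¹ * q * w * q⁻¹ by group, E.mul_comm_iff r1 q2 (inv_mem q1)] at c
    refine ((E.mul_comm_iff q1 r1 (nm _ (inv_mem r1))).2 ?_).symm
    refine (Commute.symm_iff.trans (Commute.inv_right_iff.symm.trans (c.symm.trans ?_)))
    exact Commute.inv_left_iff.symm.trans (commute_conj_left_iff.symm.trans Commute.symm_iff)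
  have c1 := card_fix E w4 fun p a => by rw [← conj_conj']; exact nm _ (nm p a)
  have c2 := fxs_two E (w * w)
  suffices K : Nat.card ↥(P ⊓ centralizer {w * w}) ≤ 4 by nlinarith
  have mU : ∀ u ∈ P ⊓ centralizer {w * w}, Commute w u := fun u a => h1 u a.1 (mem_centralizer_singleton_iff.1 a.2).symm
  have k : ∀ u ∈ P ⊓ centralizer {w * w}, u ∉ zpowers z → ∃ q ∈ fxs E (w * w), q ∉ centralizer {w * w} ∧
      u⁻¹ * (q * w * q⁻¹ * w⁻¹) ∈ zpowers z := fun u a n => by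
    obtain ⟨q, q1, q2, -⟩ := UM u a.1 (mU u a)
    refine ⟨q, inv_inv q ▸ inv_mem ⟨inv_mem q1, ?_⟩, fun e => n (by simpa [(mU q ⟨q1, e⟩).symm.eq] using q2), q2⟩
    have c : Commute w (q * w * q⁻¹ * w⁻¹) := by
      rcases E.mem_zp.1 q2 with e | e <;> rw [inv_mul_eq_iff_eq_mul.1 e]
      exacts [(mU u a).mul_right (Commute.one_right _), (mU u a).mul_right zw.symm]
    rw [show w * w * q⁻¹ * (w * w)⁻¹ = q⁻¹ * (q * w * q⁻¹ * w⁻¹ * (w * (q * w * q⁻¹ * w⁻¹) * w⁻¹)) by group, cz c.symm]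
    exact (E.sq_mem _ (cP q q1)).imp (fun e => by rw [e, mul_one]) fun e => by rw [e]
  have c3 := card_le_two (B := P ⊓ centralizer {w * w}) (K := zpowers z) fun a a1 b b1 a2 b2 => by
    obtain ⟨q, q1, q2, q3⟩ := k a a1 a2
    obtain ⟨r, r1, r2, r3⟩ := k b b1 b2
    have c : Commute w (q⁻¹ * r) := h1 _ (mul_mem (inv_mem q1.1) r1.1) ((fxs_iff E (inv_mem q1) r1).2 (iff_of_false
      (fun e => q2 (mem_centralizer_singleton_iff.2 (Commute.inv_right_iff.1 e).symm)) fun e => r2 (mem_centralizer_singleton_iff.2 e.symm)))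
    rw [← mul_inv_cancel_left q r, ← conj_conj', cz c] at r3
    simpa [mul_assoc] using mul_mem q3 (inv_mem r3)
  have c4 := (card_le_of_le (inf_le_right : P ⊓ centralizer {w * w} ⊓ zpowers z ≤ _)).trans (card_zpowers_invol E.sq E.ne).le
  omega

theorem cov_le {U : Subgroup G} (L : List G) (h : ∀ d ∈ Q, ∃ a ∈ L, a * d ∈ U) : Nat.card Q ≤ L.length * Nat.card ↥(Q ⊓ U) := by
  classical
  choose! μ m1 m2 using h
  exact (card_le_fib μ L.toFinset (fun d a => List.mem_toFinset.2 (m1 d a)) fun a a1 b b1 e => by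
    rw [show a⁻¹ * b = (μ a * a)⁻¹ * (μ a * b) by group]
    exact mul_mem (inv_mem (m2 a a1)) (e ▸ m2 b b1)).trans (Nat.mul_le_mul_right _ L.toFinset_card_le)

theorem AH.outer (h : AH Q H z) (hin : ∀ g, g * z * g⁻¹ ∈ H → g * z * g⁻¹ = z) {g : G} (w1 : Commute z (g * z * g⁻¹)) :
    g * z * g⁻¹ = z := by
  by_contra ne
  have E := h.ls.toES
  obtain ⟨O, o1, o2, o3, o4⟩ : ∃ O : G → Prop, (∀ a b, Commute (g * z * g⁻¹) a → Commute (g * z * g⁻¹) b → (O (a * b) ↔ (O a ↔ O b))) ∧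
      ¬ O z ∧ O (g * z * g⁻¹) ∧ ∀ q, O (q * (g * z * g⁻¹) * q⁻¹) → q * (g * z * g⁻¹) * q⁻¹ = g * z * g⁻¹ :=
    ⟨fun a => g⁻¹ * a * g ∈ H, fun a b c d => by
      rw [← h.two (commute_conj_left_iff.1 c) (commute_conj_left_iff.1 d)]; simp [mul_assoc], fun a => ne (by
        conv_lhs => rw [← hin g⁻¹ (by simpa using a)]
        group), by simpa [mul_assoc] using h.le E.mem, fun q a => by
      conv_rhs => rw [← hin (g⁻¹ * q * g) (by convert a using 1; group)]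
      group⟩
  have tt := h.ls.conj_sq g
  have nm := h.ls.norm _ w1.symm
  generalize g * z * g⁻¹ = t at *
  have ti := inv_eq_of_mul_eq_one_right tt
  have uu : ∀ u ∈ Q, Commute t u → u * u = 1 := fun u a b => (E.sq_mem u a).resolve_right fun e => o2 (e ▸ (o1 u u b b).2 Iff.rfl)
  have c0 : Nat.card ↥(Q ⊓ centralizer {t}) ≤ 32 := by
    have m : z ∈ Q ⊓ centralizer {t} := ⟨E.mem, mem_centralizer_singleton_iff.2 w1⟩
    have e := E.card_cent inf_le_left m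
    have := card_le_of_le (show Q ⊓ centralizer {t} ≤ Q ⊓ centralizer ↑(Q ⊓ centralizer {t}) from fun a ha => ⟨ha.1, fun b hb =>
      comm_of_sq (Y := Q ⊓ centralizer {t}) (fun u a => uu u a.1 (mem_centralizer_singleton_iff.1 a.2).symm) hb ha⟩)
    rw [h.card] at e
    nlinarith
  have cf := fun q => cm_fxs E tt nm (x := q)
  have iv : ∀ q, t * (q * t * q⁻¹ * t⁻¹) * t⁻¹ = (q * t * q⁻¹ * t⁻¹)⁻¹ := fun q => by
    rw [show t * (q * t * q⁻¹ * t⁻¹) * t⁻¹ = (q * t * q⁻¹ * t⁻¹)⁻¹ * (q * (t * t) * q⁻¹ * (t * t)⁻¹) by group, tt]; simp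
  have oc : ∀ q, Commute t (q * t * q⁻¹ * t⁻¹) → O (q * t * q⁻¹ * t⁻¹) → q * t * q⁻¹ * t⁻¹ = 1 := fun q a b => by
    rw [o4 q (by simpa using (o1 _ _ a (Commute.refl t)).2 (iff_of_true b o3)), mul_inv_cancel]
  by_cases c : ∃ u ∈ Q, u * t * u⁻¹ * t⁻¹ = z
  · obtain ⟨u, u1, u2⟩ := c
    have k : ∀ q ∈ Q, Commute t (q * t * q⁻¹ * t⁻¹) → q⁻¹ ∈ fxs E t := fun q a b => by
      refine ⟨inv_mem a, ?_⟩
      rw [show t * q⁻¹ * t⁻¹ = q⁻¹ * (q * t * q⁻¹ * t⁻¹) by group]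
      by_cases n : O (q * t * q⁻¹ * t⁻¹)
      · exact Or.inl (by rw [oc q b n, mul_one])
      have e : q * u * t * (q * u)⁻¹ * t⁻¹ = z * (q * t * q⁻¹ * t⁻¹) := by rw [cm_mul, u2, cz (E.cen q a).symm]
      have := oc (q * u) (e ▸ w1.symm.mul_right b) (e ▸ (o1 _ _ w1.symm b).2 (iff_of_false o2 n))
      rw [e] at this
      exact Or.inr (by rw [← inv_eq_of_mul_eq_one_right this, E.inv_z])
    have c1 := card_le_two (B := Q) (K := fxs E t) fun a a1 b b1 a2 b2 => by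
      have a3 : ¬ Commute t (a * t * a⁻¹ * t⁻¹) := fun e => a2 (inv_mem_iff.1 (k a a1 e))
      have b3 : ¬ Commute t (b⁻¹ * t * b⁻¹⁻¹ * t⁻¹) := fun e => b2 (by simpa using k _ (inv_mem b1) e)
      have c := (fxs_iff E (cf a a1) (cf _ (inv_mem b1))).2 (iff_of_false a3 b3)
      refine (mul_inv_rev b⁻¹ a).trans (congrArg _ (inv_inv b)) ▸ k _ (mul_mem (inv_mem b1) a1) ?_
      rw [cm_mul]
      rcases E.conj_eq (inv_mem b1) (cf a a1).1 with e | e <;> rw [e]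
      · exact c
      · rw [mul_assoc, ← E.cen _ (cf _ (inv_mem b1)).1, ← mul_assoc]; exact c.mul_right w1.symm
    have c2 := fxs_two E t
    have c3 := card_le_of_le (inf_le_right : Q ⊓ fxs E t ≤ _)
    rw [h.card] at c1
    omega
  push Not at c
  have ct : ∀ u ∈ fxs E t, Commute t u := fun u a => conj_eq_self_iff.1 (a.2.resolve_right fun e => c u⁻¹ (inv_mem a.1) (by
    rw [inv_inv, mul_assoc, mul_assoc, ← mul_assoc t, e, inv_mul_cancel_left]))
  have no : ∀ q ∈ Q, q ∉ centralizer {t} → ¬ O (q * t * q⁻¹ * t⁻¹) := fun q a b e =>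
    b (mem_centralizer_singleton_iff.2 (conj_eq_self_iff.1 (mul_inv_eq_one.1 (oc q (ct _ (cf q a)) e))))
  have an : ∀ q ∈ Q, ∀ d ∈ Q, q ∉ centralizer {t} → d ∉ centralizer {t} → q * d ∉ centralizer {t} →
      q * (d * t * d⁻¹ * t⁻¹) ≠ d * t * d⁻¹ * t⁻¹ * q := fun q q1 d d1 q2 d2 n e => no _ (mul_mem q1 d1) n (by
    rw [cm_mul, e, mul_inv_cancel_right]
    exact (o1 _ _ (ct _ (cf d d1)) (ct _ (cf q q1))).2 (iff_of_false (no d d1 d2) (no q q1 q2)))
  have ex : ∀ L : List G, L.length ≤ 4 → ∃ d ∈ Q, ∀ a ∈ L, a * d ∉ centralizer {t} := fun L l => by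
    by_contra n
    push Not at n
    have := cov_le L n
    rw [h.card] at this
    nlinarith
  obtain ⟨a, a1, a2⟩ := ex [1] (by simp)
  obtain ⟨b, b1, b2⟩ := ex [1, a] (by simp)
  obtain ⟨d, d1, d2⟩ := ex [1, a, b, a * b] (by simp)
  simp only [List.mem_cons, List.not_mem_nil, or_false, forall_eq_or_imp, forall_eq, one_mul] at a2 b2 d2
  exact an _ (mul_mem a1 b1) d d1 b2.2 d2.1 d2.2.2.2 ((E.mul_comm_iff (cf d d1).1 a1 b1).2
    (iff_of_false (an a a1 d d1 a2 d2.1 d2.2.1).symm (an b b1 d d1 b2.1 d2.1 d2.2.2.1).symm)).symm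

omit [Finite G] in
theorem lemA {u v g : G} (zz : z ≠ 1) (_ : z * z = 1) (zu : Commute z u) (e : u * v * u⁻¹ = v * z) (fu : ∀ c, Commute z c → c * u * c⁻¹ = u ∨ c * u * c⁻¹ = u * z)
    (h1 : Commute v (g⁻¹ * u⁻¹ * g * u)) (h2 : Commute z (g * v * g⁻¹)) : g * z * g⁻¹ = z := by
  have a : g * v * g⁻¹ * (g * z * g⁻¹) = g * v * g⁻¹ * ((g * v * g⁻¹)⁻¹ * u * (g * v * g⁻¹)⁻¹⁻¹) * u⁻¹ := by
    rw [conj_mul, ← e, show g * (u * v * u⁻¹) * g⁻¹ = u * g * (g⁻¹ * u⁻¹ * g * u * v * (g⁻¹ * u⁻¹ * g * u)⁻¹) * (u * g)⁻¹ by group, cz h1]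
    group
  rcases fu _ h2.inv_right with f | f <;> rw [f] at a
  · exact absurd (by simpa using a) zz
  · rw [mul_assoc (g * v * g⁻¹) (u * z), mul_right_inj] at a
    rw [a, cz zu]

namespace CN2
variable (h : CN2 Q H z x y) (fy : ∀ g, Commute z g → g * y * g⁻¹ = y ∨ g * y * g⁻¹ = y * z) {g : G}
include h fy

theorem inA (fx : ∀ g, Commute z g → g * x * g⁻¹ = x ∨ g * x * g⁻¹ = x * z) (hg : g * z * g⁻¹ ∈ H) : g * z * g⁻¹ = z := by
  obtain ⟨χ, c1, c2, c3⟩ := h.chi fy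
  obtain ⟨ψ, d1, d2, d3⟩ := h.swap.chi fx
  have E := h.ls.toES
  have zx := h.zq h.hx
  have zy := h.zq h.hy
  have k : ∀ (χ : G →* ℤˣ) g y, χ (g * y * g⁻¹) = χ y := fun χ g y => by rw [map_mul, map_mul, map_inv, mul_inv_cancel_comm]
  have K : ∀ g, g * z * g⁻¹ ∈ H → Commute z (g⁻¹ * x * g) ∧ Commute z (g⁻¹ * y * g) := fun g a =>
    ⟨commute_conj_left_iff.1 ((d3 _ a).1 (by rw [k, chi_z E])).symm, commute_conj_left_iff.1 ((c3 _ a).1 (by rw [k, chi_z E])).symm⟩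
  have t := K g hg
  have t' := K g⁻¹ (by
    rw [show g⁻¹ * z * g⁻¹⁻¹ = (g⁻¹ * y * g * (g⁻¹ * x * g))⁻¹ * (g⁻¹ * x * g * (g⁻¹ * y * g)) by
      rw [show z = (y * x)⁻¹ * (x * y) by rw [h.ls.anti h.hx h.hy h.anti]; group]; group,
      h.two (t.2.mul_right t.1).inv_right (t.1.mul_right t.2), inv_mem_iff, h.two t.2 t.1, h.two t.1 t.2]
    tauto)
  simp only [inv_inv] at t'
  have k2 : ∀ (χ : G →* ℤˣ) u, χ (g⁻¹ * u⁻¹ * g * u) = 1 := fun χ u => by
    rw [map_mul, map_mul, map_mul, map_inv, map_inv, inv_mul_cancel_comm, inv_mul_cancel]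
  have A : ∀ u v, u * v * u⁻¹ = v * z → (∀ c, Commute z c → c * u * c⁻¹ = u ∨ c * u * c⁻¹ = u * z) → Commute z u →
      Commute z (g⁻¹ * u * g) → Commute z (g * v * g⁻¹) → (∀ c, Commute z c → χ c = 1 → ψ c = 1 → Commute v c) → g * z * g⁻¹ = z :=
    fun u v a b c d e f => lemA E.ne E.sq c a b (f _ (Commute.mul_right (by simpa [mul_assoc] using d.inv_right) c)
      (k2 χ u) (k2 ψ u)) e
  have B : ∀ v, (∀ k, Commute x k → Commute y k → Commute v k) → ∀ w, Commute z w → w ∉ H → χ w = 1 → ψ w = 1 → Commute v w →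
      ∀ c, Commute z c → χ c = 1 → ψ c = 1 → Commute v c := fun v a w w1 w2 w3 w4 w5 c e1 e2 e3 => by
    by_cases m : c ∈ H
    · exact a c ((d3 c m).1 e3) ((c3 c m).1 e2)
    have m := (h.two e1 w1).2 (iff_of_false m w2)
    simpa using (a _ ((d3 _ m).1 (by simp [e3, w4])) ((c3 _ m).1 (by simp [e2, w3]))).mul_right w5.inv_right
  have a1 := h.ls.conj_anti h.hx h.hy h.anti
  by_cases n : ∀ c, Commute z c → χ c = 1 → ψ c = 1 → c ∈ H
  · exact A x y a1 fx zx t.1 t'.2 fun c a b d => (c3 c (n c a b d)).1 b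
  push Not at n
  obtain ⟨w, w1, w3, w4, w2⟩ := n
  by_cases m1 : Commute y w
  · exact A x y a1 fx zx t.1 t'.2 (B y (fun _ _ a => a) w w1 w2 w3 w4 m1)
  by_cases m2 : Commute x w
  · exact A y x (h.ls.conj_anti h.hy h.hx fun e => h.anti (Eq.symm e)) fy zy t.2 t'.1 (B x (fun _ a _ => a) w w1 w2 w3 w4 m2)
  refine A x (x * y) (by rw [← conj_mul, a1, mul_inv_cancel_right, mul_assoc]) fx zx t.1 (by rw [← conj_mul]; exact t'.1.mul_right t'.2)
    (B _ (fun _ a b => a.mul_left b) w w1 w2 w3 w4 ((fxs_iff E ⟨h.hx, fx w w1⟩ ⟨h.hy, fy w w1⟩).2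
      (iff_of_false (fun e => m2 e.symm) fun e => m1 e.symm)).symm)

theorem ox (hg : Commute z g) (n : ¬ (g * x * g⁻¹ = x ∨ g * x * g⁻¹ = x * z)) : g * x * g⁻¹ = x * y ∨ g * x * g⁻¹ = x * y * z := by
  have m := h.ls.norm g hg.symm x h.hx
  have b : ¬ Commute y x := fun e => h.anti e.symm
  have c : ¬ Commute y (g * x * g⁻¹) := fun e => by
    have := commute_conj_left_iff.1 e.symm
    rcases fy _ hg.inv_right with f | f <;> rw [inv_inv] at f <;> rw [f] at this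
    · exact h.anti this
    · exact h.anti (by simpa [mul_assoc, h.ls.sq] using this.mul_right (h.zq h.hx).symm)
  exact h.eqS (mul_mem h.hx h.hy) m h.fxy (h.nS hg h.fx) (iff_of_false (fun e => n (h.eqS h.hx m h.fx (h.nS hg h.fx) (by simp [e])
    (by simp [b, c]))) (by simp [h.cx (h.le h.hx) (h.le h.hy), h.anti])) (by simp [h.cy (h.le h.hx) (h.le h.hy), b, c])

theorem inB {w : G} (w1 : Commute z w) (w2 : ¬ (w * x * w⁻¹ = x ∨ w * x * w⁻¹ = x * z)) (hg : g * z * g⁻¹ ∈ H) : g * z * g⁻¹ = z := by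
  obtain ⟨χ, c1, c2, c3⟩ := h.chi fy
  have E := h.ls.toES
  have zx := h.zq h.hx
  have zy := h.zq h.hy
  have zz := E.sq
  have a1 := h.ls.anti h.hx h.hy h.anti
  have k : ∀ g y, χ (g * y * g⁻¹) = χ y := fun g y => by rw [map_mul, map_mul, map_inv, mul_inv_cancel_comm]
  have w3 : w ∉ H := fun e => w2 (h.fx w e)
  have out : ∀ c, Commute z c → c ∉ H → c * x * c⁻¹ = x * y ∨ c * x * c⁻¹ = x * y * z := fun c a b => h.ox fy a fun e => w2 (by
    have m := (h.two w1 a.inv_right).2 (iff_of_false w3 (mt inv_mem_iff.1 b))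
    rw [← inv_mul_cancel_right w c, ← conj_conj']
    rcases e with e | e <;> rw [e]
    · exact h.fx _ m
    · rw [← conj_mul, cz (h.hz m)]
      exact (h.fx _ m).symm.imp (fun e => by rw [e, mul_assoc, zz, mul_one]) fun e => by rw [e])
  have xy : x * y * (x * y) = x * x := by
    have : w * x * w⁻¹ * (w * x * w⁻¹) = x * x := by
      rw [conj_mul]; rcases E.sq_mem x h.hx with e | e <;> rw [e]; exacts [by simp, cz w1]
    rcases out w w1 w3 with e | e <;> rw [e] at this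
    · exact this
    · rwa [(zx.mul_right zy).mul_mul_mul_comm, zz, mul_one] at this
  have yy : y * y = z := by
    have : x * x * (y * y * z) = x * x * 1 := by
      conv_rhs => rw [mul_one, ← xy]
      rw [mul_assoc x x, mul_assoc x y, ← mul_assoc y x, show y * x = x * y * z by rw [a1, mul_assoc, zz, mul_one], mul_assoc (x * y), zy.eq]
      group
    exact (eq_inv_of_mul_eq_one_left (mul_left_cancel this)).trans E.inv_z
  have sq : ∀ c ∈ H, Commute x (c * c) := fun c a => (h.cx a a).2 Iff.rfl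
  have sy : ∀ c, Commute z c → Commute y (c * c) := fun c a => (chom E.ne zz fy a a).2 Iff.rfl
  have cl : ∀ g, Commute z (g * x * g⁻¹) → Commute z (g * y * g⁻¹) → g * z * g⁻¹ = z := fun g a b => by
    by_contra ne
    have t1 : g * y * g⁻¹ * (g * y * g⁻¹) = g * z * g⁻¹ := by rw [conj_mul, yy]
    have t2 : Commute z (g⁻¹ * y * g) := commute_conj_left_iff.1 (t1 ▸ sy _ b).symm
    have t3 : Commute y (g * x * g⁻¹) := Commute.inv_right_iff.1 (conj_eq_self_iff.1 ((fy _ a.inv_right).resolve_right fun e => by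
      have f : g⁻¹ * y * g * x * (g⁻¹ * y * g)⁻¹ = x * (g⁻¹ * z * g) := by
        rw [show g⁻¹ * y * g * x * (g⁻¹ * y * g)⁻¹ = x * g⁻¹ * ((g * x * g⁻¹)⁻¹ * y * (g * x * g⁻¹)⁻¹⁻¹ * y⁻¹) * g by group, e, ← zy.eq]
        group
      have s : g⁻¹ * z * g * (g⁻¹ * z * g) = 1 := by simpa using (conj_sq_iff (g := g⁻¹)).2 zz
      have n1 : g⁻¹ * z * g ≠ 1 := fun e => E.ne (by simpa [mul_assoc] using conj_eq_one_iff.1 (show g⁻¹ * z * g⁻¹⁻¹ = 1 by simpa using e))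
      have n2 : g⁻¹ * z * g ≠ z := fun e => ne (by conv_lhs => rw [← e]
                                                   group)
      by_cases m : g⁻¹ * y * g ∈ H
      · rcases h.fx _ m with e | e <;> rw [f] at e
        exacts [n1 (mul_eq_left.1 e), n2 (mul_left_cancel e)]
      · rcases out _ t2 m with e | e <;> rw [f] at e
        · rw [mul_left_cancel e, yy] at s; exact E.ne s
        · rw [mul_assoc x y] at e; rw [mul_left_cancel e, zy.mul_mul_mul_comm, zz, yy, mul_one] at s; exact E.ne s)).symm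
    have t4 : g * x * g⁻¹ ∉ H := fun e => by simpa [k, c1] using (c3 _ e).2 t3
    have t5 : ¬ Commute x (g * x * g⁻¹ * (g * x * g⁻¹)) := fun e => E.ne (by
      have f := cz e
      rw [← conj_conj' (g * x * g⁻¹)] at f
      generalize g * x * g⁻¹ = c at *
      rcases out c a t4 with e | e <;> rw [e] at f <;> simp only [← conj_mul, e, cz t3, cz a] at f
      · simpa [mul_assoc, yy] using f
      · simp only [mul_assoc] at f
        rw [← mul_assoc z y, zy.eq, mul_assoc y z z, zz, mul_one, yy] at f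
        simpa using f)
    by_cases m : g * y * g⁻¹ ∈ H
    · rw [conj_mul] at t5
      rcases E.sq_mem x h.hx with e | e <;> rw [e] at t5
      exacts [t5 (by simp), t5 (t1 ▸ sq _ m)]
    · have := sq _ ((h.two a b).2 (iff_of_false t4 m))
      rw [conj_mul, conj_mul, xy, ← conj_mul] at this
      exact t5 this
  by_contra ne
  have K : ∀ g, g * z * g⁻¹ ∈ H → g * z * g⁻¹ ≠ z → Commute z (g⁻¹ * y * g) ∧ ¬ Commute x (g * z * g⁻¹) := fun g a n => by
    have b := commute_conj_left_iff.1 ((c3 _ a).1 (by rw [k, chi_z E])).symm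
    refine ⟨b, fun e => n ?_⟩
    conv_lhs => rw [← cl g⁻¹ (by simpa using commute_conj_left_iff.1 e.symm) (by simpa using b)]
    group
  obtain ⟨t1, t2⟩ := K g hg ne
  have ne' : g⁻¹ * z * g⁻¹⁻¹ ≠ z := fun e => ne (by conv_lhs => rw [← e]
                                                    group)
  obtain ⟨t3, t4⟩ := K g⁻¹ (by
    rw [← yy, ← conj_mul, inv_inv]; exact (h.two t1 t1).2 Iff.rfl) ne'
  rw [inv_inv] at t3 t4 ne'
  have e1 : g * y * g⁻¹ * (g * y * g⁻¹) = g * z * g⁻¹ := by rw [conj_mul, yy]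
  have e2 : g * y * g⁻¹ ∉ H := fun e => t2 (e1 ▸ sq _ e)
  have e3 : Commute y (g * y * g⁻¹) := Commute.inv_right_iff.1 (conj_eq_self_iff.1 ((fy _ t3.inv_right).resolve_right fun e => by
    have f : g⁻¹ * y * g * y * (g⁻¹ * y * g)⁻¹ = y * (g⁻¹ * z * g) := by
      rw [show g⁻¹ * y * g * y * (g⁻¹ * y * g)⁻¹ = y * g⁻¹ * ((g * y * g⁻¹)⁻¹ * y * (g * y * g⁻¹)⁻¹⁻¹ * y⁻¹) * g by group, e, ← zy.eq]
      group
    rcases fy _ t1 with e | e <;> rw [f] at e
    · exact E.ne (by simpa [mul_assoc] using conj_eq_one_iff.1 (show g⁻¹ * z * g⁻¹⁻¹ = 1 by simpa using mul_eq_left.1 e))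
    · exact ne' (mul_left_cancel e))).symm
  have L1 : ∀ c, Commute z c → χ c = 1 → Commute y c := fun c a b => by
    by_cases m : c ∈ H
    · exact (c3 c m).1 b
    exact mul_inv_cancel_right c (g * y * g⁻¹) ▸
      ((c3 _ ((h.two a t3).2 (iff_of_false m e2))).1 (by rw [map_mul, k, b, c2, mul_one])).mul_right e3.inv_right
  have m := fun {k} => (h.mem_PK (k := k)).1
  have L2 : ∀ u ∈ h.PK, Commute (g * z * g⁻¹) u → Commute z (g⁻¹ * u * g) ∧ Commute y (g⁻¹ * u * g) := fun u a b =>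
    ⟨commute_conj_left_iff.1 b, L1 _ (commute_conj_left_iff.1 b) (by
      simpa using (k g⁻¹ u).trans ((c3 u (h.le (m a).1)).2 (m a).2.2))⟩
  have sg : ∀ c, Commute z c → Commute y c → ∃ s, c * x * c⁻¹ = x * s ∧ (s = 1 ∨ s = z ∨ s = y ∨ s = y * z) := fun c a b => by
    by_cases m : c ∈ H
    · rcases h.fx c m with e | e
      exacts [⟨1, by simpa using e, by simp⟩, ⟨z, e, by simp⟩]
    · rcases out c a m with e | e
      exacts [⟨y, e, by simp⟩, ⟨y * z, e.trans (mul_assoc _ _ _), by simp⟩]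
  refine jord h.es h.cardP (w := g * y * g⁻¹) (fun p => h.nP t3) (fun p a => by simpa using h.nP t3.inv_right a)
    (by rw [e1, h.ls.conj_sq]) (fun u a b => commute_conj_left_iff.2 (L2 u a (e1 ▸ b)).2) (fun u u1 u2 v v1 v2 => by_contra fun n => t4 ?_) t3
  obtain ⟨a1, a2⟩ := L2 u u1 (e1 ▸ u2.mul_left u2)
  obtain ⟨b1, b2⟩ := L2 v v1 (e1 ▸ v2.mul_left v2)
  rw [show g⁻¹ * z * g = (g⁻¹ * v * g * (g⁻¹ * u * g))⁻¹ * (g⁻¹ * u * g * (g⁻¹ * v * g)) by
    rw [show z = (v * u)⁻¹ * (u * v) by rw [h.es.anti u1 v1 n]; group]; group]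
  generalize g⁻¹ * u * g = a at *
  generalize g⁻¹ * v * g = b at *
  obtain ⟨s, s1, s2⟩ := sg a a1 a2
  obtain ⟨r, r1, r2⟩ := sg b b1 b2
  have cs : ∀ c s, Commute z c → Commute y c → (s = 1 ∨ s = z ∨ s = y ∨ s = y * z) → Commute s c := by
    rintro c s p q (rfl | rfl | rfl | rfl)
    exacts [Commute.one_left _, p, q, q.mul_left p]
  have sr : Commute s r := cs r s (cs z r (Commute.refl z) zy.symm r2).symm (cs y r zy (Commute.refl y) r2).symm s2
  refine (conj_eq_self_iff.1 ?_).symm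
  have f1 : a * b * x * (a * b)⁻¹ = x * s * r := by rw [← conj_conj', r1, ← conj_mul, s1, cz (cs a r a1 a2 r2)]
  have f2 : b * a * x * (b * a)⁻¹ = x * r * s := by rw [← conj_conj', s1, ← conj_mul, r1, cz (cs b s b1 b2 s2)]
  rw [← conj_conj', f1, mul_assoc x, sr.eq, ← mul_assoc x, ← f2]
  group

omit fy in
theorem iso (hg : Commute z (g * z * g⁻¹)) : g * z * g⁻¹ = z := by
  obtain ⟨x, y, C, fy⟩ := h.rel
  refine h.toAH.outer (fun k a => ?_) hg
  by_cases n : ∀ g, Commute z g → g * x * g⁻¹ = x ∨ g * x * g⁻¹ = x * z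
  · exact C.inA fy n a
  obtain ⟨w, n⟩ := not_forall.1 n
  exact C.inB fy (Classical.not_imp.1 n).1 (Classical.not_imp.1 n).2 a

end CN2

end Cfsg.Lib.Par
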