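import Cfsg.Agent.Lib.Known2.Q6

/-! The group `(2 × 2^{1+8}).U₄(2).2`: basic facts and fusion of the centre of `O₂`. -/

set_option autoImplicit false
set_option linter.unusedSectionVars false

namespace Cfsg.Lib.Par

open Subgroup Cfsg.Lib.Known2 Cfsg.Lib.Core Cfsg.Lib.Fi Cfsg.Lib.Amalg

variable {G : Type*} [Group G]

structure SJ (J E H : Subgroup G) (z a : G) : Prop where
  es : ES E z
  card : Nat.card E = 512
  EJ : E ≤ J
  aJ : a ∈ J
  aE : a ∉ E
  aa : a * a = 1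
  ca : ∀ {j}, j ∈ J → Commute a j
  dec : ∀ {j}, j ∈ J → j ∈ E ∨ j * a ∈ E
  selfc : ∀ g, (∀ j ∈ J, Commute g j) → g ∈ J
  nm : ∀ {g j}, Commute z g → j ∈ J → g * j * g⁻¹ ∈ J
  le : J ≤ H
  hz : ∀ {g}, g ∈ H → Commute z g
  two : ∀ {a b}, Commute z a → Commute z b → (a * b ∈ H ↔ (a ∈ H ↔ b ∈ H))
  pi : ∃ π : H →* Psp43.P0, Function.Surjective π ∧ ∀ g, π g = 1 ↔ (g : G) ∈ J
  cen : ∀ g, Commute z g → (∀ k ∈ H, g * k * g⁻¹ * k⁻¹ ∈ J) → g ∈ J

def V4 (z a r : G) : Prop := r = 1 ∨ r = z ∨ r = a ∨ r = z * a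

/-- `z` is isolated in the centralizer of `a`. -/
def Iso (z a : G) : Prop := ∀ c, Commute a c → Commute z (c * z * c⁻¹) → c * z * c⁻¹ = z

def fx0 {P : Subgroup G} {z : G} (h : ∀ {x}, x ∈ P → Commute z x) (zz : z * z = 1) (g : G) : Subgroup G where
  carrier := {x | x ∈ P ∧ (g * x * g⁻¹ = x ∨ g * x * g⁻¹ = x * z)}
  one_mem' := ⟨one_mem _, Or.inl (by simp)⟩
  mul_mem' := fun {a b} ha hb => ⟨mul_mem ha.1 hb.1, by
    rw [← conj_mul]
    rcases ha.2 with e | e <;> rcases hb.2 with f | f <;> rw [e, f]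
    exacts [Or.inl rfl, Or.inr (mul_assoc _ _ _).symm, Or.inr (by rw [mul_assoc, (h hb.1).eq, mul_assoc]),
      Or.inl (by rw [(h hb.1).mul_mul_mul_comm, zz, mul_one])]⟩
  inv_mem' := fun {a} ha => ⟨inv_mem ha.1, by
    rw [show g * a⁻¹ * g⁻¹ = (g * a * g⁻¹)⁻¹ by group]
    rcases ha.2 with e | e <;> rw [e]
    exacts [Or.inl rfl, Or.inr (by rw [← (h ha.1).eq, mul_inv_rev, inv_eq_of_mul_eq_one_right zz])]⟩

theorem fx0_iff {P : Subgroup G} {z w a b : G} {h : ∀ {x}, x ∈ P → Commute z x} {zz : z * z = 1} (ne : z ≠ 1) (ha : a ∈ fx0 @h zz w)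
    (hb : b ∈ fx0 @h zz w) : Commute w (a * b) ↔ (Commute w a ↔ Commute w b) := by
  have k : ∀ g, Commute w g ↔ w * g * w⁻¹ = g := fun g => conj_eq_self_iff.symm
  have e1 : a * z * b = a * b * z := by rw [mul_assoc, (h hb.1).eq, mul_assoc]
  have e2 : a * z * (b * z) = a * b := by rw [← mul_assoc, e1, mul_assoc, zz, mul_one]
  rw [k, k, k, ← conj_mul]
  rcases ha.2 with e | e <;> rcases hb.2 with f | f <;> rw [e, f] <;> simp [ne, e1, e2]

theorem ES.ab_le [Finite G] {E U : Subgroup G} {z : G} (h : ES E z) (hc : Nat.card E = 512) (l : U ≤ E)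
    (c : ∀ a ∈ U, ∀ b ∈ U, Commute a b) : Nat.card U ≤ 32 := by
  have e := h.card_cent (A := E ⊓ centralizer ↑U) inf_le_left ⟨h.mem, fun u a => h.cen u (l a)⟩
  have := card_le_of_le (show U ≤ E ⊓ centralizer ↑U from fun a ha => ⟨l ha, fun b hb => c b hb a ha⟩)
  have := card_le_of_le (show U ≤ E ⊓ centralizer ↑(E ⊓ centralizer ↑U) from fun a ha => ⟨l ha, fun b hb => (hb.2 a ha).symm⟩)
  rw [hc] at e
  nlinarith

theorem Iso.dih {z a c : G} (U : Iso z a) (zz : z * z = 1) (za : Commute z a) (hc : Commute a c) (k : ℕ)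
    (e : (z * (c * z * c⁻¹)) ^ 2 ^ k = 1) : c * z * c⁻¹ = z := by
  have zi := inv_eq_of_mul_eq_one_right zz
  have m : Commute a (z * (c * z * c⁻¹)) := za.symm.mul_right ((hc.mul_right za.symm).mul_right hc.inv_right)
  have iv : z * (z * (c * z * c⁻¹)) * z⁻¹ = (z * (c * z * c⁻¹))⁻¹ := by
    rw [← mul_assoc z z, zz, one_mul, mul_inv_rev, show (c * z * c⁻¹)⁻¹ = c * z⁻¹ * c⁻¹ by group, zi]
  induction k with
  | zero => rw [pow_zero, pow_one] at e; rw [← inv_eq_of_mul_eq_one_right e, zi]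
  | succ k ih =>
    rcases k with _ | k
    · refine U c hc ?_
      have := inv_eq_of_mul_eq_one_right ((sq _).symm.trans e)
      rw [← iv, conj_eq_self_iff] at this
      simpa [← mul_assoc, zz] using (Commute.refl z).mul_right this
    refine ih ?_
    have i2 : z * (z * (c * z * c⁻¹)) ^ 2 ^ k * z⁻¹ = ((z * (c * z * c⁻¹)) ^ 2 ^ k)⁻¹ := by rw [← conj_pow, iv, inv_pow]
    rw [pow_succ, pow_succ, pow_mul, pow_mul] at e
    rw [pow_succ, pow_mul]
    have m := m.pow_right (2 ^ k)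
    generalize (z * (c * z * c⁻¹)) ^ 2 ^ k = r at *
    have f : r * z * r⁻¹ = r ^ 2 * z := by rw [← i2, zi, ← mul_assoc, ← mul_assoc, mul_assoc r z z, zz, mul_one, sq]
    have := U r m (f ▸ Commute.mul_right (conj_eq_self_iff.1 (by
      rw [← conj_pow, i2, inv_pow, inv_eq_of_mul_eq_one_right ((sq _).symm.trans e)])) (Commute.refl z))
    rw [f] at this
    exact mul_eq_right.1 this

namespace SJ
variable [Finite G] {J E H : Subgroup G} {z a : G} (h : SJ J E H z a) {g j k r : G}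
include h

theorem zz : z * z = 1 := h.es.sq
theorem ne : z ≠ 1 := h.es.ne
theorem zJ : z ∈ J := h.EJ h.es.mem
theorem cJ (hj : j ∈ J) : Commute z j := h.hz (h.le hj)
theorem za : Commute z a := h.cJ h.aJ
theorem a1 : a ≠ 1 := fun e => h.aE (e ▸ one_mem _)
theorem az : a ≠ z := fun e => h.aE (e ▸ h.es.mem)
theorem zaa : z * a * (z * a) = 1 := by rw [h.za.symm.mul_mul_mul_comm, h.zz, h.aa, mul_one]

theorem rep (hj : j ∈ J) : ∃ e ∈ E, j = e ∨ j = e * a :=
  (h.dec hj).elim (fun b => ⟨j, b, Or.inl rfl⟩) fun b => ⟨_, b, Or.inr (by rw [mul_assoc, h.aa, mul_one])⟩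

theorem cenV (hg : ∀ j ∈ J, Commute g j) : V4 z a g := by
  obtain ⟨e, e1, rfl | rfl⟩ := h.rep (h.selfc g hg)
  · exact (h.es.of_cen _ e1 fun y b => hg y (h.EJ b)).imp id Or.inl
  · rcases h.es.of_cen _ e1 fun y b => by simpa using ((hg y (h.EJ b)).mul_left (h.ca (h.EJ b)).inv_left).eq with rfl | rfl
    exacts [Or.inr (Or.inr (Or.inl (one_mul _))), Or.inr (Or.inr (Or.inr rfl))]

theorem vJ (hr : V4 z a r) : r ∈ J ∧ r * r = 1 ∧ ∀ g, Commute z g → Commute a g → Commute r g := by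
  rcases hr with rfl | rfl | rfl | rfl
  exacts [⟨one_mem _, mul_one _, fun _ _ _ => Commute.one_left _⟩, ⟨h.zJ, h.zz, fun _ b _ => b⟩, ⟨h.aJ, h.aa, fun _ _ b => b⟩,
    ⟨mul_mem h.zJ h.aJ, h.zaa, fun _ b c => b.mul_left c⟩]

theorem conj_eq (hj : j ∈ J) (hk : k ∈ J) : j * k * j⁻¹ = k ∨ j * k * j⁻¹ = k * z := by
  have c : ∀ e ∈ E, e * k * e⁻¹ = k ∨ e * k * e⁻¹ = k * z := fun e b => by
    obtain ⟨f, f1, rfl | rfl⟩ := h.rep hk
    · exact h.es.conj_eq b f1
    · rw [← conj_mul, cz (h.ca (h.EJ b)), mul_assoc f a, ← h.za.eq, ← mul_assoc]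
      exact (h.es.conj_eq b f1).imp (fun e => by rw [e]) fun e => by rw [e]
  obtain ⟨e, e1, rfl | rfl⟩ := h.rep hj
  · exact c _ e1
  · rw [← conj_conj', cz (h.ca hk).symm]; exact c e e1

theorem conj_anti (hj : j ∈ J) (hk : k ∈ J) (n : ¬ Commute j k) : j * k * j⁻¹ = k * z :=
  (h.conj_eq hj hk).resolve_left fun e => n (conj_eq_self_iff.1 e)

theorem anti (hj : j ∈ J) (hk : k ∈ J) (n : ¬ Commute j k) : j * k = k * j * z := by
  rw [mul_inv_eq_iff_eq_mul.1 (h.conj_anti hj hk n), mul_assoc, (h.cJ hj).eq, mul_assoc]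

theorem sq (hj : j ∈ J) : j * j = 1 ∨ j * j = z := by
  obtain ⟨e, e1, rfl | rfl⟩ := h.rep hj
  · exact h.es.sq_mem _ e1
  · rw [(h.ca (h.EJ e1)).mul_mul_mul_comm, h.aa, mul_one]; exact h.es.sq_mem _ e1

theorem p4 (hj : j ∈ J) : j ^ 2 ^ 2 = 1 := by
  rw [show j ^ 2 ^ 2 = j * j * (j * j) by simp [pow_succ, mul_assoc]]
  rcases h.sq hj with e | e <;> simp only [e, h.zz, mul_one]

theorem pJ : IsPGroup 2 J := isPGroup_iff_mem.2 fun _ b => ⟨2, h.p4 b⟩

theorem swap : SJ J E H z (z * a) :=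
  ⟨h.es, h.card, h.EJ, mul_mem h.zJ h.aJ, fun e => h.aE ((mul_mem_cancel_left h.es.mem).1 e), h.zaa, fun b => (h.cJ b).mul_left (h.ca b),
    fun b => (h.dec b).imp id fun c => by rw [h.za.eq, ← mul_assoc]; exact mul_mem c h.es.mem, h.selfc, h.nm, h.le, h.hz, h.two, h.pi, h.cen⟩

theorem zza : z * (z * a) = a := by rw [← mul_assoc, h.zz, one_mul]

theorem nV (hg : Commute z g) : g * a * g⁻¹ = a ∨ g * a * g⁻¹ = z * a := by
  rcases h.cenV (g := g * a * g⁻¹) fun j b => commute_conj_left_iff.2 (by simpa using h.ca (h.nm hg.inv_right b)) with e | e | e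
  · exact absurd (conj_eq_one_iff.1 e) h.a1
  · exact absurd (mul_left_cancel (mul_right_cancel (e.trans (cz hg).symm))) h.az
  · exact e

theorem twoa {b c : G} (hb : Commute z b) (hc : Commute z c) : Commute a (b * c) ↔ (Commute a b ↔ Commute a c) :=
  chom h.ne h.zz (fun _ b => h.za.eq ▸ h.nV b) hb hc

theorem perf (p : G → Prop) (p1 : ∀ a ∈ H, ∀ b ∈ H, p (a * b) ↔ (p a ↔ p b)) (p2 : ∀ q ∈ J, p q) (hg : g ∈ H) : p g := by
  classical
  obtain ⟨π, h1, h2⟩ := h.pi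
  let ψ : H →* ℤˣ := MonoidHom.mk' (fun a => if p a then 1 else -1) fun a b => by
    rw [Subgroup.coe_mul, p1 _ a.2 _ b.2]; by_cases p a <;> by_cases p b <;> simp [*]
  have hψ : ∀ a, ψ a = 1 ↔ p a := fun a => by
    show (if p a then (1 : ℤˣ) else -1) = 1 ↔ _
    by_cases p a <;> simp [*]
  have := simple0
  rcases (π.liftOfSurjective h1 ⟨ψ, fun a b => (hψ a).2 (p2 _ ((h2 a).1 b))⟩).normal_ker.eq_bot_or_eq_top with f | f
  · have := Nat.card_le_card_of_injective _ ((MonoidHom.ker_eq_bot_iff _).1 f)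
    rw [Psp43.card_P0] at this
    simp at this
  · exact (hψ ⟨g, hg⟩).1 ((π.liftOfRightInverse_comp_apply _ _ _ _).symm.trans (show π ⟨g, hg⟩ ∈ MonoidHom.ker _ from f ▸ mem_top _))

theorem ha (hg : g ∈ H) : Commute a g := h.perf (Commute a) (fun _ b _ c => h.twoa (h.hz b) (h.hz c)) (fun _ => h.ca) hg

theorem nrm (hg : Commute z g) (hk : k ∈ H) : g * k * g⁻¹ ∈ H := by
  rw [h.two (hg.mul_right (h.hz hk)) hg.inv_right, h.two hg (h.hz hk), inv_mem_iff]; tauto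

theorem halfE {U : Subgroup G} (l : U ≤ J) : Nat.card U ≤ 2 * Nat.card ↥(U ⊓ E) := card_le_two fun x b y c d e => by
  have := mul_mem (inv_mem ((h.dec (l b)).resolve_left d)) ((h.dec (l c)).resolve_left e)
  rwa [mul_inv_rev, mul_assoc, ← mul_assoc x⁻¹, ← (h.ca (mul_mem (inv_mem (l b)) (l c))).eq, inv_mul_cancel_left] at this

theorem ab_le {U : Subgroup G} (l : U ≤ J) (c : ∀ a ∈ U, ∀ b ∈ U, Commute a b) : Nat.card U ≤ 64 := by
  have := h.halfE l
  have := ES.ab_le h.es h.card (inf_le_right (a := U)) fun x b y d => c x b.1 y d.1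
  omega

theorem nc : g * z * g⁻¹ ≠ a := fun e => by
  obtain ⟨π, h1, h2⟩ := h.pi
  have := simple0
  have c : ∀ {k}, Commute a k → Commute z (g⁻¹ * k * g) := fun b => commute_conj_left_iff.1 (e ▸ b)
  have nn : ((cj g J).subgroupOf H).Normal := ⟨fun r b k => mem_cj.2 (by
    convert h.nm (c (h.ha k.2)) (mem_cj.1 b) using 1; simp only [coe_mul, coe_inv, Subgroup.coe_subtype]; group)⟩
  have l : cj g J ⊓ H ≤ J := fun r b => (h2 ⟨r, b.2⟩).1 (by
    rcases (nn.map π h1).eq_bot_or_eq_top with f | f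
    · exact mem_bot.1 (f ▸ mem_map_of_mem π b.1)
    · have : Fact (Nat.Prime 2) := ⟨Nat.prime_two⟩
      obtain ⟨n, m⟩ := IsPGroup.iff_card.1 ((Amalg.isPGroup_subgroupOf (isPGroup_cj g h.pJ) H).map π)
      rw [f, card_top, Psp43.card_P0] at m
      exact absurd ((Nat.Prime.dvd_of_dvd_pow Nat.prime_three (m ▸ by norm_num : 3 ∣ 2 ^ n))) (by norm_num))
  have c1 := h.ab_le l fun x b y d => by_contra fun n => h.az (by
    have f := h.conj_anti (mem_cj.1 b.1) (mem_cj.1 d.1) fun e => n (by simpa [mul_assoc] using (commute_conj_conj_iff (g := g)).2 e)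
    have f2 := h.conj_anti (l b) (l d) n
    rw [show g⁻¹ * x * g * (g⁻¹ * y * g) * (g⁻¹ * x * g)⁻¹ = g⁻¹ * (x * y * x⁻¹) * g by group, f2] at f
    have f3 : g⁻¹ * z * g = z := mul_left_cancel (a := g⁻¹ * y * g) (by rw [← f]; group)
    rw [← e]
    conv_lhs => rw [← f3]
    group)
  have c2 : Nat.card (centralizer {z}) ≤ 2 * Nat.card ↥(centralizer {z} ⊓ H) := card_le_two fun x b y d p q =>
    (h.two (mem_centralizer_singleton_iff.1 (inv_mem b)).symm (mem_centralizer_singleton_iff.1 d).symm).2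
      (iff_of_false (mt inv_mem_iff.1 p) q)
  have l2 : H ≤ cj g (centralizer {z}) := fun k b => mem_cj.2 (mem_centralizer_singleton_iff.2 (c (h.ha b)).symm)
  have c3 := relIndex_le_of_le_right (H := H) (cj_mono g (show J ≤ centralizer {z} from fun j b =>
    mem_centralizer_singleton_iff.2 (h.cJ b).symm)) index_ne_zero_of_finite
  have k : ∀ B : Subgroup G, Nat.card ↥(B ⊓ H) * H.relIndex B = Nat.card B := fun B => by
    rw [← (H.subgroupOf B).card_mul_index, ← inf_subgroupOf_left, Nat.card_congr (subgroupOfEquivOfLe inf_le_left).toEquiv,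
      inf_subgroupOf_left]; rfl
  have k1 := k (cj g J)
  have k2 := k (cj g (centralizer {z}))
  have k3 := card_le_of_le (inf_le_right : centralizer {z} ⊓ H ≤ H)
  have k4 := card_le_of_le h.EJ
  rw [card_cj] at k1 k2
  rw [inf_eq_right.2 l2] at k2
  rw [h.card] at k4
  have : H.relIndex (cj g (centralizer {z})) ≤ 2 := by
    by_contra n
    have : 0 < Nat.card H := Nat.card_pos
    nlinarith
  nlinarith

theorem DV (hg : V4 z a (g * z * g⁻¹)) : g * z * g⁻¹ = z := by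
  rcases hg with e | e | e | e
  exacts [absurd (conj_eq_one_iff.1 e) h.ne, e, absurd e h.nc, absurd e h.swap.nc]

theorem syl {X T : Subgroup G} (l : J ≤ X) (hT : IsPGroup 2 T) (lT : T ≤ X) : ∃ c ∈ X, ∀ t ∈ T, Commute z (c * t * c⁻¹) := by
  have : Fact (Nat.Prime 2) := ⟨Nat.prime_two⟩
  obtain ⟨S, s1, s2⟩ := exists_syl_ge h.pJ l
  obtain ⟨c, c1, c2⟩ := s1.exists_conj_le hT lT
  refine ⟨c, c1, fun t b => by_contra fun n => ?_⟩
  have := s1.isPGroup.isNilpotent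
  obtain ⟨x, x1, x2⟩ := SetLike.exists_of_lt (lt_normalizer_of_ne_top (H := (centralizer {z}).subgroupOf S) fun e =>
    n (mem_centralizer_singleton_iff.1 (e.ge (mem_top (⟨_, c2 (conj_mem_cj c b)⟩ : S)))).symm)
  refine x2 (mem_centralizer_singleton_iff.2 (conj_eq_self_iff.1 (h.DV (h.cenV fun j b => commute_conj_left_iff.2 ?_))))
  exact (mem_centralizer_singleton_iff.1 ((mem_normalizer_iff''.1 x1 ⟨j, s2 b⟩).1 (mem_centralizer_singleton_iff.2 (h.cJ b).symm))).symm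

theorem fuse (e : g * a * g⁻¹ = z * a) : ∃ w, Commute z w ∧ w * a * w⁻¹ = z * a := by
  obtain ⟨c, c1, c2⟩ := h.syl (X := centralizer {a}) (fun j b => mem_centralizer_singleton_iff.2 (h.ca b).symm) (isPGroup_cj g⁻¹ h.pJ)
    fun j b => mem_centralizer_singleton_iff.2 (by
      have := (commute_conj_left_iff.1 (e ▸ h.swap.ca (mem_cj.1 b))).symm.eq
      rwa [show g⁻¹ * (g⁻¹⁻¹ * j * g⁻¹) * g = j by group] at this)
  refine ⟨g * c⁻¹, (conj_eq_self_iff.1 (h.DV (h.cenV fun j b => commute_conj_left_iff.2 ?_))).symm, by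
    rw [← conj_conj', cz (Commute.symm (mem_centralizer_singleton_iff.1 (inv_mem c1))), e]⟩
  simpa [mul_assoc] using c2 _ (conj_mem_cj g⁻¹ b)

/-- Uniqueness of partners, dihedral form. -/
theorem P (U : Iso z a) {x : G} (hx : Commute (g * a * g⁻¹) x)
    (e : g * z * g⁻¹ * (x * (g * z * g⁻¹) * x⁻¹) * (g * z * g⁻¹ * (x * (g * z * g⁻¹) * x⁻¹)) ∈ J) : Commute x (g * z * g⁻¹) := by
  have := U.dih h.zz h.za (commute_conj_left_iff.1 hx) 3 (by
    rw [show z * (g⁻¹ * x * g * z * (g⁻¹ * x * g)⁻¹) = g⁻¹ * (g * z * g⁻¹ * (x * (g * z * g⁻¹) * x⁻¹)) * g⁻¹⁻¹ by group, conj_pow,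
      conj_eq_one_iff, pow_succ' 2 2, pow_mul, _root_.sq (_ * _), h.p4 e])
  exact (commute_conj_left_iff.2 (conj_eq_self_iff.1 this).symm).symm

theorem PJ (U : Iso z a) (ht : Commute z (g * z * g⁻¹)) (hj : j ∈ J) (hx : Commute (g * a * g⁻¹) j) : Commute j (g * z * g⁻¹) := by
  have m : g * z * g⁻¹ * (j * (g * z * g⁻¹) * j⁻¹) ∈ J := by
    have := mul_mem (h.nm ht hj) (inv_mem hj)
    rw [inv_eq_of_mul_eq_one_right (conj_sq_iff.2 h.zz)] at this
    simpa only [mul_assoc] using this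
  exact h.P U hx (mul_mem m m)

theorem meet (U : Iso z a) (ht : Commute z (g * z * g⁻¹)) (e : V4 z a (g * z * g⁻¹) ∨ V4 z a (g * a * g⁻¹) ∨ V4 z a (g * (z * a) * g⁻¹)) :
    g * z * g⁻¹ = z ∨ g * (z * a) * g⁻¹ = z * a := by
  have k : ∀ w, Commute z w → g * w * a * (g * w)⁻¹ = a → g * z * g⁻¹ = z := fun w b c => by
    simpa only [← conj_conj', cz b] using U _ (conj_eq_self_iff.1 c).symm (by rwa [← conj_conj', cz b])
  rcases e with e | (e | e | e | e) | e | e | e | e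
  · exact Or.inl (h.DV e)
  · exact absurd (conj_eq_one_iff.1 e) h.a1
  · exact absurd (show g⁻¹ * z * g⁻¹⁻¹ = a by rw [← e]; group) h.nc
  · exact Or.inl (k 1 (Commute.one_right _) (by simpa using e))
  · obtain ⟨w, w1, w2⟩ := h.fuse e
    refine Or.inl ?_
    have := U (w⁻¹ * g) (conj_eq_self_iff.1 (by rw [← conj_conj', e, ← w2]; group)).symm (by
      rw [← conj_conj']; exact (w1.inv_right.mul_right ht).mul_right w1.inv_right.inv_right)
    rw [← conj_conj'] at this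
    rw [← cz w1.inv_right] at this
    conv_lhs at this => rw [cz w1.inv_right]
    exact mul_left_cancel (mul_right_cancel this)
  · exact absurd (conj_eq_one_iff.1 e) h.swap.a1
  · exact absurd (show g⁻¹ * z * g⁻¹⁻¹ = z * a from (by rw [e] : _ = g⁻¹ * (g * (z * a) * g⁻¹) * g⁻¹⁻¹).trans (by group)) h.swap.nc
  · obtain ⟨w, w1, w2⟩ := h.fuse (g := g⁻¹) ((by rw [e] : _ = g⁻¹ * (g * (z * a) * g⁻¹) * g⁻¹⁻¹).trans (by group))
    exact Or.inl (k w w1 (by rw [← conj_conj', w2, e]))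
  · exact Or.inr e

theorem outer (U : Iso z a) {w : G} (w1 : Commute z w) (w2 : w * a * w⁻¹ = z * a)
    (K : ∀ g, Commute z (g * z * g⁻¹) → Commute a (g * z * g⁻¹) → Commute z (g * a * g⁻¹) → Commute a (g * a * g⁻¹) → g * z * g⁻¹ = z)
    (ht : Commute z (g * z * g⁻¹)) : g * z * g⁻¹ = z := by
  have k1 : ∀ g, Commute z (g * z * g⁻¹) → Commute z (g * a * g⁻¹) → g * z * g⁻¹ = z := fun g b c => by
    have P : ∀ g, Commute z (g * z * g⁻¹) → Commute a (g * a * g⁻¹) → Commute a (g * z * g⁻¹) := fun g b c => h.PJ U b h.aJ c.symm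
    by_cases m : Commute a (g * z * g⁻¹)
    · refine by_contra fun n => n (K g b m c (by_contra fun n' => n ?_))
      have e1 := (h.nV c).resolve_left fun e => n' (conj_eq_self_iff.1 e).symm
      have e2 := (h.nV (commute_conj_left_iff.1 m.symm)).resolve_left fun e => n' (commute_conj_left_iff.2 (conj_eq_self_iff.1 e).symm).symm
      have ai := inv_eq_of_mul_eq_one_right h.aa
      calc _ = g * (g⁻¹ * a * g * a * (g⁻¹ * a * g)⁻¹ * a⁻¹) * g⁻¹ := by rw [e2, mul_inv_cancel_right]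
        _ = a * (g * a * g⁻¹ * a * (g * a * g⁻¹)⁻¹)⁻¹ := by simp only [mul_inv_rev, inv_inv, ai]; group
        _ = z := by rw [e1, mul_inv_rev, mul_inv_cancel_left, h.es.inv_z]
    by_cases m' : Commute a (g * a * g⁻¹)
    · exact absurd (P g b m') m
    have := P (g * w) (by rwa [← conj_conj', cz w1]) (by rw [← conj_conj', w2, ← conj_mul]; exact (h.twoa b c).2 (iff_of_false m m'))
    rw [← conj_conj', cz w1] at this
    exact absurd this m
  have k2 : ∀ g, Commute z (g * z * g⁻¹) → Commute a (g * z * g⁻¹) → g * z * g⁻¹ = z := fun g b c => by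
    conv_lhs => rw [← k1 g⁻¹ (by simpa using commute_conj_left_iff.1 b.symm) (by simpa using commute_conj_left_iff.1 c.symm)]
    group
  by_contra ne
  have n1 : ¬ Commute a (g * z * g⁻¹) := fun e => ne (k2 g ht e)
  obtain ⟨O, o1, o2, o3, o4⟩ : ∃ O : G → Prop, (∀ a b, Commute (g * z * g⁻¹) a → Commute (g * z * g⁻¹) b → (O (a * b) ↔ (O a ↔ O b))) ∧
      ¬ O z ∧ O (g * z * g⁻¹) ∧ ∀ q, Commute (g * z * g⁻¹) (q * (g * z * g⁻¹) * q⁻¹) → O (q * (g * z * g⁻¹) * q⁻¹) →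
        q * (g * z * g⁻¹) * q⁻¹ = g * z * g⁻¹ :=
    ⟨fun b => Commute a (g⁻¹ * b * g), fun a b c d => by
      rw [← h.twoa (commute_conj_left_iff.1 c) (commute_conj_left_iff.1 d)]; simp [mul_assoc],
      fun a => ne (k1 g ht (commute_conj_left_iff.2 a).symm), by simpa [mul_assoc] using h.za.symm, fun q b c => by
      conv_rhs => rw [← k2 (g⁻¹ * q * g) (by convert commute_conj_left_iff.1 b using 1; group) (by convert c using 1; group)]
      group⟩
  have tt := (conj_sq_iff (g := g)).2 h.zz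
  generalize g * z * g⁻¹ = t at *
  have uu : ∀ u ∈ J, Commute t u → u * u = 1 := fun u a b => (h.sq a).resolve_right fun e => o2 (e ▸ (o1 u u b b).2 Iff.rfl)
  have c0 := h.ab_le (U := J ⊓ centralizer {t}) inf_le_left fun a ha b hb =>
    comm_of_sq (Y := J ⊓ centralizer {t}) (fun u a => uu u a.1 (mem_centralizer_singleton_iff.1 a.2).symm) ha hb
  have cf : ∀ q ∈ J, q * t * q⁻¹ * t⁻¹ ∈ fx0 h.cJ h.zz t := fun q b => by
    have m : q * t * q⁻¹ * t⁻¹ ∈ J := by simpa [mul_assoc] using mul_mem b (h.nm ht (inv_mem b))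
    refine ⟨m, ?_⟩
    rw [show t * (q * t * q⁻¹ * t⁻¹) * t⁻¹ = (q * t * q⁻¹ * t⁻¹)⁻¹ * (q * (t * t) * q⁻¹ * (t * t)⁻¹) by group, tt]
    generalize q * t * q⁻¹ * t⁻¹ = c at *
    refine (h.sq m).imp (fun e => by simp [inv_eq_of_mul_eq_one_right e]) fun e => ?_
    rw [mul_one, mul_inv_cancel, inv_one, mul_one, mul_one, inv_eq_iff_mul_eq_one, ← mul_assoc, e, h.zz]
  have oc : ∀ q, Commute t (q * t * q⁻¹ * t⁻¹) → O (q * t * q⁻¹ * t⁻¹) → q * t * q⁻¹ * t⁻¹ = 1 := fun q a b => by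
    rw [o4 q (by simpa using a.mul_right (Commute.refl t)) (by simpa using (o1 _ _ a (Commute.refl t)).2 (iff_of_true b o3)), mul_inv_cancel]
  have u2 : a * t * a⁻¹ * t⁻¹ = z := by
    rw [show a * t * a⁻¹ * t⁻¹ = a * (t * a * t⁻¹)⁻¹ by group, (h.nV ht).resolve_left fun e => n1 (conj_eq_self_iff.1 e).symm,
      mul_inv_rev, mul_inv_cancel_left, h.es.inv_z]
  have k : ∀ q ∈ J, Commute t (q * t * q⁻¹ * t⁻¹) → q⁻¹ ∈ fx0 h.cJ h.zz t := fun q b' b => by
    refine ⟨inv_mem b', ?_⟩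
    rw [show t * q⁻¹ * t⁻¹ = q⁻¹ * (q * t * q⁻¹ * t⁻¹) by group]
    by_cases n : O (q * t * q⁻¹ * t⁻¹)
    · exact Or.inl (by rw [oc q b n, mul_one])
    have e : q * a * t * (q * a)⁻¹ * t⁻¹ = z * (q * t * q⁻¹ * t⁻¹) := by rw [cm_mul, u2, cz (h.cJ b')]
    have := oc (q * a) (e ▸ ht.symm.mul_right b) (e ▸ (o1 _ _ ht.symm b).2 (iff_of_false o2 n))
    rw [e] at this
    exact Or.inr (by rw [← inv_eq_of_mul_eq_one_right this, h.es.inv_z])
  have c1 := card_le_two (B := J) (K := fx0 h.cJ h.zz t) fun a a1 b b1 a2 b2 => by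
    have a3 : ¬ Commute t (a * t * a⁻¹ * t⁻¹) := fun e => a2 (inv_mem_iff.1 (k a a1 e))
    have b3 : ¬ Commute t (b⁻¹ * t * b⁻¹⁻¹ * t⁻¹) := fun e => b2 (by simpa using k _ (inv_mem b1) e)
    have c := (fx0_iff h.ne (cf a a1) (cf _ (inv_mem b1))).2 (iff_of_false a3 b3)
    refine (mul_inv_rev b⁻¹ a).trans (congrArg _ (inv_inv b)) ▸ k _ (mul_mem (inv_mem b1) a1) ?_
    rw [cm_mul]
    rcases h.conj_eq (inv_mem b1) (cf a a1).1 with e | e <;> rw [e]
    · exact c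
    · rw [mul_assoc, (h.cJ (cf _ (inv_mem b1)).1).eq, ← mul_assoc]; exact c.mul_right ht.symm
  have c2 := card_le_two (B := J ⊓ fx0 h.cJ h.zz t) (K := centralizer {t}) fun a a1 b b1 a2 b2 =>
    mem_centralizer_singleton_iff.2 ((fx0_iff h.ne (inv_mem a1.2) b1.2).2 (iff_of_false (fun e => a2 (mem_centralizer_singleton_iff.2
      (Commute.inv_right_iff.1 e).symm)) fun e => b2 (mem_centralizer_singleton_iff.2 e.symm))).symm
  have c3 := card_le_of_le (inf_le_inf_right (centralizer {t}) (inf_le_left : J ⊓ fx0 h.cJ h.zz t ≤ J))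
  have c4 := card_le_of_le h.EJ
  rw [h.card] at c4
  omega

end SJ

end Cfsg.Lib.Par
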