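import Cfsg.Agent.Lib.Known2.R1

/-! The group `(2 × 2^{1+8}).U₄(2).2`: the unitary module. -/

set_option autoImplicit false
set_option synthInstance.maxSize 2000
set_option linter.unusedSectionVars false

namespace Cfsg.Lib.Par

open Subgroup Cfsg.Lib.Known2 Cfsg.Lib.Core Cfsg.Lib.Fi Cfsg.Lib.Amalg
open Cfsg.Lib.Comp (force force_eq allN)

variable {G : Type*} [Group G]

structure FJ (J E H Y : Subgroup G) (z a : G) (ν : G → ℕ) (α : G → ℕ → ℕ) : Prop extends SJ J E H z a where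
  mY : ∀ {g}, g ∈ Y ↔ Commute z g ∧ Commute a g
  lt : ∀ y, ν y < 256
  mul : ∀ {x y}, x ∈ J → y ∈ J → ν (x * y) = ν x ^^^ ν y
  zero : ∀ {y}, y ∈ J → (ν y = 0 ↔ V4 z a y)
  sur : ∀ n < 256, ∃ y ∈ J, ν y = n
  sq' : ∀ {y}, y ∈ J → (y * y = 1 ↔ q8 (ν y) = false)
  comm : ∀ {x y}, x ∈ J → y ∈ J → (Commute x y ↔ b8 (ν x) (ν y) = false)
  conj : ∀ {g y}, g ∈ Y → y ∈ J → ν (g * y * g⁻¹) = α g (ν y)
  om : ∀ {g n}, g ∈ H → n < 256 → α g (om n) = om (α g n)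
  om2 : ∀ {g n}, g ∈ Y → g ∉ H → n < 256 → α g (Par.om n) = Par.om (Par.om (α g n))
  refl : ∀ v < 256, q8 v = true → ∃ g ∈ H, EQ (α g) (rf v)
  ker : ∀ {g}, g ∈ Y → (∀ n < 256, α g n = n) → g ∈ J

theorem dperp {p d : ℕ} (hp : p < 256) (hd : d < 256) (h : ∀ m < 256, b8 p m = false → b8 d m = false) : d = 0 ∨ d = p := by
  by_contra n
  push Not at n
  have k : ∀ d < 256, d ≠ 0 → ∃ m < 256, b8 d m = true := fun d a b => by_contra fun c => b (b8_nd d a fun i hi =>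
    Bool.eq_false_iff.2 fun e => c ⟨_, Nat.pow_lt_pow_right (n := 8) one_lt_two hi, e⟩)
  obtain ⟨m, m1, m2⟩ := k d hd n.1
  obtain ⟨l, l1, l2⟩ := k _ (xlt hd hp) (mt Nat.xor_eq_zero_iff.1 n.2)
  have a := h m m1
  have b := h l l1
  have c := h _ (xlt m1 l1)
  rw [b8_left hd hp] at l2
  rw [b8_right hp m1 l1, b8_right hd m1 l1] at c
  revert a b c l2 m2
  generalize b8 p m = s1; generalize b8 d m = s2; generalize b8 p l = s3; generalize b8 d l = s4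
  revert s1 s2 s3 s4; decide

theorem r_chk : (∀ m < 16, (∀ n ∈ [1, 4, 16, 64], wd [1, 4] (wd [1, 4] (FF m n)) = FF m (wd [1, 4] (wd [1, 4] n))) → m < 4) ∧
    (∀ m ∈ [1, 3], ∀ n < 256, wd [1, 4] (FF m n) = FF m (wd [1, 4] n)) ∧ (∀ n < 256, wd [1, 4] (wd [1, 4] n) = n → n = 0) ∧
    (∀ m ∈ [1, 3], ∀ x ∈ [5, 10], ∃ n < 256, x = n ^^^ FF m n) ∧ ∀ n < 256, hz 5 (wd [1, 4] n) = hz 5 n := by decide +kernel

theorem s_chk : allN 256 (fun p => allN 256 fun q => q8 p || q8 q || b8 p q || !b8 (om q) p || tv p (tv q (tv p (tv q p))) != p) = true := by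
  decide +kernel

namespace FJ
variable [Finite G] {J E H Y : Subgroup G} {z a : G} {ν : G → ℕ} {α : G → ℕ → ℕ} (h : FJ J E H Y z a ν α) {g k x y t u v w b c d r : G}
  {m n p : ℕ}
include h

theorem lY (hg : g ∈ H) : g ∈ Y := h.mY.2 ⟨h.hz hg, h.ha hg⟩
theorem JY (hg : g ∈ J) : g ∈ Y := h.lY (h.le hg)
theorem nm' (hg : g ∈ Y) (hy : y ∈ J) : g * y * g⁻¹ ∈ J := h.nm (h.mY.1 hg).1 hy
theorem vc (hv : V4 z a v) (hg : g ∈ Y) : Commute v g := (h.vJ hv).2.2 g (h.mY.1 hg).1 (h.mY.1 hg).2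
theorem ν1 : ν 1 = 0 := (h.zero (one_mem _)).2 (Or.inl rfl)
theorem νz (hy : y ∈ J) : ν (y * z) = ν y := by rw [h.mul hy h.zJ, (h.zero h.zJ).2 (Or.inr (Or.inl rfl)), Nat.xor_zero]
theorem νi (hy : y ∈ J) : ν y⁻¹ = ν y := by
  have := h.mul (inv_mem hy) hy
  rw [inv_mul_cancel, h.ν1] at this
  exact Nat.xor_eq_zero_iff.1 this.symm

theorem eq_or (hx : x ∈ J) (hy : y ∈ J) (e : ν x = ν y) : ∃ v, V4 z a v ∧ y = x * v :=
  ⟨x⁻¹ * y, (h.zero (mul_mem (inv_mem hx) hy)).1 (by rw [h.mul (inv_mem hx) hy, h.νi hx, e, Nat.xor_self]), by simp⟩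

theorem al (hg : g ∈ Y) (hn : n < 256) : α g n < 256 := by
  obtain ⟨y, a, rfl⟩ := h.sur n hn
  exact h.conj hg a ▸ h.lt _

theorem ax (hg : g ∈ Y) (hm : m < 256) (hn : n < 256) : α g (m ^^^ n) = α g m ^^^ α g n := by
  obtain ⟨y, a, rfl⟩ := h.sur n hn
  obtain ⟨x, b, rfl⟩ := h.sur m hm
  rw [← h.mul b a, ← h.conj hg a, ← h.conj hg b, ← h.conj hg (mul_mem b a), ← h.mul (h.nm' hg b) (h.nm' hg a), conj_mul]

theorem aq (hg : g ∈ Y) (hn : n < 256) : q8 (α g n) = q8 n := by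
  obtain ⟨y, a, rfl⟩ := h.sur n hn
  rw [← h.conj hg a, ← Bool.not_inj_iff, Bool.eq_iff_iff, Bool.not_eq_true', Bool.not_eq_true', ← h.sq' a, ← h.sq' (h.nm' hg a),
    conj_sq_iff]

theorem ab (hg : g ∈ Y) (hm : m < 256) (hn : n < 256) : b8 (α g m) (α g n) = b8 m n := by
  have := q8_xor (h.al hg hm) (h.al hg hn)
  rw [← h.ax hg hm hn, h.aq hg (xlt hm hn), h.aq hg hm, h.aq hg hn, q8_xor hm hn] at this
  revert this; cases q8 m <;> cases q8 n <;> simp [eq_comm]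

theorem un (hg : g ∈ H) : Un (α g) := ⟨h.al (h.lY hg), h.ax (h.lY hg), h.aq (h.lY hg), h.om hg⟩

theorem αm (hg : g ∈ Y) (hk : k ∈ Y) (hn : n < 256) : α (g * k) n = α g (α k n) := by
  obtain ⟨y, a, rfl⟩ := h.sur n hn
  rw [← h.conj hk a, ← h.conj hg (h.nm' hk a), ← h.conj (mul_mem hg hk) a, conj_conj']

theorem αQ (hx : x ∈ J) (hn : n < 256) : α x n = n := by
  obtain ⟨y, a, rfl⟩ := h.sur n hn
  rw [← h.conj (h.JY hx) a]
  rcases h.conj_eq hx a with e | e <;> rw [e]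
  exact h.νz a

theorem αi (hg : g ∈ Y) (hn : n < 256) : α g (α g⁻¹ n) = n := by
  rw [← h.αm hg (inv_mem hg) hn, mul_inv_cancel, h.αQ (one_mem _) hn]

theorem αi' (hg : g ∈ Y) (hn : n < 256) : α g⁻¹ (α g n) = n := by
  simpa using h.αi (inv_mem hg) hn

theorem αc (hg : g ∈ Y) (hk : k ∈ Y) (hn : n < 256) : α (g * k * g⁻¹) n = α g (α k (α g⁻¹ n)) := by
  rw [h.αm (mul_mem hg hk) (inv_mem hg) hn, h.αm hg hk (h.al (inv_mem hg) hn)]

theorem fix (hg : g ∈ Y) (hy : y ∈ J) (e : Commute g y) : α g (ν y) = ν y := by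
  rw [← h.conj hg hy, e.eq, mul_inv_cancel_right]

theorem same (hg : g ∈ Y) (hk : k ∈ Y) (e : EQ (α g) (α k)) : g * k⁻¹ ∈ J :=
  h.ker (mul_mem hg (inv_mem hk)) fun n hn => by rw [h.αm hg (inv_mem hk) hn, e _ (h.al (inv_mem hk) hn), h.αi hk hn]

theorem νc (hg : g ∈ Y) (hy : y ∈ J) : y * g * y⁻¹ * g⁻¹ ∈ J ∧ ν (y * g * y⁻¹ * g⁻¹) = ν y ^^^ α g (ν y) := by
  rw [mul_assoc, mul_assoc, ← mul_assoc g]
  exact ⟨mul_mem hy (h.nm' hg (inv_mem hy)), by rw [h.mul hy (h.nm' hg (inv_mem hy)), h.conj hg (inv_mem hy), h.νi hy]⟩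

theorem word {w : List ℕ} (hw : okw w) : ∃ g ∈ H, EQ (α g) (wd w) := by
  induction w with
  | nil => exact ⟨1, one_mem _, fun n hn => h.αQ (one_mem _) hn⟩
  | cons v w ih =>
    obtain ⟨g, a, b⟩ := ih fun x hx => hw x (List.mem_cons_of_mem _ hx)
    obtain ⟨k, c, d⟩ := h.refl v (hw v List.mem_cons_self).1 (hw v List.mem_cons_self).2
    exact ⟨k * g, mul_mem c a, fun n hn => by rw [h.αm (h.lY c) (h.lY a) hn, d _ ((h.un a).lt hn), b n hn]; rfl⟩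

theorem tr1 (hp : sg p) : ∃ g ∈ H, α g p = 5 := by
  obtain ⟨g, a, b⟩ := h.word (t1_chk p hp.1 hp).1
  exact ⟨g, a, (b p hp.1).trans (t1_chk p hp.1 hp).2⟩

theorem tvx (hp : sg p) : ∃ g ∈ H, EQ (α g) (tv p) := by
  obtain ⟨k, a, b⟩ := h.word (w := [26, 21, 16]) (by decide)
  obtain ⟨g, c, d⟩ := h.tr1 hp
  refine ⟨g⁻¹ * k * g⁻¹⁻¹, mul_mem (mul_mem (inv_mem c) a) (inv_mem (inv_mem c)), fun n hn => ?_⟩
  rw [h.αc (inv_mem (h.lY c)) (h.lY a) hn, inv_inv, b _ ((h.un c).lt hn),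
    (by decide +kernel : ∀ n < 256, wd [26, 21, 16] n = tv 5 n) _ ((h.un c).lt hn), ← d, ← (h.un c).tv hp.1 hn,
    h.αi' (h.lY c) (tv_lt hp.1 hn)]

section
variable {a' b' d' : ℕ} (w1 : w ∈ Y) (w2 : w ∉ H) (w3 : w * w ∈ J)
include w1 w2 w3

theorem o1 {a : ℕ} (ha : a < 256) (e : α w a = a) : Par.om a ^^^ α w (Par.om a) = a := by
  rw [h.om2 w1 w2 ha, e, (om3 a ha).1, Nat.xor_comm a, ← Nat.xor_assoc, Nat.xor_self, Nat.zero_xor]

theorem tr (hn : n < 256) : α w (n ^^^ α w n) = n ^^^ α w n := by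
  rw [h.ax w1 hn (h.al w1 hn), ← h.αm w1 w1 hn, h.αQ w3 hn, Nat.xor_comm]

theorem iso {a : ℕ} (ha : a < 256) (e : α w a = a) {b : ℕ} (hb : b < 256) (f : α w b = b) : b8 a b = false := by
  rw [← h.o1 w1 w2 w3 ha e, b8_left (om_lt a ha) (h.al w1 (om_lt a ha))]
  conv_lhs => rw [← h.ab w1 (om_lt a ha) hb, f]
  simp

theorem dec2 (hn : n < 256) : ∃ a < 256, α w a = a ∧ ∃ b < 256, α w b = b ∧ n = Par.om a ^^^ b := by
  have l := xlt hn (h.al w1 hn)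
  have t := h.tr w1 w2 w3 hn
  refine ⟨_, l, t, n ^^^ Par.om (n ^^^ α w n), xlt hn (om_lt _ l), ?_, by
    generalize Par.om (n ^^^ α w n) = x
    rw [Nat.xor_comm n, ← Nat.xor_assoc, Nat.xor_self, Nat.zero_xor]⟩
  rw [h.ax w1 hn (om_lt _ l), h.om2 w1 w2 l, t, (om3 _ l).1, ← Nat.xor_assoc, Nat.xor_comm n, ← Nat.xor_assoc, Nat.xor_self, Nat.zero_xor]

theorem nd {d : ℕ} (hd : d < 256) (e : α w d = d) (f : ∀ a < 256, α w a = a → b8 (Par.om a) d = false) : d = 0 := b8_nd d hd fun i hi => by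
  obtain ⟨a, a1, a2, b, b1, b2, c⟩ := h.dec2 w1 w2 w3 (Nat.pow_lt_pow_right (n := 8) one_lt_two hi)
  rw [c, b8_right hd (om_lt a a1) b1, b8_comm hd (om_lt a a1), f a a1 a2, h.iso w1 w2 w3 hd e b1 b2]; rfl

theorem fa (hk : k ∈ H) (f : ∀ a < 256, α w a = a → α k a = a) : k ∈ J := h.ker (h.lY hk) fun n hn => by
  obtain ⟨a, a1, a2, b, b1, b2, rfl⟩ := h.dec2 w1 w2 w3 hn
  rw [h.ax (h.lY hk) (om_lt a a1) b1, h.om hk a1, f a a1 a2, f b b1 b2]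

end

end FJ

end Cfsg.Lib.Par
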