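import Cfsg.Agent.Lib.Known2.RC

/-! The group `(2 × 2^{1+8}).U₄(2).2`: commuting conjugates of the centre of `O₂`, unitary module. -/

set_option autoImplicit false
set_option linter.unusedSectionVars false

namespace Cfsg.Lib.Par

open Subgroup Cfsg.Lib.Known2 Cfsg.Lib.Core Cfsg.Lib.Fi Cfsg.Lib.Amalg

variable {G : Type*} [Group G]

def Cf (z a g : G) : Prop :=
  Commute z (g * z * g⁻¹) ∧ Commute a (g * z * g⁻¹) ∧ Commute z (g * a * g⁻¹) ∧ Commute a (g * a * g⁻¹)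

theorem Cf.inv {z a g : G} (c : Cf z a g) : Cf z a g⁻¹ := by
  have k : ∀ {u v : G}, Commute u (g * v * g⁻¹) → Commute v (g⁻¹ * u * g⁻¹⁻¹) := fun e => by simpa using commute_conj_left_iff.1 e.symm
  exact ⟨k c.1, k c.2.2.1, k c.2.1, k c.2.2.2⟩

theorem cj_inv_eq {g u v : G} (e : g⁻¹ * u * g⁻¹⁻¹ = v) : g * v * g⁻¹ = u := by rw [← e]; group

theorem SJ.nVt [Finite G] {J E H : Subgroup G} {z a : G} (h : SJ J E H z a) {g j : G} (c : Commute (g * z * g⁻¹) j) :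
    j * (g * a * g⁻¹) * j⁻¹ = g * a * g⁻¹ ∨ j * (g * a * g⁻¹) * j⁻¹ = g * z * g⁻¹ * (g * a * g⁻¹) := by
  rw [show j * (g * a * g⁻¹) * j⁻¹ = g * (g⁻¹ * j * g * a * (g⁻¹ * j * g)⁻¹) * g⁻¹ by group, conj_mul]
  exact (h.nV (commute_conj_left_iff.1 c)).imp (fun e => by rw [e]) fun e => by rw [e]

namespace FJ
variable [Finite G] {J E H Y : Subgroup G} {z a : G} {ν : G → ℕ} {α : G → ℕ → ℕ} (h : FJ J E H Y z a ν α) (U : Iso z a)
  (W : ∀ c, Commute (z * a) c → c * z * c⁻¹ ∈ J → c * z * c⁻¹ = z) {g j : G} (c : Cf z a g)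
include h U W c

theorem F2 (hd : g * a * g⁻¹ ∈ J) : g * z * g⁻¹ = z := by
  have := h.hyp (h.mY.2 ⟨c.1, c.2.1⟩) hd (conj_sq_iff.2 h.aa) fun j b e => (h.PJ U c.1 b e).symm
  rw [conj_mul] at this
  refine (h.meet U c.1 (this.imp id Or.inr)).elim id fun e => W g (conj_eq_self_iff.1 e).symm ?_
  rw [← mul_mem_cancel_right hd, conj_mul, e]
  exact mul_mem h.zJ h.aJ

theorem side (n1 : g * z * g⁻¹ ≠ z) (n2 : g * (z * a) * g⁻¹ ≠ z * a) :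
    (g * z * g⁻¹ ∈ J ∨ g * (z * a) * g⁻¹ ∈ J) ∧ ∃ j ∈ J, j * (g * a * g⁻¹) * j⁻¹ = g * a * g⁻¹ * z := by
  have dJ := mt (h.F2 U W c) n1
  have hd := h.mY.2 ⟨c.2.2.1, c.2.2.2⟩
  have ht := h.mY.2 ⟨c.1, c.2.1⟩
  have dd := (conj_sq_iff (g := g)).2 h.aa
  have tt := (conj_sq_iff (g := g)).2 h.zz
  have td : Commute (g * z * g⁻¹) (g * a * g⁻¹) := commute_conj_conj_iff.2 h.za
  have A : g * z * g⁻¹ ∈ J ∨ g * (z * a) * g⁻¹ ∈ J := or_iff_not_imp_left.2 fun n => (conj_mul (b := g) (a := z) (c := a)) ▸ (h.beta hd dd dJ ht tt td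
    (fun j b => ⟨fun e => (h.PJ U c.1 b e).symm, fun e => (conj_eq_self_iff.1 ((h.nVt e).resolve_right fun f => n (by
      rw [← mul_inv_eq_iff_eq_mul.2 f]; exact (h.νc hd b).1))).symm⟩) fun y _ e => h.P U e.symm).resolve_left n
  have nV := fun e => (h.meet U c.1 e).elim n1 n2
  have P := fun x => h.P U (x := x) (g := g)
  refine ⟨A, ?_⟩
  rcases A with e | e
  · exact h.gam hd dd dJ (h.lt _) (fun f => nV (Or.inl ((h.zero e).1 f))) (h.fix hd e td.symm) fun y y1 y2 => by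
      have m := mul_mem e (h.nm' (h.lY y1) e)
      exact h.fix (h.lY y1) e (P y y2.symm (mul_mem m m))
  · refine h.gam hd dd dJ (h.lt _) (fun f => nV (Or.inr (Or.inr ((h.zero e).1 f)))) (h.fix hd e ?_) fun y y1 y2 => ?_
    · rw [← conj_mul]; exact td.symm.mul_right (Commute.refl _)
    rw [← conj_mul] at e ⊢
    have m := mul_mem e (h.nm' hd (h.nm' (h.lY y1) e))
    refine h.fix (h.lY y1) e ((P y y2.symm ?_).mul_right y2)
    generalize g * a * g⁻¹ = d at *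
    generalize g * z * g⁻¹ = t at *
    rw [← conj_mul (b := y), cz y2.symm, show t * d * (d * (y * t * y⁻¹ * d) * d⁻¹) = t * (d * d) * (y * t * y⁻¹) by group, dd, mul_one] at m
    exact mul_mem m m

omit U W in
theorem nj (n1 : g * z * g⁻¹ ≠ z) (e : j * (g * a * g⁻¹) * j⁻¹ = g * a * g⁻¹ * z) : ¬ Commute (g * z * g⁻¹) j := fun f => by
  rcases h.nVt f with f | f <;> rw [e] at f
  exacts [h.ne (mul_eq_left.1 f), n1 (mul_right_cancel (c.2.2.1.eq.trans f)).symm]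

theorem F3 (n1 : g * z * g⁻¹ ≠ z) (hj : j ∈ J) (e : j * (g * a * g⁻¹) * j⁻¹ = g * a * g⁻¹ * z) : g⁻¹ * z * g⁻¹⁻¹ ∉ J := fun m => by
  have ht := h.mY.2 ⟨c.1, c.2.1⟩
  have tt := (conj_sq_iff (g := g)).2 h.zz
  have td : Commute (g * z * g⁻¹) (g * a * g⁻¹) := commute_conj_conj_iff.2 h.za
  have P : ∀ x ∈ Y, Commute x (g * z * g⁻¹) → Commute x (g * a * g⁻¹) → Commute x (j * (g * z * g⁻¹) * j⁻¹) := fun x x1 x2 x3 => by
    rw [conj_conj']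
    refine h.P U (by rw [← conj_conj', e]; exact (x3.mul_right (h.mY.1 x1).1.symm).symm) ?_
    rw [← conj_conj']
    have c1 := (h.νc ht hj).1
    have m := mul_mem c1 (h.nm' ht (h.nm' x1 c1))
    generalize g * z * g⁻¹ = t at *
    rw [← conj_mul (b := x), cz x2.inv_right.symm, show j * t * j⁻¹ * t⁻¹ * (t * (x * (j * t * j⁻¹) * x⁻¹ * t⁻¹) * t⁻¹) =
      j * t * j⁻¹ * (x * (j * t * j⁻¹) * x⁻¹) * (t * t)⁻¹ by group, tt, inv_one, mul_one] at m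
    exact mul_mem m m
  have k : ∀ u, g⁻¹ * j * g * u * (g⁻¹ * j * g)⁻¹ = g⁻¹ * (j * (g * u * g⁻¹) * j⁻¹) * g := fun u => by group
  have := h.F2 U W (g := g⁻¹ * j * g) ⟨by rw [k]; exact commute_conj_left_iff.1 (P _ ht (Commute.refl _) td),
    by rw [k]; exact commute_conj_left_iff.1 (P _ (h.mY.2 ⟨c.2.2.1, c.2.2.2⟩) td.symm (Commute.refl _)),
    by rw [k, e]; exact commute_conj_left_iff.1 (td.mul_right c.1.symm),
    by rw [k, e]; exact commute_conj_left_iff.1 ((Commute.refl _).mul_right c.2.2.1.symm)⟩ (by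
      rw [k, e]; convert mul_mem h.aJ m using 1; group)
  exact h.nj c n1 e (commute_conj_left_iff.2 (conj_eq_self_iff.1 this).symm)

theorem fin1 (n1 : g * z * g⁻¹ ≠ z) (m : g * (z * a) * g⁻¹ ∈ J) (hj : j ∈ J) (e : j * (g * a * g⁻¹) * j⁻¹ = g * a * g⁻¹ * z) :
    j * (g * (z * a) * g⁻¹) * j⁻¹ = g * (z * a) * g⁻¹ ∧ j * (g * z * g⁻¹) * j⁻¹ = g * z * g⁻¹ * z := by
  have n := h.nj c n1 e
  have f := h.conj_eq hj m
  rw [← conj_mul (b := g), ← conj_mul (b := j), e] at f ⊢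
  have f := f.resolve_right fun f => n (conj_eq_self_iff.1 (mul_right_cancel (f.trans (mul_assoc _ _ _)))).symm
  refine ⟨f, mul_right_cancel (f.trans ?_)⟩
  rw [← c.2.2.1.eq, ← mul_assoc _ z (g * a * g⁻¹), mul_assoc _ z z, h.zz, mul_one]

theorem lemC : g * z * g⁻¹ = z ∨ g * (z * a) * g⁻¹ = z * a := by
  by_contra n
  push Not at n
  have n1 : g⁻¹ * z * g⁻¹⁻¹ ≠ z := fun e => n.1 (cj_inv_eq e)
  obtain ⟨a1, j, j1, j2⟩ := h.side U W c n.1 n.2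
  obtain ⟨b1, k, k1, k2⟩ := h.side U W c.inv n1 fun e => n.2 (cj_inv_eq e)
  obtain ⟨c1, c2⟩ := h.fin1 U W c n.1 (a1.resolve_left (by simpa using h.F3 U W c.inv n1 k1 k2)) j1 j2
  obtain ⟨d1, d2⟩ := h.fin1 U W c.inv n1 (b1.resolve_left (h.F3 U W c n.1 j1 j2)) k1 k2
  have u1 : Commute z ((g * k * g⁻¹)⁻¹ * j * g) := (conj_eq_self_iff.1 (by
    rw [show (g * k * g⁻¹)⁻¹ * j * g * z * ((g * k * g⁻¹)⁻¹ * j * g)⁻¹ = g * k⁻¹ * g⁻¹ * (j * (g * z * g⁻¹) * j⁻¹) * g * k * g⁻¹ by group, c2,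
      ← c.1.eq, show g * k⁻¹ * g⁻¹ * (z * (g * z * g⁻¹)) * g * k * g⁻¹ = g * k⁻¹ * (g⁻¹ * z * g⁻¹⁻¹ * z) * k * g⁻¹ by group, ← d2]
    group)).symm
  have u2 := h.swap.nV u1
  rw [← conj_conj', ← conj_conj', c1, show (g * k * g⁻¹)⁻¹ * (g * (z * a) * g⁻¹) * (g * k * g⁻¹)⁻¹⁻¹ = g * (k⁻¹ * (z * a) * k⁻¹⁻¹) * g⁻¹ by group,
    cz (h.swap.ca (inv_mem k1)), h.zza] at u2
  exact (h.meet U c.1 (Or.inr (Or.inr (Or.inr (Or.inr u2.symm))))).elim n.1 n.2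

end FJ

end Cfsg.Lib.Par
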