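import Cfsg.Agent.Lib.Known2.RE

/-! The group `(2 × 2^{1+8}).U₄(2).2`: a transfer lemma and the quotient by a central involution. -/

set_option autoImplicit false
set_option linter.unusedSectionVars false

namespace Cfsg.Lib.Par

open Subgroup Cfsg.Lib.Known2 Cfsg.Lib.Core Cfsg.Lib.Fi Cfsg.Lib.Amalg Equiv Equiv.Perm

variable {G : Type*} [Group G]

def sub2 {z : G} (μ : G → Prop) (hμ : ∀ a b, Commute z a → Commute z b → (μ (a * b) ↔ (μ a ↔ μ b))) : Subgroup G where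
  carrier := {g | Commute z g ∧ μ g}
  one_mem' := ⟨Commute.one_right _, by simpa using hμ 1 1⟩
  mul_mem' := fun {a b} c d => ⟨c.1.mul_right d.1, (hμ a b c.1 d.1).2 (iff_of_true c.2 d.2)⟩
  inv_mem' := fun {a} c => ⟨c.1.inv_right, ((hμ a a⁻¹ c.1 c.1.inv_right).1 (by simpa using hμ 1 1)).1 c.2⟩

theorem tra2 [Finite G] {z : G} (zz : z * z = 1) (μ : G → Prop) (hμ : ∀ a b, Commute z a → Commute z b → (μ (a * b) ↔ (μ a ↔ μ b)))
    {U : Subgroup G} (hU : IsPGroup 2 U) (u0 : ∀ u ∈ U, Commute z u ∧ μ u) {p q : G} (p1 : p ∈ U) (q1 : q ∈ U) (pq : p * q = q * p * z)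
    (hc : ∀ g, (∀ u ∈ U, Commute u (g * z * g⁻¹)) → g * z * g⁻¹ = z) :
    ∃ χ : G →* ℤˣ, ∀ w, Commute z w → ¬ μ w → (w * w = 1 ∨ w * w = z) → (∀ u ∈ U, Commute u w) → χ w = -1 := by
  classical
  obtain ⟨H, u1, hz, two, mH⟩ : ∃ H : Subgroup G, U ≤ H ∧ (∀ {g}, g ∈ H → Commute z g) ∧
      (∀ {a b}, Commute z a → Commute z b → (a * b ∈ H ↔ (a ∈ H ↔ b ∈ H))) ∧ ∀ g ∈ H, μ g :=
    ⟨sub2 μ hμ, u0, fun a => a.1, fun {a b} c d => (and_iff_right (c.mul_right d)).trans ((hμ a b c d).trans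
      (iff_congr (and_iff_right c) (and_iff_right d)).symm), fun _ a => a.2⟩
  have := Fintype.ofFinite (G ⧸ H)
  obtain ⟨φ, hφ⟩ : ∃ φ : G →* Perm (G ⧸ H), ∀ g k : G, φ g k = (g * k : G) := ⟨MulAction.toPermHom G _, fun _ _ => rfl⟩
  refine ⟨sign.comp φ, fun w w1 w2 w4 u2 => ?_⟩
  have w2 := mt (mH w) w2
  have ww : w * w ∈ H := (two w1 w1).2 Iff.rfl
  have nrm : ∀ {g k}, Commute z g → k ∈ H → g * k * g⁻¹ ∈ H := fun hg hk => by
    rw [two (hg.mul_right (hz hk)) hg.inv_right, two hg (hz hk), inv_mem_iff]; tauto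
  have w5 : w * w * (w * w) = 1 := by rcases w4 with e | e <;> simp only [e, zz, mul_one]
  have hi : ∀ g i, (φ w ^ i) (g : G) = (w ^ i * g : G) := fun g i => by rw [← map_pow, hφ]
  obtain ⟨τ, hτ⟩ : ∃ τ : Perm (G ⧸ H), ∀ k : G, τ k = (k * w : G) := ⟨Function.Involutive.toPerm (Quotient.map' (· * w) fun a b e =>
    QuotientGroup.leftRel_apply.2 (by simpa [mul_assoc] using nrm w1.inv_right (QuotientGroup.leftRel_apply.1 e)))
    (QuotientGroup.mk_surjective.forall.2 fun k => QuotientGroup.eq.2 (by simpa [mul_assoc] using inv_mem ww)), fun _ => rfl⟩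
  have ext : ∀ {a b : Perm (G ⧸ H)}, (∀ k : G, a k = b k) → a = b := fun e => Equiv.ext (QuotientGroup.mk_surjective.forall.2 e)
  have ct : ∀ g, Commute (φ g) τ := fun g => ext fun k => by simp only [mul_apply, hφ, hτ, mul_assoc]
  refine sign_fix (R := U.map φ) (τ := τ) (hU.map φ) ?_
    (ext fun k => by rw [mul_apply, hτ, hτ]; exact QuotientGroup.eq.2 (by simpa [mul_assoc] using inv_mem ww)) ?_ (ct w).symm ?_
    (a := (1 : G)) (b := w) (fun e => w2 (by simpa using QuotientGroup.eq.1 e)) (by rw [hφ, mul_one])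
    (by rw [hφ]; exact QuotientGroup.eq.2 (by simpa using inv_mem ww)) (by rw [hτ, one_mul])
    (by rw [hτ]; exact QuotientGroup.eq.2 (by simpa using inv_mem ww)) ?_ (QuotientGroup.mk_surjective.forall.2 fun g h1 ⟨i, h2⟩ => ?_)
  · rw [← map_pow, show w ^ 2 ^ 2 = w * w * (w * w) by simp [pow_succ, mul_assoc], w5, map_one]
  · rintro _ ⟨p, a, rfl⟩; exact (u2 p a).map φ
  · rintro _ ⟨p, a, rfl⟩; exact ct p
  · rintro _ ⟨p, a, rfl⟩
    exact ⟨by rw [hφ]; exact QuotientGroup.eq.2 (by simpa using u1 a),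
      by rw [hφ, (u2 p a).eq]; exact QuotientGroup.eq.2 (by simpa [mul_assoc] using u1 a)⟩
  have f : φ z g = g := by
    obtain ⟨i, a⟩ := h1 _ ⟨p, p1, rfl⟩
    obtain ⟨j, b⟩ := h1 _ ⟨q, q1, rfl⟩
    have k : ∀ {p q i j}, p ∈ U → φ p g = (φ w ^ i) g → φ q g = (φ w ^ j) g → φ (p * q) g = (φ w ^ (i + j)) g := fun {p q i j} c a b => by
      rw [map_mul, mul_apply, b, ← mul_apply, (((u2 p c).map φ).pow_right j).eq, mul_apply, a, ← mul_apply, ← pow_add, add_comm]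
    refine (φ (q * p)).injective ?_
    rw [← mul_apply, ← map_mul, ← pq, k p1 a b, k q1 b a, add_comm]
  have f2 : ∀ i : ℕ, w ^ i = 1 ∨ w ^ i = w * w ∨ w ^ i = w ∨ w ^ i = w⁻¹ := fun i => by
    induction i with
    | zero => exact Or.inl (pow_zero _)
    | succ i ih =>
      rw [pow_succ]
      rcases ih with e | e | e | e <;> rw [e]
      exacts [by simp, Or.inr (Or.inr (Or.inr (eq_inv_of_mul_eq_one_left ((mul_assoc _ _ _).trans w5)))), by simp, by simp]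
  rw [hτ, hi] at h2
  have a1 : w⁻¹ * (g⁻¹ * w ^ i * g) ∈ H := by simpa [mul_assoc] using QuotientGroup.eq.1 h2
  have a2 : Commute z (g⁻¹ * w ^ i * g) := by simpa using w1.mul_right (hz a1)
  have a3 : g⁻¹ * w ^ i * g ∉ H := fun e => w2 (inv_mem_iff.1 ((mul_mem_cancel_right e).1 a1))
  have a4 : Commute z (g⁻¹ * w * g) := by
    rcases f2 i with e | e | e | e <;> rw [e] at a2 a3
    · simp at a3
    · rcases w4 with e | e <;> rw [e] at a2 a3
      · simp at a3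
      · exact absurd (by simpa [mul_assoc] using QuotientGroup.eq.1 (f.symm.trans (hφ z g))) a3
    · exact a2
    · simpa [mul_assoc] using a2.inv_right
  have e := hc g fun u hu => by
    obtain ⟨j, a⟩ := h1 (φ u) ⟨u, hu, rfl⟩
    rw [hφ, hi] at a
    have b : Commute z ((g⁻¹ * w * g) ^ j) := a4.pow_right j
    rw [show g⁻¹ * w * g = g⁻¹ * w * g⁻¹⁻¹ by simp, conj_pow, inv_inv] at b
    exact (commute_conj_left_iff.2 (by simpa [mul_assoc] using b.mul_right (hz (QuotientGroup.eq.1 a)).inv_right)).symm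
  have c : Commute z g := (conj_eq_self_iff.1 e).symm
  by_cases m : g ∈ H
  · exact Or.inl (QuotientGroup.eq.2 (by simpa using m))
  · exact Or.inr (QuotientGroup.eq.2 ((two c.inv_right w1).2 (iff_of_false (mt inv_mem_iff.1 m) w2)))

structure QF {Γ : Type*} [Group Γ] (a : G) (F : G → Γ) : Prop where
  mul : ∀ {g k}, Commute a g → Commute a k → F (g * k) = F g * F k
  sur : ∀ γ, ∃ g, Commute a g ∧ F g = γ
  ker : ∀ {g}, Commute a g → (F g = 1 ↔ g = 1 ∨ g = a)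

instance nrmZ (a : G) : ((zpowers a).subgroupOf (centralizer {a})).Normal := ⟨fun n b g => by
  obtain ⟨i, e⟩ := mem_subgroupOf.1 b
  refine ⟨i, e.trans ?_⟩
  have : Commute (n : G) g := e ▸ (Commute.symm (mem_centralizer_singleton_iff.1 g.2)).zpow_left i
  exact (cz this).symm⟩

theorem exQF {a : G} (aa : a * a = 1) : ∃ F : G → centralizer {a} ⧸ (zpowers a).subgroupOf (centralizer {a}), QF a F ∧
    ∀ g : centralizer {a}, F g = g := by
  classical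
  have m : ∀ {g}, Commute a g → g ∈ centralizer {a} := fun a => mem_centralizer_singleton_iff.2 a.symm
  obtain ⟨F, hF⟩ : ∃ F : G → centralizer {a} ⧸ (zpowers a).subgroupOf (centralizer {a}), ∀ g : centralizer {a}, F g = g :=
    ⟨fun g => if h : g ∈ centralizer {a} then (⟨g, h⟩ : centralizer {a}) else 1, fun g => dif_pos g.2⟩
  exact ⟨F, ⟨fun b c => (hF (⟨_, m b⟩ * ⟨_, m c⟩)).trans (by rw [hF ⟨_, m b⟩, hF ⟨_, m c⟩]; rfl),
    QuotientGroup.mk_surjective.forall.2 fun g => ⟨g, (mem_centralizer_singleton_iff.1 g.2).symm, hF g⟩,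
    fun b => by rw [hF ⟨_, m b⟩, QuotientGroup.eq_one_iff, mem_subgroupOf, mem_zpowers_invol aa]⟩, hF⟩

namespace QF
variable {Γ : Type*} [Group Γ] {a : G} {F : G → Γ} (q : QF a F) {g k : G} {K : Subgroup G}
include q

theorem one : F 1 = 1 := (q.ker (Commute.one_right _)).2 (Or.inl rfl)
theorem inv (hg : Commute a g) : F g⁻¹ = (F g)⁻¹ := eq_inv_of_mul_eq_one_left (by rw [← q.mul hg.inv_right hg, inv_mul_cancel, q.one])
theorem cj0 (hg : Commute a g) (hk : Commute a k) : F (g * k * g⁻¹) = F g * F k * (F g)⁻¹ := by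
  rw [q.mul (hg.mul_right hk) hg.inv_right, q.mul hg hk, q.inv hg]
theorem eq (hg : Commute a g) (hk : Commute a k) : F g = F k ↔ k = g ∨ k = g * a := by
  rw [← inv_mul_eq_one, ← q.inv hg, ← q.mul hg.inv_right hk, q.ker (hg.inv_right.mul_right hk), inv_mul_eq_iff_eq_mul, inv_mul_eq_iff_eq_mul, mul_one]

def im (hK : ∀ g ∈ K, Commute a g) : Subgroup Γ where
  carrier := {γ | ∃ g ∈ K, F g = γ}
  one_mem' := ⟨1, one_mem _, q.one⟩
  mul_mem' := by rintro _ _ ⟨g, b, rfl⟩ ⟨k, c, rfl⟩; exact ⟨_, mul_mem b c, q.mul (hK g b) (hK k c)⟩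
  inv_mem' := by rintro _ ⟨g, b, rfl⟩; exact ⟨_, inv_mem b, q.inv (hK g b)⟩

theorem mim {hK : ∀ g ∈ K, Commute a g} (aK : a ∈ K) (hg : Commute a g) : F g ∈ q.im hK ↔ g ∈ K :=
  ⟨fun ⟨k, b, c⟩ => ((q.eq (hK k b) hg).1 c).elim (· ▸ b) (· ▸ mul_mem b aK), fun b => ⟨g, b, rfl⟩⟩

theorem lift {P : Type*} [Group P] {J : Subgroup G} {hJ : ∀ g ∈ J, Commute a g} (aJ : a ∈ J) (hK : ∀ g ∈ K, Commute a g) (π : K →* P)
    (h1 : Function.Surjective π) (h2 : ∀ g, π g = 1 ↔ (g : G) ∈ J) {Y : Subgroup Γ} (hY : ∀ γ, γ ∈ Y ↔ γ ∈ q.im hK) :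
    ∃ π : Y →* P, Function.Surjective π ∧ ∀ g, π g = 1 ↔ (g : Γ) ∈ q.im hJ := by
  let φ : K →* Y := MonoidHom.mk' (fun g => ⟨F g, (hY _).2 ⟨g, g.2, rfl⟩⟩) fun g k => Subtype.ext (q.mul (hK _ g.2) (hK _ k.2))
  have s : Function.Surjective φ := fun γ => let ⟨g, b, c⟩ := (hY _).1 γ.2; ⟨⟨g, b⟩, Subtype.ext c⟩
  have e := φ.liftOfRightInverse_comp_apply _ (Function.rightInverse_surjInv s) ⟨π, fun g b => (h2 g).2
    (((q.ker (hK _ g.2)).1 (congrArg Subtype.val b)).elim (· ▸ one_mem _) (· ▸ aJ))⟩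
  exact ⟨_, fun γ => let ⟨g, b⟩ := h1 γ; ⟨_, (e g).trans b⟩, s.forall.2 fun g => by rw [e]; exact (h2 g).trans (q.mim aJ (hK _ g.2)).symm⟩

end QF

namespace SJ
variable [Finite G] {J E H : Subgroup G} {z a : G} (h : SJ J E H z a) {Γ : Type*} [Group Γ] {F : G → Γ} (q : QF a F) {g j k : G}
include h q

theorem Fz (hg : Commute a g) : Commute (F z) (F g) ↔ Commute z g := by
  rw [Commute.symm_iff, ← conj_eq_self_iff, ← q.cj0 hg h.za.symm, eq_comm, q.eq h.za.symm ((hg.mul_right h.za.symm).mul_right hg.inv_right),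
    or_iff_left h.swap.nc, conj_eq_self_iff, Commute.symm_iff]

theorem Fc (hj : j ∈ J) (hk : k ∈ J) : Commute (F j) (F k) ↔ Commute j k := by
  rw [← conj_eq_self_iff, ← q.cj0 (h.ca hj) (h.ca hk), eq_comm, q.eq (h.ca hk) (h.ca (h.nm (h.cJ hj) hk)), ← conj_eq_self_iff]
  refine or_iff_left fun e => ?_
  rcases h.conj_eq hj hk with f | f <;> rw [e] at f
  exacts [h.a1 (mul_eq_left.1 f), h.az (mul_left_cancel f)]

theorem Fv (hj : V4 z a j) : F j = 1 ∨ F j = F z := by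
  have := (q.ker (Commute.refl a)).2 (Or.inr rfl)
  rcases hj with rfl | rfl | rfl | rfl
  exacts [Or.inl q.one, Or.inr rfl, Or.inl this, Or.inr (by rw [q.mul h.za.symm (Commute.refl _), this, mul_one])]

theorem Fo (hj : j ∈ J) {u : G} (hu : Commute a u) (e : u = j ∨ u = j * z) : F u = F j ∨ F u = F j * F z :=
  e.imp (congrArg F) fun e => by rw [e, q.mul (h.ca hj) h.za.symm]

omit q in
theorem triv (hg : Commute z g) (ha : Commute a g) (e : ∀ j ∈ J, g * j * g⁻¹ = j ∨ g * j * g⁻¹ = j * a) : V4 z a g := by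
  obtain ⟨π, h1, h2⟩ := h.pi
  have := simple0
  let N : Subgroup G :=
    { carrier := {g | (Commute z g ∧ Commute a g) ∧ ∀ j ∈ J, g * j * g⁻¹ = j ∨ g * j * g⁻¹ = j * a}
      one_mem' := ⟨by simp, by simp⟩
      mul_mem' := fun {b c} d e => ⟨⟨d.1.1.mul_right e.1.1, d.1.2.mul_right e.1.2⟩, fun j f => by
        rw [← conj_conj']
        rcases e.2 j f with e | e <;> rw [e]
        · exact d.2 j f
        · rw [← conj_mul, cz d.1.2]; exact (d.2 j f).symm.imp (fun e => by rw [e, mul_assoc, h.aa, mul_one]) fun e => by rw [e]⟩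
      inv_mem' := fun {b} d => ⟨⟨d.1.1.inv_right, d.1.2.inv_right⟩, fun j f => by
        rcases d.2 j f with e | e
        · exact Or.inl (cj_inv_eq (by rw [inv_inv]; exact e))
        · exact Or.inr (cj_inv_eq (by rw [inv_inv, ← conj_mul, e, cz d.1.2, mul_assoc, h.aa, mul_one]))⟩ }
  have nn : ∀ k ∈ H, ∀ g ∈ N, k * g * k⁻¹ ∈ N := fun k b g c => ⟨⟨((h.hz b).mul_right c.1.1).mul_right (h.hz b).inv_right,
    ((h.ha b).mul_right c.1.2).mul_right (h.ha b).inv_right⟩, fun j d => by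
      rw [show k * g * k⁻¹ * j * (k * g * k⁻¹)⁻¹ = k * (g * (k⁻¹ * j * k⁻¹⁻¹) * g⁻¹) * k⁻¹ by group]
      refine (c.2 _ (h.nm (h.hz b).inv_right d)).imp (fun e => by rw [e]; group) fun e => by rw [e, ← conj_mul, cz (h.ha b)]; group⟩
  have l : ∀ g ∈ N, g ∈ H → g ∈ J := fun g b c => (h2 ⟨g, c⟩).1 (by
    rcases ((⟨fun r b k => nn k k.2 r b⟩ : (N.subgroupOf H).Normal).map π h1).eq_bot_or_eq_top with f | f
    · exact mem_bot.1 (f ▸ mem_map_of_mem π b)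
    obtain ⟨a₁, a₂, a₃, a₄, c, d, g, k, D⟩ := md0
    obtain ⟨r, r1, rfl⟩ := f.ge (mem_top a₁)
    have := (h2 (r * r)).2 (h.selfc _ fun j b => conj_eq_self_iff.1 (by
      rw [Subgroup.coe_mul, ← conj_conj']
      rcases r1.2 j b with e | e <;> simp only [Subgroup.coe_subtype] at e <;> rw [e]
      · exact e
      · rw [← conj_mul, e, cz (h.ha r.2), mul_assoc, h.aa, mul_one]))
    rw [map_mul] at this
    exact absurd (by simpa [this] using D.cube) D.ne)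
  have m : g ∈ N := ⟨⟨hg, ha⟩, e⟩
  have := h.cen g hg fun k b => l _ (by simpa [mul_assoc] using mul_mem m (nn k b _ (inv_mem m))) (mul_mem (h.nrm hg b) (inv_mem b))
  refine h.cenV fun j b => conj_eq_self_iff.1 ((e j b).resolve_right fun e => ?_)
  rcases h.conj_eq this b with f | f <;> rw [e] at f
  exacts [h.a1 (mul_eq_left.1 f), h.az (mul_left_cancel f)]

theorem ls : LS (q.im fun _ => h.ca) (F z) := by
  have c : ∀ γ, (∀ y ∈ q.im fun _ => h.ca, γ * y = y * γ) → γ = 1 ∨ γ = F z := fun γ c => by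
    obtain ⟨g, b, rfl⟩ := q.sur γ
    have m := (h.Fz q b).1 (c _ ⟨z, h.zJ, rfl⟩).symm
    exact h.Fv q (h.triv m b fun j d => (q.eq (h.ca d) (h.ca (h.nm m d))).1 (by rw [q.cj0 b (h.ca d), c _ ⟨j, d, rfl⟩, mul_inv_cancel_right]))
  refine ⟨⟨⟨z, h.zJ, rfl⟩, fun e => ((q.ker h.za.symm).1 e).elim h.ne h.az.symm, by rw [← q.mul h.za.symm h.za.symm, h.zz, q.one], ?_,
    fun x _ => c x, ?_, ?_, ?_⟩, c, fun γ b => ?_⟩
  · rintro _ ⟨j, b, rfl⟩; exact ((h.Fz q (h.ca b)).2 (h.cJ b)).symm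
  · rintro _ ⟨j, b, rfl⟩ _ ⟨k, c, rfl⟩
    rw [← q.mul (h.ca b) (h.ca c), ← q.mul (h.ca c) (h.ca b)]
    exact h.Fo q (mul_mem c b) (h.ca (mul_mem b c)) (or_iff_not_imp_left.2 (h.anti b c))
  · rintro _ ⟨j, b, rfl⟩
    rw [← q.mul (h.ca b) (h.ca b)]
    exact (h.sq b).imp (fun e => by rw [e, q.one]) (congrArg F)
  · obtain ⟨x, b, y, c, n⟩ := h.es.nonab
    exact ⟨_, ⟨x, h.EJ b, rfl⟩, _, ⟨y, h.EJ c, rfl⟩, mt (h.Fc q (h.EJ b) (h.EJ c)).1 n⟩
  · obtain ⟨g, c, rfl⟩ := q.sur γ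
    rintro _ ⟨j, d, rfl⟩
    exact ⟨_, h.nm ((h.Fz q c).1 (Eq.symm b)) d, q.cj0 c (h.ca d)⟩

theorem cardF : Nat.card (q.im fun _ => h.ca) = 512 := by
  rw [← h.card]
  refine (Nat.card_eq_of_bijective (fun e : E => (⟨F e, e, h.EJ e.2, rfl⟩ : q.im fun _ => h.ca)) ⟨fun e f b => ?_, ?_⟩).symm
  · rcases (q.eq (h.ca (h.EJ e.2)) (h.ca (h.EJ f.2))).1 (congrArg Subtype.val b) with b | b
    exacts [Subtype.ext b.symm, absurd ((mul_mem_cancel_left e.2).1 (b ▸ f.2)) h.aE]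
  · rintro ⟨_, j, b, rfl⟩
    obtain ⟨e, c, d⟩ := h.rep b
    exact ⟨⟨e, c⟩, Subtype.ext ((q.eq (h.ca (h.EJ c)) (h.ca b)).2 d)⟩

theorem ah : AH (q.im fun _ => h.ca) (q.im fun _ => h.ha) (F z) := by
  obtain ⟨π, h1, h2⟩ := h.pi
  refine ⟨h.ls q, h.cardF q, fun _ ⟨j, b, c⟩ => ⟨j, h.le b, c⟩, ?_, fun {b c} d e => ?_, q.lift h.aJ _ π h1 h2 fun _ => Iff.rfl, fun γ b c => ?_⟩
  · rintro _ ⟨k, b, rfl⟩; exact (h.Fz q (h.ha b)).2 (h.hz b)
  · obtain ⟨b, b1, rfl⟩ := q.sur b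
    obtain ⟨c, c1, rfl⟩ := q.sur c
    rw [← q.mul b1 c1, q.mim (h.le h.aJ) b1, q.mim (h.le h.aJ) c1, q.mim (h.le h.aJ) (b1.mul_right c1), h.two ((h.Fz q b1).1 d) ((h.Fz q c1).1 e)]
  · obtain ⟨g, g1, rfl⟩ := q.sur γ
    refine ⟨g, h.cen g ((h.Fz q g1).1 b) fun k d => ?_, rfl⟩
    have k1 := (g1.mul_right (h.ha d)).mul_right g1.inv_right
    rw [← q.mim h.aJ (k1.mul_right (h.ha d).inv_right), q.mul k1 (h.ha d).inv_right, q.cj0 g1 (h.ha d), q.inv (h.ha d)]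
    exact c _ ⟨k, d, rfl⟩

theorem nonI (n : ¬ Iso z a) : ∃ c, Commute a c ∧ Commute z (c * z * c⁻¹) ∧ c * z * c⁻¹ ≠ z ∧ Commute (F z) (F c * F z * (F c)⁻¹) ∧
    F c * F z * (F c)⁻¹ ≠ F z := by
  simp only [Iso, not_forall] at n
  obtain ⟨c, c1, c2, c3⟩ := n
  exact ⟨c, c1, c2, c3, q.cj0 c1 h.za.symm ▸ (h.Fz q ((c1.mul_right h.za.symm).mul_right c1.inv_right)).2 c2,
    fun e => c3 (cz ((h.Fz q c1).1 (conj_eq_self_iff.1 e).symm))⟩

end SJ

theorem CJ.swap [Finite G] {J E H : Subgroup G} {z a x y : G} (h : CJ J E H z a x y) : CJ J E H z (z * a) x y :=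
  ⟨h.toSJ.swap, h.hx, h.hy, h.anti', h.fx, h.fy, fun r b c d e => (h.fix r b c d e).imp id (Or.imp id fun e => by rw [h.zza]; exact e.symm)⟩

theorem CJ.iso [Finite G] {J E H : Subgroup G} {z a x y : G} (h : CJ J E H z a x y) : Iso z a := by_contra fun n => by
  obtain ⟨F, q, -⟩ := exQF h.aa
  obtain ⟨c, -, -, -, c1, c2⟩ := h.nonI q n
  have k : ∀ x ∈ J, (∀ g ∈ H, g * x * g⁻¹ = x ∨ g * x * g⁻¹ = x * z) → ∀ γ ∈ q.im fun _ => h.ha, γ * F x * γ⁻¹ = F x ∨ γ * F x * γ⁻¹ = F x * F z := by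
    rintro x b f _ ⟨g, d, rfl⟩
    exact q.cj0 (h.ha d) (h.ca b) ▸ h.Fo q b (h.ca (h.nm (h.hz d) b)) (f g d)
  refine c2 (CN2.iso (x := F x) (y := F y) ⟨h.ah q, ⟨x, h.hx, rfl⟩, ⟨y, h.hy, rfl⟩, mt (h.Fc q h.hx h.hy).1 h.anti', k x h.hx h.fx, k y h.hy h.fy, ?_⟩ c1)
  rintro _ ⟨r, b, rfl⟩ d e f
  refine h.Fv q (h.fix r b ((h.Fc q h.hx b).1 d) ((h.Fc q h.hy b).1 e) fun _ => h.modz b fun g m => ?_)
  have := f _ ⟨g, m, rfl⟩
  rw [← q.cj0 (h.ha m) (h.ca b), ← q.mul (h.ca b) h.za.symm, eq_comm, eq_comm (a := F (g * r * g⁻¹)), q.eq (h.ca b) (h.ca (h.nm (h.hz m) b)),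
    q.eq (h.ca (mul_mem b h.zJ)) (h.ca (h.nm (h.hz m) b))] at this
  rcases this with (e | e) | e | e <;> rw [e] <;> simp [V4, mul_assoc]

end Cfsg.Lib.Par
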