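import Cfsg.Agent.Lib.Known2.RF

/-! The group `(2 × 2^{1+8}).U₄(2).2`: the reducible module, basic facts. -/

set_option autoImplicit false
set_option linter.unusedSectionVars false

namespace Cfsg.Lib.Par

open Subgroup Cfsg.Lib.Known2 Cfsg.Lib.Core Cfsg.Lib.Fi Cfsg.Lib.Amalg

variable {G : Type*} [Group G] {J E H : Subgroup G} {z a x y : G}

namespace SJ
variable [Finite G] (h : SJ J E H z a) {g k r s : G}
include h

theorem cmul (hr : r ∈ J) (hg : g ∈ J) (hk : k ∈ J) : Commute r (g * k) ↔ (Commute r g ↔ Commute r k) :=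
  chom' h.ne h.zz (h.cJ hg) (h.conj_eq hg hr) (h.conj_eq hk hr)

theorem inner (hg : Commute z g) (ha : Commute a g) (e : ∀ j ∈ J, g * j * g⁻¹ = j ∨ g * j * g⁻¹ = j * z) : g ∈ J := by
  obtain ⟨q, q1, q2⟩ := h.es.exists_inner hg.symm fun j b => e j (h.EJ b)
  refine (mul_mem_cancel_left (inv_mem (h.EJ q1))).1 (h.selfc _ fun j b => ?_)
  have k : ∀ j ∈ E, Commute (q⁻¹ * g) j := fun j b => conj_eq_self_iff.1 (by rw [← conj_conj', q2 j b]; group)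
  obtain ⟨e, e1, rfl | rfl⟩ := h.rep b
  exacts [k _ e1, (k e e1).mul_right ((h.ca (inv_mem (h.EJ q1))).mul_right ha).symm]

/-- The elements fixed modulo `z` by `H`. -/
def SS (h : SJ J E H z a) : Subgroup G := J ⊓ ⨅ g ∈ H, fx0 h.cJ h.zz g

theorem mSS : r ∈ h.SS ↔ r ∈ J ∧ ∀ g ∈ H, g * r * g⁻¹ = r ∨ g * r * g⁻¹ = r * z := by
  simp only [SS, mem_inf, mem_iInf]
  exact and_congr_right fun b => forall₂_congr fun _ _ => and_iff_right b

theorem vS (hr : V4 z a r) : r ∈ h.SS := h.mSS.2 ⟨(h.vJ hr).1, fun g b => Or.inl (cz ((h.vJ hr).2.2 g (h.hz b) (h.ha b)))⟩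

theorem nS (hg : Commute z g) (hr : r ∈ h.SS) : g * r * g⁻¹ ∈ h.SS := h.mSS.2 ⟨h.nm hg (h.mSS.1 hr).1, fun k b => by
  rw [show k * (g * r * g⁻¹) * k⁻¹ = g * (g⁻¹ * k * g⁻¹⁻¹ * r * (g⁻¹ * k * g⁻¹⁻¹)⁻¹) * g⁻¹ by group]
  exact ((h.mSS.1 hr).2 _ (h.nrm hg.inv_right b)).imp (fun e => by rw [e]) fun e => by rw [e, ← conj_mul, cz hg]⟩

end SJ

namespace CJ
variable [Finite G] (h : CJ J E H z a x y) {g k r s : G}
include h

theorem xS : x ∈ h.SS := h.mSS.2 ⟨h.hx, h.fx⟩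
theorem yS : y ∈ h.SS := h.mSS.2 ⟨h.hy, h.fy⟩
theorem cx {b c : G} (hb : b ∈ H) (hc : c ∈ H) : Commute x (b * c) ↔ (Commute x b ↔ Commute x c) :=
  chom' h.ne h.zz (h.hz hb) (h.fx b hb) (h.fx c hc)
theorem cy {b c : G} (hb : b ∈ H) (hc : c ∈ H) : Commute y (b * c) ↔ (Commute y b ↔ Commute y c) :=
  chom' h.ne h.zz (h.hz hb) (h.fy b hb) (h.fy c hc)

theorem sw : CJ J E H z a y x := ⟨h.toSJ, h.hy, h.hx, fun e => h.anti' e.symm, h.fy, h.fx, fun r a b c => h.fix r a c b⟩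

theorem dec' (hg : g ∈ H) : ∃ k s, k ∈ H ∧ Commute x k ∧ Commute y k ∧ (s = 1 ∨ s = x ∨ s = y ∨ s = x * y) ∧ g = k * s := by
  have a := h.anti'
  have b : ¬ Commute y x := fun e => a e.symm
  have k : ∀ s ∈ J, (Commute x g ↔ Commute x s) → (Commute y g ↔ Commute y s) →
      g * s⁻¹ ∈ H ∧ Commute x (g * s⁻¹) ∧ Commute y (g * s⁻¹) := fun s m c d =>
    ⟨mul_mem hg (h.le (inv_mem m)), by simp [h.cx hg (h.le (inv_mem m)), h.cy hg (h.le (inv_mem m)), c, d]⟩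
  have zx := h.le h.hx
  have zy := h.le h.hy
  by_cases c : Commute x g <;> by_cases d : Commute y g
  · exact ⟨g, 1, hg, c, d, by simp, by simp⟩
  · exact let ⟨m, a, b⟩ := k x h.hx (by simp [c]) (by simp [d, b]); ⟨_, x, m, a, b, by simp, by simp⟩
  · exact let ⟨m, a, b⟩ := k y h.hy (by simp [c, a]) (by simp [d]); ⟨_, y, m, a, b, by simp, by simp⟩
  · exact let ⟨m, a, b⟩ := k _ (mul_mem h.hx h.hy) (by simp [c, a, h.cx zx zy]) (by simp [d, b, h.cy zx zy])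
      ⟨_, x * y, m, a, b, by simp, by group⟩

theorem sQ (hs : s = 1 ∨ s = x ∨ s = y ∨ s = x * y) : s ∈ J ∧ (∀ k, Commute x k → Commute y k → Commute s k) ∧ s ∈ h.SS := by
  rcases hs with rfl | rfl | rfl | rfl
  exacts [⟨one_mem _, fun _ _ _ => Commute.one_left _, one_mem _⟩, ⟨h.hx, fun _ a _ => a, h.xS⟩, ⟨h.hy, fun _ _ a => a, h.yS⟩,
    ⟨mul_mem h.hx h.hy, fun _ a b => a.mul_left b, mul_mem h.xS h.yS⟩]

def PK (_ : CJ J E H z a x y) : Subgroup G := J ⊓ centralizer {x} ⊓ centralizer {y}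

theorem mem_PK : k ∈ h.PK ↔ k ∈ J ∧ Commute x k ∧ Commute y k := by
  simp only [PK, mem_inf, mem_centralizer_singleton_iff, and_assoc]
  exact and_congr_right fun _ => and_congr Commute.symm_iff Commute.symm_iff

theorem decQ (hg : g ∈ J) : ∃ k ∈ h.PK, ∃ s, (s = 1 ∨ s = x ∨ s = y ∨ s = x * y) ∧ g = k * s :=
  let ⟨k, s, _, a, b, c, d⟩ := h.dec' (h.le hg); ⟨k, h.mem_PK.2 ⟨(mul_mem_cancel_right (h.sQ c).1).1 (d ▸ hg), a, b⟩, s, c, d⟩

theorem decS (hr : r ∈ h.SS) : ∃ v, V4 z a v ∧ ∃ s, (s = 1 ∨ s = x ∨ s = y ∨ s = x * y) ∧ r = v * s := by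
  obtain ⟨k, k1, s, s1, rfl⟩ := h.decQ (h.mSS.1 hr).1
  have m := h.mem_PK.1 k1
  exact ⟨k, h.fix k m.1 m.2.1 m.2.2 (h.mSS.1 ((mul_mem_cancel_right (h.sQ s1).2.2).1 hr)).2, s, s1, rfl⟩

theorem vP (hr : V4 z a r) : r ∈ h.PK := h.mem_PK.2 ⟨(h.vJ hr).1, ((h.vJ hr).2.2 x (h.cJ h.hx) (h.ca h.hx)).symm,
  ((h.vJ hr).2.2 y (h.cJ h.hy) (h.ca h.hy)).symm⟩

theorem nab : ∃ p ∈ h.PK, ∃ q ∈ h.PK, ¬ Commute p q := by
  have t : ∀ {x} {B : Subgroup G}, B ≤ J → x ∈ J → Nat.card B ≤ 2 * Nat.card ↥(B ⊓ centralizer {x}) := fun hB f => card_le_two fun a a1 b b1 a2 b2 =>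
    mem_centralizer_singleton_iff.2 ((h.cmul f (hB (inv_mem a1)) (hB b1)).2
      (iff_of_false (fun e => a2 (mem_centralizer_singleton_iff.2 (Commute.inv_right_iff.1 e).symm))
        fun e => b2 (mem_centralizer_singleton_iff.2 e.symm))).symm
  have t1 := t le_rfl h.hx
  have t2 := t (inf_le_left (b := centralizer {x})) h.hy
  have t3 := card_le_of_le h.EJ
  by_contra n
  push Not at n
  have := h.ab_le (fun _ a => (h.mem_PK.1 a).1) n
  rw [h.card] at t3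
  rw [PK] at this
  omega

theorem cenP (hk : k ∈ h.PK) (e : ∀ v ∈ h.PK, Commute k v) : V4 z a k := h.cenV fun v hv => by
  obtain ⟨l, l1, s, s1, rfl⟩ := h.decQ hv
  exact (e l l1).mul_right ((h.sQ s1).2.1 k (h.mem_PK.1 hk).2.1 (h.mem_PK.1 hk).2.2).symm

theorem repP (hk : k ∈ h.PK) : ∃ e ∈ h.PK ⊓ E, k = e ∨ k = e * a := by
  obtain ⟨e, b, rfl | rfl⟩ := h.rep (h.mem_PK.1 hk).1
  exacts [⟨k, ⟨hk, b⟩, Or.inl rfl⟩, ⟨e, ⟨(mul_mem_cancel_right (h.vP (Or.inr (Or.inr (Or.inl rfl))))).1 hk, b⟩, Or.inr rfl⟩]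

theorem es' : ES (h.PK ⊓ E) z := by
  have c : ∀ u ∈ J, (∀ v ∈ h.PK ⊓ E, u * v = v * u) → ∀ v ∈ h.PK, Commute u v := fun u a b v c => by
    obtain ⟨e, d, rfl | rfl⟩ := h.repP c
    exacts [b _ d, Commute.mul_right (b e d) (h.ca a).symm]
  refine ⟨⟨h.vP (Or.inr (Or.inl rfl)), h.es.mem⟩, h.ne, h.zz, fun u a => h.es.cen u a.2, fun u b d => h.es.of_cen u b.2 fun v e =>
    (h.vJ (h.cenP b.1 (c u (h.EJ b.2) d))).2.2 v (h.cJ (h.EJ e)) (h.ca (h.EJ e)),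
    fun u a v b => h.es.comm u a.2 v b.2, fun u a => h.es.sq_mem u a.2, by_contra fun n => ?_⟩
  push Not at n
  obtain ⟨p, p1, q, q1, e⟩ := h.nab
  exact e (c p (h.mem_PK.1 p1).1 (fun v b => (c v (h.EJ b.2) (n v b) p p1).symm) q q1)

theorem n2 (p : G → Prop)
    (hp : ∀ a ∈ H, ∀ b ∈ H, Commute x a → Commute y a → Commute x b → Commute y b → (p (a * b) ↔ (p a ↔ p b))) (pa : p a)
    (h0 : k ∈ H) (h1 : Commute x k) (h2 : Commute y k) : p k := by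
  have m := fun {k} => (h.mem_PK (k := k)).1
  have p1 : p 1 := by simpa using hp 1 (one_mem _) 1 (one_mem _)
  have pc : ∀ k ∈ H, ∀ u ∈ H, Commute x k → Commute y k → Commute x u → Commute y u → (p (k⁻¹ * u * k) ↔ p u) :=
    fun k k1 u u1 a b c d => by
      have := hp _ (inv_mem k1) _ k1 a.inv_right b.inv_right a b
      rw [hp _ (mul_mem (inv_mem k1) u1) _ k1 (a.inv_right.mul_right c) (b.inv_right.mul_right d) a b,
        hp _ (inv_mem k1) _ u1 a.inv_right b.inv_right c d]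
      rw [inv_mul_cancel] at this
      tauto
  have hp' := fun a a1 b b1 => hp a (h.le (m a1).1) b (h.le (m b1).1) (m a1).2.1 (m a1).2.2 (m b1).2.1 (m b1).2.2
  obtain ⟨r, ⟨r1, -⟩, r2⟩ := h.es'.exists_rep p fun a a1 b b1 => hp' a a1.1 b b1.1
  have r2 : ∀ u ∈ h.PK, p u ↔ Commute r u := fun u b => by
    obtain ⟨e, d, rfl | rfl⟩ := h.repP b
    · exact r2 _ d
    · rw [hp' e d.1 a (h.vP (Or.inr (Or.inr (Or.inl rfl)))), h.cmul (m r1).1 (h.EJ d.2) h.aJ, r2 e d, iff_true_intro pa,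
        iff_true_intro (h.ca (m r1).1).symm]; rfl
  have cj' : ∀ k ∈ H, ∀ u, Commute x k → Commute y k → u ∈ h.PK → k * u * k⁻¹ ∈ h.PK := fun k k1 u a b c => h.mem_PK.2
    ⟨h.nm (h.hz k1) (m c).1, (a.mul_right (m c).2.1).mul_right a.inv_right, (b.mul_right (m c).2.2).mul_right b.inv_right⟩
  have pP : ∀ u ∈ h.PK, p u := fun u hu => (r2 u hu).2 (by
    refine (h.vJ (h.fix r (m r1).1 (m r1).2.1 (m r1).2.2 fun _ => h.modz (m r1).1 fun g hg => ?_)).2.2 u (h.cJ (m hu).1) (h.ca (m hu).1)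
    obtain ⟨k, s, k1, a, b, c, rfl⟩ := h.dec' hg
    have d := cj' k k1 r a b r1
    rw [← conj_conj', cz ((h.sQ c).2.1 r (m r1).2.1 (m r1).2.2).symm]
    refine h.cenP (mul_mem (inv_mem r1) d) fun v hv => ((h.cmul (m hv).1 (inv_mem (m r1).1) (m d).1).2 ?_).symm
    have e := cj' k⁻¹ (inv_mem k1) v a.inv_right b.inv_right hv
    rw [inv_inv] at e
    exact (Commute.inv_right_iff.trans (Commute.symm_iff.trans (((r2 v hv).symm.trans
      (pc k k1 v (h.le (m hv).1) a b (m hv).2.1 (m hv).2.2).symm).trans (r2 _ e)))).trans (commute_conj_left_iff.symm.trans Commute.symm_iff))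
  have wd : ∀ g, ∀ k ∈ H, Commute x k → Commute y k → k⁻¹ * g ∈ J →
      ((∃ k ∈ H, Commute x k ∧ Commute y k ∧ k⁻¹ * g ∈ J ∧ p k) ↔ p k) :=
    fun g k k1 a b c => ⟨fun ⟨l, l1, d, e, f, q⟩ => by
      have := pP (l⁻¹ * k) (h.mem_PK.2 ⟨by simpa [mul_assoc] using mul_mem f (inv_mem c), d.inv_right.mul_right a, e.inv_right.mul_right b⟩)
      have t := hp l l1 (l⁻¹ * k) (mul_mem (inv_mem l1) k1) d e (d.inv_right.mul_right a) (e.inv_right.mul_right b)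
      rw [mul_inv_cancel_left] at t
      tauto, fun q => ⟨k, k1, a, b, c, q⟩⟩
  refine (wd k k h0 h1 h2 (by simp)).1 (h.perf (fun g => ∃ k ∈ H, Commute x k ∧ Commute y k ∧ k⁻¹ * g ∈ J ∧ p k)
    (fun a a1 b b1 => ?_) (fun q hq => ⟨1, one_mem _, by simp, by simp, by simpa, p1⟩) h0)
  obtain ⟨k, s, k0, k1, k2, k3, rfl⟩ := h.dec' a1
  obtain ⟨l, t, l0, l1, l2, l3, rfl⟩ := h.dec' b1
  rw [wd (k * s) k k0 k1 k2 (by simpa using (h.sQ k3).1), wd (l * t) l l0 l1 l2 (by simpa using (h.sQ l3).1), wd _ (k * l) (mul_mem k0 l0)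
    (k1.mul_right l1) (k2.mul_right l2) (by
      convert mul_mem (h.nm (h.hz l0).inv_right (h.sQ k3).1) (h.sQ l3).1 using 1; group), hp k k0 l l0 k1 k2 l1 l2]

theorem cS (r1 : r ∈ h.SS) (k0 : k ∈ H) (k1 : Commute x k) (k2 : Commute y k) : Commute r k := by
  obtain ⟨v, v1, s, s1, rfl⟩ := h.decS r1
  exact ((h.vJ v1).2.2 k (h.hz k0) (h.ha k0)).mul_left ((h.sQ s1).2.1 k k1 k2)

theorem cS' (r1 : r ∈ h.SS) (hk : k ∈ h.PK) : Commute r k := let m := h.mem_PK.1 hk; h.cS r1 (h.le m.1) m.2.1 m.2.2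

theorem nP (hg : Commute z g) (hk : k ∈ h.PK) : g * k * g⁻¹ ∈ h.PK := by
  have c : ∀ r ∈ h.SS, Commute r (g * k * g⁻¹) := fun r a =>
    (commute_conj_left_iff.2 (by simpa using (h.cS' (h.nS hg.inv_right a) hk).symm)).symm
  exact h.mem_PK.2 ⟨h.nm hg (h.mem_PK.1 hk).1, c x h.xS, c y h.yS⟩

theorem CS (ht : ∀ p ∈ h.PK, Commute p g) : g ∈ h.SS := by
  have zt := ht z (h.vP (Or.inr (Or.inl rfl)))
  obtain ⟨k, k1, s, s1, rfl⟩ := h.decQ (h.cen _ zt fun k a => by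
    have b := mul_mem (h.nrm zt a) (inv_mem a)
    refine h.inner (h.hz b) (h.ha b) fun q hq => ?_
    obtain ⟨p, p1, s, s1, rfl⟩ := h.decQ hq
    have c : Commute (g * k * g⁻¹ * k⁻¹) p := by
      rw [mul_assoc _ k, mul_assoc _ (k * _)]
      exact (ht p p1).symm.mul_left (commute_conj_left_iff.2 (by simpa using (ht _ (h.nP (h.hz a).inv_right p1)).symm.inv_left))
    rw [← conj_mul, cz c.symm, mul_assoc p s, mul_right_inj, mul_right_inj]
    exact (h.mSS.1 (h.sQ s1).2.2).2 _ b)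
  exact mul_mem (h.vS (h.cenP k1 fun v hv => by
    simpa using (ht v hv).symm.mul_left (h.cS' (h.sQ s1).2.2 hv).inv_left)) (h.sQ s1).2.2

theorem tri (r1 : r ∈ h.SS) (s1 : s ∈ h.SS) (c : Commute r s) : V4 z a r ∨ V4 z a s ∨ V4 z a (r * s) := by
  have n := h.anti'
  have n' : ¬ Commute y x := fun e => n e.symm
  have k : ∀ u ∈ h.SS, Commute x u → Commute y u → V4 z a u := fun u a b c => h.fix u (h.mSS.1 a).1 b c (h.mSS.1 a).2
  have rJ := (h.mSS.1 r1).1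
  have sJ := (h.mSS.1 s1).1
  have k1 := k r r1
  have k2 := k s s1
  have k3 := k _ (mul_mem r1 s1)
  rw [h.cmul h.hx rJ sJ, h.cmul h.hy rJ sJ] at k3
  obtain ⟨v, v1, u, u1, rfl⟩ := h.decS r1
  have vj := h.vJ v1
  have c1 : ∀ j ∈ J, Commute j (v * u) ↔ Commute j u := fun j b => by
    rw [h.cmul b vj.1 (h.sQ u1).1, iff_true_intro (vj.2.2 j (h.cJ b) (h.ca b)).symm, true_iff]
  have c := (c1 s sJ).1 c.symm
  rw [c1 x h.hx, c1 y h.hy] at k1 k3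
  rcases u1 with rfl | rfl | rfl | rfl
  · exact Or.inl (k1 (Commute.one_right _) (Commute.one_right _))
  · have := c.symm; have := Commute.refl u; tauto
  · have := c.symm; have := Commute.refl u; tauto
  rw [h.cmul h.hx h.hx h.hy, h.cmul h.hy h.hx h.hy] at k3
  rw [h.cmul sJ h.hx h.hy, Commute.symm_iff, Commute.symm_iff (a := s)] at c
  have := Commute.refl x; have := Commute.refl y; tauto

theorem chg {u v : G} (hu : u ∈ h.SS) (hv : v ∈ h.SS) (n : ¬ Commute u v) : CJ J E H z a u v :=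
  ⟨h.toSJ, (h.mSS.1 hu).1, (h.mSS.1 hv).1, n, (h.mSS.1 hu).2, (h.mSS.1 hv).2, fun r b c d e => by
    have m := h.mSS.2 ⟨b, e⟩
    have uJ := (h.mSS.1 hu).1
    have vJ := (h.mSS.1 hv).1
    have k : ∀ {w j}, V4 z a w → j ∈ J → Commute w j := fun c d => (h.vJ c).2.2 _ (h.cJ d) (h.ca d)
    rcases h.tri m hu c.symm with f | f | f
    exacts [f, absurd (k f vJ) n, absurd (by simpa using d.symm.inv_left.mul_left (k f vJ)) n]⟩

theorem cP (ht : ∀ p ∈ h.PK, Commute p (g * z * g⁻¹)) : g * z * g⁻¹ = z := by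
  have m := fun {k} => (h.mem_PK (k := k)).1
  have tS := h.CS ht
  have K : ∀ l ∈ H, Commute x l → Commute y l → Commute z (g⁻¹ * l * g) := fun l l1 a b => commute_conj_left_iff.1 (h.cS tS l1 a b)
  have c : ∀ a b, g⁻¹ * (a * b) * g = g⁻¹ * a * g * (g⁻¹ * b * g) := fun a b => by group
  have hp : ∀ b ∈ H, ∀ d ∈ H, Commute x b → Commute y b → Commute x d → Commute y d →
      (Commute a (g⁻¹ * (b * d) * g) ↔ (Commute a (g⁻¹ * b * g) ↔ Commute a (g⁻¹ * d * g))) :=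
    fun a a0 b b0 a1 a2 b1 b2 => c a b ▸ h.twoa (K a a0 a1 a2) (K b b0 b1 b2)
  have hp' := fun a a1 b b1 => hp a (h.le (m a1).1) b (h.le (m b1).1) (m a1).2.1 (m a1).2.2 (m b1).2.1 (m b1).2.2
  have zd : Commute z (g * a * g⁻¹) := by
    obtain ⟨p, p1, q, q1, n⟩ := h.nab
    have := hp' _ (mul_mem q1 p1) z (h.vP (Or.inr (Or.inl rfl)))
    rw [← h.anti (m p1).1 (m q1).1 n, hp' p p1 q q1, hp' q q1 p p1] at this
    exact (commute_conj_left_iff.2 (by tauto)).symm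
  have aP := h.vP (Or.inr (Or.inr (Or.inl rfl)))
  by_cases ad : Commute a (g * a * g⁻¹)
  · have dS := h.CS (g := g * a * g⁻¹) fun p b => (commute_conj_left_iff.2 (h.n2 (fun l => Commute a (g⁻¹ * l * g)) hp
      (commute_conj_left_iff.1 ad.symm) (h.le (m b).1) (m b).2.1 (m b).2.2)).symm
    have zt := ht z (h.vP (Or.inr (Or.inl rfl)))
    exact (h.meet h.iso zt (conj_mul (b := g) ▸ h.tri tS dS (commute_conj_conj_iff.2 h.za))).elim id
      fun e => h.swap.iso g (conj_eq_self_iff.1 e).symm zt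
  have e1 := (h.nV zd).resolve_left fun e => ad (conj_eq_self_iff.1 e).symm
  have e2 := (h.nVt (ht a aP).symm).resolve_left fun e => ad (conj_eq_self_iff.1 e)
  have ai := inv_eq_of_mul_eq_one_right h.aa
  have di := inv_eq_of_mul_eq_one_right ((conj_sq_iff (g := g)).2 h.aa)
  generalize g * a * g⁻¹ = d at *
  rw [← mul_inv_eq_iff_eq_mul.2 e2, show a * d * a⁻¹ * d⁻¹ = a * (d * a * d⁻¹)⁻¹ * (d * (d⁻¹ * d⁻¹⁻¹) * d⁻¹) by group, e1]
  simp [h.es.inv_z]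

theorem chi (μ : G → Prop) (hμ : ∀ a b, Commute z a → Commute z b → (μ (a * b) ↔ (μ a ↔ μ b))) (hm : ∀ k ∈ H, μ k ↔ Commute y k) :
    ∃ χ : G →* ℤˣ, χ x = -1 ∧ χ y = 1 ∧ χ a = 1 ∧ ∀ k ∈ H, (χ k = 1 ↔ Commute y k) := by
  have m := fun {k} => (h.mem_PK (k := k)).1
  have b : ¬ Commute y x := fun e => h.anti' e.symm
  obtain ⟨p, p1, q, q1, n⟩ := h.nab
  obtain ⟨χ, c⟩ := tra2 h.zz μ hμ (U := h.PK) (h.pJ.to_le fun _ a => (m a).1)
    (fun u a => ⟨h.cJ (m a).1, (hm u (h.le (m a).1)).2 (m a).2.2⟩) p1 q1 (h.anti (m p1).1 (m q1).1 n) fun g => h.cP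
  have c : ∀ s ∈ h.SS, Commute y s → χ (x * s) = -1 := fun s a d => by
    have j := (h.mSS.1 (mul_mem h.xS a)).1
    exact c _ (h.cJ j) (by rw [hm _ (h.le j), h.cmul h.hy h.hx (h.mSS.1 a).1]; simp [b, d]) (h.sq j) fun u e => (h.cS' (mul_mem h.xS a) e).symm
  have d1 : χ x = -1 := by simpa using c 1 (one_mem _) (Commute.one_right _)
  have d3 : χ y = 1 := by simpa [d1] using c y h.yS (Commute.refl _)
  have d4 : χ a = 1 := by simpa [d1] using c a (h.vS (Or.inr (Or.inr (Or.inl rfl)))) (h.ca h.hy).symm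
  refine ⟨χ, d1, d3, d4, fun k a => ?_⟩
  obtain ⟨k, s, k0, k1, k2, s1, rfl⟩ := h.dec' a
  rw [map_mul, h.n2 (χ · = 1) (fun a _ b _ _ _ _ _ => chi_mul χ a b) d4 k0 k1 k2, one_mul, h.cy k0 (h.le (h.sQ s1).1)]
  have e : ¬ Commute y (x * y) := by simp [h.cmul h.hy h.hx h.hy, b]
  rcases s1 with rfl | rfl | rfl | rfl <;> simp [k2, d1, d3, b, e]

theorem rel : ∃ x y, CJ J E H z a x y ∧ (∀ g, Commute z g → g * y * g⁻¹ = y ∨ g * y * g⁻¹ = y * z) ∧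
    ((∀ g, Commute z g → V4 z a (x⁻¹ * (g * x * g⁻¹))) ∨ ∀ g, Commute z g → g ∉ H → g * x * g⁻¹ = x * y ∨ g * x * g⁻¹ = x * y * z) := by
  have vz : ∀ {u v : G}, (v = u ∨ v = u * z) → V4 z a (u⁻¹ * v) := fun e => by rcases e with rfl | rfl <;> simp [V4]
  by_cases n : ∀ g, Commute z g → g ∈ H
  · exact ⟨x, y, h, fun g a => h.fy g (n g a), Or.inl fun g a => vz (h.fx g (n g a))⟩
  push Not at n
  obtain ⟨w, w1, w2⟩ := n
  have O : ∀ g, Commute z g → g ∉ H → ∀ r ∈ h.SS, g * r * g⁻¹ = w * r * w⁻¹ ∨ g * r * g⁻¹ = w * r * w⁻¹ * z := fun g b c r d => by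
    rw [← inv_mul_cancel_right g w, ← conj_conj']
    exact (h.mSS.1 (h.nS w1 d)).2 _ ((h.two b w1.inv_right).2 (iff_of_false c (mt inv_mem_iff.1 w2)))
  have K : ∀ r ∈ h.SS, (w * r * w⁻¹ = r ∨ w * r * w⁻¹ = r * z) → ∀ g, Commute z g → g * r * g⁻¹ = r ∨ g * r * g⁻¹ = r * z := fun r d e g b => by
    by_cases m : g ∈ H
    · exact (h.mSS.1 d).2 g m
    rcases O g b m r d with f | f <;> rcases e with e | e <;> rw [f, e] <;> simp [mul_assoc, h.zz]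
  have B : ∀ {x y}, CJ J E H z a x y → ¬ V4 z a (x⁻¹ * (w * x * w⁻¹)) → ∃ x y, CJ J E H z a x y ∧
      (∀ g, Commute z g → g * y * g⁻¹ = y ∨ g * y * g⁻¹ = y * z) ∧ ((∀ g, Commute z g → V4 z a (x⁻¹ * (g * x * g⁻¹))) ∨
        ∀ g, Commute z g → g ∉ H → g * x * g⁻¹ = x * y ∨ g * x * g⁻¹ = x * y * z) := fun {x y} C n => by
    have m := mul_mem (inv_mem C.xS) (h.nS w1 C.xS)
    have nx : ¬ V4 z a x := fun e => C.anti' ((h.vJ e).2.2 y (h.cJ C.hy) (h.ca C.hy))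
    refine ⟨x, _, h.chg C.xS m fun e => ?_, K _ m ?_, Or.inr fun g b c => by simpa using O g b c x C.xS⟩
    · rcases h.tri C.xS m e with f | f | f
      exacts [nx f, n f, nx (by simpa [mul_assoc] using h.vcj w1.inv_right f)]
    · have xJ := C.hx
      have uJ := h.nm w1 xJ
      have f := (h.mSS.1 C.xS).2 _ ((h.two w1 w1).2 Iff.rfl)
      rw [← conj_mul, ← conj_inv, conj_conj']
      generalize w * x * w⁻¹ = u at *
      have k : ∀ j ∈ J, ∃ i, (i = 1 ∨ i = z) ∧ j⁻¹ = j * i := fun j b => (h.sq b).elim (fun e => ⟨1, Or.inl rfl, by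
        rw [mul_one, inv_eq_of_mul_eq_one_right e]⟩) fun e => ⟨z, Or.inr rfl, inv_eq_of_mul_eq_one_right (by rw [← mul_assoc, e, h.zz])⟩
      obtain ⟨i, i1, i2⟩ := k x xJ
      obtain ⟨l, l1, l2⟩ := k u uJ
      have c1 := (h.cJ xJ).eq
      have c2 := (h.cJ uJ).eq
      have zz' : ∀ b, z * (z * b) = b := fun b => by rw [← mul_assoc, h.zz, one_mul]
      have c3 : ∀ b, x * (z * b) = z * (x * b) := fun b => by rw [← mul_assoc, ← c1, mul_assoc]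
      have c4 : ∀ b, u * (z * b) = z * (u * b) := fun b => by rw [← mul_assoc, ← c2, mul_assoc]
      have c5 : u * x = x * u ∨ u * x = z * (x * u) := (or_iff_not_imp_left.2 (h.anti uJ xJ)).imp id fun e => by
        rw [e, ((h.cJ xJ).mul_right (h.cJ uJ)).eq]
      rw [i2, l2]
      rcases f with f | f <;> rw [f] <;> rcases i1 with i1 | i1 <;> rcases l1 with l1 | l1 <;> rcases c5 with c5 | c5 <;>
        simp [i1, l1, mul_assoc, ← c1, ← c2, c3, c4, c5, zz', h.zz]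
  by_cases c : V4 z a (x⁻¹ * (w * x * w⁻¹))
  swap
  · exact B h c
  by_cases d : V4 z a (y⁻¹ * (w * y * w⁻¹))
  swap
  · exact B h.sw d
  have A : ∀ r ∈ h.SS, V4 z a (r⁻¹ * (w * r * w⁻¹)) → ∀ g, Commute z g → V4 z a (r⁻¹ * (g * r * g⁻¹)) := fun r b e g f => by
    by_cases m : g ∈ H
    · exact vz ((h.mSS.1 b).2 g m)
    rcases O g f m r b with k | k <;> rw [k]
    exacts [e, mul_assoc r⁻¹ _ z ▸ h.vm e (Or.inr (Or.inl rfl))]
  have zv : ∀ {u v : G}, (u⁻¹ * v = 1 ∨ u⁻¹ * v = z) → v = u ∨ v = u * z := fun e =>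
    e.imp (fun e => (inv_mul_eq_one.1 e).symm) inv_mul_eq_iff_eq_mul.1
  rcases or_assoc.2 d with d' | d'
  · exact ⟨x, y, h, K y h.yS (zv d'), Or.inl (A x h.xS c)⟩
  rcases or_assoc.2 c with c' | c'
  · exact ⟨y, x, h.sw, K x h.xS (zv c'), Or.inl (A y h.yS d)⟩
  refine ⟨x, x * y, h.chg h.xS (mul_mem h.xS h.yS) fun e => h.anti' (by simpa using (Commute.refl x).inv_right.mul_right e),
    K _ (mul_mem h.xS h.yS) (zv ?_), Or.inl (A x h.xS c)⟩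
  rw [show (x * y)⁻¹ * (w * (x * y) * w⁻¹) = y⁻¹ * (x⁻¹ * (w * x * w⁻¹)) * y⁻¹⁻¹ * (y⁻¹ * (w * y * w⁻¹)) by group,
    cz ((h.vJ c).2.2 _ (h.cJ (inv_mem h.hy)) (h.ca (inv_mem h.hy)))]
  rcases c' with c | c <;> rcases d' with d | d <;> rw [c, d]
  exacts [Or.inl h.aa, Or.inr (by rw [h.za.symm.left_comm, h.aa, mul_one]), Or.inr (by rw [mul_assoc, h.aa, mul_one]), Or.inl h.zaa]

end CJ

end Cfsg.Lib.Par
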