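import Cfsg.Agent.Lib.Known2.RG

/-! The group `(2 × 2^{1+8}).U₄(2).2`: the central involution is isolated when the module is reducible. -/

set_option autoImplicit false
set_option linter.unusedSectionVars false

namespace Cfsg.Lib.Par

open Subgroup Cfsg.Lib.Known2 Cfsg.Lib.Core Cfsg.Lib.Fi Cfsg.Lib.Amalg

variable {G : Type*} [Group G] {J E H : Subgroup G} {z a x y : G}

theorem cm2 {u v t : G} (zz : z * z = 1) (zu : Commute z u) (tv : Commute t v) (n : t ≠ z) (h1 : v * u * v⁻¹ = u ∨ v * u * v⁻¹ = u * z)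
    (h2 : u * v * u⁻¹ = v ∨ u * v * u⁻¹ = v * t) : Commute u v := by
  rcases h1 with e | e
  · exact (conj_eq_self_iff.1 e).symm
  refine conj_eq_self_iff.1 (h2.resolve_right fun f => n ?_)
  calc t = v * t * v⁻¹ := (cz tv).symm
    _ = u * (v * u * v⁻¹)⁻¹ := by rw [← f]; group
    _ = z := by rw [e, mul_inv_rev, ← mul_assoc, cz zu.inv_left, inv_eq_of_mul_eq_one_right zz]

theorem chi_cj (χ : G →* ℤˣ) (g y : G) : χ (g * y * g⁻¹) = χ y := by rw [map_mul, map_mul, map_inv, mul_inv_cancel_comm]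

theorem fx_cj {g c y : G} (fy : ∀ g, Commute z g → g * y * g⁻¹ = y ∨ g * y * g⁻¹ = y * z) (hc : Commute (g * z * g⁻¹) c) :
    c * (g * y * g⁻¹) * c⁻¹ = g * y * g⁻¹ ∨ c * (g * y * g⁻¹) * c⁻¹ = g * y * g⁻¹ * (g * z * g⁻¹) := by
  rw [show c * (g * y * g⁻¹) * c⁻¹ = g * (g⁻¹ * c * g * y * (g⁻¹ * c * g)⁻¹) * g⁻¹ by group, conj_mul]
  exact (fy _ (commute_conj_left_iff.1 hc)).imp (fun e => by rw [e]) fun e => by rw [e]

namespace CJ
variable [Finite G] (h : CJ J E H z a x y) {g j : G}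
include h

theorem PJ2 (c : Cf z a g) (hj : j ∈ J) (e : Commute j (g * z * g⁻¹) ∨ Commute j (g * a * g⁻¹) ∨ Commute j (g * (z * a) * g⁻¹)) :
    Commute j (g * z * g⁻¹) :=
  e.elim id fun e => e.elim (fun e => h.PJ h.iso c.1 hj e.symm) fun e => h.swap.PJ h.swap.iso c.1 hj e.symm

theorem viaχ (c : Cf z a g) (χ : G →* ℤˣ) (c1 : χ a = 1) (c2 : ∀ k ∈ H, (χ k = 1 ↔ Commute y k)) : Commute y (g * z * g⁻¹) := by
  have c0 := chi_z h.es χ
  have := h.two c.1 c.2.2.1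
  rw [conj_mul] at this
  refine h.PJ2 c h.hy ?_
  by_cases m : g * z * g⁻¹ ∈ H
  · exact Or.inl ((c2 _ m).1 (by rw [chi_cj, c0]))
  by_cases n : g * a * g⁻¹ ∈ H
  · exact Or.inr (Or.inl ((c2 _ n).1 (by rw [chi_cj, c1])))
  · exact Or.inr (Or.inr ((c2 _ (this.2 (iff_of_false m n))).1 (by rw [chi_cj, map_mul, c0, c1, mul_one])))

theorem lemL (c : Cf z a g) (m : g * z * g⁻¹ ∈ H) (n : g * a * g⁻¹ ∈ H) : Commute x (g * z * g⁻¹) := by
  have := h.cx m n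
  rw [conj_mul] at this
  exact h.PJ2 c h.hx (by tauto)

theorem lemA' (χ : G →* ℤˣ) {v : G} (e : x * v * x⁻¹ = v * z) (f : ∀ c, Commute z c → χ c = 1 → Commute v c)
    (h1 : Commute x (g * z * g⁻¹)) (h2 : Commute z (g * v * g⁻¹)) : g * z * g⁻¹ = z := by
  have h3 := f (g⁻¹ * x⁻¹ * g * x) ((commute_conj_left_iff.1 h1.symm.inv_right).mul_right (h.cJ h.hx)) (by
    rw [map_mul, map_mul, map_mul, map_inv, map_inv, inv_mul_cancel_comm, inv_mul_cancel])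
  have b : g * v * g⁻¹ * (g * z * g⁻¹) = g * v * g⁻¹ * ((g * v * g⁻¹)⁻¹ * x * (g * v * g⁻¹)⁻¹⁻¹ * x⁻¹) := by
    rw [conj_mul, ← e, show g * (x * v * x⁻¹) * g⁻¹ = x * g * (g⁻¹ * x⁻¹ * g * x * v * (g⁻¹ * x⁻¹ * g * x)⁻¹) * (x * g)⁻¹ by group, cz h3]
    group
  exact h.cP fun p hp => (h.cS' (mul_left_cancel b ▸ mul_mem (h.nS h2.inv_right h.xS) (inv_mem h.xS)) hp).symm

theorem chi2 (I : ∀ c, Commute z c → Commute a c) (A : ∀ g, Commute z g → V4 z a (x⁻¹ * (g * x * g⁻¹))) :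
    ∃ χ : G →* ℤˣ, χ y = -1 ∧ χ a = 1 ∧ ∀ k ∈ H, (χ k = 1 ↔ Commute x k) := by
  obtain ⟨χ, c1, -, c2⟩ := h.sw.chi (fun c => x⁻¹ * (c * x * c⁻¹) = 1 ∨ x⁻¹ * (c * x * c⁻¹) = a) (fun b c b1 c1 => by
    have f1 := A b b1
    have f2 := A c c1
    rw [show x⁻¹ * (b * c * x * (b * c)⁻¹) = x⁻¹ * (b * x * b⁻¹) * (b * (x⁻¹ * (c * x * c⁻¹)) * b⁻¹) by group,
      cz ((h.vJ f2).2.2 b b1 (I b b1))]
    have := h.ne; have := h.a1; have := h.az.symm; have := h.swap.a1; have := h.zz; have := h.aa; have := h.zza; have := h.zaa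
    have : a * z = z * a := h.za.symm
    have : a * (z * a) = z := by rw [h.za.symm.left_comm, h.aa, mul_one]
    have : z * a * z = a := by rw [mul_assoc, ← h.za.eq, h.zza]
    have : z * a * a = z := by rw [mul_assoc, h.aa, mul_one]
    rcases f1 with e | e | e | e <;> rcases f2 with f | f | f | f <;> rw [e, f] <;> simp [*]) fun k b => by
      rw [Commute.symm_iff, ← conj_eq_self_iff]
      rcases h.fx k b with e | e <;> rw [e] <;> simp [h.ne, h.az.symm]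
  exact ⟨χ, c1, c2⟩

theorem yy (B : g * x * g⁻¹ = x * y ∨ g * x * g⁻¹ = x * y * z) (hg : Commute z g) : y * y = z := by
  have zx := h.cJ h.hx
  have zy := h.cJ h.hy
  have a1 := h.anti h.hx h.hy h.anti'
  have xy : x * y * (x * y) = x * x := by
    have : g * x * g⁻¹ * (g * x * g⁻¹) = x * x := by
      rw [conj_mul]; rcases h.sq h.hx with e | e <;> rw [e]; exacts [by simp, cz hg]
    rcases B with e | e <;> rw [e] at this
    · exact this
    · rwa [(zx.mul_right zy).mul_mul_mul_comm, h.zz, mul_one] at this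
  have : x * x * (y * y * z) = x * x * 1 := by
    conv_rhs => rw [mul_one, ← xy]
    rw [mul_assoc x x, mul_assoc x y, ← mul_assoc y x, show y * x = x * y * z by rw [a1, mul_assoc, h.zz, mul_one], mul_assoc (x * y), zy.eq]
    group
  exact (eq_inv_of_mul_eq_one_left (mul_left_cancel this)).trans h.es.inv_z

theorem sig (B : g * x * g⁻¹ = x * y ∨ g * x * g⁻¹ = x * y * z) (hg : Commute z g) :
    ∃ σ, g * x * g⁻¹ = x * σ ∧ σ * σ = z ∧ (σ = y ∨ σ = y * z) := by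
  have := h.yy B hg
  rcases B with e | e
  exacts [⟨y, e, this, Or.inl rfl⟩, ⟨y * z, e.trans (mul_assoc _ _ _), by rw [(h.cJ h.hy).mul_mul_mul_comm, h.zz, mul_one, this], Or.inr rfl⟩]

theorem cfz (c : Cf z a g) : g * z * g⁻¹ = z := by
  obtain ⟨x, y, h, fy, T⟩ := h.rel
  obtain ⟨χ, c1, c2, c3, c4⟩ := h.chi (Commute y) (fun _ _ => chom h.ne h.zz fy) fun _ _ => Iff.rfl
  have c0 := chi_z h.es χ
  have a1 := h.conj_anti h.hx h.hy h.anti'
  have sy : ∀ {g u v : G}, Commute u (g⁻¹ * v * g⁻¹⁻¹) → Commute v (g * u * g⁻¹) := fun e =>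
    (commute_conj_left_iff.2 (by simpa using e)).symm
  have s1 : ∀ {g}, Cf z a g → Commute z (g * y * g⁻¹) := fun c => sy (h.viaχ c.inv χ c3 c4)
  have out : ∀ r, Commute z r → Commute a r → r ∉ H → ∀ c, Commute z c → Commute a c := fun r r1 r2 r3 c b => by
    by_cases m : c ∈ H
    · exact h.ha m
    simpa using (h.ha ((h.two b r1).2 (iff_of_false m r3))).mul_right r2.inv_right
  by_cases hp : ∀ c, Commute z c → χ c = 1 → Commute y c
  · refine h.lemA' χ a1 hp ?_ (s1 c)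
    have K : ∀ r, Commute z r → Commute a r → χ r = 1 → r * r = 1 → r ∉ H → Commute x (g * z * g⁻¹) := fun r r1 r2 r3 r4 r5 => by
      rcases T with T | T
      · obtain ⟨ψ, -, d1, d2⟩ := h.chi2 (out r r1 r2 r5) T
        exact h.sw.viaχ c ψ d1 d2
      obtain ⟨σ, e1, e2, e3⟩ := h.sig (T r r1 r5) r1
      have : Commute σ r := by rcases e3 with rfl | rfl; exacts [hp r r1 r3, (hp r r1 r3).mul_left r1]
      have f := conj_conj' r r x
      rw [e1, ← conj_mul, e1, cz this, r4, mul_assoc, e2] at f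
      exact absurd (by simpa using f) h.ne
    by_cases m : g * z * g⁻¹ ∈ H
    · by_cases n : g * a * g⁻¹ ∈ H
      exacts [h.lemL c m n, K _ c.2.2.1 c.2.2.2 (by rw [chi_cj, c3]) (conj_sq_iff.2 h.aa) n]
    · exact K _ c.1 c.2.1 (by rw [chi_cj, c0]) (conj_sq_iff.2 h.zz) m
  push Not at hp
  obtain ⟨w, w1, w2, w3⟩ := hp
  have w4 : w ∉ H := fun e => w3 ((c4 w e).1 w2)
  have io : ∀ c, Commute z c → Commute y c → (c ∈ H ↔ χ c = 1) := fun c b d => ⟨fun e => (c4 c e).2 d, fun e => by_contra fun n =>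
    w3 (by simpa using d.inv_right.mul_right ((c4 _ ((h.two b w1).2 (iff_of_false n w4))).1 (by rw [map_mul, e, w2, mul_one])))⟩
  by_contra ne
  have s2 : ∀ {g}, Cf z a g → g * z * g⁻¹ ≠ z → g * y * g⁻¹ ∈ H := fun c n => (io _ (s1 c)
    (cm2 h.zz (h.cJ h.hy) (commute_conj_conj_iff.2 (h.cJ h.hy)) n (fy _ (s1 c)) (fx_cj fy (h.viaχ c χ c3 c4).symm))).2 (by rw [chi_cj, c2])
  have s3 : ∀ {g}, Cf z a g → g * z * g⁻¹ ≠ z → Commute x (g * z * g⁻¹) := fun c n => h.lemL c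
    ((io _ c.1 (h.viaχ c χ c3 c4)).2 (by rw [chi_cj, c0]))
    ((io _ c.2.2.1 (sy (h.ha (s2 c.inv fun e => n (cj_inv_eq e))))).2 (by rw [chi_cj, c3]))
  have s4 : ∀ {g}, Cf z a g → g * z * g⁻¹ ≠ z → Commute x (g * y * g⁻¹) := fun c n =>
    cm2 h.zz (h.cJ h.hx) (commute_conj_conj_iff.2 (h.cJ h.hy)) n (h.fx _ (s2 c n)) (fx_cj fy (s3 c n).symm)
  have ne' : g⁻¹ * z * g⁻¹⁻¹ ≠ z := fun e => ne (cj_inv_eq e)
  by_cases I : Commute a w
  swap
  · refine ne (h.lemA' χ (v := y * a) (by rw [← conj_mul, a1, cz (h.ca h.hx), mul_assoc, h.za.eq, mul_assoc]) (fun k k1 k2 => ?_) (s3 c ne)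
      (by rw [← conj_mul]; exact (s1 c).mul_right c.2.2.1))
    have K : ∀ k ∈ H, χ k = 1 → Commute (y * a) k := fun k b d => ((c4 k b).1 d).mul_left (h.ha b)
    by_cases m : k ∈ H
    · exact K k m k2
    have : Commute (y * a) w := (conj_eq_self_iff.1 (by
      rw [← conj_mul, (fy w w1).resolve_left fun e => w3 (conj_eq_self_iff.1 e).symm,
        (h.nV w1).resolve_left fun e => I (conj_eq_self_iff.1 e).symm, mul_assoc, h.zza])).symm
    simpa using (K _ ((h.two k1 w1).2 (iff_of_false m w4)) (by rw [map_mul, k2, w2, mul_one])).mul_right this.inv_right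
  rcases T with T | T
  · obtain ⟨ψ, d0, -, d2⟩ := h.chi2 (out w w1 I w4) T
    have := (d2 _ (s2 c ne)).2 (s4 c ne)
    rw [chi_cj, d0] at this
    exact absurd this (by decide)
  have s5 : ∀ {g}, Cf z a g → g * z * g⁻¹ ≠ z → ∃ σ, g * x * g⁻¹ * x * (g * x * g⁻¹)⁻¹ = x * σ ∧ σ * σ = z := fun {g} c n => by
    have n' : g⁻¹ * z * g⁻¹⁻¹ ≠ z := fun e => n (cj_inv_eq e)
    have b := sy (s3 c.inv n')
    obtain ⟨σ, e1, e2, -⟩ := h.sig (T _ b fun m => by simpa [chi_cj, c1] using (io _ b (sy (s4 c.inv n'))).1 m) b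
    exact ⟨σ, e1, e2⟩
  obtain ⟨σ, e1, e2⟩ := s5 c ne
  obtain ⟨τ, f1, f2⟩ := s5 c.inv ne'
  have m : Commute (g * z * g⁻¹) (x⁻¹ * (g * x * g⁻¹)) := (s3 c ne).symm.inv_right.mul_right (commute_conj_conj_iff.2 (h.cJ h.hx))
  have : σ⁻¹ = x⁻¹ * (g * x * g⁻¹) * (g * τ * g⁻¹) * (x⁻¹ * (g * x * g⁻¹))⁻¹ := by
    rw [eq_inv_mul_iff_mul_eq.2 e1.symm, eq_inv_mul_iff_mul_eq.2 f1.symm]; group
  apply ne
  calc _ = σ⁻¹ * σ⁻¹ := by rw [this, conj_mul, conj_mul, f2, cz m]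
    _ = z := by rw [← mul_inv_rev, e2, h.es.inv_z]

theorem isoG (hg : Commute z (g * z * g⁻¹)) : g * z * g⁻¹ = z := by
  by_cases I : ∀ c, Commute z c → Commute a c
  · have : Commute z (g * a * g⁻¹) := (commute_conj_left_iff.2 (I _ (commute_conj_left_iff.1 hg.symm))).symm
    exact h.cfz ⟨hg, I _ hg, this, I _ this⟩
  push Not at I
  obtain ⟨w, w1, w2⟩ := I
  exact h.outer h.iso w1 ((h.nV w1).resolve_left fun e => w2 (conj_eq_self_iff.1 e).symm) (fun g a b c d => h.cfz ⟨a, b, c, d⟩) hg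

end CJ

end Cfsg.Lib.Par
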