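import Cfsg.Agent.Lib.Known2.RH

/-! The group `(2 × 2^{1+8}).U₄(2).2`: the case of a central four-group. -/

set_option autoImplicit false
set_option synthInstance.maxSize 2000
set_option linter.unusedSectionVars false

namespace Cfsg.Lib.Par

open Subgroup Cfsg.Lib.Known2 Cfsg.Lib.Core Cfsg.Lib.Fi Cfsg.Lib.Amalg

variable {G : Type*} [Group G]

def R2 (Q : Subgroup G) (P : G → Prop) : Prop :=
  ∀ a ∈ Q, ∀ b ∈ Q, ∀ c ∈ Q, P a ∨ P b ∨ P c ∨ P (a * b) ∨ P (a * c) ∨ P (b * c) ∨ P (a * b * c)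

theorem r2_of [Finite G] {Q : Subgroup G} {z g : G} (h : LS Q z) (hc : Nat.card Q = 512) (π : centralizer {z} →* Psp43.P0)
    (h1 : Function.Surjective π) (h2 : ∀ g, π g = 1 ↔ (g : G) ∈ Q) (g1 : Commute z (g * z * g⁻¹)) (g2 : g * z * g⁻¹ ≠ z) :
    R2 Q (Commute (g * z * g⁻¹)) := fun a a1 b b1 c c1 => by
  rcases dicho h hc π h1 h2 with ⟨x, y, C⟩ | ⟨ν, α, F, -⟩
  · exact absurd (C.iso g1) g2
  obtain ⟨p, p1, -, -, p2⟩ := (F.split (F.dich.resolve_right fun hB => g2 (F.ns hB g1)) ⟨_, ⟨g, rfl⟩, g1, g2⟩).1 _ ⟨g, rfl⟩ g1 g2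
  have k1 := p2 a a1
  have k2 := p2 b b1
  have k3 := p2 c c1
  have k4 := p2 _ (mul_mem a1 b1)
  have k5 := p2 _ (mul_mem a1 c1)
  have k6 := p2 _ (mul_mem b1 c1)
  have k7 := p2 _ (mul_mem (mul_mem a1 b1) c1)
  have l := om_lt p p1.1
  simp only [F.mul (mul_mem a1 b1) c1, F.mul a1 b1, F.mul a1 c1, F.mul b1 c1, hz, b8_right p1.1 (xlt (F.lt _) (F.lt _)) (F.lt _),
    b8_right l (xlt (F.lt _) (F.lt _)) (F.lt _), b8_right p1.1 (F.lt _) (F.lt _), b8_right l (F.lt _) (F.lt _)] at k1 k2 k3 k4 k5 k6 k7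
  by_contra n
  simp only [not_or] at n
  have := mt k1 n.1; have := mt k2 n.2.1; have := mt k3 n.2.2.1; have := mt k4 n.2.2.2.1; have := mt k5 n.2.2.2.2.1
  have := mt k6 n.2.2.2.2.2.1; have := mt k7 n.2.2.2.2.2.2
  clear k1 k2 k3 k4 k5 k6 k7 n
  generalize b8 p (ν a) = s1 at *; generalize b8 p (ν b) = s2 at *; generalize b8 p (ν c) = s3 at *
  generalize b8 (om p) (ν a) = s4 at *; generalize b8 (om p) (ν b) = s5 at *; generalize b8 (om p) (ν c) = s6 at *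
  cases s1 <;> cases s2 <;> cases s3 <;> cases s4 <;> cases s5 <;> cases s6 <;> simp_all

theorem ls_sub {Q N : Subgroup G} {z : G} (l : Q ≤ N) (L : ES Q z) (sc : ∀ g ∈ N, (∀ x ∈ Q, g * x = x * g) → g = 1 ∨ g = z)
    (nm : ∀ g, g * z = z * g → g ∈ N → ∀ x ∈ Q, g * x * g⁻¹ ∈ Q) : LS (Q.subgroupOf N) ⟨z, l L.mem⟩ := by
  have s := fun {a b : N} => Subtype.ext_iff (a1 := a) (a2 := b)
  exact ⟨⟨L.mem, mt s.1 L.ne, s.2 L.sq, fun x a => s.2 (L.cen x a),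
    fun x a b => (L.of_cen x a fun y c => s.1 (b ⟨y, l c⟩ c)).imp s.2 s.2, fun x a y b => (L.comm x a y b).imp s.2 s.2,
    fun x a => (L.sq_mem x a).imp s.2 s.2, let ⟨x, a, y, b, c⟩ := L.nonab; ⟨⟨x, l a⟩, a, ⟨y, l b⟩, b, mt s.1 c⟩⟩,
    fun x b => (sc x x.2 fun y c => s.1 (b ⟨y, l c⟩ c)).imp s.2 s.2, fun g a x b => nm g (s.1 a) g.2 x b⟩

theorem idx_ker (χ : G →* ℤˣ) {w : G} (c1 : χ w = -1) : χ.ker.index = 2 := by
  rw [index_ker, MonoidHom.range_eq_top.2 fun u => (Int.units_eq_one_or u).elim (fun e => ⟨1, by simp [e]⟩) fun e => ⟨w, e ▸ c1⟩]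
  simp

theorem u62 [Finite G] {Q : Subgroup G} {z g : G} (L : LS Q z) (hc : Nat.card Q = 512) (π : centralizer {z} →* MulAut Psp43.P0)
    (h1 : Function.Surjective π) (h2 : ∀ g, π g = 1 ↔ (g : G) ∈ Q) (g1 : Commute z (g * z * g⁻¹)) (g2 : g * z * g⁻¹ ≠ z)
    {K : Type*} [Field K] [Fintype K] (hK : Fintype.card K = 4) :
    (∃ χ : G →* ℤˣ, (∃ w, χ w = -1) ∧ (∀ q ∈ Q, χ q = 1) ∧ Nonempty (χ.ker ≃* PSU 6 K 2)) ∧ g * z * g⁻¹ ∉ Q ∧
      (∀ H, AH Q H z → g * z * g⁻¹ ∈ H) ∧ R2 Q (Commute (g * z * g⁻¹)) := by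
  obtain ⟨H, ⟨x, y, C⟩ | ⟨ν, α, C⟩⟩ := dicho2 L hc π h1 h2
  · exact absurd (C.iso g1) g2
  obtain ⟨w, w1, χ, c1, c2⟩ := C.chi
  have h := C.toAH
  have w2 : w ∉ H := fun e => by simp [c2 w e] at c1
  have l : Q ≤ χ.ker := fun q a => c2 q (h.le a)
  have m : ∀ k, Commute z k → χ k = 1 → k ∈ H := fun k a b => by_contra fun n => by
    simpa [b, c1] using c2 _ ((h.two a w1).2 (iff_of_false n w2))
  suffices K : Nonempty (χ.ker ≃* PSU 6 K 2) ∧ R2 Q (Commute (g * z * g⁻¹)) from ⟨⟨χ, ⟨w, c1⟩, l, K.1⟩, mt C.wc g2,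
    fun H' A => h.perf (· ∈ H') (fun a b c d => A.two (h.hz b) (h.hz d)) A.le (C.inner g1), K.2⟩
  obtain ⟨k, g0, e⟩ : ∃ k ∈ χ.ker, k * z * k⁻¹ = g * z * g⁻¹ := by
    rcases Int.units_eq_one_or (χ g) with e | e
    · exact ⟨g, e, rfl⟩
    · exact ⟨g * w, by simp [e, c1], by rw [← conj_conj', cz w1]⟩
  rw [← e] at g1 g2 ⊢
  obtain ⟨π, h1, h2⟩ := h.pi
  have s := fun {a b : χ.ker} => Subtype.ext_iff (a1 := a) (a2 := b)
  have L' := ls_sub l L.toES (fun g _ => L.selfc g) fun g a _ => L.norm g a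
  have cc : ∀ a : centralizer {(⟨z, l L.mem⟩ : χ.ker)}, ((a : χ.ker) : G) ∈ H := fun a =>
    m _ (congrArg Subtype.val (mem_centralizer_singleton_iff.1 a.2)).symm a.1.2
  have c' := (Nat.card_congr (subgroupOfEquivOfLe l).toEquiv).trans h.card
  have p1 : Function.Surjective (π.comp ((χ.ker.subtype.comp (centralizer _).subtype).codRestrict H cc)) :=
    fun γ => let ⟨k, a⟩ := h1 γ; ⟨⟨⟨k, c2 k k.2⟩, mem_centralizer_singleton_iff.2 (s.2 (h.hz k.2).symm)⟩, a⟩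
  refine ⟨psu6 L' c' _ p1 (fun g => h2 _) ⟨⟨k, g0⟩, s.2 g1, mt s.1 g2⟩ hK, fun a a1 b b1 c c1 => ?_⟩
  have := r2_of (g := (⟨k, g0⟩ : χ.ker)) L' c' _ p1 (fun g => h2 _) (Subtype.ext g1) (mt s.1 g2) ⟨a, l a1⟩ a1 ⟨b, l b1⟩ b1 ⟨c, l c1⟩ c1
  simp only [Commute, SemiconjBy, s] at this
  exact this

def PI (J : Subgroup G) (z : G) : Prop := ∃ π : centralizer {z} →* MulAut Psp43.P0, Function.Surjective π ∧ ∀ g, π g = 1 ↔ (g : G) ∈ J

namespace SJ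
variable [Finite G] {J E H : Subgroup G} {z a : G} (h : SJ J E H z a) (p : PI J z) (I : ∀ c, Commute z c → Commute a c)
include h p I

theorem uq {Γ : Type*} [Group Γ] [Finite Γ] {F : G → Γ} (q : QF a F) {c : G} (c1 : Commute a c) (c2 : Commute z (c * z * c⁻¹)) (c3 : c * z * c⁻¹ ≠ z)
    {K : Type*} [Field K] [Fintype K] (hK : Fintype.card K = 4) :
    (∃ χ : Γ →* ℤˣ, (∃ w, χ w = -1) ∧ (∀ j ∈ J, χ (F j) = 1) ∧ Nonempty (χ.ker ≃* PSU 6 K 2)) ∧ c * z * c⁻¹ ∉ J ∧ c * z * c⁻¹ ∈ H ∧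
      R2 J fun y => c * z * c⁻¹ * y * (c * z * c⁻¹)⁻¹ = y ∨ c * z * c⁻¹ * y * (c * z * c⁻¹)⁻¹ = y * a := by
  obtain ⟨π, h1, h2⟩ := p
  have hK' : ∀ g ∈ centralizer {z}, Commute a g := fun g b => I g (mem_centralizer_singleton_iff.1 b).symm
  obtain ⟨π', p1, p2⟩ := q.lift (hJ := fun _ => h.ca) h.aJ hK' π h1 h2 (Y := centralizer {F z}) (q.sur · |>.elim fun g b => by
    rw [← b.2, q.mim (mem_centralizer_singleton_iff.2 h.za.symm) b.1, mem_centralizer_singleton_iff, mem_centralizer_singleton_iff]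
    exact Commute.symm_iff.trans ((h.Fz q b.1).trans Commute.symm_iff))
  have m := I _ c2
  obtain ⟨⟨χ, d1, d2, d3⟩, e1, e2, e3⟩ := u62 (g := F c) (h.ls q) (h.cardF q) π' p1 p2 (q.cj0 c1 h.za.symm ▸ (h.Fz q m).2 c2)
    (fun e => c3 (cz ((h.Fz q c1).1 (conj_eq_self_iff.1 e).symm))) hK
  rw [← q.cj0 c1 h.za.symm] at e1 e2 e3
  refine ⟨⟨χ, d1, fun j b => d2 _ ⟨j, b, rfl⟩, d3⟩, mt (q.mim h.aJ m).2 e1, (q.mim (h.le h.aJ) m).1 (e2 _ (h.ah q)), fun x x1 y y1 u u1 => ?_⟩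
  have k : ∀ j ∈ J, Commute (F (c * z * c⁻¹)) (F j) → c * z * c⁻¹ * j * (c * z * c⁻¹)⁻¹ = j ∨ c * z * c⁻¹ * j * (c * z * c⁻¹)⁻¹ = j * a :=
    fun j b e => (q.eq (h.ca b) (h.ca (h.nm c2 b))).1 (by rw [q.cj0 m (h.ca b), cz e.symm])
  have := e3 _ ⟨x, x1, rfl⟩ _ ⟨y, y1, rfl⟩ _ ⟨u, u1, rfl⟩
  rw [← q.mul (h.ca x1) (h.ca y1), ← q.mul (h.ca x1) (h.ca u1), ← q.mul (h.ca y1) (h.ca u1), ← q.mul (h.ca (mul_mem x1 y1)) (h.ca u1)] at this
  exact this.imp (k _ x1) (Or.imp (k _ y1) (Or.imp (k _ u1) (Or.imp (k _ (mul_mem x1 y1)) (Or.imp (k _ (mul_mem x1 u1))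
    (Or.imp (k _ (mul_mem y1 u1)) (k _ (mul_mem (mul_mem x1 y1) u1)))))))

theorem uq' {c : G} (c1 : Commute a c) (c2 : Commute z (c * z * c⁻¹)) (c3 : c * z * c⁻¹ ≠ z) : c * z * c⁻¹ ∉ J ∧ c * z * c⁻¹ ∈ H ∧
      R2 J fun y => c * z * c⁻¹ * y * (c * z * c⁻¹)⁻¹ = y ∨ c * z * c⁻¹ * y * (c * z * c⁻¹)⁻¹ = y * a := by
  have := Fintype.ofFinite (GaloisField 2 2)
  obtain ⟨F, q, -⟩ := exQF h.aa
  exact (h.uq p I q c1 c2 c3 (K := GaloisField 2 2) (by rw [← Nat.card_eq_fintype_card, GaloisField.card 2 2 (by norm_num)]; rfl)).2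

end SJ

theorem V4.swap {z a r : G} (zz : z * z = 1) : V4 z (z * a) r ↔ V4 z a r := by
  rw [V4, V4, ← mul_assoc, zz, one_mul, or_comm (a := r = z * a)]

theorem i_chk : (∀ n < 256, hz 5 n = true → ∀ m ∈ [1, 2, 3], tv 5 (n ^^^ m) ≠ n ^^^ m) ∧
    ∀ r < 256, (∀ m < 256, hz 5 m = true → b8 r m = false) → ∃ n < 256, r = n ^^^ tv 5 n := by decide +kernel

namespace FJ
variable [Finite G] {J E H Y : Subgroup G} {z a : G} {ν : G → ℕ} {α : G → ℕ → ℕ} (h : FJ J E H Y z a ν α)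
include h

theorem swap : FJ J E H Y z (z * a) ν α :=
  ⟨h.toSJ.swap, h.mY.trans (and_congr_right fun b => ⟨b.mul_left, fun c => by simpa using b.inv_left.mul_left c⟩), h.lt, h.mul,
    fun b => (h.zero b).trans (V4.swap h.zz).symm, h.sur, h.sq', h.comm, h.conj, h.om, h.om2, h.refl, h.ker⟩

variable (p : PI J z) (I : ∀ c, Commute z c → Commute a c)
include p I

theorem pt5 (n : ¬ Iso z a) : ∃ c, Commute a c ∧ c * z * c⁻¹ ∈ Y ∧ c * z * c⁻¹ ≠ z ∧ EQ (α (c * z * c⁻¹)) (tv 5) ∧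
    ∀ y ∈ J, Par.hz 5 (ν y) = true → Commute (c * z * c⁻¹) y := by
  simp only [Iso, not_forall] at n
  obtain ⟨c, c1, c2, c3⟩ := n
  obtain ⟨d1, d2, -⟩ := h.uq' p I c1 c2 c3
  obtain ⟨l, l1, m, m1, e⟩ := h.nf d2 (conj_sq_iff.2 h.zz) d1
  have c4 := ((h.hz l1).mul_right c2).mul_right (h.hz l1).inv_right
  have c5 : l * (c * z * c⁻¹) * l⁻¹ ≠ z := fun e => c3 (mul_left_cancel (mul_right_cancel (e.trans (cz (h.hz l1)).symm)))
  rw [conj_conj'] at e c4 c5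
  have c1 := (h.ha l1).mul_right c1
  obtain ⟨-, d2, R⟩ := h.uq' p I c1 c4 c5
  refine ⟨_, c1, h.lY d2, c5, ?_⟩
  have t1 := h.lY d2
  generalize l * c * z * (l * c)⁻¹ = t at *
  have k : ∀ y ∈ J, (t * y * t⁻¹ = y ∨ t * y * t⁻¹ = y * a) → α t (ν y) = ν y := fun y b f => by
    rw [← h.conj t1 b]
    rcases f with f | f <;> rw [f]
    rw [h.mul b h.aJ, (h.zero h.aJ).2 (Or.inr (Or.inr (Or.inl rfl))), Nat.xor_zero]
  obtain ⟨y1, a1, b1⟩ := h.sur 1 (by norm_num)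
  obtain ⟨y2, a2, b2⟩ := h.sur 2 (by norm_num)
  have K : ∀ y ∈ J, (t * y * t⁻¹ = y ∨ t * y * t⁻¹ = y * a) ∨ ∃ u ∈ [1, 2, 3, ν y ^^^ 1, ν y ^^^ 2, ν y ^^^ 3], FF m u = u := fun y b => by
    have m1 := mul_mem b a1
    have f : ∀ u ∈ J, (t * u * t⁻¹ = u ∨ t * u * t⁻¹ = u * a) → FF m (ν u) = ν u := fun u c d => (e _ (h.lt u)).symm.trans (k u c d)
    rcases R y b y1 a1 y2 a2 with r | r | r | r | r | r | r
    exacts [Or.inl r, Or.inr ⟨_, by simp [b1], f _ a1 r⟩, Or.inr ⟨_, by simp [b2], f _ a2 r⟩, Or.inr ⟨_, by simp [h.mul b a1, b1], f _ m1 r⟩,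
      Or.inr ⟨_, by simp [h.mul b a2, b2], f _ (mul_mem b a2) r⟩, Or.inr ⟨_, by simp [h.mul a1 a2, b1, b2], f _ (mul_mem a1 a2) r⟩,
      Or.inr ⟨_, by simp [h.mul m1 a2, h.mul b a1, b1, b2, Nat.xor_assoc], f _ (mul_mem m1 a2) r⟩]
  simp only [List.mem_cons, List.not_mem_nil, or_false] at m1
  rcases m1 with rfl | rfl
  swap
  · obtain ⟨y, a3, b3⟩ := h.sur 16 (by norm_num)
    rcases K y a3 with r | r
    · have := (e _ (h.lt y)).symm.trans (k y a3 r)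
      rw [b3] at this
      exact absurd this (by decide +kernel)
    · rw [b3] at r; exact absurd r (by decide +kernel)
  have e' : EQ (α t) (tv 5) := fun n hn => (e n hn).trans (ff_val n hn).2.1
  refine ⟨e', fun y b f => conj_eq_self_iff.1 ((h.lam t1 e' b f).2.resolve_right fun r => ?_)⟩
  rcases K y b with (s | s) | ⟨u, u1, u2⟩
  · exact h.ne (mul_eq_left.1 (r.symm.trans s))
  · exact h.az (mul_left_cancel (s.symm.trans r))
  have l := h.lt y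
  simp only [List.mem_cons, List.not_mem_nil, or_false] at u1
  rcases u1 with rfl | rfl | rfl | rfl | rfl | rfl
  iterate 3 exact absurd u2 (by decide +kernel)
  all_goals exact i_chk.1 _ l f _ (by simp) ((ff_val _ (xlt l (by norm_num))).2.1.symm.trans u2)

theorem either : Iso z a ∨ Iso z (z * a) := by
  by_contra n
  push Not at n
  obtain ⟨c, c1, c2, c3, c4, c5⟩ := h.pt5 p I n.1
  obtain ⟨d, d1, d2, d3, d4, d5⟩ := h.swap.pt5 p (fun c b => b.mul_left (I c b)) n.2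
  have m := h.same d2 c2 fun n hn => (d4 n hn).trans (c4 n hn).symm
  obtain ⟨n, n1, n2⟩ := i_chk.2 _ (h.lt _) fun k k1 k2 => by
    obtain ⟨y, y1, rfl⟩ := h.sur k k1
    exact (h.comm m y1).1 ((d5 y y1 k2).mul_left (c5 y y1 k2).inv_left)
  obtain ⟨j, j1, rfl⟩ := h.sur n n1
  obtain ⟨e1, e2⟩ := h.νc c2 j1
  obtain ⟨v, v1, v2⟩ := h.eq_or e1 m (by rw [e2, n2, c4 _ n1])
  rw [mul_assoc _ _ v, ← (h.vc v1 (inv_mem c2)).eq, ← mul_assoc, mul_left_inj, conj_conj'] at v2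
  have c1 := (h.ca j1).mul_right c1
  generalize j * c = c at *
  have k : ∀ u w, d * u * d⁻¹ = c * w * c⁻¹ → c⁻¹ * d * u * (c⁻¹ * d)⁻¹ = w := fun u w e => by rw [← conj_conj', e]; group
  have e3 : d * a * d⁻¹ = d * z * d⁻¹ * (z * a) := by rw [← cz d1, conj_mul, h.zza]
  rcases v1 with rfl | rfl | rfl | rfl
  · have : Commute a d := by simpa using c1.mul_right (I _ (conj_eq_self_iff.1 (k z z (by simpa using v2))).symm)
    exact d3 (cz (by simpa using d1.mul_left this.inv_left))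
  · obtain ⟨w, w1, w2⟩ := h.fuse (k a (v * a) (by rw [e3, v2, mul_assoc, h.zza, ← conj_mul, cz c1]))
    exact h.ne (mul_eq_right.1 (w2.symm.trans (cz (I w w1))))
  · exact h.swap.nc (k z (z * v) (by rw [v2, ← conj_mul, cz c1]))
  · exact h.nc (cj_inv_eq (g := (c⁻¹ * d)⁻¹) (by rw [inv_inv]; exact k a z (by rw [e3, v2, mul_assoc, h.zaa, mul_one])))

end FJ

end Cfsg.Lib.Par
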