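import Cfsg.Agent.Lib.Known2.RI
import Cfsg.Agent.Lib.Fi.C23
import Cfsg.Agent.S0283
import Cfsg.Agent.S1713

/-! The group `(2 × 2^{1+8}).U₄(2).2`: the recognition theorem. -/

set_option autoImplicit false
set_option synthInstance.maxSize 2000
set_option linter.unusedSectionVars false

namespace Cfsg.Lib.Par

open Subgroup Cfsg.Lib.Known2 Cfsg.Lib.Core Cfsg.Lib.Fi Cfsg.Lib.Amalg

variable {G : Type*} [Group G]

def C2 (J : Subgroup G) (z : G) (P : Type*) [Group P] : Prop :=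
  ∃ z₁ : G, z₁ * z₁ = 1 ∧ z₁ ≠ 1 ∧ z₁ ≠ z ∧ z₁ ∈ J ∧ (∀ j ∈ J, Commute z₁ j) ∧ (zpowers z₁).Normal ∧ ∃ (G₀ : Subgroup G) (_ : z₁ ∈ G₀),
    G₀.index = 2 ∧ ∃ _ : ((zpowers z₁).subgroupOf G₀).Normal, Nonempty ((G₀ ⧸ (zpowers z₁).subgroupOf G₀) ≃* P)

theorem simp6 {K : Type*} [Field K] [Fintype K] (hK : Fintype.card K = 4) : IsSimpleGroup (PSU 6 K 2) :=
  Cfsg.Agent.S0283.result (q := 2) hK 6 (by norm_num) (by norm_num)

theorem card_half [Finite G] {K B : Subgroup G} {a : G} (l : K ≤ B) (aB : a ∈ B) (aK : a ∉ K) (d : ∀ j ∈ B, j ∈ K ∨ j * a ∈ K) :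
    Nat.card B = 2 * Nat.card K := by
  have : (K.subgroupOf B).index = 2 := index_eq_two_iff.2 ⟨⟨a, aB⟩, fun b =>
    (d b b.2).elim (fun e => Or.inr ⟨e, fun f => aK ((mul_mem_cancel_left e).1 f)⟩) fun e =>
      Or.inl ⟨e, fun f => aK ((mul_mem_cancel_left (show (b : G) ∈ K from f)).1 e)⟩⟩
  rw [← (K.subgroupOf B).index_mul_card, Nat.card_congr (subgroupOfEquivOfLe l).toEquiv, this]

theorem two_zp {x : G} (e : x * x = 1) : IsPGroup 2 (zpowers x) := isPGroup_iff_mem.2 fun g b => ⟨1, by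
  rcases (mem_zpowers_invol e).1 b with rfl | rfl <;> simp [sq, e]⟩

theorem SJ.cenA [Finite G] {J E H : Subgroup G} {z a : G} (h : SJ J E H z a) (p : PI J z) (I : ∀ c, Commute z c → Commute a c) (n : ¬ Iso z a)
    (iso : ∀ g, Commute a (g * a * g⁻¹) → g * a * g⁻¹ = a) {K : Type*} [Field K] [Fintype K] (hK : Fintype.card K = 4) :
    C2 J z (PSU 6 K 2) := by
  obtain ⟨F, q, -⟩ := exQF h.aa
  obtain ⟨c, c1, c2, c3, -⟩ := h.nonI q n
  obtain ⟨⟨χ, ⟨w, d1⟩, d2, ⟨e⟩⟩, -⟩ := h.uq p I q c1 c2 c3 hK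
  have := simp6 hK
  have := e.isSimpleGroup
  have od := odd_card_oddCore G
  have on : (oddCore G).Normal := inferInstance
  have iv := inverts_of_fpf (K := oddCore G) h.zz (by simp [normalizer_eq_top]) fun k b f =>
    eq_one_of_odd_of_two od b (h.p4 (h.selfc k fun j d => mul_inv_eq_iff_eq_mul.1 (mul_inv_eq_one.1 (eq_one_of_odd_of_two od
      (by simpa [mul_assoc] using mul_mem b (on.conj_mem _ (inv_mem b) j)) (h.p4 (mul_mem (h.nm f d) (inv_mem d)))))))
  have hN : ∀ g ∈ centralizer (oddCore G : Set G) ⊓ centralizer {a}, Commute a g := fun g b => (mem_centralizer_singleton_iff.1 b.2).symm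
  have m : ∀ {g}, Commute a g → g ∈ centralizer {a} := fun b => mem_centralizer_singleton_iff.2 b.symm
  have t1 := I _ c2
  have zN : z ∈ centralizer (oddCore G : Set G) := by
    rcases (⟨fun r ⟨g, b, f⟩ γ => by
        obtain ⟨k, k1, k2⟩ := q.sur γ
        exact ⟨_, ⟨Normal.conj_mem inferInstance g b.1 k, m ((k1.mul_right (hN g b)).mul_right k1.inv_right)⟩, by
          rw [q.cj0 k1 (hN g b), k2, f]; rfl⟩⟩ : ((q.im hN).subgroupOf χ.ker).Normal).eq_bot_or_eq_top with f | f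
    · have := f.le (show (⟨F (z * (c * z * c⁻¹)), by
          rw [MonoidHom.mem_ker, q.mul h.za.symm t1, q.cj0 c1 h.za.symm, map_mul, chi_cj, d2 z h.zJ, mul_one]⟩ : χ.ker) ∈ _ from
        ⟨_, ⟨fun k b => (conj_eq_self_iff.1 (by
          rw [← conj_conj', show c * z * c⁻¹ * k * (c * z * c⁻¹)⁻¹ = c * (z * (c⁻¹ * k * c⁻¹⁻¹) * z⁻¹) * c⁻¹ by group,
            iv _ (on.conj_mem k b _), show c * (c⁻¹ * k * c⁻¹⁻¹)⁻¹ * c⁻¹ = k⁻¹ by group, iv _ (inv_mem b), inv_inv])).symm,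
          m (h.za.symm.mul_right t1)⟩, rfl⟩)
      rcases (q.ker (h.za.symm.mul_right t1)).1 (congrArg Subtype.val this) with e | e
      · exact absurd ((eq_inv_of_mul_eq_one_right e).trans h.es.inv_z) c3
      · exact absurd (by rw [← e, ← mul_assoc, h.zz, one_mul]) (h.swap.nc (g := c))
    have k : ∀ j ∈ J, ∃ g ∈ centralizer (oddCore G : Set G), ∀ u, Commute a u → g * u * g⁻¹ = j * u * j⁻¹ := fun j b => by
      obtain ⟨g, g1, g2⟩ := f.ge (mem_top (⟨F j, d2 j b⟩ : χ.ker))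
      refine ⟨g, g1.1, fun u d => ?_⟩
      rcases (q.eq (hN g g1) (h.ca b)).1 g2 with rfl | rfl
      exacts [rfl, by rw [← conj_conj', cz d.symm]]
    obtain ⟨x, x1, y, y1, n⟩ := h.es.nonab
    obtain ⟨u, u1, u2⟩ := k x (h.EJ x1)
    have := mul_mem u1 (Normal.conj_mem inferInstance u⁻¹ (inv_mem u1) y)
    rwa [← mul_assoc, ← mul_assoc, u2 y (h.ca (h.EJ y1)), h.es.conj_anti x1 y1 n, cz (h.cJ (h.EJ y1))] at this
  have o : oddCore G = ⊥ := (eq_bot_iff_forall _).2 fun k b => eq_one_of_odd_of_two od b (n := 1) (by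
    rw [pow_one, _root_.sq, ← eq_inv_iff_mul_eq_one, ← iv k b, cz (zN k b)])
  have ca : ∀ g, Commute a g := fun g => (mem_centralizer_singleton_iff.1 (by
    have := sup_of_iso (orderOf_eq_two_of h.aa h.a1) iso
    rw [o, sup_bot_eq] at this
    exact this.ge (mem_top g))).symm
  let ψ : G →* _ := MonoidHom.mk' F fun g k => q.mul (ca g) (ca k)
  obtain ⟨w, -, rfl⟩ := q.sur w
  have nn : (zpowers a).Normal := ⟨fun n b g => by
    rcases (mem_zpowers_invol h.aa).1 b with rfl | rfl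
    exacts [by simp, by rw [cz (ca g)]; exact mem_zpowers _]⟩
  let φ : (χ.comp ψ).ker →* χ.ker := (ψ.comp (χ.comp ψ).ker.subtype).codRestrict _ fun g => g.2
  have s : Function.Surjective φ := fun γ => let ⟨g, _, b⟩ := q.sur γ; ⟨⟨g, show χ (F g) = 1 from b ▸ γ.2⟩, Subtype.ext b⟩
  refine ⟨a, h.aa, h.a1, h.az, h.aJ, fun _ => h.ca, nn, (χ.comp ψ).ker, d2 a h.aJ, idx_ker _ d1, inferInstance,
    ⟨((QuotientGroup.quotientMulEquivOfEq (Subgroup.ext fun g => ?_)).trans (QuotientGroup.quotientKerEquivOfSurjective φ s)).trans e⟩⟩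
  rw [mem_subgroupOf, mem_zpowers_invol h.aa, ← q.ker (ca _), MonoidHom.mem_ker, Subtype.ext_iff]; rfl

namespace FJ
variable [Finite G] {J E H Y : Subgroup G} {z a : G} {ν : G → ℕ} {α : G → ℕ → ℕ} (h : FJ J E H Y z a ν α) (p : PI J z)
include h p

theorem caseI (I : ∀ c, Commute z c → Commute a c) (U : Iso z a) {K : Type*} [Field K] [Fintype K] (hK : Fintype.card K = 4) :
    (∀ g, Commute z (g * z * g⁻¹) → g * z * g⁻¹ = z) ∨ C2 J z (PSU 6 K 2) := by
  have I' : ∀ c, Commute z c → Commute (z * a) c := fun c b => b.mul_left (I c b)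
  have cf : ∀ g, Commute z (g * z * g⁻¹) → g * z * g⁻¹ = z ∨ Commute (z * a) g := fun g hg => by
    have : Commute z (g * a * g⁻¹) := (commute_conj_left_iff.2 (I _ (commute_conj_left_iff.1 hg.symm))).symm
    exact (h.lemC U (fun c b d => by_contra fun n => (h.swap.uq' p I' b (h.cJ d) n).1 d) ⟨hg, I _ hg, this, I _ this⟩).imp id
      fun e => (conj_eq_self_iff.1 e).symm
  refine or_iff_not_imp_left.2 fun n => h.swap.cenA p I' (fun U' => n fun g b => (cf g b).elim id fun c => U' g c b) (fun g hg => ?_) hK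
  have l : J ≤ centralizer {z * a} := fun j b => mem_centralizer_singleton_iff.2 (h.swap.ca b).symm
  obtain ⟨c, c1, c2⟩ := h.syl l (two_zp ((conj_sq_iff (g := g)).2 h.zaa)) (zpowers_le.2 (mem_centralizer_singleton_iff.2 hg.symm))
  have c2 := c2 _ (mem_zpowers _)
  rw [conj_conj'] at c2
  obtain ⟨d, d1, d2⟩ := h.syl l (two_zp ((conj_sq_iff (g := (c * g)⁻¹)).2 h.zz)) (zpowers_le.2 (mem_centralizer_singleton_iff.2 (by
    simpa using (commute_conj_left_iff.1 c2.symm).symm.eq)))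
  have d2 := d2 _ (mem_zpowers _)
  rw [conj_conj'] at d2
  have e := (cf _ d2).elim (fun e => I' _ (conj_eq_self_iff.1 e).symm) id
  have c1 : Commute (z * a) c := (mem_centralizer_singleton_iff.1 c1).symm
  have d1 : Commute (z * a) d := (mem_centralizer_singleton_iff.1 d1).symm
  exact cz (by simpa using c1.inv_right.mul_right (d1.inv_right.mul_right e).inv_right)

omit p in
theorem caseII0 {w : G} (w1 : Commute z w) (w2 : w * a * w⁻¹ = z * a) (U : Iso z a) {g : G} (hg : Commute z (g * z * g⁻¹)) :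
    g * z * g⁻¹ = z := by
  have U' : Iso z (z * a) := fun c b d => by
    have e : w⁻¹ * c * w * z * (w⁻¹ * c * w)⁻¹ = w⁻¹ * (c * z * c⁻¹) * w⁻¹⁻¹ := by rw [← conj_conj', ← conj_conj', cz w1]
    have := U (w⁻¹ * c * w) (commute_conj_left_iff.1 (w2 ▸ b)) (e ▸ (w1.inv_right.mul_right d).mul_right w1.inv_right.inv_right)
    rw [e] at this
    exact (cj_inv_eq this).symm.trans (cz w1)
  exact h.outer U w1 w2 (fun g a b c d => (h.lemC U (fun c b d => U' c b (h.cJ d)) ⟨a, b, c, d⟩).elim id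
    fun e => U' g (conj_eq_self_iff.1 e).symm a) hg

omit p in
theorem perfH (μ : G → Prop) (p1 : ∀ a ∈ H, ∀ b ∈ H, μ (a * b) ↔ (μ a ↔ μ b)) (pa : μ a) {k : G} (hk : k ∈ H) : μ k := by
  refine h.perf μ p1 (fun y b => ?_) hk
  obtain ⟨g, g1, g2⟩ := h.g14
  have g0 := h.lY g1
  have m1 : μ 1 := by simpa using p1 1 (one_mem _) 1 (one_mem _)
  have k : ∀ g ∈ H, ∀ y ∈ H, μ (g * y * g⁻¹) ↔ μ y := fun g c y d => by
    have := p1 g c _ (inv_mem c)
    rw [mul_inv_cancel] at this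
    rw [p1 _ (mul_mem c d) _ (inv_mem c), p1 g c y d]; tauto
  have mz : μ z := by
    obtain ⟨x, x1, y, y1, n⟩ := h.es.nonab
    have := k x (h.le (h.EJ x1)) y (h.le (h.EJ y1))
    rw [h.es.conj_anti x1 y1 n, p1 y (h.le (h.EJ y1)) z (h.le h.zJ)] at this
    tauto
  have y1 := h.nm' g0 b
  have y2 := h.nm' g0 y1
  have v := (h.zero (mul_mem (mul_mem b y1) y2)).1 (by
    rw [h.mul (mul_mem b y1) y2, h.mul b y1, h.conj g0 y1, h.conj g0 b, g2 _ (h.al g0 (h.lt y)), g2 _ (h.lt y), fpf_chk _ (h.lt y)])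
  have : μ (y * (g * y * g⁻¹) * (g * (g * y * g⁻¹) * g⁻¹)) := by
    rcases v with e | e | e | e <;> rw [e]
    exacts [m1, mz, pa, (p1 z (h.le h.zJ) a (h.le h.aJ)).2 (iff_of_true mz pa)]
  rw [p1 _ (h.le (mul_mem b y1)) _ (h.le y2), p1 _ (h.le b) _ (h.le y1), k g g1 _ (h.le y1), k g g1 y (h.le b)] at this
  tauto

theorem split {w : G} (w1 : Commute z w) (w2 : w ∉ H) (w3 : w * a * w⁻¹ = z * a) (w4 : w * w = 1 ∨ w * w = z) {L : Subgroup G} (aL : a ∉ L)
    (hL : ∀ g, Commute a g → g ∈ L ∨ g * a ∈ L) : ∃ χ : G →* ℤˣ, χ a = -1 := by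
  classical
  have f : ∀ {g}, Commute a g → (g * a ∈ L ↔ g ∉ L) := fun b => ⟨fun c d => aL ((mul_mem_cancel_left d).1 c), (hL _ b).resolve_left⟩
  have two : ∀ {g k}, Commute a g → Commute a k → (g * k ∈ L ↔ (g ∈ L ↔ k ∈ L)) := fun {g k} b c => by
    by_cases m : g ∈ L
    · simp [mul_mem_cancel_left m, m]
    by_cases n : k ∈ L
    · simp [mul_mem_cancel_right n, m, n]
    have := mul_mem ((f b).2 m) ((f c).2 n)
    rw [c.mul_mul_mul_comm, h.aa, mul_one] at this
    simp [m, n, this]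
  have zL : z ∈ L := by
    obtain ⟨x, x1, y, y1, n⟩ := h.es.nonab
    have := two (h.ca (mul_mem (h.EJ y1) (h.EJ x1))) h.za.symm
    rw [← h.es.anti x1 y1 n, two (h.ca (h.EJ x1)) (h.ca (h.EJ y1)), two (h.ca (h.EJ y1)) (h.ca (h.EJ x1))] at this
    tauto
  have inv : ∀ k ∈ H, w⁻¹ * k * w⁻¹⁻¹ ∈ L ↔ k ∈ L := fun k => h.perfH (fun k => w⁻¹ * k * w⁻¹⁻¹ ∈ L ↔ k ∈ L) (fun b b1 c c1 => by
      rw [← conj_mul, two (h.ha (h.nrm w1.inv_right b1)) (h.ha (h.nrm w1.inv_right c1)), two (h.ha b1) (h.ha c1)]; tauto) (by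
      rw [(h.nV w1.inv_right).resolve_left fun e => h.ne (mul_eq_right.1 (w3.symm.trans (cj_inv_eq e))), mul_mem_cancel_left zL])
  have wL : w * w ∈ L := by rcases w4 with e | e <;> rw [e]; exacts [one_mem _, zL]
  have mJ : ∀ u ∈ J ⊓ L, u ∈ J := fun _ b => b.1
  obtain ⟨x, x1, y, y1, n⟩ : ∃ x ∈ J ⊓ L, ∃ y ∈ J ⊓ L, ¬ Commute x y := by
    by_contra n
    push Not at n
    have := h.ab_le inf_le_left n
    have := card_le_two (B := J) (K := L) fun x b y c d e => (two (h.ca (inv_mem b)) (h.ca c)).2 (iff_of_false (mt inv_mem_iff.1 d) e)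
    have := card_le_of_le h.EJ
    have := h.card
    omega
  obtain ⟨χ, c⟩ := tra2 h.zz (fun c => if c ∈ H then c ∈ L else c * w ∈ L) (fun b c b1 c1 => by
      have t := h.two b1 c1
      have o : ∀ c, Commute z c → c ∉ H → c * w ∈ H := fun c d e => (h.two d w1).2 (iff_of_false e w2)
      by_cases m : b ∈ H <;> by_cases n : c ∈ H <;> simp only [t, m, n, iff_self, if_true, if_false, iff_false, false_iff, not_true]
      · exact two (h.ha m) (h.ha n)
      · rw [mul_assoc]; exact two (h.ha m) (h.ha (o c c1 n))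
      · rw [show b * c * w = b * w * (w⁻¹ * c * w⁻¹⁻¹) by group, two (h.ha (o b b1 m)) (h.ha (h.nrm w1.inv_right n)), inv c n]
      · rw [← mul_mem_cancel_right wL, show b * c * (w * w) = b * w * (w⁻¹ * (c * w) * w⁻¹⁻¹) by group,
          two (h.ha (o b b1 m)) (h.ha (h.nrm w1.inv_right (o c c1 n))), inv _ (o c c1 n)])
    (U := J ⊓ L) (h.pJ.to_le inf_le_left) (fun u b => ⟨h.cJ b.1, by rw [if_pos (h.le b.1)]; exact b.2⟩) x1 y1 (h.anti x1.1 y1.1 n) fun g ht => by
      have zt := ht z ⟨h.zJ, zL⟩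
      have k : ∀ r, Commute a r → (∀ u ∈ J ⊓ L, Commute r u) → ∀ j ∈ J, Commute r j := fun r b c j d => by
        rcases hL j (h.ca d) with e | e
        · exact c j ⟨d, e⟩
        · simpa using (c _ ⟨mul_mem d h.aJ, e⟩).mul_right b.symm.inv_right
      have tJ := h.cen _ zt fun l l1 => h.selfc _ (k _ (h.ha (mul_mem (h.nrm zt l1) (inv_mem l1))) fun u b => by
        rw [mul_assoc _ l, mul_assoc _ (l * _)]
        refine (ht u b).symm.mul_left (commute_conj_left_iff.2 (ht _ ⟨by simpa using h.nm (h.hz l1).inv_right b.1, ?_⟩).symm.inv_left)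
        change _ ∈ L
        rw [two ((h.ha l1).inv_right.mul_right (h.ca b.1)) (h.ha l1), two (h.ha l1).inv_right (h.ca b.1), inv_mem_iff]
        have : u ∈ L := b.2
        tauto)
      exact h.DV (h.cenV (k _ (h.ca tJ) fun u b => (ht u b).symm))
  exact ⟨χ, c a h.za (by rw [if_pos (h.le h.aJ)]; exact aL) (Or.inl h.aa) fun u b => (h.ca b.1).symm⟩

theorem caseII {w : G} (w1 : Commute z w) (w2 : w ∉ H) (w3 : w * a * w⁻¹ = z * a) (w4 : V4 z a (w * w)) (n : ¬ Iso z a) : Spor.IsoFi22 G := by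
  have := Fintype.ofFinite (GaloisField 2 2)
  have hK : Fintype.card (GaloisField 2 2) = 4 := by rw [← Nat.card_eq_fintype_card, GaloisField.card 2 2 (by norm_num)]; rfl
  have na : ¬ Commute a w := fun e => h.ne (mul_eq_right.1 (w3.symm.trans (cz e)))
  have II : ∀ c, Commute z c → Commute a c → c ∈ H := fun c b d => by_contra fun m =>
    na (by simpa using d.inv_right.mul_right (h.ha ((h.two b w1).2 (iff_of_false m w2))))
  obtain ⟨F, q, hF⟩ := exQF h.aa
  obtain ⟨c, c1, c2, c3, c4, c5⟩ := h.nonI q n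
  obtain ⟨π, h1, h2⟩ := h.pi
  obtain ⟨π', p1, p2⟩ := q.lift (hJ := fun _ => h.ca) h.aJ (fun _ => h.ha) π h1 h2 (Y := centralizer {F z}) (q.sur · |>.elim fun g b => by
    rw [← b.2, q.mim (h.le h.aJ) b.1, mem_centralizer_singleton_iff]
    exact Commute.symm_iff.trans ((h.Fz q b.1).trans ⟨fun e => II g e b.1, h.hz⟩))
  obtain ⟨e⟩ := psu6 (h.ls q) (h.cardF q) π' p1 p2 ⟨_, c4, c5⟩ hK
  have := simp6 hK
  have := e.isSimpleGroup
  have m : ∀ {g}, Commute a g → g ∈ centralizer {a} := fun b => mem_centralizer_singleton_iff.2 b.symm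
  by_cases pf : commutator (centralizer {a}) = ⊤
  · refine Cfsg.Agent.S1713.result a (orderOf_eq_two_of h.aa h.a1) ⟨⟨pf⟩, (QuotientGroup.quotientMulEquivOfEq
      (N := (zpowers a).subgroupOf (centralizer {a})) (Subgroup.ext fun g => ?_)).isSimpleGroup⟩ _ hK e
      ⟨w, w3 ▸ m (h.ca (mul_mem h.zJ h.aJ)), fun e => na (conj_eq_self_iff.1 e).symm⟩
    rw [mem_subgroupOf, mem_zpowers_invol h.aa, mem_center_iff]
    refine ⟨fun b => ?_, fun b k => Subtype.ext ?_⟩
    · have k : ∀ u, Commute a u → Commute (g : G) u := fun u d => (congrArg Subtype.val (b ⟨u, m d⟩)).symm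
      rcases h.cenV fun j d => k j (h.ca d) with e | e | e | e
      exacts [Or.inl e, absurd (cz (e ▸ k c c1)) c3, Or.inr e, absurd (cz (mul_inv_cancel_right z a ▸ (e ▸ k c c1).mul_left c1.inv_left)) c3]
    · rcases b with b | b <;> simp only [coe_mul, b]
      exacts [by simp, mem_centralizer_singleton_iff.1 k.2]
  exfalso
  have top : (commutator (centralizer {a})).map (QuotientGroup.mk' ((zpowers a).subgroupOf (centralizer {a}))) = ⊤ :=
    (Normal.map inferInstance _ (QuotientGroup.mk'_surjective _)).eq_bot_or_eq_top.resolve_left fun f => c5 (by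
      have := f.le (mem_map_of_mem _ (commutator_mem_commutator (mem_top ⟨c, m c1⟩) (mem_top ⟨z, m h.za.symm⟩)))
      rw [mem_bot, map_commutatorElement, commutatorElement_def, mul_inv_eq_one] at this
      rw [hF ⟨c, m c1⟩, hF ⟨z, m h.za.symm⟩]
      exact this)
  have hL : ∀ g, Commute a g → g ∈ (commutator (centralizer {a})).map (centralizer {a}).subtype ∨
      g * a ∈ (commutator (centralizer {a})).map (centralizer {a}).subtype := fun g b => by
    obtain ⟨d, d1, d2⟩ := top.ge (mem_top (F g))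
    rcases (q.eq (mem_centralizer_singleton_iff.1 d.2).symm b).1 ((hF d).trans d2) with rfl | rfl
    exacts [Or.inl ⟨d, d1, rfl⟩, Or.inr ⟨d, d1, by simp [mul_assoc, h.aa]⟩]
  obtain ⟨χ, c0⟩ := h.split p w1 w2 w3 (by
    have k := (Commute.refl w).mul_left (Commute.refl w)
    rcases w4 with e | e | e | e
    exacts [Or.inl e, Or.inr e, absurd (e ▸ k) na, absurd (inv_mul_cancel_left z a ▸ w1.inv_left.mul_left (e ▸ k)) na]) (fun aL => pf (eq_top_iff.2 fun g _ =>
      (mem_map_iff_mem (centralizer {a}).subtype_injective).1 ((hL g (mem_centralizer_singleton_iff.1 g.2).symm).elim id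
        (mul_mem_cancel_right aL).1))) hL
  have cz0 := chi_z h.es χ
  have d : ∀ g, χ g = 1 ∨ χ (g * a) = 1 := fun g => (Int.units_eq_one_or (χ g)).imp id fun e => by simp [e, c0]
  have k : ∀ r, Commute a r → (∀ u ∈ J ⊓ χ.ker, r * u = u * r) → ∀ j ∈ J, Commute r j := fun r b c j f => by
    rcases d j with e | e
    · exact c j ⟨f, e⟩
    · simpa using Commute.mul_right (c _ ⟨mul_mem f h.aJ, e⟩) b.symm.inv_right
  have vv : ∀ r, χ r = 1 → V4 z a r → r = 1 ∨ r = z := fun r b c => (or_assoc.2 c).resolve_right fun e => by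
    rcases e with rfl | rfl <;> simp [c0, cz0] at b
  have es : ES (J ⊓ χ.ker) z := ⟨⟨h.zJ, cz0⟩, h.ne, h.zz, fun x b => (h.cJ b.1).symm, fun x b c => vv x b.2 (h.cenV (k x (h.ca b.1) c)),
    fun x b y c => or_iff_not_imp_left.2 (h.anti b.1 c.1), fun x b => h.sq b.1, by_contra fun n => by
      push Not at n
      obtain ⟨x, x1, y, y1, e⟩ := h.es.nonab
      exact e (k x (h.ca (h.EJ x1)) (fun u b => (k u (h.ca b.1) (n u b) x (h.EJ x1)).symm) y (h.EJ y1))⟩
  have L := ls_sub inf_le_right es (fun g b c => by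
    have zg : Commute z g := (c z es.mem).symm
    have gJ := h.cen g zg fun l l1 => h.selfc _ (k _ (h.ha (mul_mem (h.nrm zg l1) (inv_mem l1))) fun u b => by
      rw [mul_assoc _ l, mul_assoc _ (l * _)]
      exact Commute.mul_left (c u b) (commute_conj_left_iff.2 (Commute.inv_left (c _ ⟨by simpa using h.nm (h.hz l1).inv_right b.1, by
        simpa using (chi_cj χ l⁻¹ u).trans b.2⟩))))
    exact vv g b (h.cenV (k g (h.ca gJ) c))) fun g b _ x c => ⟨h.nm (Eq.symm b) c.1, (chi_cj χ g x).trans c.2⟩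
  have cd : Nat.card ↥(J ⊓ χ.ker) = 512 := by
    have := card_half inf_le_left h.aJ (K := J ⊓ χ.ker) (fun e => by simpa [c0] using e.2) fun j b =>
      (d j).imp (fun e => ⟨b, e⟩) fun e => ⟨mul_mem b h.aJ, e⟩
    have := card_half h.EJ h.aJ h.aE fun j => h.dec
    have := h.card
    omega
  obtain ⟨π, h1, h2⟩ := p
  have s := fun {a b : χ.ker} => Subtype.ext_iff (a1 := a) (a2 := b)
  have cc : ∀ g : centralizer {(⟨z, cz0⟩ : χ.ker)}, ((g : χ.ker) : G) ∈ centralizer {z} := fun g =>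
    mem_centralizer_singleton_iff.2 (s.1 (mem_centralizer_singleton_iff.1 g.2))
  obtain ⟨c, c0', c2, c3⟩ : ∃ c, χ c = 1 ∧ Commute z (c * z * c⁻¹) ∧ c * z * c⁻¹ ≠ z := (d c).elim (fun e => ⟨c, e, c2, c3⟩) fun e =>
    ⟨_, e, by rwa [← conj_conj', cz h.za], by rwa [← conj_conj', cz h.za]⟩
  obtain ⟨⟨ψ, ⟨u, u1⟩, -, ⟨f⟩⟩, -⟩ := u62 (g := (⟨c, c0'⟩ : χ.ker)) L ((Nat.card_congr (subgroupOfEquivOfLe inf_le_right).toEquiv).trans cd)
    (π.comp ((χ.ker.subtype.comp (centralizer _).subtype).codRestrict _ cc)) (fun γ => by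
      obtain ⟨g, rfl⟩ := h1 γ
      have a1 : a ∈ centralizer {z} := mem_centralizer_singleton_iff.2 h.za.symm
      rcases d g with e | e
      · exact ⟨⟨⟨g, e⟩, mem_centralizer_singleton_iff.2 (s.2 (mem_centralizer_singleton_iff.1 g.2))⟩, rfl⟩
      · exact ⟨⟨⟨_, e⟩, mem_centralizer_singleton_iff.2 (s.2 (mem_centralizer_singleton_iff.1 (mul_mem g.2 a1)))⟩,
          (map_mul π g ⟨a, a1⟩).trans (by rw [(h2 ⟨a, a1⟩).2 h.aJ, mul_one])⟩)
    (fun g => (h2 _).trans (and_iff_left g.1.2).symm) (s.2 c2) (mt s.1 c3) hK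
  have n1 := χ.ker.index_mul_card
  have n2 := ψ.ker.index_mul_card
  have n3 := card_eq_card_quotient_mul_card_subgroup ((zpowers a).subgroupOf (centralizer {a}))
  have n4 := (centralizer {a}).index_mul_card
  rw [idx_ker χ c0] at n1
  rw [idx_ker ψ u1, Nat.card_congr f.toEquiv, card_psu6 hK] at n2
  rw [Nat.card_congr e.toEquiv, card_psu6 hK, Nat.card_congr (subgroupOfEquivOfLe (zpowers_le.2 (m (Commute.refl a)))).toEquiv,
    card_zpowers_invol h.aa h.a1] at n3
  have nn := normal_of_index_eq_two (H := centralizer {a}) (by rw [n3] at n4; omega)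
  refine c5 (cz ((h.Fz q c1).2 ?_))
  have := commute_conj_left_iff.2 (show Commute a _ from (mem_centralizer_singleton_iff.1 (nn.conj_mem' _ (m c1) w)).symm)
  exact mul_inv_cancel_right z a ▸ (w3 ▸ this).mul_left c1.inv_left

theorem main {w : G} (w1 : Commute z w) (w2 : w ∉ H) (w4 : V4 z a (w * w)) {K : Type*} [Field K] [Fintype K] (hK : Fintype.card K = 4) :
    (∀ g, Commute z (g * z * g⁻¹) → g * z * g⁻¹ = z) ∨ C2 J z (PSU 6 K 2) ∨ Spor.IsoFi22 G := by
  by_cases I : Commute a w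
  · have I : ∀ c, Commute z c → Commute a c := fun c b => by
      by_cases m : c ∈ H
      · exact h.ha m
      simpa using (h.ha ((h.two b w1).2 (iff_of_false m w2))).mul_right I.inv_right
    exact or_assoc.1 (Or.inl ((h.either p I).elim (fun U => h.caseI p I U hK) fun U =>
      h.swap.caseI p (fun c b => b.mul_left (I c b)) U hK))
  have w3 := (h.nV w1).resolve_left fun e => I (conj_eq_self_iff.1 e).symm
  by_cases U : Iso z a
  exacts [Or.inl fun g => h.caseII0 w1 w3 U, Or.inr (Or.inr (h.caseII p w1 w2 w3 w4 U))]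

end FJ

end Cfsg.Lib.Par
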