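import Cfsg.Agent.Lib.Known2.Maj

/-! Dihedral sequences of Majorana axes: the two products and the linear relation behind Sakuma's theorem. -/

set_option autoImplicit false
set_option linter.unusedSimpArgs false

namespace Cfsg.Lib.Known2.Sak

open Cfsg.Axial Cfsg.Lib.Known2.Maj

variable {V : Type*} [AddCommGroup V] [Module ℝ V] {mul : V →ₗ[ℝ] V →ₗ[ℝ] V}
  {B : LinearMap.BilinForm ℝ V} {τ : ℤ → V ≃ₗ[ℝ] V} {a : ℤ → V}

/-- a sequence of axes permuted dihedrally by their involutions -/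
structure Sq (mul : V →ₗ[ℝ] V →ₗ[ℝ] V) (B : LinearMap.BilinForm ℝ V) (τ : ℤ → V ≃ₗ[ℝ] V)
    (a : ℤ → V) : Prop where
  hc : ∀ u v, mul u v = mul v u
  hs : ∀ u v, B u v = B v u
  ha : ∀ u v w, B u (mul v w) = B (mul u v) w
  ax : ∀ i, Ax mul B (τ i) (a i)
  act : ∀ i j, τ i (a j) = a (2 * i - j)

/-- the invariant part of a product of two axes -/
noncomputable def sg (mul : V →ₗ[ℝ] V →ₗ[ℝ] V) (a : ℤ → V) (i j : ℤ) : V :=
  mul (a i) (a j) - (1 / 32 : ℝ) • (a i + a j)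

theorem Sq.shift (h : Sq mul B τ a) : Sq mul B (fun i => τ (i + 1)) (fun i => a (i + 1)) :=
  ⟨h.hc, h.hs, h.ha, fun i => h.ax _, fun i j => by
    show τ (i + 1) (a (j + 1)) = a (2 * i - j + 1)
    rw [h.act]; congr 1; ring⟩

theorem Sq.dbl (h : Sq mul B τ a) : Sq mul B (fun i => τ (2 * i)) (fun i => a (2 * i)) :=
  ⟨h.hc, h.hs, h.ha, fun i => h.ax _, fun i j => by
    show τ (2 * i) (a (2 * j)) = a (2 * (2 * i - j))
    rw [h.act]; congr 1; ring⟩

theorem Sq.hB (h : Sq mul B τ a) (m i j i' j' : ℤ) (h1 : i' = 2 * m - j := by norm_num)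
    (h2 : j' = 2 * m - i := by norm_num) : B (a i) (a j) = B (a i') (a j') := by
  rw [h1, h2, ← h.act, ← h.act, (h.ax m).hB, h.hs]

theorem Sq.maa (i j : ℤ) : mul (a i) (a j) = sg mul a i j + (1 / 32 : ℝ) • (a i + a j) := by
  simp [sg]

theorem Sq.symm (h : Sq mul B τ a) (i j : ℤ) : sg mul a i j = sg mul a j i := by
  simp only [sg, h.hc (a i), add_comm]

theorem Sq.refl (h : Sq mul B τ a) (i j k : ℤ) (e : k = 2 * i - j := by norm_num) :
    sg mul a i j = sg mul a i k := by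
  have := ((h.ax i).comp (a j)).1
  rw [h.act, ← e, map_sub] at this
  simp only [sg]
  linear_combination (norm := module) this

theorem Sq.al (h : Sq mul B τ a) (i j k : ℤ) (e : k = 2 * i - j := by norm_num) :
    mul (a i) ((-4 : ℝ) • sg mul a i j + (3 * B (a i) (a j) - 1 / 8) • a i + (7 / 16 : ℝ) • (a j + a k)) = 0 := by
  have := ((h.ax i).comp (a j)).2.1
  rw [h.act, ← e] at this
  rw [← this]; congr 1; simp only [sg]; module

theorem Sq.be (h : Sq mul B τ a) (i j k : ℤ) (e : k = 2 * i - j := by norm_num) :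
    mul (a i) ((4 : ℝ) • sg mul a i j + (1 / 8 - 4 * B (a i) (a j)) • a i + (1 / 16 : ℝ) • (a j + a k)) =
      (1 / 4 : ℝ) • ((4 : ℝ) • sg mul a i j + (1 / 8 - 4 * B (a i) (a j)) • a i + (1 / 16 : ℝ) • (a j + a k)) := by
  have := ((h.ax i).comp (a j)).2.2
  rw [h.act, ← e] at this
  have e2 : (4 : ℝ) • sg mul a i j + (1 / 8 - 4 * B (a i) (a j)) • a i + (1 / 16 : ℝ) • (a j + a k) =
      (4 : ℝ) • mul (a i) (a j) - (4 * B (a i) (a j)) • a i - (1 / 16 : ℝ) • (a j - a k) := by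
    simp only [sg]; module
  rw [e2, this]

theorem Sq.mas (h : Sq mul B τ a) (i j k : ℤ) (e : k = 2 * i - j := by norm_num) :
    mul (a i) (sg mul a i j) = (7 / 32 : ℝ) • sg mul a i j + (3 / 4 * B (a i) (a j) - 25 / 1024) • a i +
      (7 / 2048 : ℝ) • (a j + a k) := by
  have := h.al i j k e
  simp only [map_add, map_smul, (h.ax i).idem] at this
  rw [Sq.maa i j, Sq.maa i k, ← h.refl i j k e] at this
  linear_combination (norm := module) (-1 / 4 : ℝ) • this

theorem Sq.Bas (h : Sq mul B τ a) (i j : ℤ) :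
    B (a i) (sg mul a i j) = 31 / 32 * B (a i) (a j) - 1 / 32 := by
  simp only [sg, map_sub, map_add, map_smul, smul_eq_mul, h.ha, (h.ax i).idem, (h.ax i).len]
  ring

theorem Sq.Bs (h : Sq mul B τ a) (u : V) (i j : ℤ) :
    B u (sg mul a i j) = B (mul (a i) u) (a j) - 1 / 32 * (B u (a i) + B u (a j)) := by
  simp only [sg, map_sub, map_add, map_smul, smul_eq_mul, h.ha, h.hc u]

/-- the two new products -/
theorem Sq.key (h : Sq mul B τ a) {x y : ℝ} (hx : B (a 0) (a 1) = x) (hy : B (a (-1)) (a 1) = y) :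
    mul (a 0) (sg mul a (-1) 1) = (1 / 6 * x - 19 / 3072) • (a (-1) + a 1) + (7 / 6144 : ℝ) • (a (-2) + a 2) +
      (-32 / 3 * x ^ 2 + 5 / 3 * x - 1 / 24 * y - 127 / 3072) • a 0 + (32 / 3 * x - 19 / 48) • sg mul a 0 1 +
      (7 / 96 : ℝ) • sg mul a 0 2 ∧
    mul (sg mul a 0 1) (sg mul a 0 1) = (49 / 768 * x - 245 / 196608) • (a (-1) + a 1) +
      (49 / 196608 : ℝ) • (a (-2) + a 2) + (7 / 6 * x ^ 2 - 7 / 384 * x + 7 / 1536 * y - 7 / 98304) • a 0 +
      (-5 / 12 * x - 13 / 1536) • sg mul a 0 1 - (7 / 1536 : ℝ) • sg mul a 0 2 +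
      (7 / 2048 : ℝ) • sg mul a (-1) 1 := by
  have hα := h.al 0 1 (-1)
  have hβ := h.be 0 1 (-1)
  have b1 : B (a 0) (a (-1)) = x := by rw [← hx, h.hB 0 0 (-1) 1 0, h.hs]
  have b2 : B (a 1) (a 0) = x := by rw [← hx, h.hs]
  have b3 : B (a (-1)) (a 0) = x := by rw [← b1, h.hs]
  have b4 : B (a 1) (a (-1)) = y := by rw [← hy, h.hs]
  have s1 : sg mul a 0 (-1) = sg mul a 0 1 := h.refl 0 (-1) 1
  have s2 : sg mul a 1 0 = sg mul a 0 1 := h.symm _ _
  have s3 : sg mul a (-1) 0 = sg mul a 0 1 := by rw [h.symm, s1]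
  have s4 : sg mul a 0 (-2) = sg mul a 0 2 := h.refl 0 (-2) 2
  have s5 : sg mul a 1 (-1) = sg mul a (-1) 1 := h.symm _ _
  have m1 := h.mas 0 1 (-1)
  have m2 := h.mas 1 0 2
  have m3 := h.mas (-1) 0 (-2)
  have m4 := h.mas 0 2 (-2)
  have p1 := Sq.maa (mul := mul) (a := a) 0 1
  have p2 := Sq.maa (mul := mul) (a := a) 0 (-1)
  have p3 := Sq.maa (mul := mul) (a := a) 0 2
  have p4 := Sq.maa (mul := mul) (a := a) 0 (-2)
  have p5 := Sq.maa (mul := mul) (a := a) (-1) 1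
  have c1 := h.Bas 0 1
  have c2 := h.Bas 1 0
  have c3 := h.Bas (-1) 0
  have c4 := h.Bs (sg mul a 0 1) 0 1
  have i0 := (h.ax 0).idem
  have i1 := (h.ax 1).idem
  have i2 := (h.ax (-1)).idem
  have l0 := (h.ax 0).len
  have l1 := (h.ax 1).len
  have l2 := (h.ax (-1)).len
  have f0 := (h.ax 0).f00 _ _ hα hα
  have f1 := (h.ax 0).f04 _ _ hα hβ
  have f2 := (h.ax 0).f44 _ _ hβ hβ
  rw [h.ha, hβ] at f2
  have hc := h.hc
  have hs := h.hs
  rw [hx] at m1 c1 f0 f1 f2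
  rw [s2, b2] at m2 c2
  rw [s3, b3] at m3 c3
  rw [s1] at p2
  rw [s4] at p4
  rw [m1] at c4
  clear hα hβ s1 s2 s3 s4 s5 h
  generalize sg mul a 0 1 = s at *
  generalize sg mul a 0 2 = t at *
  generalize sg mul a (-1) 1 = u at *
  generalize a 0 = a0 at *
  generalize a 1 = a1 at *
  generalize a (-1) = a1' at *
  generalize a 2 = a2 at *
  generalize a (-2) = a2' at *
  simp only [map_add, map_smul, LinearMap.add_apply, LinearMap.smul_apply, smul_eq_mul, hs s a0, hs s a1,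
    c1, c2, hx, hy, l1] at c4
  simp only [map_add, map_smul, LinearMap.add_apply, LinearMap.smul_apply, smul_eq_mul, hs s a0, hs s a1,
    hs s a1', c1, c2, c3, c4, hx, hy, b1, b2, b3, b4, l0, l1, l2, hc s a0, hc s a1, hc s a1', hc a1 a0,
    hc a1' a0, hc a1 a1', m1, m2, m3, p1, p2, p3, p4, p5, i0, i1, i2] at f0 f1 f2
  have k1 : mul a0 u = (1 / 6 * x - 19 / 3072) • (a1' + a1) + (7 / 6144 : ℝ) • (a2' + a2) +
      (-32 / 3 * x ^ 2 + 5 / 3 * x - 1 / 24 * y - 127 / 3072) • a0 + (32 / 3 * x - 19 / 48) • s +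
      (7 / 96 : ℝ) • t := by
    linear_combination (norm := module) (8 / 3 : ℝ) • (f0 - f2)
  refine ⟨k1, ?_⟩
  rw [k1] at f0 f1
  linear_combination (norm := module) (1 / 4 : ℝ) • (f0 + f1)

theorem Sq.Bas2 (h : Sq mul B τ a) (i j k : ℤ) (e : k = 2 * i - j := by norm_num) :
    B (a i) (sg mul a j k) = 15 / 16 * B (a i) (a j) + 1 / 32 * B (a j) (a k) - 1 / 32 := by
  have e1 : B (a i) (a k) = B (a i) (a j) := by
    rw [h.hB i i k j i (by omega) (by omega), h.hs]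
  rw [h.Bs, Sq.maa j i, h.symm j i, h.refl i j k e, h.symm i k]
  simp only [map_add, map_smul, LinearMap.add_apply, LinearMap.smul_apply, smul_eq_mul]
  rw [h.hs (sg _ _ _ _), h.Bas, h.hs (a k) (a i), e1]
  ring

theorem Sq.yo (h : Sq mul B τ a) : B (a (-1)) (a 1) = B (a 0) (a 2) := by
  have k := congrArg (B (a 0)) (h.key rfl rfl).1
  rw [h.ha, (h.ax 0).idem] at k
  have b1 : B (a 0) (a (-1)) = B (a 0) (a 1) := by rw [h.hB 0 0 (-1) 1 0, h.hs]
  have b2 : B (a 0) (a (-2)) = B (a 0) (a 2) := by rw [h.hB 0 0 (-2) 2 0, h.hs]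
  simp only [map_add, map_smul, smul_eq_mul, h.Bas, h.Bas2 0 (-1) 1, b1, b2, (h.ax 0).len] at k
  linarith

/-- the linear relation -/
theorem Sq.rel (h : Sq mul B τ a) {x y : ℝ} (hx : B (a 0) (a 1) = x) (hy : B (a 0) (a 2) = y) :
    (49 / 196608 : ℝ) • (a (-2) - a 3) + (49 / 768 * x - 49 / 32768) • (a (-1) - a 2) +
      (7 / 6 * x ^ 2 - 21 / 256 * x + 7 / 1536 * y + 77 / 65536) • (a 0 - a 1) +
      (49 / 6144 : ℝ) • (sg mul a (-1) 1 - sg mul a 0 2) = 0 := by
  have k1 := (h.key hx (h.yo.trans hy)).2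
  have k2 := (h.shift.key (x := x) (y := y) ((h.hB 1 1 2 0 1).trans hx) hy).2
  change mul (sg mul a 1 2) (sg mul a 1 2) = _ • (a 0 + a 2) + _ • (a (-1) + a 3) + _ • a 1 +
    _ • sg mul a 1 2 - _ • sg mul a 1 3 + _ • sg mul a 0 2 at k2
  rw [h.refl 1 2 0, h.symm 1 0, h.refl 1 3 (-1), h.symm 1 (-1)] at k2
  linear_combination (norm := module) k2 - k1

/-- third inner product -/
noncomputable def L3 (x y : ℝ) : ℝ := (-32768/7)*x^3 + (36864/7)*x^2 + (-1920/7)*x*y + (-2169/7)*x + (-33/7)*y + (33/7)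
/-- fourth inner product -/
noncomputable def L4 (x y : ℝ) : ℝ := (8388608/7)*x^4 + (-9601024/7)*x^3 + (65536)*x^2*y + (110592)*x^2 + (-640/7)*x*y + (-128/7)*y^2 + (-19840/7)*x + (-3)*y + (156/7)
/-- fifth inner product -/
noncomputable def L5 (x y : ℝ) : ℝ := (-13958643712/49)*x^5 + (16273899520/49)*x^4 + (-754974720/49)*x^3*y + (-1633419264/49)*x^3 + (12582912/49)*x^2*y + (475136/49)*x*y^2 + (8683520/7)*x^2 + (259584/49)*x*y + (-256/49)*y^2 + (-137721/7)*x + (-5256/49)*y + (5512/49)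
/-- sixth inner product -/
noncomputable def L6 (x y : ℝ) : ℝ := (3298534883328/49)*x^6 + (-3917010173952/49)*x^5 + (177167400960/49)*x^4*y + (469317451776/49)*x^4 + (-5511315456/49)*x^3*y + (-25165824/7)*x^2*y^2 + (-22767894528/49)*x^3 + (-97910784/49)*x^2*y + (2457600/49)*x*y^2 + (16384/49)*y^3 + (542429184/49)*x^2 + (5162880/49)*x*y + (1152/49)*y^2 + (-904320/7)*x + (-46500/49)*y + (29013/49)
/-- the polynomial relation -/
noncomputable def PP (x y : ℝ) : ℝ := (16384)*x^4 + (-18176)*x^3 + (320)*x^2*y + (1440)*x^2 + (139/2)*x*y + y^2 + (-75/2)*x + (-167/128)*y + (39/128)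

theorem Sq.vals (h : Sq mul B τ a) {x y : ℝ} (hx : B (a 0) (a 1) = x) (hy : B (a 0) (a 2) = y) :
    B (a 0) (a 3) = L3 x y ∧ B (a 0) (a 4) = L4 x y ∧ B (a 0) (a 5) = L5 x y ∧
      B (a 0) (a 6) = L6 x y ∧ PP x y = 0 := by
  have hyo := h.yo.trans hy
  have R := h.rel hx hy
  have k1 := (h.key hx hyo).1
  generalize hl3 : B (a 0) (a 3) = l3
  generalize hl4 : B (a 0) (a 4) = l4
  generalize hl5 : B (a 0) (a 5) = l5
  generalize hl6 : B (a 0) (a 6) = l6
  generalize hl4o : B (a (-1)) (a 3) = l4o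
  have bm2_m1 : B (a (-2)) (a (-1)) = x := ((h.hB 0 (-2) (-1) 1 2).trans (h.hB 1 1 2 0 1)).trans hx
  have bm1_m2 : B (a (-1)) (a (-2)) = x := (h.hs _ _).trans bm2_m1
  have bm2_0 : B (a (-2)) (a 0) = y := (h.hB 0 (-2) 0 0 2).trans hy
  have b0_m2 : B (a 0) (a (-2)) = y := (h.hs _ _).trans bm2_0
  have bm2_1 : B (a (-2)) (a 1) = l3 := ((h.hB 0 (-2) 1 (-1) 2).trans (h.hB 1 (-1) 2 0 3)).trans hl3
  have b1_m2 : B (a 1) (a (-2)) = l3 := (h.hs _ _).trans bm2_1
  have bm2_2 : B (a (-2)) (a 2) = l4 := (h.hB 1 (-2) 2 0 4).trans hl4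
  have b2_m2 : B (a 2) (a (-2)) = l4 := (h.hs _ _).trans bm2_2
  have bm2_3 : B (a (-2)) (a 3) = l5 := ((h.hB 0 (-2) 3 (-3) 2).trans (h.hB 1 (-3) 2 0 5)).trans hl5
  have b3_m2 : B (a 3) (a (-2)) = l5 := (h.hs _ _).trans bm2_3
  have bm2_4 : B (a (-2)) (a 4) = l6 := (h.hB 2 (-2) 4 0 6).trans hl6
  have b4_m2 : B (a 4) (a (-2)) = l6 := (h.hs _ _).trans bm2_4
  have bm1_0 : B (a (-1)) (a 0) = x := (h.hB 0 (-1) 0 0 1).trans hx
  have b0_m1 : B (a 0) (a (-1)) = x := (h.hs _ _).trans bm1_0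
  have bm1_1 : B (a (-1)) (a 1) = y := hyo
  have b1_m1 : B (a 1) (a (-1)) = y := (h.hs _ _).trans bm1_1
  have bm1_2 : B (a (-1)) (a 2) = l3 := (h.hB 1 (-1) 2 0 3).trans hl3
  have b2_m1 : B (a 2) (a (-1)) = l3 := (h.hs _ _).trans bm1_2
  have bm1_3 : B (a (-1)) (a 3) = l4o := hl4o
  have b3_m1 : B (a 3) (a (-1)) = l4o := (h.hs _ _).trans bm1_3
  have bm1_4 : B (a (-1)) (a 4) = l5 := (h.hB 2 (-1) 4 0 5).trans hl5
  have b4_m1 : B (a 4) (a (-1)) = l5 := (h.hs _ _).trans bm1_4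
  have b0_1 : B (a 0) (a 1) = x := hx
  have b1_0 : B (a 1) (a 0) = x := (h.hs _ _).trans b0_1
  have b0_2 : B (a 0) (a 2) = y := hy
  have b2_0 : B (a 2) (a 0) = y := (h.hs _ _).trans b0_2
  have b0_3 : B (a 0) (a 3) = l3 := hl3
  have b3_0 : B (a 3) (a 0) = l3 := (h.hs _ _).trans b0_3
  have b0_4 : B (a 0) (a 4) = l4 := hl4
  have b4_0 : B (a 4) (a 0) = l4 := (h.hs _ _).trans b0_4
  have b1_2 : B (a 1) (a 2) = x := (h.hB 1 1 2 0 1).trans hx
  have b2_1 : B (a 2) (a 1) = x := (h.hs _ _).trans b1_2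
  have b1_3 : B (a 1) (a 3) = y := (h.hB 1 1 3 (-1) 1).trans hyo
  have b3_1 : B (a 3) (a 1) = y := (h.hs _ _).trans b1_3
  have b1_4 : B (a 1) (a 4) = l3 := (h.hB 2 1 4 0 3).trans hl3
  have b4_1 : B (a 4) (a 1) = l3 := (h.hs _ _).trans b1_4
  have b2_3 : B (a 2) (a 3) = x := ((h.hB 0 2 3 (-3) (-2)).trans (h.hB (-1) (-3) (-2) 0 1)).trans hx
  have b3_2 : B (a 3) (a 2) = x := (h.hs _ _).trans b2_3
  have b2_4 : B (a 2) (a 4) = y := (h.hB 2 2 4 0 2).trans hy
  have b4_2 : B (a 4) (a 2) = y := (h.hs _ _).trans b2_4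
  have b3_4 : B (a 3) (a 4) = x := (h.hB 2 3 4 0 1).trans hx
  have b4_3 : B (a 4) (a 3) = x := (h.hs _ _).trans b3_4
  have b3_5 : B (a 3) (a 5) = y := (h.hB 2 3 5 (-1) 1).trans hyo
  have b5_3 : B (a 5) (a 3) = y := (h.hs _ _).trans b3_5
  have bm2_m2 := (h.ax (-2)).len
  have bm1_m1 := (h.ax (-1)).len
  have b0_0 := (h.ax 0).len
  have b1_1 := (h.ax 1).len
  have b2_2 := (h.ax 2).len
  have b3_3 := (h.ax 3).len
  have b4_4 := (h.ax 4).len
  have e1 : sg mul a 2 0 = sg mul a 0 2 := h.symm _ _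
  have e2 : sg mul a 2 4 = sg mul a 0 2 := (h.refl 2 4 0).trans e1
  have e3 : sg mul a 4 2 = sg mul a 0 2 := (h.symm _ _).trans e2
  have e4 : sg mul a (-2) 0 = sg mul a 0 2 := (h.symm _ _).trans (h.refl 0 (-2) 2)
  have o1 : sg mul a 1 3 = sg mul a (-1) 1 := (h.refl 1 3 (-1)).trans (h.symm _ _)
  have o2 : sg mul a 3 1 = sg mul a (-1) 1 := (h.symm _ _).trans o1
  have o3 : sg mul a 3 5 = sg mul a (-1) 1 := (h.refl 3 5 1).trans o2
  have s1 : sg mul a 2 1 = sg mul a 0 1 := by rw [h.symm, h.refl 1 2 0, h.symm]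
  have cm2 := h.Bas (-2) 0
  have cm1 := h.Bas2 (-1) (-2) 0
  have c0 := h.Bas 0 2
  have c1 := h.Bas2 1 0 2
  have c2 := h.Bas 2 0
  have c3 := h.Bas2 3 2 4
  have c4 := h.Bas 4 2
  have dm1 := h.Bas (-1) 1
  have d0 := h.Bas2 0 (-1) 1
  have d2 := h.Bas2 2 1 3
  have d3 := h.Bas 3 1
  have d4 := h.Bas2 4 3 5
  have g2 := h.Bas 2 1
  have t1 := h.Bs (sg mul a 0 2) 0 2
  have t2 := h.Bs (sg mul a (-1) 1) 0 2
  rw [h.mas 0 2 (-2)] at t1
  rw [k1] at t2
  rw [e1] at c2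
  rw [e2] at c3
  rw [e3] at c4
  rw [e4] at cm2 cm1
  rw [o1] at d2
  rw [o2] at d3
  rw [o3] at d4
  rw [s1] at g2
  have r0 := congrArg (B (a 0)) R
  have r2 := congrArg (B (a 2)) R
  have rm1 := congrArg (B (a (-1))) R
  have r3 := congrArg (B (a 3)) R
  have r4 := congrArg (B (a 4)) R
  have rs := congrArg (fun v => B v (sg mul a 0 2)) R
  simp only [map_add, map_sub, map_smul, map_zero, LinearMap.add_apply, LinearMap.sub_apply,
    LinearMap.smul_apply, LinearMap.zero_apply, smul_eq_mul, h.hs (sg mul a _ _) (a _),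
    cm2, cm1, c0, c1, c2, c3, c4, dm1, d0, d2, d3, d4, g2, bm2_m1, bm1_m2, bm2_0, b0_m2, bm2_1, b1_m2, bm2_2, b2_m2, bm2_3, b3_m2, bm2_4, b4_m2, bm1_0, b0_m1, bm1_1, b1_m1, bm1_2, b2_m1, bm1_3, b3_m1, bm1_4, b4_m1, b0_1, b1_0, b0_2, b2_0, b0_3, b3_0, b0_4, b4_0, b1_2, b2_1, b1_3, b3_1, b1_4, b4_1, b2_3, b3_2, b2_4, b4_2, b3_4, b4_3, b3_5, b5_3, bm2_m2, bm1_m1, b0_0, b1_1, b2_2, b3_3, b4_4] at t1 t2 r0 r2 rm1 r3 r4 rs
  rw [t1, t2] at rs
  have q3 : l3 = L3 x y := by unfold L3; linear_combination (-196608 / 49) * r0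
  subst q3
  have q4 : l4 = L4 x y := by unfold L4; unfold L3 at r2; linear_combination (196608 / 49) * r2
  have q4o : l4o = L4 x y := by unfold L4; unfold L3 at rm1; linear_combination (-196608 / 49) * rm1
  subst q4
  subst q4o
  have q5 : l5 = L5 x y := by unfold L5; unfold L3 L4 at r3; linear_combination (196608 / 49) * r3
  subst q5
  refine ⟨rfl, rfl, rfl, ?_, ?_⟩
  · unfold L6; unfold L3 L4 L5 at r4; linear_combination (196608 / 49) * r4
  · unfold PP; unfold L3 L4 at rs; linear_combination (-4096 / 7) * rs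

theorem solve {x y : ℝ} (hp : PP x y = 0) (hq : L6 x y = L3 y (L4 x y)) (hr : PP y (L4 x y) = 0) :
    L4 x y = 1 ∨ L5 x y = 1 ∨ L6 x y = 1 := by
  unfold PP at hp
  have h1 : ((-32212254720/49)*x^4 + (-73311191040/49)*x^3 + (2333982720/49)*x^2 + (-10397760/49)*x + (-125775/49)) * y + ((-8246337208320/49)*x^6 + (8870449643520/49)*x^5 + (-517818286080/49)*x^4 + (-3909058560/49)*x^3 + (833433600/49)*x^2 + (-18663360/49)*x + (125775/49)) = 0 := by
    unfold L6 L3 L4 at hq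
    linear_combination hq - ((100663296/7)*x^2 + (1228800/49)*x + (-301440/49)) * hp
  have h2 : (x - (1/1)) * ((x - (0/1)) * ((x - (1/8)) * ((x - (13/256)) * ((x - (1/32)) * ((x - (3/128)) * ((x - (5/256)) * ((x - (1/64)) ^ 2 * ((x - (43/2048)) ^ 2)))))))) = 0 := by
    linear_combination (-49/4250129834582680692326400) * (((-32212254720/49)*x^4 + (-73311191040/49)*x^3 + (2333982720/49)*x^2 + (-10397760/49)*x + (-125775/49)) ^ 2 * hp -
      (((-32212254720/49)*x^4 + (-73311191040/49)*x^3 + (2333982720/49)*x^2 + (-10397760/49)*x + (-125775/49)) * y - ((-8246337208320/49)*x^6 + (8870449643520/49)*x^5 + (-517818286080/49)*x^4 + (-3909058560/49)*x^3 + (833433600/49)*x^2 + (-18663360/49)*x + (125775/49)) + ((320)*x^2 + (139/2)*x + (-167/128)) * ((-32212254720/49)*x^4 + (-73311191040/49)*x^3 + (2333982720/49)*x^2 + (-10397760/49)*x + (-125775/49))) * h1)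
  simp only [mul_eq_zero, pow_eq_zero_iff (two_ne_zero)] at h2
  rcases h2 with h | h | h | h | h | h | h | h | h
  · obtain rfl : x = (1/1) := by linarith
    obtain rfl : y = (1/1) := by linear_combination (-1/2106122175) * h1
    left; unfold L4; norm_num
  · obtain rfl : x = (0/1) := by linarith
    obtain rfl : y = (1/1) := by linear_combination (-49/125775) * h1
    left; unfold L4; norm_num
  · obtain rfl : x = (1/8) := by linarith
    obtain rfl : y = (1/1) := by linear_combination (-1/2367495) * h1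
    left; unfold L4; norm_num
  · obtain rfl : x = (13/256) := by linarith
    obtain rfl : y = (13/256) := by linear_combination (-112/10170225) * h1
    right; right; unfold L6; norm_num
  · obtain rfl : x = (1/32) := by linarith
    obtain rfl : y = (0/1) := by linear_combination (-7/62775) * h1
    left; unfold L4; norm_num
  · obtain rfl : x = (3/128) := by linarith
    obtain rfl : y = (3/128) := by linear_combination (-7/5850) * h1
    right; left; unfold L5; norm_num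
  · obtain rfl : x = (5/256) := by linarith
    obtain rfl : y = (13/256) := by linear_combination (784/169425) * h1
    right; right; unfold L6; norm_num
  · obtain rfl : x = (1/64) := by linarith
    have : (y - 1 / 64) * (y - 1 / 8) = 0 := by linear_combination hp
    rcases mul_eq_zero.1 this with h | h
    · obtain rfl : y = 1 / 64 := by linarith
      right; right; unfold L6; norm_num
    · obtain rfl : y = 1 / 8 := by linarith
      left; unfold L4; norm_num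
  · obtain rfl : x = (43/2048) := by linarith
    exfalso
    unfold PP L4 at hr
    have : (1 : ℝ) = 0 := by linear_combination ((-38716560422515667855387748466688/15345283734797629642202047875)*y^0 + (79912200112934772474606579089408/681291666872622034854636375)*y^1 + (-51932182427917463439052406177923072/107416986143583407495414335125)*y^2 + (2129167791216525617344476501508096/4957707052780772653634507775)*y^3) * hp + ((-28955174022054611992302321664/2192183390685375663171721125)*y^0 + (-259908177638736037273495666688/6576550172056126989515163375)*y^1) * hr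
    exact one_ne_zero this

theorem Sq.period (h : Sq mul B τ a) (hpos : ∀ u : V, u ≠ 0 → 0 < B u u) :
    ∃ n : ℕ, 1 ≤ n ∧ n ≤ 6 ∧ τ n = τ 0 := by
  obtain ⟨-, h4, h5, h6, hp⟩ := h.vals rfl rfl
  obtain ⟨k3, -, -, -, kp⟩ := h.dbl.vals (x := B (a 0) (a 2)) (y := B (a 0) (a 4)) rfl rfl
  change B (a 0) (a 6) = _ at k3
  rw [h4] at k3 kp
  rw [h6] at k3
  have fin : ∀ n : ℤ, B (a 0) (a n) = 1 → τ n = τ 0 := by
    intro n hn
    have : a n = a 0 := by
      by_contra hne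
      have := hpos _ (sub_ne_zero.2 hne)
      simp only [map_sub, LinearMap.sub_apply, (h.ax _).len, h.hs (a n) (a 0), hn] at this
      norm_num at this
    exact (h.ax n).uniq (this ▸ h.ax 0)
  rcases solve hp k3 kp with e | e | e
  · exact ⟨4, by norm_num, by norm_num, fin 4 (h4.trans e)⟩
  · exact ⟨5, by norm_num, by norm_num, fin 5 (h5.trans e)⟩
  · exact ⟨6, by norm_num, by norm_num, fin 6 (h6.trans e)⟩

end Cfsg.Lib.Known2.Sak
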