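import Mathlib

/-! Abstract Shintani descent. -/

set_option autoImplicit false

namespace Cfsg.Lib.Known2.Shin

variable {X : Type*} [Group X]

theorem mem_fix {τ : MulAut X} {x : X} :
    x ∈ (MulEquiv.toMonoidHom τ).eqLocus (MonoidHom.id X) ↔ τ x = x := Iff.rfl

theorem pow_fix {σ : MulAut X} {x : X} (h : σ x = x) (n : ℕ) : (σ ^ n) x = x := by
  induction n with
  | zero => rfl
  | succ n ih => rw [pow_succ, MulAut.mul_apply, h, ih]

theorem comm (σ : MulAut X) (m n : ℕ) (x : X) : (σ ^ m) ((σ ^ n) x) = (σ ^ n) ((σ ^ m) x) := by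
  rw [← MulAut.mul_apply, ← MulAut.mul_apply, ← pow_add, ← pow_add, add_comm]

theorem comm1 (σ : MulAut X) (n : ℕ) (x : X) : σ ((σ ^ n) x) = (σ ^ n) (σ x) := by
  simpa using comm σ 1 n x

theorem norm_eq (σ : MulAut X) (a : X) (n : ℕ) :
    ((List.range n).map (fun i => (σ ^ i) (a * (σ a)⁻¹))).prod = a * ((σ ^ n) a)⁻¹ := by
  induction n with
  | zero => simp
  | succ n ih =>
    rw [List.range_succ, List.map_append, List.prod_append, ih, pow_succ, MulAut.mul_apply]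
    simp [mul_assoc]

/-- `aσ(a)⁻¹` is fixed by `σᵉ` iff `σᵉ(a)⁻¹ a` is fixed by `σ`. -/
theorem fix_iff (σ : MulAut X) (e : ℕ) (a : X) :
    (σ ^ e) (a * (σ a)⁻¹) = a * (σ a)⁻¹ ↔ σ (((σ ^ e) a)⁻¹ * a) = ((σ ^ e) a)⁻¹ * a := by
  simp only [map_mul, map_inv, comm1]
  generalize (σ ^ e) a = u
  generalize (σ ^ e) (σ a) = v
  constructor <;> intro h
  · calc v⁻¹ * σ a = u⁻¹ * (u * v⁻¹) * σ a := by group
      _ = _ := by rw [h]; group
  · calc u * v⁻¹ = u * (v⁻¹ * σ a) * (σ a)⁻¹ := by group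
      _ = _ := by rw [h]; group

theorem swap (σ : MulAut X) (e : ℕ) (a : X) (h : σ (((σ ^ e) a)⁻¹ * a) = ((σ ^ e) a)⁻¹ * a) :
    a⁻¹ * (a * ((σ ^ e) a)⁻¹) * a = ((σ ^ e) a)⁻¹ * a := by group

end Cfsg.Lib.Known2.Shin
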