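import Cfsg.Agent.Lib.Known2.RJ

/-! The group `(2² × 2^{1+8}).(3 × U₄(2)).2`: the module is unitary. -/

set_option autoImplicit false
set_option synthInstance.maxSize 2000
set_option linter.unusedSectionVars false

namespace Cfsg.Lib.Par

open Subgroup Cfsg.Lib.Known2 Cfsg.Lib.FO Cfsg.Lib.Psp43 Cfsg.Lib.Core Cfsg.Lib.Fi Cfsg.Lib.Amalg

section
variable {Γ V : Type*} [Group Γ] [AddCommGroup V] [DistribMulAction Γ V] {q : V → Bool} {B : V → V → Bool} (h : QM Γ q B)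
  {a₁ a₂ a₃ a₄ c d g k : Γ} (M : MD a₁ a₂ a₃ a₄ c d g k) (hN : ∀ v : V, a₁ • v = v → a₂ • v = v)
include h M hN

theorem QM.noN0 (ω : V →+ V) (o2 : ∀ v, ω (ω v) = v + ω v) (oc : ∀ (γ : Γ) v, ω (γ • v) = γ • ω v) (v : V) (hv : a₁ • v = ω v) : v = 0 := by
  have := h.fin
  have t2 := h.two
  have k0 : ∀ (g : Γ) {a b : Γ}, g * a * g⁻¹ = b → ∀ v : V, b • v = v ↔ a • g⁻¹ • v = g⁻¹ • v := fun g a b e v => by
    rw [← e, mul_smul, mul_smul, smul_eq_iff_eq_inv_smul]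
  have h3 : ∀ v : V, a₁ • v = v → a₃ • v = v := fun v hv => (k0 c M.c2 v).2 (hN _ ((k0 c M.c1 v).1 hv))
  have K : ∀ v : V, a₁ • v = v → ∀ γ : Γ, γ • v = v := fun v hv => M.gen (MulAction.stabilizer Γ v) hv (hN v hv) (h3 v hv)
    ((k0 g rfl v).2 (hN _ ((k0 g M.g1 v).1 (h3 v hv)))) ((k0 _ rfl v).2 (hN _ ((k0 _ M.k1 v).1 hv)))
  have P : ∀ {t a : Γ}, t * a₁ * t⁻¹ = a → a * a * a = 1 ∧ ∀ v : V, a • v = v → ∀ γ : Γ, γ • v = v := fun {t a} e =>
    ⟨by rw [← e, conj_mul, conj_mul, M.cube]; simp, fun v b γ => by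
      have := K _ ((k0 t e v).1 b)
      rw [← smul_inv_smul t v, ← mul_smul, this, this]⟩
  have P2 := P M.d1
  have P3 := P M.g1
  have P4 := P (t := c * g) (by rw [← conj_conj', M.g1, M.c3'])
  have P1 := P M.c1
  have of : ∀ v, ω v = v → v = 0 := fun v e => by simpa [e] using o2 v
  have sp : ∀ {a e : Γ}, e * a = a * e → (e * e * e = 1 ∧ ∀ v : V, e • v = v → ∀ γ : Γ, γ • v = v) → ∀ v : V, a • v = ω v →
      e • (e • v + ω (ω v)) = ω (e • v + ω (ω v)) := fun {a e} m p v b => by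
    have m' : ∀ v : V, a • e • v = e • a • v := fun v => by rw [← mul_smul, ← m, mul_smul]
    have s := p.2 (v + e • v + e • e • v) (by
      simp only [smul_add]; rw [← mul_smul e e (e • v), ← mul_smul (e * e) e v, p.1, one_smul]; abel) a
    have s := of (v + e • v + e • e • v) (by simp only [smul_add, m', b] at s; simp only [map_add, oc, s])
    have s' : e • e • v = v + e • v := (h.eq0.1 s).symm
    rw [smul_add, map_add, s', ← oc, ← oc, o2, o2 (ω v), o2 v, oc]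
    calc _ = v + e • ω v + (e • v + e • v) := by abel
      _ = e • ω v + v + (ω v + ω v) := by rw [t2, t2]; abel
      _ = _ := by abel
  have cm : ∀ {a e : Γ}, e * a = a * e → ∀ v : V, a • v = ω v → a • (e • v + ω (ω v)) = ω (e • v + ω (ω v)) := fun {a e} m v b => by
    rw [smul_add, ← mul_smul, ← m, mul_smul, b, ← oc, ← oc, ← oc, b, map_add]
  have o3 : ∀ v, ω (ω (ω v)) = v := fun v => by rw [o2 (ω v), o2 v, add_left_comm, t2, add_zero]
  have tri : ∀ {a b e f : Γ}, e * a = a * e → e * b = b * e → (e * e * e = 1 ∧ ∀ v : V, e • v = v → ∀ γ : Γ, γ • v = v) →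
      (f * f * f = 1 ∧ ∀ v : V, f • v = v → ∀ γ : Γ, γ • v = v) → f * a * b * e = 1 → ∀ v : V, a • v = ω v ∧ b • v = ω v → e • v = ω (ω v) :=
    fun {a b e f} m n p r s v b => by
      have u1 := cm m v b.1
      have u2 := cm n v b.2
      have u3 := sp m p v b.1
      refine h.eq0.1 (of _ (u1.symm.trans (r.2 _ ?_ a)))
      generalize e • v + ω (ω v) = u at *
      conv_rhs => rw [← one_smul Γ u, ← s, mul_smul, mul_smul, mul_smul, u3, ← oc _ u, u2, ← oc a, ← oc a, u1, o3]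
  have p0 := M.prod
  have c12 : Commute a₂ a₁ := M.m12
  have c13 : Commute a₃ a₁ := M.m13
  have c14 : Commute a₄ a₁ := M.m14
  have c23 : Commute a₃ a₂ := M.m23
  have c24 : Commute a₄ a₂ := M.m24
  have c34 : Commute a₄ a₃ := M.m34
  have pr : ∀ {x y u w : Γ}, x * y * u * w = a₁ * a₂ * a₃ * a₄ → x * y * u * w = 1 := fun e => by
    rw [e, ← p0, ((c12.mul_left c13).mul_left c14).eq]; group
  let T : Γ → Γ → AddSubgroup V := fun a b =>
    { carrier := {v | a • v = ω v ∧ b • v = ω v}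
      zero_mem' := by simp
      add_mem' := fun x y => ⟨by rw [smul_add, map_add, x.1, y.1], by rw [smul_add, map_add, x.2, y.2]⟩
      neg_mem' := fun x => ⟨by rw [smul_neg, map_neg, x.1], by rw [smul_neg, map_neg, x.2]⟩ }
  have cT : ∀ (t : Γ) {a b a' b' : Γ}, t * a * t⁻¹ = a' → t * b * t⁻¹ = b' → ∀ v ∈ T a b, t • v ∈ T a' b' := fun t a b a' b' e f v m =>
    ⟨by rw [← e, ← mul_smul, inv_mul_cancel_right, mul_smul, m.1, oc], by rw [← f, ← mul_smul, inv_mul_cancel_right, mul_smul, m.2, oc]⟩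
  have s := fun x y u => (mul_assoc x y u : x * y * u = (x * (y * u) : Γ))
  have Z : ∀ u ∈ T a₁ a₂, u = 0 := fun u m => by_contra fun n => by
    have c4 : ∀ {a b}, ∀ u ∈ T a b, u ≠ 0 → 4 ≤ Nat.card (T a b) := fun {a b} u m n => by
      have m' : ω u ∈ T a b := ⟨by rw [← oc, m.1], by rw [← oc, m.2]⟩
      have n1 : ω u ≠ 0 := fun e => n (by simpa [e] using (o2 u).symm)
      have n2 : ω u ≠ u := mt (of u) n
      refine (Set.ncard_eq_four.2 ⟨0, u, ω u, u + ω u, n.symm, n1.symm, fun e => n2 (h.eq0.1 e.symm).symm, n2.symm, by simpa using n1,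
        by simpa using n, rfl⟩).ge.trans (Set.ncard_le_ncard (t := (T a b : Set V)) ?_)
      rintro _ (rfl | rfl | rfl | rfl)
      exacts [zero_mem _, m, m', add_mem m m']
    have m3 := cT c M.c1 M.c2 u m
    have m4 := cT c M.c1 M.c3' _ m3
    have := c4 u m n
    have := c4 _ m3 (by simpa only [ne_eq, smul_eq_zero_iff_eq] using n)
    have := c4 _ m4 (by simpa only [ne_eq, smul_eq_zero_iff_eq] using n)
    have := c4 _ (cT d M.d1 M.d2 u m) (by simpa only [ne_eq, smul_eq_zero_iff_eq] using n)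
    have := c4 _ (cT d M.d1 M.d4 _ m4) (by simpa only [ne_eq, smul_eq_zero_iff_eq] using n)
    have inj : Function.Injective (AddMonoidHom.mk' (fun x : T a₁ a₂ × T a₁ a₃ × T a₁ a₄ × T a₂ a₃ × T a₂ a₄ =>
        (x.1 + x.2.1 + x.2.2.1 + x.2.2.2.1 + x.2.2.2.2 : V)) fun x y => by simp only [Prod.fst_add, Prod.snd_add, AddSubgroup.coe_add]; abel) := by
      refine (injective_iff_map_eq_zero _).2 ?_
      rintro ⟨⟨x1, b1⟩, ⟨x2, b2⟩, ⟨x3, b3⟩, ⟨x4, b4⟩, ⟨x5, b5⟩⟩ e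
      have e13 := tri c13 c23 P3 P4 (pr (by rw [((c14.mul_right c24).mul_right c34).eq.symm, s a₄, s a₄])) x1 b1
      have e14 := tri c14 c24 P4 P3 (pr (by rw [s a₃, (c13.mul_right c23).eq])) x1 b1
      have e22 := tri c12 c23.symm P2 P4 (pr (by rw [s _ a₃, c23.eq, ← s, ((c14.mul_right c24).mul_right c34).eq.symm, s a₄, s a₄])) x2 b2
      have e24 := tri c14 c34 P4 P2 (pr (by rw [c12.eq])) x2 b2
      have e32 := tri c12 c24.symm P2 P3 (pr (by rw [s _ a₄, c24.eq, ← s, s a₃, (c13.mul_right c23).eq])) x3 b3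
      have e33 := tri c13 c34.symm P3 P2 (pr (by rw [c12.eq, s _ a₄, c34.eq, ← s])) x3 b3
      have e41 := tri c12.symm c13.symm P1 P4 (by rw [s a₄, (c24.mul_right c34).eq, p0]) x4 b4
      have e44 := tri c24 c34 P4 P1 (pr rfl) x4 b4
      have e51 := tri c12.symm c14.symm P1 P3 (by rw [c23.eq, p0]) x5 b5
      have e53 := tri c23 c34.symm P3 P1 (pr (by rw [s _ a₄, c34.eq, ← s])) x5 b5
      have p1 : ∀ v, ω v + ω (ω v) = v := fun v => by rw [o2 v, add_left_comm, t2, add_zero]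
      have π : ∀ a : Γ, a • x1 + ω (ω x1) + (a • x2 + ω (ω x2)) + (a • x3 + ω (ω x3)) + (a • x4 + ω (ω x4)) + (a • x5 + ω (ω x5)) = 0 := fun a => by
        have e : x1 + x2 + x3 + x4 + x5 = 0 := e
        have f1 := congrArg (a • ·) e
        have f2 := congrArg (fun v => ω (ω v)) e
        simp only [smul_add, map_add, smul_zero, map_zero] at f1 f2
        calc _ = a • x1 + a • x2 + a • x3 + a • x4 + a • x5 + (ω (ω x1) + ω (ω x2) + ω (ω x3) + ω (ω x4) + ω (ω x5)) := by abel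
          _ = 0 := by rw [f1, f2, add_zero]
      have f1 := π a₁
      have f2 := π a₂
      have f3 := π a₃
      have f4 := π a₄
      simp only [b1.1, b1.2, b2.1, b2.2, b3.1, b3.2, b4.1, b4.2, b5.1, b5.2, e13, e14, e22, e24, e32, e33, e41, e44, e51, e53, p1, t2, add_zero,
        zero_add] at f1 f2 f3 f4
      obtain rfl : x2 = x4 := h.eq0.1 f3
      obtain rfl : x3 = x5 := h.eq0.1 f4
      have z2 : x2 = 0 := by rw [← p1 x2, ← e41, b2.1, t2]
      have z3 : x3 = 0 := by rw [← p1 x3, ← e51, b3.1, t2]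
      subst z2 z3
      obtain rfl : x1 = 0 := by simpa using f1
      rfl
    have := Nat.card_le_card_of_injective _ inj
    simp only [Nat.card_prod, h.card] at this
    have k : ∀ a b c d e : ℕ, 4 ≤ a → 4 ≤ b → 4 ≤ c → 4 ≤ d → 4 ≤ e → 4 * (4 * (4 * (4 * 4))) ≤ a * (b * (c * (d * e))) := fun a b c d e _ _ _ _ _ => by
      gcongr
    have := k _ _ _ _ _ ‹4 ≤ Nat.card (T a₁ a₂)› ‹4 ≤ Nat.card (T a₁ a₃)› ‹4 ≤ Nat.card (T a₁ a₄)› ‹4 ≤ Nat.card (T a₂ a₃)› ‹4 ≤ Nat.card (T a₂ a₄)›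
    omega
  have Z3 : ∀ u ∈ T a₁ a₃, u = 0 := fun u m => by simpa only [smul_eq_zero_iff_eq] using Z _ (cT c M.c1 M.c4 _ (cT c M.c1 M.c3' u m))
  have Z4 : ∀ u ∈ T a₁ a₄, u = 0 := fun u m => by simpa only [smul_eq_zero_iff_eq] using Z _ (cT c M.c1 M.c4 u m)
  have e2 := h.eq0.1 (Z _ ⟨cm c12 v hv, sp c12 P2 v hv⟩)
  have e3 := h.eq0.1 (Z3 _ ⟨cm c13 v hv, sp c13 P3 v hv⟩)
  have e4 := h.eq0.1 (Z4 _ ⟨cm c14 v hv, sp c14 P4 v hv⟩)
  refine of v ?_
  conv_rhs => rw [← one_smul Γ v, ← p0, mul_smul, mul_smul, mul_smul, hv, ← oc, e4, o3, e3, ← oc, ← oc, e2, o3]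

theorem QM.noN (ω : V →+ V) (o2 : ∀ v, ω (ω v) = v + ω v) (oc : ∀ (γ : Γ) v, ω (γ • v) = γ • ω v) : False := by
  have t2 := h.two
  have o3 : ∀ v, ω (ω (ω v)) = v := fun v => by rw [o2 (ω v), o2 v, add_left_comm, t2, add_zero]
  refine M.ne (h.faith _ fun v => h.eq0.1 ?_)
  have a3 : a₁ • a₁ • a₁ • v = v := by rw [← mul_smul, ← mul_smul, M.cube, one_smul]
  have s : a₁ • a₁ • (a₁ • v + v) = a₁ • v + v + a₁ • (a₁ • v + v) := by
    simp only [smul_add, a3]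
    calc _ = v + a₁ • a₁ • v + (a₁ • v + a₁ • v) := by rw [t2, add_zero]
      _ = _ := by abel
  generalize a₁ • v + v = u at *
  refine QM.noN0 h M hN (ω.comp ω) (fun v => by simp only [AddMonoidHom.comp_apply, o3]; rw [o2 v, ← add_assoc, t2, zero_add])
    (fun γ v => by simp only [AddMonoidHom.comp_apply, oc]) u (h.eq0.1 (QM.noN0 h M hN ω o2 oc _ ?_))
  simp only [AddMonoidHom.comp_apply]
  rw [smul_add, map_add, s, ← oc, ← oc, o2 (a₁ • u), o3]
  calc _ = ω (a₁ • u) + u + (a₁ • u + a₁ • u) := by abel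
    _ = _ := by rw [t2, add_zero]

end

variable {G : Type*} [Group G]

theorem dicho4 [Finite G] {J E : Subgroup G} {z a : G} (es : ES E z) (hc : Nat.card E = 512) (EJ : E ≤ J) (aJ : a ∈ J) (aE : a ∉ E)
    (aa : a * a = 1) (ca : ∀ {j}, j ∈ J → Commute a j) (dec : ∀ {j}, j ∈ J → j ∈ E ∨ j * a ∈ E)
    (selfc : ∀ g, (∀ j ∈ J, Commute g j) → g ∈ J) (nm : ∀ {g j}, Commute z g → j ∈ J → g * j * g⁻¹ ∈ J) (cJ : ∀ j ∈ J, Commute z j)
    (π : centralizer {z} →* MulAut P0) (h1 : Function.Surjective π) (h2 : ∀ g, π g = 1 ↔ (g : G) ∈ J)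
    (θ : G → G) (θJ : ∀ j ∈ J, θ j ∈ J) (θm : ∀ j ∈ J, ∀ k ∈ J, V4 z a ((θ (j * k))⁻¹ * (θ j * θ k))) (θv : ∀ v, V4 z a v → V4 z a (θ v))
    (θc : ∀ g : centralizer {z}, π g ∈ (MulAut.conj : P0 →* MulAut P0).range → ∀ j ∈ J,
      V4 z a ((θ (g * j * (g : G)⁻¹))⁻¹ * (g * θ j * (g : G)⁻¹))) (θ3 : ∀ j ∈ J, V4 z a (j * θ j * θ (θ j))) :
    ∃ H Y ν α, FJ J E H Y z a ν α ∧ ∃ w, Commute z w ∧ w ∉ H ∧ V4 z a (w * w) := by
  classical
  have cz' : ∀ {g}, Commute z g → g ∈ centralizer {z} := fun a => mem_centralizer_singleton_iff.2 a.symm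
  have cc : ∀ a : centralizer {z}, Commute z a := fun a => (mem_centralizer_singleton_iff.1 a.2).symm
  obtain ⟨H, mH⟩ : ∃ H : Subgroup G, ∀ g, g ∈ H ↔ ∃ a : Commute z g, π ⟨g, cz' a⟩ ∈ (MulAut.conj : P0 →* MulAut P0).range :=
    ⟨((MulAut.conj : P0 →* MulAut P0).range.comap π).map (centralizer {z}).subtype, fun g =>
      ⟨by rintro ⟨g, a, rfl⟩; exact ⟨cc g, a⟩, fun ⟨a, b⟩ => ⟨⟨g, cz' a⟩, b, rfl⟩⟩⟩
  have mH' : ∀ {g} (a : Commute z g), g ∈ H ↔ π ⟨g, cz' a⟩ ∈ (MulAut.conj : P0 →* MulAut P0).range := fun a =>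
    (mH _).trans ⟨fun b => b.2, fun b => ⟨a, b⟩⟩
  have sur : ∀ γ, ∃ g : centralizer {z}, (g : G) ∈ H ∧ π g = MulAut.conj γ := fun γ =>
    let ⟨g, a⟩ := h1 (MulAut.conj γ); ⟨g, (mH' (cc g)).2 ⟨γ, a.symm⟩, a⟩
  have cr : ∀ (ρ : MulAut P0) γ, MulAut.conj (ρ γ) * ρ = ρ * MulAut.conj γ := fun ρ γ => MulEquiv.ext fun x => by simp
  have h : SJ J E H z a := by
    have l : H ≤ centralizer {z} := fun g a => cz' ((mH g).1 a).1
    let ψ := (MonoidHom.ofInjective conj_inj0).symm.toMonoidHom.comp ((π.comp (inclusion l)).codRestrict _ fun g => ((mH g).1 g.2).2)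
    have p : ∀ g, MulAut.conj (ψ g) = π ⟨g, l g.2⟩ := fun g => MonoidHom.apply_ofInjective_symm conj_inj0 _
    refine ⟨es, hc, EJ, aJ, aE, aa, ca, dec, selfc, nm, fun g a => (mH' (cJ g a)).2 (((h2 ⟨g, _⟩).2 a).symm ▸ one_mem _), fun a => ((mH _).1 a).1,
      fun a b => by rw [mH' a, mH' b, mH' (a.mul_right b), ← mul_mem_iff_of_index_two idx0, ← map_mul]; rfl,
      ⟨ψ, fun γ => let ⟨g, a, b⟩ := sur γ; ⟨⟨g, a⟩, conj_inj0 ((p _).trans b)⟩, fun g => by
        rw [← conj_inj0.eq_iff, p, map_one, h2]⟩, fun g a b => (h2 ⟨g, cz' a⟩).1 (MulEquiv.ext fun γ => conj_inj0 ?_)⟩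
    obtain ⟨k, k1, k2⟩ := sur γ
    have := (h2 (⟨g, cz' a⟩ * k * (⟨g, cz' a⟩ : centralizer {z})⁻¹ * k⁻¹)).2 (b k k1)
    rw [map_mul, map_mul, map_mul, map_inv, map_inv, k2, ← cr, mul_inv_cancel_right, mul_inv_eq_one] at this
    exact this
  have zp : ∀ x : E, x ∈ zpowers (⟨z, es.mem⟩ : E) ↔ (x : G) = 1 ∨ (x : G) = z := fun x => by
    rw [mem_zpowers_invol (Subtype.ext es.sq), Subtype.ext_iff, Subtype.ext_iff]; rfl
  obtain ⟨V, _, _, M, hM⟩ := PGrp.exists_cExt (p := 2) (z := (⟨z, es.mem⟩ : E)) ((orderOf_mk _ _).trans es.orderOf_eq)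
    (mem_center_iff.2 fun g => Subtype.ext (es.cen g g.2)) (commutator_le.2 fun x _ y _ => (zp _).2 (es.mem_zp.1 (es.commutator_mem x.2 y.2)))
    fun x => (zp _).2 (by simpa [sq] using es.sq_mem x x.2)
  have t2 : ∀ v : V, v + v = 0 := fun v => by rw [← two_smul (ZMod 2), show (2 : ZMod 2) = 0 from rfl, zero_smul]
  have uq : ∀ {e f : E} {j : G}, (j = e ∨ j = e * a) → (j = f ∨ j = f * a) → e = f := by
    rintro e f j (rfl | rfl) (b | b)
    exacts [Subtype.ext b, absurd ((mul_mem_cancel_left f.2).1 (b ▸ e.2)) aE, absurd ((mul_mem_cancel_left e.2).1 (b ▸ f.2)) aE,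
      Subtype.ext (mul_right_cancel b)]
  choose! r hr using fun j (b : j ∈ J) => show ∃ e : E, j = e ∨ j = e * a from let ⟨e, b, c⟩ := h.rep b; ⟨⟨e, b⟩, c⟩
  have ce : ∀ e : E, Commute a e := fun e => ca (EJ e.2)
  obtain ⟨pr, p1, p0, ps, q1, b1⟩ : ∃ pr : G → V, (∀ x ∈ J, ∀ y ∈ J, pr (x * y) = pr x + pr y) ∧ (∀ x ∈ J, (pr x = 0 ↔ V4 z a x)) ∧
      (∀ v, ∃ x ∈ J, pr x = v) ∧ (∀ x ∈ J, decide (M.P (pr x) ≠ 0) = false ↔ x * x = 1) ∧
      ∀ x ∈ J, ∀ y ∈ J, decide (M.B (pr x) (pr y) ≠ 0) = false ↔ Commute x y := by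
    refine ⟨fun x => M.pr (r x), fun x b y c => ?_, fun x b => ?_, M.pr_surjective.forall.2 fun e =>
      ⟨e, EJ e.2, congrArg _ (uq (hr _ (EJ e.2)) (Or.inl rfl))⟩, fun x b => ?_, fun x b y c => ?_⟩
    · rw [← M.pr_mul]
      refine congrArg _ (uq (hr _ (mul_mem b c)) ?_)
      have b := hr x b
      have c := hr y c
      generalize r x = e at *; generalize r y = f at *
      rcases b with rfl | rfl <;> rcases c with rfl | rfl
      exacts [Or.inl rfl, Or.inr (mul_assoc _ _ _).symm, Or.inr (by rw [mul_assoc, (ce f).eq, ← mul_assoc]; rfl),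
        Or.inl (by rw [(ce f).mul_mul_mul_comm, aa, mul_one]; rfl)]
    · rw [M.pr_eq_zero', M.range_eq, hM, zp]
      refine ⟨fun c => ?_, fun c => es.of_cen _ (r x).2 fun y d => ?_⟩
      · rcases hr x b with e | e <;> rcases c with c | c <;> rw [e, c] <;> simp [V4]
      · have := (h.vJ c).2.2 y (cJ y (EJ d)) (ca (EJ d))
        rcases hr x b with e | e <;> rw [e] at this
        exacts [this, by simpa using (this.mul_left (ca (EJ d)).inv_left).eq]
    · simp only [ne_eq, decide_not, Bool.not_eq_false', decide_eq_true_eq, M.P_eq_zero, sq, Subtype.ext_iff]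
      have b := hr x b
      generalize r x = e at *
      rcases b with rfl | rfl
      exacts [Iff.rfl, by rw [(ce e).mul_mul_mul_comm, aa, mul_one]; rfl]
    · simp only [ne_eq, decide_not, Bool.not_eq_false', decide_eq_true_eq, M.B_eq_zero, Subtype.ext_iff]
      have k : ∀ {u v : G}, Commute a v → (Commute (u * a) v ↔ Commute u v) := fun c =>
        ⟨fun d => by simpa using d.mul_left c.inv_left, fun d => d.mul_left c⟩
      have c' := ca c
      have b := hr x b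
      have c := hr y c
      generalize r x = e at *; generalize r y = f at *
      rcases b with rfl | rfl <;> rcases c with rfl | rfl
      exacts [Iff.rfl, (Commute.symm_iff.trans ((k (ce e)).trans Commute.symm_iff)).symm, (k c').symm,
        ((k c').trans (Commute.symm_iff.trans ((k (ce e)).trans Commute.symm_iff))).symm]
  have pe : ∀ x ∈ J, ∀ y ∈ J, pr y = pr x ↔ V4 z a (x⁻¹ * y) := fun x b y c => by
    rw [← p0 _ (mul_mem (inv_mem b) c), ← add_right_inj (pr x) (b := pr (x⁻¹ * y)), ← p1 x b _ (mul_mem (inv_mem b) c), mul_inv_cancel_left,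
      add_zero]
  choose s s1 s2 using ps
  choose σ hσ using h1
  have e0 : ∀ g : centralizer {z}, ∀ x ∈ J, pr (σ (π g) * s (pr x) * (σ (π g) : G)⁻¹) = pr (g * x * (g : G)⁻¹) := fun g x b => by
    have m := (h2 (g⁻¹ * σ (π g))).1 (by rw [map_mul, hσ, map_inv, inv_mul_cancel])
    have f := h.vcj (cc g) (h.vm ((pe _ b _ (s1 _)).1 (s2 _)) (show V4 z a ((s (pr x))⁻¹ * (_ * _ * _⁻¹)) by
      rcases h.conj_eq m (s1 (pr x)) with e | e <;> rw [e] <;> simp [V4]))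
    refine (pe _ (nm (cc g) b) _ (nm (cc _) (s1 _))).2 (by convert f using 1; simp only [coe_mul, coe_inv]; group)
  have ind : ∀ {p : V → Prop}, (∀ x ∈ J, p (pr x)) → ∀ v, p v := fun a v => s2 v ▸ a _ (s1 v)
  have sπ : Function.Surjective π := fun γ => ⟨_, hσ γ⟩
  let _ : DistribMulAction (MulAut P0) V :=
    { smul := fun γ v => pr (σ γ * s v * (σ γ : G)⁻¹)
      one_smul := ind fun x b => by
        have := e0 1 x b
        rw [map_one, coe_one, one_mul, inv_one, mul_one] at this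
        exact this
      mul_smul := sπ.forall₂.2 fun g k => ind fun x b => by
        have := e0 (g * k) x b
        rw [map_mul, coe_mul, ← conj_conj', ← e0 g _ (nm (cc k) b), ← e0 k x b] at this
        exact this
      smul_zero := sπ.forall.2 fun g => by
        have := e0 g 1 (one_mem _)
        rwa [mul_one, mul_inv_cancel, (p0 1 (one_mem _)).2 (Or.inl rfl)] at this
      smul_add := sπ.forall.2 fun g => ind fun x b => ind fun y c => by
        have := e0 g _ (mul_mem b c)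
        rw [← conj_mul, p1 _ (nm (cc g) b) _ (nm (cc g) c), p1 x b y c, ← e0 g x b, ← e0 g y c] at this
        exact this }
  have e : ∀ g : centralizer {z}, ∀ x ∈ J, π g • pr x = pr (g * x * (g : G)⁻¹) := e0
  let _ := DistribMulAction.compHom V (MulAut.conj : P0 →* MulAut P0)
  have sm : ∀ (γ : P0) (v : V), γ • v = MulAut.conj γ • v := fun _ _ => rfl
  obtain ⟨a₁, a₂, a₃, a₄, c, d, g, k, D, ρ, r0, r1, r2, r3, r4⟩ := md1
  have HQ : QM P0 (fun v : V => decide (M.P v ≠ 0)) fun v w => decide (M.B v w ≠ 0) := by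
    refine ⟨by have := M.card_eq; omega, t2, fun γ => ind fun x b => ?_, fun v w => ?_, fun u v w => ?_,
      ind fun x b a => (p0 x b).2 (h.cenV fun y hy => (b1 x b y hy).1 (a _)), fun γ a => ?_⟩
    · obtain ⟨g, -, c⟩ := sur γ
      rw [← Bool.not_inj_iff, Bool.eq_iff_iff, Bool.not_eq_true', Bool.not_eq_true', sm, ← c, e g x b, q1 _ b, q1 _ (nm (cc g) b), conj_sq_iff]
    · rw [M.P_add, M.B_symm w]
      generalize M.P v = a; generalize M.P w = b; generalize M.B v w = c; revert a b c; decide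
    · rw [map_add]
      generalize M.B u v = a; generalize M.B u w = b; revert a b; decide
    have := simple0
    rcases (MulAction.toPermHom P0 V).normal_ker.eq_bot_or_eq_top with f | f
    · exact f.le (Equiv.ext a : MulAction.toPermHom P0 V γ = 1)
    obtain ⟨g, g1, g2⟩ := sur a₁
    have : (g * g : G) ∈ J := selfc _ fun j b => conj_eq_self_iff.1 (by
      have v := (pe j b _ (nm (cc g) b)).1 ((e g j b).symm.trans (g2 ▸ Equiv.ext_iff.1 (f.ge (mem_top a₁)) _))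
      rw [← conj_conj', ← mul_inv_cancel_left j (g * j * _), ← conj_mul, cz ((h.vJ v).2.2 g (cc g) (h.ha g1)),
        ← mul_inv_cancel_left j (g * j * _), inv_mul_cancel_left, mul_assoc j, (h.vJ v).2.1, mul_one])
    have := (h2 (g * g)).2 this
    rw [map_mul, g2, ← map_mul, map_eq_one_iff _ conj_inj0] at this
    exact absurd (by simpa [this] using D.cube) D.ne
  refine ⟨H, ?_⟩
  by_cases hN : ∀ v : V, a₁ • v = v → a₂ • v = v
  · have t1 : ∀ j ∈ J, ∀ k ∈ J, pr (θ (j * k)) = pr (θ j) + pr (θ k) := fun j b k c => by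
      rw [← p1 _ (θJ j b) _ (θJ k c)]; exact ((pe _ (θJ _ (mul_mem b c)) _ (mul_mem (θJ j b) (θJ k c))).2 (θm j b k c)).symm
    have e1 : ∀ x ∈ J, pr (θ (s (pr x))) = pr (θ x) := fun x b => by
      have v := (pe _ b _ (s1 _)).1 (s2 _)
      rw [← mul_inv_cancel_left x (s (pr x)), t1 x b _ (h.vJ v).1, (p0 _ (θJ _ (h.vJ v).1)).2 (θv _ v), add_zero]
    refine (HQ.noN D hN (AddMonoidHom.mk' (fun v => pr (θ (s v))) (ind fun x b => ind fun y c => by
      rw [← p1 x b y c, e1 _ (mul_mem b c), e1 x b, e1 y c, t1 x b y c])) (ind fun x b => ?_) fun γ => ind fun x b => ?_).elim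
    · have := (p0 _ (mul_mem (mul_mem b (θJ x b)) (θJ _ (θJ x b)))).2 (θ3 x b)
      rw [p1 _ (mul_mem b (θJ x b)) _ (θJ _ (θJ x b)), p1 _ b _ (θJ x b)] at this
      simp only [AddMonoidHom.mk'_apply, e1 x b, e1 _ (θJ x b)]
      exact (HQ.eq0.1 this).symm
    · obtain ⟨g, -, g2⟩ := sur γ
      simp only [AddMonoidHom.mk'_apply, sm, ← g2, e g x b, e1 x b, e1 _ (nm (cc g) b), e g _ (θJ x b)]
      exact ((pe _ (θJ _ (nm (cc g) b)) _ (nm (cc g) (θJ x b))).2 (θc g ⟨γ, g2.symm⟩ x b)).symm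
  push Not at hN
  obtain ⟨x, x1, x2⟩ := hN
  obtain ⟨μ, β, F, s1', s2', s3, s4⟩ := HQ.fr' D x1 x2
  choose! κ hκ using F.sur
  have mi : ∀ v, κ (μ v) = v := fun v => HQ.eq0.1 ((F.zero _).1 (by rw [F.add, hκ _ (F.lt v), Nat.xor_self]))
  obtain ⟨B, hB⟩ : ∃ B : MulAut P0 → ℕ → ℕ, ∀ f n, B f n = μ (f • κ n) := ⟨_, fun _ _ => rfl⟩
  have bl : ∀ f n, B f n < 256 := fun f n => hB f n ▸ F.lt _
  have bm : ∀ f f' n, B (f * f') n = B f (B f' n) := fun f f' n => by rw [hB, hB, hB, mi, mul_smul]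
  have bc : ∀ γ, EQ (B (MulAut.conj γ)) (β γ) := fun γ n hn => by rw [hB, ← sm, F.act, hκ n hn]
  have ba : ∀ f, ∀ m < 256, ∀ n < 256, B f (m ^^^ n) = B f m ^^^ B f n := fun f m hm n hn => by
    rw [hB, hB, hB, ← F.add, ← smul_add, ← mi (κ m + κ n), F.add, hκ m hm, hκ n hn]
  have t : ∀ {a a' e e'}, ρ a = a' * a' → EQ (β a) (rf e) → EQ (β a') (rf e') → ∀ n < 256, B ρ (rf e n) = Par.wd [e', e'] (B ρ n) :=
    fun {a a' e e'} r s s' n hn => by
      rw [← s n hn, ← bc a n hn, ← bm, ← cr, r, map_mul, bm, bm, bc _ _ (bl _ _), s' _ (bl _ _), bc _ _ (bl _ _), s' _ (bl _ _), wd2]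
  have o1 : ∀ n < 256, B ρ (om (om n)) = om (B ρ n) := fun n hn => by
    have l := fun e (he : e < 256) => rf_lt he hn
    rw [(sum_chk n hn).1, ba _ _ (xlt (xlt (l 1 (by norm_num)) (l 4 (by norm_num))) (l 16 (by norm_num))) _ (l 64 (by norm_num)),
      ba _ _ (xlt (l 1 (by norm_num)) (l 4 (by norm_num))) _ (l 16 (by norm_num)), ba _ _ (l 1 (by norm_num)) _ (l 4 (by norm_num)),
      t r1 s1' s3 n hn, t r2 s2' s4 n hn, t r3 s3 s1' n hn, t r4 s4 s2' n hn, (sum_chk _ (bl _ _)).2]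
  have o2 : ∀ n < 256, B ρ (om n) = om (om (B ρ n)) := fun n hn => by
    rw [← o1 n hn, ← o1 _ (om_lt _ (om_lt n hn)), (om3 _ (om_lt n hn)).2.1]
  have B1 : ∀ n < 256, B 1 n = n := fun n hn => by rw [hB, one_smul, hκ n hn]
  have rn : ρ ∉ (MulAut.conj : P0 →* MulAut P0).range := by
    rintro ⟨γ, rfl⟩
    have := o2 _ (bl (MulAut.conj γ)⁻¹ 1)
    rw [bc _ _ (om_lt _ (bl _ _)), F.om _ _ (bl _ _), ← bc _ _ (bl _ _), ← bm, mul_inv_cancel, B1 1 (by norm_num)] at this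
    exact absurd this (by decide)
  obtain ⟨α, a1⟩ : ∃ α : G → ℕ → ℕ, ∀ g (hg : Commute z g), α g = B (π ⟨g, cz' hg⟩) :=
    ⟨fun g => if hg : Commute z g then B (π ⟨g, cz' hg⟩) else id, fun g hg => dif_pos hg⟩
  have mY : ∀ {g}, g ∈ centralizer {z} ⊓ centralizer {a} ↔ Commute z g ∧ Commute a g := by
    simp only [mem_inf, mem_centralizer_singleton_iff]; exact and_congr Commute.symm_iff Commute.symm_iff
  have cj0 : ∀ {g y}, Commute z g → y ∈ J → μ (pr (g * y * g⁻¹)) = α g (μ (pr y)) := fun a b => by rw [a1 _ a, hB, mi, e _ _ b]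
  have om2 : ∀ {g n}, Commute z g → g ∉ H → n < 256 → α g (om n) = om (om (α g n)) := fun {g n} a b c => by
    obtain ⟨γ, d⟩ := (mul_mem_iff_of_index_two idx0).2 (iff_of_false rn (mt (mH' a).2 b))
    rw [a1 _ a, ← one_mul (π _), ← r0, mul_assoc, ← d, bm, bm, bc _ _ (om_lt n c), F.om _ _ c, ← bc _ _ c, o2 _ (bl _ _)]
  refine ⟨_, fun y => μ (pr y), α, ⟨h, mY, fun y => F.lt _, fun a b => by rw [p1 _ a _ b, F.add], fun a => by rw [F.zero, p0 _ a],
    fun n hn => ⟨_, s1 (κ n), by rw [s2, hκ n hn]⟩, fun a => by rw [← F.q, q1 _ a], fun a b => by rw [← F.b, b1 _ a _ b],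
    fun a => cj0 (mY.1 a).1, fun {g n} a b => ?_, fun a => om2 (mY.1 a).1, fun v a b => ?_, fun {g} a b => ?_⟩, ?_⟩
  · obtain ⟨c, γ, d⟩ := (mH g).1 a
    rw [a1 _ c, ← d, bc _ _ (om_lt n b), bc _ _ b, F.om _ _ b]
  · obtain ⟨γ, c⟩ := F.refl v a b
    obtain ⟨g, g1, g2⟩ := sur γ
    exact ⟨g, g1, fun n hn => by rw [a1 _ (cc g), g2, bc _ _ hn, c n hn]⟩
  · have a := (mY.1 a).1
    obtain ⟨c, γ, d⟩ := (mH g).1 (by_contra fun n => by
      have := om2 a n (n := 1) (by norm_num)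
      rw [b 1 (by norm_num), b _ (by decide)] at this
      exact absurd this (by decide))
    have : γ = 1 := HQ.faith γ fun v => by rw [← mi (γ • v), sm, d, ← mi v, ← hB, ← a1 _ c, b _ (F.lt v), mi]
    exact (h2 ⟨g, cz' c⟩).1 (by rw [← d, this, map_one])
  obtain ⟨w, rfl⟩ := sπ ρ
  have w2 := mt (mH' (cc w)).1 rn
  have w3 : (w * w : G) ∈ J := (h2 (w * w)).1 ((map_mul _ _ _).trans r0)
  have q := s1 (κ (om (μ (pr (w * w)))))
  have m := mul_mem q (nm (cc w) q)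
  refine ⟨s (κ (om (μ (pr (w * w))))) * w, (cJ _ q).mul_right (cc w), mt (mul_mem_cancel_left (h.le q)).1 w2, ?_⟩
  have f := cj0 (cc w) w3
  rw [show ∀ w : G, w * (w * w) * w⁻¹ = w * w from fun w => by group] at f
  rw [show ∀ q w : G, q * w * (q * w) = q * (w * q * w⁻¹) * (w * w) from fun q w => by group, ← p0 _ (mul_mem m w3), ← F.zero, p1 _ m _ w3,
    p1 _ q _ (nm (cc w) q), F.add, F.add, cj0 (cc w) q, s2, hκ _ (om_lt _ (F.lt _)), om2 (cc w) w2 (F.lt _), ← f, (om3 _ (F.lt _)).1]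
  generalize om (μ _) = x
  rw [Nat.xor_comm _ x, ← Nat.xor_assoc, Nat.xor_self, Nat.zero_xor, Nat.xor_self]

end Cfsg.Lib.Par
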