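import Cfsg.Agent.Lib.Known2.TA

/-! Unitary coordinates on a `2`-group modulo an elementary abelian centre. -/

set_option autoImplicit false
set_option synthInstance.maxSize 2000
set_option linter.unusedSectionVars false

namespace Cfsg.Lib.Par

open Subgroup Cfsg.Lib.Known2 Cfsg.Lib.Core Cfsg.Lib.Fi Cfsg.Lib.Amalg
open Cfsg.Lib.Comp (force force_eq allN)

variable {G : Type*} [Group G]

structure GJ (J W H Y : Subgroup G) (z : G) (ν : G → ℕ) (α : G → ℕ → ℕ) : Prop where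
  zz : z * z = 1
  ne : z ≠ 1
  zW : z ∈ W
  WJ : W ≤ J
  le : J ≤ H
  HY : H ≤ Y
  zY : ∀ {g}, g ∈ Y → Commute z g
  nm' : ∀ {g y}, g ∈ Y → y ∈ J → g * y * g⁻¹ ∈ J
  two' : ∀ {a b}, a ∈ Y → b ∈ Y → (a * b ∈ H ↔ (a ∈ H ↔ b ∈ H))
  conj_eq : ∀ {j k}, j ∈ J → k ∈ J → j * k * j⁻¹ = k ∨ j * k * j⁻¹ = k * z
  sq : ∀ {j}, j ∈ J → j * j = 1 ∨ j * j = z
  vc : ∀ {v g}, v ∈ W → g ∈ H → Commute v g
  v2 : ∀ {v}, v ∈ W → v * v = 1
  lt : ∀ y, ν y < 256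
  mul : ∀ {x y}, x ∈ J → y ∈ J → ν (x * y) = ν x ^^^ ν y
  zero : ∀ {y}, y ∈ J → (ν y = 0 ↔ y ∈ W)
  sur : ∀ n < 256, ∃ y ∈ J, ν y = n
  sq' : ∀ {y}, y ∈ J → (y * y = 1 ↔ q8 (ν y) = false)
  comm : ∀ {x y}, x ∈ J → y ∈ J → (Commute x y ↔ b8 (ν x) (ν y) = false)
  conj : ∀ {g y}, g ∈ Y → y ∈ J → ν (g * y * g⁻¹) = α g (ν y)
  om : ∀ {g n}, g ∈ H → n < 256 → α g (om n) = om (α g n)
  om2 : ∀ {g n}, g ∈ Y → g ∉ H → n < 256 → α g (Par.om n) = Par.om (Par.om (α g n))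
  refl : ∀ v < 256, q8 v = true → ∃ g ∈ H, EQ (α g) (rf v)
  ker : ∀ {g}, g ∈ Y → (∀ n < 256, α g n = n) → g ∈ J

namespace GJ
variable [Finite G] {J W H Y : Subgroup G} {z : G} {ν : G → ℕ} {α : G → ℕ → ℕ} (h : GJ J W H Y z ν α) {g k x y t u v w b c d r : G}
  {m n p : ℕ}
include h

theorem lY (hg : g ∈ H) : g ∈ Y := h.HY hg
theorem JY (hg : g ∈ J) : g ∈ Y := h.lY (h.le hg)
theorem zJ : z ∈ J := h.WJ h.zW
theorem hz (hg : g ∈ H) : Commute z g := h.zY (h.lY hg)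
theorem cJ (hg : g ∈ J) : Commute z g := h.zY (h.JY hg)
theorem ν1 : ν 1 = 0 := (h.zero (one_mem _)).2 (one_mem _)
theorem νz (hy : y ∈ J) : ν (y * z) = ν y := by rw [h.mul hy h.zJ, (h.zero h.zJ).2 h.zW, Nat.xor_zero]
theorem νi (hy : y ∈ J) : ν y⁻¹ = ν y := by
  have := h.mul (inv_mem hy) hy
  rw [inv_mul_cancel, h.ν1] at this
  exact Nat.xor_eq_zero_iff.1 this.symm

theorem eq_or (hx : x ∈ J) (hy : y ∈ J) (e : ν x = ν y) : ∃ v, v ∈ W ∧ y = x * v :=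
  ⟨x⁻¹ * y, (h.zero (mul_mem (inv_mem hx) hy)).1 (by rw [h.mul (inv_mem hx) hy, h.νi hx, e, Nat.xor_self]), by simp⟩

theorem al (hg : g ∈ Y) (hn : n < 256) : α g n < 256 := by
  obtain ⟨y, a, rfl⟩ := h.sur n hn
  exact h.conj hg a ▸ h.lt _

theorem ax (hg : g ∈ Y) (hm : m < 256) (hn : n < 256) : α g (m ^^^ n) = α g m ^^^ α g n := by
  obtain ⟨y, a, rfl⟩ := h.sur n hn
  obtain ⟨x, b, rfl⟩ := h.sur m hm
  rw [← h.mul b a, ← h.conj hg a, ← h.conj hg b, ← h.conj hg (mul_mem b a), ← h.mul (h.nm' hg b) (h.nm' hg a), conj_mul]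

theorem aq (hg : g ∈ Y) (hn : n < 256) : q8 (α g n) = q8 n := by
  obtain ⟨y, a, rfl⟩ := h.sur n hn
  rw [← h.conj hg a, ← Bool.not_inj_iff, Bool.eq_iff_iff, Bool.not_eq_true', Bool.not_eq_true', ← h.sq' a, ← h.sq' (h.nm' hg a),
    conj_sq_iff]

theorem ab (hg : g ∈ Y) (hm : m < 256) (hn : n < 256) : b8 (α g m) (α g n) = b8 m n := by
  have := q8_xor (h.al hg hm) (h.al hg hn)
  rw [← h.ax hg hm hn, h.aq hg (xlt hm hn), h.aq hg hm, h.aq hg hn, q8_xor hm hn] at this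
  revert this; cases q8 m <;> cases q8 n <;> simp [eq_comm]

theorem un (hg : g ∈ H) : Un (α g) := ⟨h.al (h.lY hg), h.ax (h.lY hg), h.aq (h.lY hg), h.om hg⟩

theorem αm (hg : g ∈ Y) (hk : k ∈ Y) (hn : n < 256) : α (g * k) n = α g (α k n) := by
  obtain ⟨y, a, rfl⟩ := h.sur n hn
  rw [← h.conj hk a, ← h.conj hg (h.nm' hk a), ← h.conj (mul_mem hg hk) a, conj_conj']

theorem αQ (hx : x ∈ J) (hn : n < 256) : α x n = n := by
  obtain ⟨y, a, rfl⟩ := h.sur n hn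
  rw [← h.conj (h.JY hx) a]
  rcases h.conj_eq hx a with e | e <;> rw [e]
  exact h.νz a

theorem αi (hg : g ∈ Y) (hn : n < 256) : α g (α g⁻¹ n) = n := by
  rw [← h.αm hg (inv_mem hg) hn, mul_inv_cancel, h.αQ (one_mem _) hn]

theorem αi' (hg : g ∈ Y) (hn : n < 256) : α g⁻¹ (α g n) = n := by
  simpa using h.αi (inv_mem hg) hn

theorem αc (hg : g ∈ Y) (hk : k ∈ Y) (hn : n < 256) : α (g * k * g⁻¹) n = α g (α k (α g⁻¹ n)) := by
  rw [h.αm (mul_mem hg hk) (inv_mem hg) hn, h.αm hg hk (h.al (inv_mem hg) hn)]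

theorem fix (hg : g ∈ Y) (hy : y ∈ J) (e : Commute g y) : α g (ν y) = ν y := by
  rw [← h.conj hg hy, e.eq, mul_inv_cancel_right]

theorem same (hg : g ∈ Y) (hk : k ∈ Y) (e : EQ (α g) (α k)) : g * k⁻¹ ∈ J :=
  h.ker (mul_mem hg (inv_mem hk)) fun n hn => by rw [h.αm hg (inv_mem hk) hn, e _ (h.al (inv_mem hk) hn), h.αi hk hn]

theorem νc (hg : g ∈ Y) (hy : y ∈ J) : y * g * y⁻¹ * g⁻¹ ∈ J ∧ ν (y * g * y⁻¹ * g⁻¹) = ν y ^^^ α g (ν y) := by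
  rw [mul_assoc, mul_assoc, ← mul_assoc g]
  exact ⟨mul_mem hy (h.nm' hg (inv_mem hy)), by rw [h.mul hy (h.nm' hg (inv_mem hy)), h.conj hg (inv_mem hy), h.νi hy]⟩

theorem word {w : List ℕ} (hw : okw w) : ∃ g ∈ H, EQ (α g) (wd w) := by
  induction w with
  | nil => exact ⟨1, one_mem _, fun n hn => h.αQ (one_mem _) hn⟩
  | cons v w ih =>
    obtain ⟨g, a, b⟩ := ih fun x hx => hw x (List.mem_cons_of_mem _ hx)
    obtain ⟨k, c, d⟩ := h.refl v (hw v List.mem_cons_self).1 (hw v List.mem_cons_self).2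
    exact ⟨k * g, mul_mem c a, fun n hn => by rw [h.αm (h.lY c) (h.lY a) hn, d _ ((h.un a).lt hn), b n hn]; rfl⟩

theorem tr1 (hp : sg p) : ∃ g ∈ H, α g p = 5 := by
  obtain ⟨g, a, b⟩ := h.word (t1_chk p hp.1 hp).1
  exact ⟨g, a, (b p hp.1).trans (t1_chk p hp.1 hp).2⟩

theorem tvx (hp : sg p) : ∃ g ∈ H, EQ (α g) (tv p) := by
  obtain ⟨k, a, b⟩ := h.word (w := [26, 21, 16]) (by decide)
  obtain ⟨g, c, d⟩ := h.tr1 hp
  refine ⟨g⁻¹ * k * g⁻¹⁻¹, mul_mem (mul_mem (inv_mem c) a) (inv_mem (inv_mem c)), fun n hn => ?_⟩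
  rw [h.αc (inv_mem (h.lY c)) (h.lY a) hn, inv_inv, b _ ((h.un c).lt hn),
    (by decide +kernel : ∀ n < 256, wd [26, 21, 16] n = tv 5 n) _ ((h.un c).lt hn), ← d, ← (h.un c).tv hp.1 hn,
    h.αi' (h.lY c) (tv_lt hp.1 hn)]

section
variable {a' b' d' : ℕ} (w1 : w ∈ Y) (w2 : w ∉ H) (w3 : w * w ∈ J)
include w1 w2 w3

theorem o1 {a : ℕ} (ha : a < 256) (e : α w a = a) : Par.om a ^^^ α w (Par.om a) = a := by
  rw [h.om2 w1 w2 ha, e, (om3 a ha).1, Nat.xor_comm a, ← Nat.xor_assoc, Nat.xor_self, Nat.zero_xor]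

theorem tr (hn : n < 256) : α w (n ^^^ α w n) = n ^^^ α w n := by
  rw [h.ax w1 hn (h.al w1 hn), ← h.αm w1 w1 hn, h.αQ w3 hn, Nat.xor_comm]

theorem iso {a : ℕ} (ha : a < 256) (e : α w a = a) {b : ℕ} (hb : b < 256) (f : α w b = b) : b8 a b = false := by
  rw [← h.o1 w1 w2 w3 ha e, b8_left (om_lt a ha) (h.al w1 (om_lt a ha))]
  conv_lhs => rw [← h.ab w1 (om_lt a ha) hb, f]
  simp

theorem dec2 (hn : n < 256) : ∃ a < 256, α w a = a ∧ ∃ b < 256, α w b = b ∧ n = Par.om a ^^^ b := by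
  have l := xlt hn (h.al w1 hn)
  have t := h.tr w1 w2 w3 hn
  refine ⟨_, l, t, n ^^^ Par.om (n ^^^ α w n), xlt hn (om_lt _ l), ?_, by
    generalize Par.om (n ^^^ α w n) = x
    rw [Nat.xor_comm n, ← Nat.xor_assoc, Nat.xor_self, Nat.zero_xor]⟩
  rw [h.ax w1 hn (om_lt _ l), h.om2 w1 w2 l, t, (om3 _ l).1, ← Nat.xor_assoc, Nat.xor_comm n, ← Nat.xor_assoc, Nat.xor_self, Nat.zero_xor]

theorem nd {d : ℕ} (hd : d < 256) (e : α w d = d) (f : ∀ a < 256, α w a = a → b8 (Par.om a) d = false) : d = 0 := b8_nd d hd fun i hi => by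
  obtain ⟨a, a1, a2, b, b1, b2, c⟩ := h.dec2 w1 w2 w3 (Nat.pow_lt_pow_right (n := 8) one_lt_two hi)
  rw [c, b8_right hd (om_lt a a1) b1, b8_comm hd (om_lt a a1), f a a1 a2, h.iso w1 w2 w3 hd e b1 b2]; rfl

theorem fa (hk : k ∈ H) (f : ∀ a < 256, α w a = a → α k a = a) : k ∈ J := h.ker (h.lY hk) fun n hn => by
  obtain ⟨a, a1, a2, b, b1, b2, rfl⟩ := h.dec2 w1 w2 w3 hn
  rw [h.ax (h.lY hk) (om_lt a a1) b1, h.om hk a1, f a a1 a2, f b b1 b2]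

end

theorem tr2 {q : ℕ} (hp : sg p) (hq : q < 256) (h1 : q8 q = false) (h2 : Par.hz p q = true) (h3 : inW p q = false) :
    ∃ g ∈ H, inW 5 (α g p) = true ∧ inW 80 (α g q) = true := by
  obtain ⟨g, a, b⟩ := h.tr1 hp
  have U := h.un a
  obtain ⟨w, -, c, d, e⟩ := t2_chk _ (U.lt hq) ⟨(U.q hq).trans h1, b ▸ (U.hz hp.1 hq).trans h2, b ▸ (U.inW hp.1 hq).trans h3⟩
  obtain ⟨k, f, l⟩ := h.word c
  exact ⟨k * g, mul_mem f a, by rwa [h.αm (h.lY f) (h.lY a) hp.1, b, l 5 (by norm_num)],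
    by rwa [h.αm (h.lY f) (h.lY a) hq, l _ (U.lt hq)]⟩

theorem nf (ht : t ∈ H) (tt : t * t = 1) (tJ : t ∉ J) : ∃ l ∈ H, ∃ m ∈ [1, 3], EQ (α (l * t * l⁻¹)) (FF m) := by
  have hz := h.lY ht
  obtain ⟨p, q, hp, hq, a1, a2, a3, a4⟩ := inv1 (h.un ht) fun n hn => by rw [← h.αm hz hz hn, tt, h.αQ (one_mem _) hn]
  obtain ⟨g, g1, g2, g3⟩ := h.tr2 hp hq.1 hq.2.1 a3 a4
  have g0 := h.lY g1
  have c1 := mul_mem (mul_mem g1 ht) (inv_mem g1)
  obtain ⟨m, hm, e⟩ := ff_of (h.un c1)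
    (fix_sc (h.un c1) (by norm_num) g2 ((h.un g1).sg hp).2.2 (by rw [h.αc g0 hz ((h.un g1).lt hp.1), h.αi' g0 hp.1, a1]))
    (fix_sc (h.un c1) (by norm_num) g3 ((h.un g1).sg hq).2.2 (by rw [h.αc g0 hz ((h.un g1).lt hq.1), h.αi' g0 hq.1, a2]))
  obtain ⟨a, -, -, d, -⟩ := tr_chk m hm
  obtain ⟨k, k1, f⟩ := h.word a
  have l := fun {n} => (h.un (inv_mem k1)).lt (n := n)
  have e2 : EQ (α (k * g * t * (k * g)⁻¹)) (FF (Par.rep m)) := fun n hn => by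
    rw [← conj_conj', h.αc (h.lY k1) (h.lY c1) hn, f _ ((h.un c1).lt (l hn)), e _ (l hn), d _ (l hn), ← f _ (l hn), h.αi (h.lY k1) hn]
  have kg := mul_mem k1 g1
  obtain b | b | b := (by decide : ∀ m < 16, Par.rep m = 0 ∨ Par.rep m = 1 ∨ Par.rep m = 3) m hm <;> rw [b] at e2
  · exact absurd (by simpa [mul_assoc] using h.nm' (inv_mem (h.lY kg)) (h.ker (h.lY (mul_mem (mul_mem kg ht) (inv_mem kg)))
      fun n hn => by rw [e2 n hn, (ff_val n hn).1])) tJ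
  exacts [⟨_, kg, 1, by simp, e2⟩, ⟨_, kg, 3, by simp, e2⟩]

theorem ivt (bb : b * b = 1) : b * (y * b * y⁻¹ * b⁻¹) * b⁻¹ = (y * b * y⁻¹ * b⁻¹)⁻¹ := by
  rw [show b * (y * b * y⁻¹ * b⁻¹) * b⁻¹ = (y * b * y⁻¹ * b⁻¹)⁻¹ * (y * (b * b) * y⁻¹ * (b * b)⁻¹) by group, bb]; simp

theorem cm1 (hb : b ∈ Y) (bb : b * b = 1) (hn : n < 256) (e : q8 (n ^^^ α b n) = false) (hc : c ∈ Y)
    (l : ∀ j ∈ J, Commute b j → Commute c j) : α c (n ^^^ α b n) = n ^^^ α b n := by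
  obtain ⟨j, j1, rfl⟩ := h.sur n hn
  obtain ⟨c1, c2⟩ := h.νc hb j1
  rw [← c2]
  refine h.fix hc c1 (l _ c1 (conj_eq_self_iff.1 ?_))
  rw [h.ivt bb, inv_eq_of_mul_eq_one_right ((h.sq' c1).2 (c2 ▸ e))]

theorem inn (hc : c ∈ Y) (h5 : α c 5 = 5) (h10 : α c 10 = 10) : c ∈ H := by_contra fun n => by
  have := h.om2 hc n (n := 5) (by norm_num)
  rw [h5] at this
  exact absurd (h10.symm.trans this) (by decide)

theorem fixn (hc : c ∈ Y) (hn : n < 256) (e : ∀ y ∈ J, ν y = n → Commute c y) : α c n = n := by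
  obtain ⟨y, a, rfl⟩ := h.sur n hn
  exact h.fix hc a (e y a rfl)

theorem pair0 (hb : b ∈ Y) (bb : b * b = 1) (hm : m ∈ [1, 3]) (e : EQ (α b) (FF m)) (hc : c ∈ Y) (l : ∀ j ∈ J, Commute b j → Commute c j) :
    c ∈ H ∧ α c 5 = 5 := by
  have k : ∀ x ∈ [5, 10], α c x = x := fun x hx => by
    obtain ⟨n, n1, n2⟩ := r_chk.2.2.2.1 m hm x hx
    rw [← e n n1] at n2
    exact n2 ▸ h.cm1 hb bb n1 (n2 ▸ by revert hx; clear n2; revert x; decide) hc l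
  exact ⟨h.inn hc (k 5 (by simp)) (k 10 (by simp)), k 5 (by simp)⟩

theorem cjl {l : G} (hl : l ∈ H) (e : ∀ j ∈ J, Commute b j → Commute c j) : ∀ j ∈ J, Commute (l * b * l⁻¹) j → Commute (l * c * l⁻¹) j :=
  fun j a f => commute_conj_left_iff.2 (e _ (by simpa using h.nm' (inv_mem (h.lY hl)) a) (commute_conj_left_iff.1 f))

theorem pair (hb : b ∈ H) (bb : b * b = 1) (bJ : b ∉ J) (hc : c ∈ Y) (l : ∀ j ∈ J, Commute b j → Commute c j) : c ∈ H := by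
  obtain ⟨k, k1, m, m1, e⟩ := h.nf hb bb bJ
  have k0 := h.lY k1
  have := (h.pair0 (mul_mem (mul_mem k0 (h.lY hb)) (inv_mem k0)) (conj_sq_iff.2 bb) m1 e (mul_mem (mul_mem k0 hc) (inv_mem k0))
    (h.cjl k1 l)).1
  rwa [mul_mem_cancel_right (inv_mem k1), mul_mem_cancel_left k1] at this

theorem g14 : ∃ g ∈ H, EQ (α g) (wd [1, 4]) := h.word (by decide)

theorem lam (hb : b ∈ Y) (e : EQ (α b) (tv 5)) (hy : y ∈ J) (f : Par.hz 5 (ν y) = true) : y ∈ fx0 h.cJ h.zz b := by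
  obtain ⟨g, g1, g2⟩ := h.g14
  have g0 := h.lY g1
  have q1 := h.same (mul_mem g0 hb) (mul_mem hb g0) fun n hn => by
    rw [h.αm g0 hb hn, h.αm hb g0 hn, g2 _ (h.al hb hn), e n hn, e _ (h.al g0 hn), g2 n hn, ← (ff_val n hn).2.1,
      r_chk.2.1 1 (by simp) n hn, (ff_val _ (wd_lt (by decide) hn)).2.1]
  have bH : b ∈ H := h.inn hb ((e 5 (by norm_num)).trans (by decide)) ((e 10 (by norm_num)).trans (by decide))
  have st : ∀ y ∈ J, ∀ v ∈ W, b * y * b⁻¹ = y * v → ∃ u, (u = v ∨ u = z * v) ∧ u ∈ W ∧ b * (g * y * g⁻¹) * b⁻¹ = g * y * g⁻¹ * u := fun y a v v1 c => by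
    have : b * (g * y * g⁻¹) * b⁻¹ = (g * b * (b * g)⁻¹)⁻¹ * (g * (b * y * b⁻¹) * g⁻¹) * (g * b * (b * g)⁻¹)⁻¹⁻¹ := by group
    rw [this, c, ← conj_mul (b := g), cz (h.vc v1 g1), ← conj_mul, cz (h.vc v1 (h.le (inv_mem q1)))]
    rcases h.conj_eq (inv_mem q1) (h.nm' g0 a) with e | e <;> rw [e]
    exacts [⟨v, Or.inl rfl, v1, rfl⟩, ⟨_, Or.inr rfl, mul_mem h.zW v1, mul_assoc _ _ _⟩]
  obtain ⟨v, v1, v2⟩ := h.eq_or hy (h.nm' hb hy) (by rw [h.conj hb hy, e _ (h.lt y), (sc_all (by norm_num) (h.lt y)).2.2.2.1 f])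
  have y1 := h.nm' g0 hy
  have y2 := h.nm' g0 y1
  obtain ⟨u, u1, u2, u3⟩ := st y hy v v1 v2
  obtain ⟨w, w1, w2, w3⟩ := st _ y1 u u2 u3
  have m := mul_mem (mul_mem hy y1) y2
  have := cz (h.vc ((h.zero m).1 (by
    rw [h.mul (mul_mem hy y1) y2, h.mul hy y1, h.conj g0 y1, h.conj g0 hy, g2 _ (h.al g0 (h.lt y)), g2 _ (h.lt y), fpf_chk _ (h.lt y)])) bH)
  rw [← conj_mul, ← conj_mul, v2, u3, w3, (h.vc v1 (h.le y1)).mul_mul_mul_comm, (h.vc (mul_mem v1 u2) (h.le y2)).mul_mul_mul_comm,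
    mul_eq_left] at this
  refine ⟨hy, v2 ▸ ?_⟩
  have vv := h.v2 v1
  have zz := h.zz
  have c1 : ∀ x, v * (z * x) = z * (v * x) := fun x => (h.vc v1 (h.le h.zJ)).left_comm x
  have c2 : ∀ x, z * (z * x) = x := fun x => by rw [← mul_assoc, zz, one_mul]
  have c3 : ∀ x, v * (v * x) = x := fun x => by rw [← mul_assoc, vv, one_mul]
  have c4 : z * v = 1 → v = z := fun e => by rw [← c2 v, e, mul_one]
  rcases u1 with rfl | rfl <;> rcases w1 with rfl | rfl <;> simp only [mul_assoc, c1, c2, c3, vv, mul_one, one_mul] at this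
  exacts [Or.inl (by rw [this, mul_one]), Or.inr (by rw [c4 this]), Or.inl (by rw [this, mul_one]), Or.inr (by rw [c4 this])]

theorem tau5 (hb : b ∈ Y) (bb : b * b = 1) (e : EQ (α b) (tv 5)) (hc : c ∈ Y) (l : ∀ j ∈ J, Commute b j → Commute c j) :
    c ∈ J ∨ c * b ∈ J := by
  obtain ⟨c1, c2⟩ := h.pair0 hb bb (m := 1) (by simp) (fun n hn => (e n hn).trans (ff_val n hn).2.1.symm) hc l
  have U := h.un c1
  have k : ∀ x ∈ [80, 144], α c x = x := fun x hx => by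
    obtain ⟨x1, x2, x3⟩ := (by decide : ∀ x ∈ [80, 144], x < 256 ∧ Par.hz 5 x = true ∧ Par.hz 5 (Par.om x) = true) x hx
    obtain ⟨y, y1, rfl⟩ := h.sur x x1
    obtain ⟨u, u1, u2⟩ := h.sur _ (om_lt _ x1)
    by_cases p : Commute b y
    · exact h.fix hc y1 (l y y1 p)
    by_cases q : Commute b u
    · exact fix_sc U x1 (q := ν u) (by simp [u2, inW]) (by rw [u2]; revert hx; generalize ν y = x; revert x; decide) (h.fix hc u1 (l u u1 q))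
    have := h.fix hc (mul_mem y1 u1) (l _ (mul_mem y1 u1) ((fx0_iff h.ne (h.lam hb e y1 x2) (h.lam hb e u1 (u2 ▸ x3))).2 (iff_of_false p q)))
    rw [h.mul y1 u1, u2, ← (om3 _ x1).1] at this
    exact fix_sc U x1 (by simp [inW]) (by revert hx; generalize ν y = x; revert x; decide) this
  obtain ⟨m, hm, f⟩ := ff_of U c2 (k 80 (by simp))
  by_cases m0 : m = 0
  · exact Or.inl (h.ker hc fun n hn => by rw [f n hn, m0, (ff_val n hn).1])
  · exact Or.inr (inv_eq_of_mul_eq_one_right bb ▸ h.same hc hb fun n hn => by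
      rw [f n hn, (ff_fix 144 (by norm_num) rfl m hm ((f _ (by norm_num)).symm.trans (k 144 (by simp))) m0).1 rfl, (ff_val n hn).2.1, e n hn])

theorem tau (hb : b ∈ Y) (bb : b * b = 1) (hp : sg p) (e : EQ (α b) (tv p)) (hc : c ∈ Y) (l : ∀ j ∈ J, Commute b j → Commute c j) :
    c ∈ J ∨ c * b ∈ J := by
  obtain ⟨k, k1, k2⟩ := h.tr1 hp
  have k0 := h.lY k1
  have := h.tau5 (mul_mem (mul_mem k0 hb) (inv_mem k0)) (conj_sq_iff.2 bb) (fun n hn => by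
    rw [h.αc k0 hb hn, e _ (h.al (inv_mem k0) hn), (h.un k1).tv hp.1 (h.al (inv_mem k0) hn), k2, h.αi k0 hn])
    (mul_mem (mul_mem k0 hc) (inv_mem k0)) (h.cjl k1 l)
  rw [conj_mul] at this
  exact this.imp (fun a => by simpa [mul_assoc] using h.nm' (inv_mem k0) a) fun a => by simpa [mul_assoc] using h.nm' (inv_mem k0) a

theorem lift (hd : d ∈ Y) (hg : g ∈ H) (u1 : g * d * g⁻¹ * d⁻¹ ∈ J) (hn : n < 256) (e : ν (g * d * g⁻¹ * d⁻¹) = n ^^^ α d n) :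
    ∃ y ∈ H, Commute y d ∧ ∀ n < 256, α y n = α g (α g n) := by
  obtain ⟨j, j1, rfl⟩ := h.sur n hn
  obtain ⟨c1, c2⟩ := h.νc hd j1
  obtain ⟨v, v1, v2⟩ := h.eq_or c1 u1 (c2.trans e.symm)
  have m := mul_mem (inv_mem (h.le j1)) hg
  have f : j⁻¹ * g * d * (j⁻¹ * g)⁻¹ = v * d := by
    rw [← conj_conj', mul_inv_eq_iff_eq_mul.1 v2, ← (h.vc v1 (h.le c1)).eq, mul_assoc v, inv_mul_cancel_right, ← conj_mul,
      cz (h.vc v1 (inv_mem (h.le j1))), show j⁻¹ * (j * d * j⁻¹) * j⁻¹⁻¹ = d by group]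
  have i : ∀ n < 256, α (j⁻¹ * g) n = α g n := fun n hn => by
    rw [h.αm (inv_mem (h.JY j1)) (h.lY hg) hn, h.αQ (inv_mem j1) (h.al (h.lY hg) hn)]
  refine ⟨_, mul_mem m m, conj_eq_self_iff.1 ?_, fun n hn => by rw [h.αm (h.lY m) (h.lY m) hn, i n hn, i _ (h.al (h.lY hg) hn)]⟩
  rw [← conj_conj', f, ← conj_mul, f, cz (h.vc v1 m), ← mul_assoc, h.v2 v1, one_mul]

theorem ufix (hd : d ∈ Y) (dd : d * d = 1) (u1 : g * d * g⁻¹ * d⁻¹ ∈ J) : α d (ν (g * d * g⁻¹ * d⁻¹)) = ν (g * d * g⁻¹ * d⁻¹) := by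
  rw [← h.conj hd u1, h.ivt dd, h.νi u1]

theorem u14 (hd : d ∈ Y) (hm : m ∈ [1, 3]) (e : EQ (α d) (FF m)) (g1 : g ∈ H) (g2 : EQ (α g) (wd [1, 4])) : g * d * g⁻¹ * d⁻¹ ∈ J := by
  have g0 := h.lY g1
  simpa [mul_assoc] using h.same (mul_mem g0 hd) (mul_mem hd g0) fun n hn => by
    rw [h.αm g0 hd hn, h.αm hd g0 hn, g2 _ (h.al hd hn), e n hn, e _ (h.al g0 hn), g2 n hn, r_chk.2.1 m hm n hn]

theorem y3 (hd : d ∈ Y) (dd : d * d = 1) (e : EQ (α d) (FF 3)) : ∃ y ∈ H, Commute y d ∧ ∀ n < 256, α y n = wd [1, 4] (wd [1, 4] n) := by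
  obtain ⟨g, g1, g2⟩ := h.g14
  have u1 := h.u14 hd (m := 3) (by simp) e g1 g2
  have u2 := h.ufix hd dd u1
  rw [e _ (h.lt _)] at u2
  obtain ⟨n, n1, n2⟩ := ((u_chk _ (h.lt _)).1 (by_contra fun n => ((u_chk _ (h.lt _)).2.1 (by simpa using n)).2 u2)).2.2
  obtain ⟨y, y1, y2, y3⟩ := h.lift hd g1 u1 n1 (by rw [e n n1, ← n2])
  exact ⟨y, y1, y2, fun n hn => by rw [y3 n hn, g2 n hn, g2 _ (wd_lt (by decide) hn)]⟩

theorem gam (hd : d ∈ Y) (dd : d * d = 1) (dJ : d ∉ J) (hp : p < 256) (p0 : p ≠ 0) (e : α d p = p)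
    (hy : ∀ y ∈ H, Commute y d → α y p = p) : ∃ j ∈ J, j * d * j⁻¹ = d * z := by
  by_contra nz
  push Not at nz
  by_cases m : d ∈ H
  · obtain ⟨l, l1, m, m1, f⟩ := h.nf m dd dJ
    have l0 := h.lY l1
    have d1 := mul_mem (mul_mem l0 hd) (inv_mem l0)
    have d2 := (conj_sq_iff (g := l)).2 dd
    suffices K : ∃ y ∈ H, Commute y (l * d * l⁻¹) ∧ ∀ n < 256, α y n = wd [1, 4] (wd [1, 4] n) by
      obtain ⟨y, y1, y2, y3⟩ := K
      have := hy (l⁻¹ * y * l⁻¹⁻¹) (mul_mem (mul_mem (inv_mem l1) y1) (inv_mem (inv_mem l1)))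
        (by simpa using (commute_conj_left_iff.1 y2.symm).symm)
      rw [h.αc (inv_mem l0) (h.lY y1) hp, inv_inv, y3 _ (h.al l0 hp)] at this
      have t := congrArg (α l) this
      rw [h.αi l0 (wd_lt (by decide) (wd_lt (by decide) (h.al l0 hp)))] at t
      exact p0 ((h.un l1).inj hp (by norm_num) ((r_chk.2.2.1 _ (h.al l0 hp) t).trans (h.un l1).zero.symm))
    simp only [List.mem_cons, List.not_mem_nil, or_false] at m1
    rcases m1 with rfl | rfl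
    swap
    · exact h.y3 d1 d2 f
    have f' : EQ (α (l * d * l⁻¹)) (tv 5) := fun n hn => (f n hn).trans (ff_val n hn).2.1
    have PT : ∀ y ∈ J, Par.hz 5 (ν y) = true → Commute (l * d * l⁻¹) y := fun y a b =>
      conj_eq_self_iff.1 ((h.lam d1 f' a b).2.resolve_right fun e => nz _ (h.nm' (inv_mem l0) (inv_mem a)) (by
        rw [show l⁻¹ * y⁻¹ * l⁻¹⁻¹ * d * (l⁻¹ * y⁻¹ * l⁻¹⁻¹)⁻¹ = l⁻¹ * y⁻¹ * (l * d * l⁻¹ * y * (l * d * l⁻¹)⁻¹) * l * d by group, e,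
          mul_assoc l⁻¹, inv_mul_cancel_left, mul_assoc l⁻¹, (h.hz l1).eq, inv_mul_cancel_left, (h.zY hd).eq]))
    generalize l * d * l⁻¹ = d at *
    obtain ⟨g, g1, g2⟩ := h.g14
    have g0 := h.lY g1
    have u1 := h.u14 d1 (m := 1) (by simp) f g1 g2
    obtain ⟨n, n1, n2⟩ := ((u_chk _ (h.lt _)).2.2.2 (by_contra fun n => by
      obtain ⟨m, b, c, e⟩ := (sc_all (by norm_num) (h.lt (g * d * g⁻¹ * d⁻¹))).2.2.2.2.2.2.2.2 (by decide : sg 5) (by simpa using n)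
      obtain ⟨y, y1, rfl⟩ := h.sur m b
      have y2 := h.nm' (inv_mem g0) y1
      have := (h.comm u1 y1).1 (Commute.mul_left (commute_conj_left_iff.2 (by
        simpa using PT _ y2 (by rw [← r_chk.2.2.2.2 _ (h.lt _), ← g2 _ (h.lt _), h.conj (inv_mem g0) y1, h.αi g0 b, c]))) (PT y y1 c).inv_left)
      simp [e] at this)).2
    obtain ⟨y, y1, y2, y3⟩ := h.lift d1 g1 u1 n1 (by rw [f' n n1, ← n2])
    exact ⟨y, y1, y2, fun n hn => by rw [y3 n hn, g2 n hn, g2 _ (wd_lt (by decide) hn)]⟩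
  have w3 : d * d ∈ J := dd ▸ one_mem _
  have sing : ∀ x < 256, α d x = x → q8 x = false := fun x a b => by_contra fun n => by
    obtain ⟨j, j1, j2⟩ := h.sur _ (om_lt x a)
    obtain ⟨c1, c2⟩ := h.νc hd j1
    rw [j2, h.o1 hd m w3 a b] at c2
    have c3 := (h.sq c1).resolve_left fun e => n (c2 ▸ (h.sq' c1).1 e)
    refine nz _ c1 ?_
    rw [← h.ivt dd, ← (h.zY hd).eq, ← c3]
    generalize j * d * j⁻¹ * d⁻¹ = c
    rw [inv_eq_of_mul_eq_one_right dd, mul_assoc c, mul_assoc c, ← mul_assoc d, ← mul_assoc d, dd, one_mul, ← mul_assoc]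
  obtain ⟨q, q1, q2, q3⟩ : ∃ q < 256, α d q = q ∧ b8 (Par.om q) p = true := by
    by_contra n
    push Not at n
    exact p0 (h.nd hd m w3 hp e fun a b c => Bool.eq_false_iff.2 (n a b c))
  have tc : ∀ p < 256, α d p = p → p ≠ 0 → ∃ g ∈ H, EQ (α g) (tv p) ∧ ∀ n < 256, α d (tv p n) = tv p (α d n) := fun p a b c => by
    obtain ⟨g, g1, g2⟩ := h.tvx ⟨a, sing p a b, c⟩
    refine ⟨g, g1, g2, fun n hn => ?_⟩
    have o := h.om2 hd m a
    have l := om_lt p a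
    have b1 := h.ab hd a hn
    have b2 := h.ab hd l hn
    rw [b] at b1 o
    rw [o, (om3 p a).1, b8_left a l, b1] at b2
    have z0 : α d 0 = 0 := by simpa using h.ax hd (m := 0) (n := 0) (by norm_num) (by norm_num)
    rw [tv, tv, h.ax hd hn (pj_lt a hn), pj, pj, b1, ← b2]
    cases b8 p n <;> cases b8 (Par.om p) (α d n) <;> simp [z0, b, o, h.ax hd a l, (om3 p a).1, ← Nat.xor_assoc]
  obtain ⟨g, g1, g2, g3⟩ := tc p hp e p0
  obtain ⟨k, k1, k2, k3⟩ := tc q q1 q2 (by rintro rfl; simp [show Par.om 0 = 0 from rfl, (b8_zero p hp).1] at q3)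
  have gk := mul_mem g1 k1
  have i : ∀ n < 256, α (g * k) n = tv p (tv q n) := fun n hn => by rw [h.αm (h.lY g1) (h.lY k1) hn, k2 n hn, g2 _ (tv_lt q1 hn)]
  have u1 : g * k * d * (g * k)⁻¹ * d⁻¹ ∈ J := by
    simpa [mul_assoc] using h.same (mul_mem (h.lY gk) hd) (mul_mem hd (h.lY gk)) fun n hn => by
      rw [h.αm (h.lY gk) hd hn, h.αm hd (h.lY gk) hn, i n hn, i _ (h.al hd hn), g3 _ (tv_lt q1 hn), k3 n hn]
  obtain ⟨y, y1, y2, y3⟩ := h.lift hd gk u1 (om_lt _ (h.lt _)) (h.o1 hd m w3 (h.lt _) (h.ufix hd dd u1)).symm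
  have := all2 s_chk hp q1
  rw [sing p hp e, sing q q1 q2, h.iso hd m w3 hp e q1 q2, q3, ← i p hp, ← i _ (h.al (h.lY gk) hp), ← y3 p hp, hy y y1 y2] at this
  simp at this

theorem bo (hd : d ∈ Y) (dd : d * d = 1) (d1 : d ∉ H) (ht : t ∈ Y) (tt : t * t = 1) (t1 : t ∉ H) (c : Commute t d)
    (l : ∀ j ∈ J, Commute d j ↔ Commute t j) : t * d ∈ J := by
  have w3 : d * d ∈ J := dd ▸ one_mem _
  have w4 : t * t ∈ J := tt ▸ one_mem _
  have m := (h.two' ht hd).2 (iff_of_false t1 d1)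
  have s1 : ∀ x < 256, α d x = x → q8 x = false → α t x = x := fun x a b e => h.o1 hd d1 w3 a b ▸
    h.cm1 hd dd (om_lt x a) ((h.o1 hd d1 w3 a b).symm ▸ e) ht fun y y1 => (l y y1).1
  have s2 : ∀ x < 256, α t x = x → q8 x = false → α d x = x := fun x a b e => h.o1 ht t1 w4 a b ▸
    h.cm1 ht tt (om_lt x a) ((h.o1 ht t1 w4 a b).symm ▸ e) hd fun y y1 => (l y y1).2
  refine h.fa hd d1 w3 m fun x x1 x2 => ?_
  rw [h.αm ht hd x1, x2]
  by_contra n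
  have x3 : q8 x = true := by_contra fun e => n (s1 x x1 x2 (by simpa using e))
  have l1 := h.al ht x1
  have l2 := xlt l1 x1
  have f1 : α d (α t x) = α t x := by rw [← h.αm hd ht x1, ← c.eq, h.αm ht hd x1, x2]
  have f2 : α d (α t x ^^^ x) = α t x ^^^ x := by rw [h.ax hd l1 x1, f1, x2]
  have f3 : q8 (α t x ^^^ x) = false := by rw [q8_xor l1 x1, h.aq ht x1, h.iso hd d1 w3 l1 f1 x1 x2]; simp
  have f4 := s1 _ l2 f2 f3
  have n0 : α t x ^^^ x ≠ 0 := mt Nat.xor_eq_zero_iff.1 n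
  have f5 : b8 (Par.om x) (α t x ^^^ x) = true := by_contra fun e => n0 (h.nd hd d1 w3 l2 f2 fun u u1 u2 => by
    have k : ∀ u < 256, α d u = u → q8 u = false → b8 (Par.om u) (α t x ^^^ x) = false := fun u u1 u2 u3 => by
      have := h.ab (h.lY m) (om_lt u u1) x1
      rw [h.om m u1, h.αm ht hd u1, u2, s1 u u1 u2 u3, h.αm ht hd x1, x2] at this
      rw [b8_right (om_lt u u1) l1 x1, this]; simp
    by_cases u3 : q8 u = false
    · exact k u u1 u2 u3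
    have := k _ (xlt u1 x1) (by rw [h.ax hd u1 x1, u2, x2]) (by rw [q8_xor u1 x1, h.iso hd d1 w3 u1 u2 x1 x2, x3]; simpa using u3)
    rw [om_xor u1 x1, b8_left (om_lt u u1) (om_lt x x1)] at this
    simpa [Bool.eq_false_iff.2 e] using this)
  have f6 := hz_comm x1 l2
  rw [Par.hz, Par.hz, f5, b8_comm l2 x1, h.iso hd d1 w3 x1 x2 l2 f2] at f6
  have e0 : α t x = (α t x ^^^ x) ^^^ x := by rw [Nat.xor_assoc, Nat.xor_self, Nat.xor_zero]
  generalize α t x ^^^ x = δ at *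
  have l3 := om_lt δ l2
  have := s2 _ (xlt x1 l3) (by
    rw [h.ax ht x1 l3, h.om2 ht t1 l2, f4, e0, (om3 δ l2).1, Nat.xor_comm δ x, Nat.xor_assoc, ← Nat.xor_assoc δ, Nat.xor_self, Nat.zero_xor])
    (by rw [q8_xor x1 l3, x3, (om3 δ l2).2.2, f3, b8_comm x1 l3]; simpa using f6)
  rw [h.ax hd x1 l3, x2, h.om2 hd d1 l2, f2, (om3 δ l2).1, Nat.xor_right_inj] at this
  exact n0 (by simpa using congrArg (· ^^^ Par.om δ) this)

theorem beta (hd : d ∈ Y) (dd : d * d = 1) (dJ : d ∉ J) (ht : t ∈ Y) (tt : t * t = 1) (c : Commute t d)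
    (l : ∀ j ∈ J, Commute d j ↔ Commute t j)
    (hy : ∀ y ∈ H, Commute y d → t * (y * t * y⁻¹) * (t * (y * t * y⁻¹)) ∈ J → Commute y t) : t ∈ J ∨ t * d ∈ J := by
  by_contra n
  push Not at n
  by_cases m : d ∈ H
  swap
  · exact n.2 (h.bo hd dd m ht tt (fun e => m (h.pair e tt n.1 hd fun j a => (l j a).2)) c l)
  obtain ⟨k, k1, m, m1, f⟩ := h.nf m dd dJ
  have k0 := h.lY k1
  have cj0 : ∀ {x}, k * x * k⁻¹ ∈ J → x ∈ J := fun a => by simpa [mul_assoc] using h.nm' (inv_mem k0) a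
  have d1 := mul_mem (mul_mem k0 hd) (inv_mem k0)
  have t1 := mul_mem (mul_mem k0 ht) (inv_mem k0)
  have d2 := (conj_sq_iff (g := k)).2 dd
  have t2 := (conj_sq_iff (g := k)).2 tt
  have l1 := h.cjl k1 fun j a => (l j a).1
  have l2 := h.cjl k1 fun j a => (l j a).2
  have n1 := mt cj0 n.1
  have n2 := mt cj0 n.2
  have n3 := mt cj0 dJ
  rw [← conj_mul] at n2
  have hy' : ∀ y ∈ H, Commute y (k * d * k⁻¹) → k * t * k⁻¹ * (y * (k * t * k⁻¹) * y⁻¹) * (k * t * k⁻¹ * (y * (k * t * k⁻¹) * y⁻¹)) ∈ J →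
      Commute y (k * t * k⁻¹) := fun y y1 y2 y3 => (commute_conj_left_iff.2 (hy (k⁻¹ * y * k) (mul_mem (mul_mem (inv_mem k1) y1) k1)
        (commute_conj_left_iff.1 y2.symm).symm (cj0 (by convert y3 using 1; group))).symm).symm
  have c' : Commute (k * t * k⁻¹) (k * d * k⁻¹) := commute_conj_conj_iff.2 c
  generalize k * d * k⁻¹ = d at *
  generalize k * t * k⁻¹ = t at *
  simp only [List.mem_cons, List.not_mem_nil, or_false] at m1
  rcases m1 with rfl | rfl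
  · exact (h.tau5 d1 d2 (fun n hn => (f n hn).trans (ff_val n hn).2.1) t1 l1).elim n1 n2
  have K : ∀ c ∈ Y, (∀ j ∈ J, Commute d j → Commute c j) → ∃ m < 16, EQ (α c) (FF m) := fun c a b => by
    obtain ⟨c1, c2⟩ := h.pair0 d1 d2 (by simp) f a b
    obtain ⟨n, n1, n2⟩ := ((u_chk 80 (by norm_num)).1 rfl).2.2
    rw [← f n n1] at n2
    exact ff_of (h.un c1) c2 (n2 ▸ h.cm1 d1 d2 n1 (n2 ▸ rfl) a b)
  obtain ⟨y, y1, y2, y3⟩ := h.y3 d1 d2 f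
  have y0 := h.lY y1
  have mm := mul_mem t1 (mul_mem (mul_mem y0 t1) (inv_mem y0))
  obtain ⟨m, m1, m2⟩ := K t t1 l1
  obtain ⟨s, s1, s2⟩ := K _ mm fun j a b => (l1 j a b).mul_left (commute_conj_left_iff.2 (l1 _ (by simpa using h.nm' (inv_mem y0) a)
    (by simpa [cz y2.symm] using commute_conj_left_iff.1 (show Commute (y * d * y⁻¹) j by rwa [cz y2.symm]))))
  have e := hy' y y1 y2 (h.ker (mul_mem mm mm) fun n hn => by
    rw [h.αm mm mm hn, s2 _ (h.al mm hn), s2 n hn, ((tr_chk s s1).2.2.2.2 s s1).1 n hn, Nat.xor_self, (ff_val n hn).1])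
  have := r_chk.1 m m1 fun n hn => by
    have hn := b4 hn
    rw [← m2 n hn, ← y3 _ (h.al t1 hn), ← h.αm y0 t1 hn, e.eq, h.αm t1 y0 hn, m2 _ (h.al y0 hn), y3 n hn]
  interval_cases m
  · exact n1 (h.ker t1 fun n hn => by rw [m2 n hn, (ff_val n hn).1])
  · exact (h.tau5 t1 t2 (fun n hn => (m2 n hn).trans (ff_val n hn).2.1) d1 l2).elim n3 fun e => n2 (c'.eq ▸ e)
  · exact (h.tau t1 t2 (by decide) (fun n hn => (m2 n hn).trans (ff_val n hn).2.2.1) d1 l2).elim n3 fun e => n2 (c'.eq ▸ e)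
  · exact n2 (inv_eq_of_mul_eq_one_right d2 ▸ h.same t1 d1 fun n hn => (m2 n hn).trans (f n hn).symm)

theorem hyp (hc : c ∈ Y) (hd : d ∈ J) (dd : d * d = 1) (l : ∀ j ∈ J, Commute d j → Commute c j) : c ∈ W ∨ c * d ∈ W := by
  have p := h.lt d
  have k : ∀ m < 256, b8 (ν d) m = false → α c m = m := fun m a b => h.fixn hc a fun y y1 y2 => l y y1 ((h.comm hd y1).2 (y2 ▸ b))
  have m := h.ker hc fun n hn => by
    have l1 := h.al hc hn
    rcases dperp p (xlt l1 hn) fun m a b => by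
      rw [b8_left l1 hn, ← h.ab hc hn a, k m a b]; simp with e | e
    · exact Nat.xor_eq_zero_iff.1 e
    refine k n hn ?_
    have := q8_xor l1 hn
    rw [e, (h.sq' hd).1 dd, h.aq hc hn] at this
    rw [← e, b8_left l1 hn, (b8_zero n hn).2.2]
    simpa using this.symm
  rcases dperp p (h.lt c) fun n hn e => by
    obtain ⟨y, y1, rfl⟩ := h.sur n hn
    exact (h.comm m y1).1 (l y y1 ((h.comm hd y1).2 e)) with e | e
  exacts [Or.inl ((h.zero m).1 e), Or.inr ((h.zero (mul_mem m hd)).1 (by rw [h.mul m hd, e, Nat.xor_self]))]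

end GJ

end Cfsg.Lib.Par
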