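import Cfsg.Agent.Lib.Known2.TB

/-! The group `(2² × 2^{1+8}).(3 × U₄(2)).2`: basic facts. -/

set_option autoImplicit false
set_option linter.unusedSectionVars false

namespace Cfsg.Lib.Par

open Subgroup Cfsg.Lib.Known2 Cfsg.Lib.Core Cfsg.Lib.Fi Cfsg.Lib.Amalg Cfsg.Lib.Psp43

variable {G : Type*} [Group G]

theorem o2aut (N : Subgroup (MulAut P0)) [hN : N.Normal] (p : IsPGroup 2 N) : N = ⊥ := by
  have := simple0
  have : Fact (Nat.Prime 2) := ⟨Nat.prime_two⟩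
  rcases (hN.comap (MulAut.conj : P0 →* MulAut P0)).eq_bot_or_eq_top with f | f
  · refine (eq_bot_iff_forall _).2 fun ρ b => MulEquiv.ext fun γ => mul_inv_eq_one.1 (mem_bot.1 (f.le ?_))
    have : MulAut.conj (ρ γ * γ⁻¹) = ρ * (MulAut.conj γ * ρ⁻¹ * (MulAut.conj γ)⁻¹) := MulEquiv.ext fun x => by simp [mul_assoc]
    exact mem_comap.2 (this ▸ mul_mem b (hN.conj_mem _ (inv_mem b) _))
  · obtain ⟨n, m⟩ := IsPGroup.iff_card.1 (p.comap_of_injective _ conj_inj0)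
    rw [f, card_top, card_P0] at m
    exact absurd ((Nat.Prime.dvd_of_dvd_pow Nat.prime_three (m ▸ by norm_num : 3 ∣ 2 ^ n))) (by norm_num)

structure TJ (J E : Subgroup G) (z a b c : G) : Prop where
  es : ES E z
  card : Nat.card E = 512
  EJ : E ≤ J
  aJ : a ∈ J
  aa : a * a = 1
  a1 : a ≠ 1
  az : a ≠ z
  ca : ∀ {j}, j ∈ J → Commute a j
  c3 : c * c * c = 1
  zc : Commute z c
  cab : c * a * c⁻¹ = b
  cb' : c * b * c⁻¹ = a * b
  dec : ∀ {j}, j ∈ J → ∃ e ∈ E, j = e ∨ j = e * a ∨ j = e * b ∨ j = e * (a * b)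
  selfc : ∀ g, (∀ j ∈ J, Commute g j) → g ∈ J
  nm : ∀ {g j}, Commute z g → j ∈ J → g * j * g⁻¹ ∈ J
  cJ : ∀ {j}, j ∈ J → Commute z j
  nV : ∀ {g}, Commute z g → g * a * g⁻¹ = a ∨ g * a * g⁻¹ = b ∨ g * a * g⁻¹ = a * b
  fpf : ∀ j ∈ J, Commute c j → j = 1 ∨ j = z
  pi : ∃ π : centralizer {z} →* MulAut P0, Function.Surjective π ∧ ∀ g, π g = 1 ↔ (g : G) ∈ J ∨ g * c ∈ J ∨ g * (c * c) ∈ J
  sw : ∃ w, Commute z w ∧ Commute a w ∧ ¬ Commute b w

def V0 (a b v : G) : Prop := v = a ∨ v = b ∨ v = a * b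

/-- The joint centralizer of two elements. -/
def CC (z a : G) : Subgroup G := centralizer {z} ⊓ centralizer {a}

theorem mCC {z a g : G} : g ∈ CC z a ↔ Commute z g ∧ Commute a g := by
  simp only [CC, mem_inf, mem_centralizer_singleton_iff]; exact and_congr Commute.symm_iff Commute.symm_iff

namespace TJ
variable [Finite G] {J E : Subgroup G} {z a b c : G} (h : TJ J E z a b c) {g j k r v : G}
include h

theorem zz : z * z = 1 := h.es.sq
theorem ne : z ≠ 1 := h.es.ne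
theorem zJ : z ∈ J := h.EJ h.es.mem
theorem za : Commute z a := h.cJ h.aJ
theorem bJ : b ∈ J := h.cab ▸ h.nm h.zc h.aJ
theorem bb : b * b = 1 := h.cab ▸ conj_sq_iff.2 h.aa
theorem cb (hj : j ∈ J) : Commute b j := h.cab ▸ commute_conj_left_iff.2 (by simpa using h.ca (h.nm h.zc.inv_right hj))
theorem bab : b * (a * b) = a := by rw [(h.cb h.aJ).left_comm, h.bb, mul_one]
theorem cc : c * (a * b) * c⁻¹ = a := by rw [← conj_mul, h.cab, h.cb', h.bab]
theorem ci : c⁻¹ = c * c := inv_eq_of_mul_eq_one_right (by rw [← mul_assoc, h.c3])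
theorem ba : b ≠ a := fun e => h.a1 (by
  have := h.cb'
  rw [e, h.aa, conj_eq_one_iff] at this; exact this)

theorem fix3 (hg : Commute z g) : ∃ l, (l = 1 ∨ l = c ∨ l = c * c) ∧ Commute a (l * g) := by
  rcases h.nV hg with e | e | e
  exacts [⟨1, by simp, by rw [one_mul]; exact (conj_eq_self_iff.1 e).symm⟩,
    ⟨c * c, by simp, (conj_eq_self_iff.1 (by rw [← conj_conj', e, ← conj_conj', h.cb', h.cc])).symm⟩,
    ⟨c, by simp, (conj_eq_self_iff.1 (by rw [← conj_conj', e, h.cc])).symm⟩]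

theorem rot : TJ J E z b (a * b) c := by
  have k : ∀ {g}, Commute z g → g * b * g⁻¹ = c * (c⁻¹ * g * c * a * (c⁻¹ * g * c)⁻¹) * c⁻¹ := fun _ => by rw [← h.cab]; group
  refine ⟨h.es, h.card, h.EJ, h.bJ, h.bb, fun e => h.a1 (conj_eq_one_iff.1 (h.cab.trans e)), fun e => h.az (mul_left_cancel (mul_right_cancel
    ((h.cab.trans e).trans (cz h.zc).symm))), h.cb, h.c3, h.zc, h.cb', h.cc.trans h.bab.symm, fun b => ?_, h.selfc, h.nm, h.cJ, fun b => ?_, h.fpf,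
    h.pi, ?_⟩
  · obtain ⟨e, e1, e2⟩ := h.dec b
    exact ⟨e, e1, by rw [h.bab]; tauto⟩
  · rw [k b, h.bab]
    rcases h.nV ((h.zc.inv_right.mul_right b).mul_right h.zc) with e | e | e <;> rw [e]
    exacts [Or.inl h.cab, Or.inr (Or.inl h.cb'), Or.inr (Or.inr h.cc)]
  · obtain ⟨w, w1, w2, w3⟩ := h.sw
    exact ⟨c * w * c⁻¹, (h.zc.mul_right w1).mul_right h.zc.inv_right, h.cab ▸ commute_conj_conj_iff.2 w2,
      fun e => w3 (commute_conj_conj_iff.1 (h.cb' ▸ e))⟩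

theorem rot3 : TJ J E z (a * b) a c := by have := h.rot.rot; rwa [h.bab] at this

theorem nE (hv : V0 a b v) : v ∉ E := fun m => by
  have k : ∀ {a b}, TJ J E z a b c → a ∉ E := fun t m => (t.es.of_cen _ m fun y d => t.ca (t.EJ d)).elim t.a1 t.az
  rcases hv with rfl | rfl | rfl
  exacts [k h m, k h.rot m, k h.rot3 m]

theorem v0 (hv : V0 a b v) : v ∈ J ∧ v * v = 1 ∧ ∀ j ∈ J, Commute v j := by
  rcases hv with rfl | rfl | rfl
  exacts [⟨h.aJ, h.aa, fun _ => h.ca⟩, ⟨h.bJ, h.bb, fun _ => h.cb⟩, ⟨h.rot3.aJ, h.rot3.aa, fun _ => h.rot3.ca⟩]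

theorem rep (hj : j ∈ J) : ∃ e ∈ E, ∃ v, (v = 1 ∨ V0 a b v) ∧ v * v = 1 ∧ (∀ j ∈ J, Commute v j) ∧ j = e * v := by
  obtain ⟨e, e1, rfl | f⟩ := h.dec hj
  · exact ⟨j, e1, 1, Or.inl rfl, by simp, by simp, by simp⟩
  have : V0 a b (e⁻¹ * j) := by rcases f with rfl | rfl | rfl <;> simp [V0]
  exact ⟨e, e1, _, Or.inr this, (h.v0 this).2.1, (h.v0 this).2.2, by simp⟩

theorem cenW (hg : ∀ j ∈ J, Commute g j) : g = 1 ∨ g = z ∨ V0 a b g ∨ V0 a b (z * g) := by
  obtain ⟨e, e1, v, v1, v2, v3, rfl⟩ := h.rep (h.selfc g hg)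
  rcases h.es.of_cen _ e1 fun y d => by simpa using ((hg y (h.EJ d)).mul_left (v3 y (h.EJ d)).inv_left).eq with rfl | rfl <;>
    rcases v1 with rfl | v1 <;> simp [← mul_assoc, h.zz, *]

theorem conj_eq (hj : j ∈ J) (hk : k ∈ J) : j * k * j⁻¹ = k ∨ j * k * j⁻¹ = k * z := by
  obtain ⟨e, e1, v, -, -, v3, rfl⟩ := h.rep hj
  obtain ⟨f, f1, u, -, -, u3, rfl⟩ := h.rep hk
  rw [← conj_conj', cz (v3 _ hk).symm, ← conj_mul, cz (u3 e (h.EJ e1)), mul_assoc f u, (u3 z h.zJ).eq, ← mul_assoc]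
  exact (h.es.conj_eq e1 f1).imp (fun e => by rw [e]) fun e => by rw [e]

theorem sq (hj : j ∈ J) : j * j = 1 ∨ j * j = z := by
  obtain ⟨e, e1, v, -, v2, v3, rfl⟩ := h.rep hj
  rw [(v3 e (h.EJ e1)).mul_mul_mul_comm, v2, mul_one]; exact h.es.sq_mem _ e1

theorem p4 (hj : j ∈ J) : j ^ 2 ^ 2 = 1 := by
  rw [show j ^ 2 ^ 2 = j * j * (j * j) by simp [pow_succ, mul_assoc]]
  rcases h.sq hj with e | e <;> simp only [e, h.zz, mul_one]

theorem pJ : IsPGroup 2 J := isPGroup_iff_mem.2 fun _ b => ⟨2, h.p4 b⟩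

theorem piK0 (π : centralizer {z} →* MulAut P0) (h1 : Function.Surjective π) (h2 : ∀ g, π g = 1 ↔ (g : G) ∈ J ∨ g * c ∈ J ∨ g * (c * c) ∈ J) :
    Function.Surjective (π.comp (inclusion inf_le_left : CC z a →* _)) ∧ ∀ g, π.comp (inclusion inf_le_left : CC z a →* _) g = 1 ↔ (g : G) ∈ J := by
  have m : ∀ {g}, Commute z g → g ∈ centralizer {z} := fun b => mem_centralizer_singleton_iff.2 b.symm
  refine ⟨fun γ => ?_, fun g => (h2 _).trans (or_iff_left fun e => ?_)⟩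
  · obtain ⟨g, rfl⟩ := h1 γ
    have g1 : Commute z g := (mem_centralizer_singleton_iff.1 g.2).symm
    obtain ⟨l, l1, l2⟩ := h.fix3 g1
    have l0 : Commute z l := by rcases l1 with rfl | rfl | rfl; exacts [Commute.one_right _, h.zc, h.zc.mul_right h.zc]
    have l3 : π ⟨l, m l0⟩ = 1 := (h2 _).2 (by
      show l ∈ J ∨ l * c ∈ J ∨ l * (c * c) ∈ J
      rcases l1 with rfl | rfl | rfl
      exacts [Or.inl (one_mem _), Or.inr (Or.inr (by rw [← mul_assoc, h.c3]; exact one_mem _)), Or.inr (Or.inl (h.c3 ▸ one_mem _))])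
    exact ⟨⟨l * g, mCC.2 ⟨l0.mul_right g1, l2⟩⟩, (map_mul π ⟨l, m l0⟩ g).trans (by rw [l3, one_mul])⟩
  have g1 := (mCC.1 g.2).2.inv_right
  have n : ¬ Commute a c := fun e => h.ba (h.cab.symm.trans (cz e))
  replace e : (g : G) * c ∈ J ∨ (g : G) * (c * c) ∈ J := e
  rcases e with e | e
  · exact n (by simpa using g1.mul_right (h.ca e))
  · exact n (Commute.inv_right_iff.1 (h.ci ▸ by simpa using g1.mul_right (h.ca e)))

theorem piK : ∃ π : CC z a →* MulAut P0, Function.Surjective π ∧ ∀ g, π g = 1 ↔ (g : G) ∈ J :=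
  let ⟨π, h1, h2⟩ := h.pi; ⟨_, h.piK0 π h1 h2⟩

theorem o2K {N : Subgroup G} (l : N ≤ CC z a) (n : ∀ k ∈ CC z a, ∀ g ∈ N, k * g * k⁻¹ ∈ N) (p : IsPGroup 2 N) : N ≤ J := fun g m => by
  obtain ⟨π, h1, h2⟩ := h.piK
  have := (⟨fun r b k => n k k.2 r b⟩ : (N.subgroupOf (CC z a)).Normal).map π h1
  exact (h2 ⟨g, l m⟩).1 (mem_bot.1 (o2aut _ ((Amalg.isPGroup_subgroupOf p _).map π) ▸ mem_map_of_mem π (show ⟨g, l m⟩ ∈ N.subgroupOf _ from m)))

theorem ab_le {U : Subgroup G} (l : U ≤ J) (c : ∀ a ∈ U, ∀ b ∈ U, Commute a b) : Nat.card U ≤ 128 := by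
  classical
  choose! e e1 v v1 v2 v3 v4 using fun j => h.rep (j := j)
  have := card_le_fib (B := U) (K := E) v {1, a, b, a * b} (fun x m => by simpa [V0] using v1 x (l m)) fun x m y n f => by
    rw [v4 x (l m), v4 y (l n), ← f, mul_inv_rev, mul_assoc, ← mul_assoc (e x)⁻¹, ← (v3 x (l m) _ (h.EJ (mul_mem (inv_mem (e1 x (l m))) (e1 y (l n))))).eq,
      inv_mul_cancel_left]
    exact mul_mem (inv_mem (e1 x (l m))) (e1 y (l n))
  have := ES.ab_le h.es h.card (inf_le_right (a := U)) fun x b y d => c x b.1 y d.1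
  have := Finset.card_le_four (a := (1 : G)) (b := a) (c := b) (d := a * b)
  nlinarith

theorem nc0 {u : G} (hu : u = a ∨ u = z * a) : g * z * g⁻¹ ≠ u := fun e => by
  have uz : u ≠ z := by rcases hu with rfl | rfl; exacts [h.az, by simpa using h.a1]
  have c0 : ∀ {k}, k ∈ CC z a → Commute z (g⁻¹ * k * g) := fun b => commute_conj_left_iff.1 (e ▸ by
    rcases hu with rfl | rfl; exacts [(mCC.1 b).2, (mCC.1 b).1.mul_left (mCC.1 b).2])
  have l : cj g J ⊓ CC z a ≤ J := h.o2K inf_le_right (fun k b r d => ⟨mem_cj.2 (by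
    convert h.nm (c0 b) (mem_cj.1 d.1) using 1; group), (show k * r * k⁻¹ ∈ CC z a from mul_mem (mul_mem b (show r ∈ CC z a from d.2)) (inv_mem b))⟩) ((isPGroup_cj g h.pJ).to_le inf_le_left)
  have c1 := h.ab_le l fun x b y d => by_contra fun n => uz (by
    have f := (h.conj_eq (mem_cj.1 b.1) (mem_cj.1 d.1)).resolve_left fun e =>
      n (by simpa [mul_assoc] using (commute_conj_conj_iff (g := g)).2 (conj_eq_self_iff.1 e))
    have f2 := (h.conj_eq (l b) (l d)).resolve_left fun e => n (conj_eq_self_iff.1 e)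
    rw [show g⁻¹ * x * g * (g⁻¹ * y * g) * (g⁻¹ * x * g)⁻¹ = g⁻¹ * (x * y * x⁻¹) * g by group, f2] at f
    have f3 : g⁻¹ * z * g = z := mul_left_cancel (a := g⁻¹ * y * g) (by rw [← f]; group)
    rw [← e]
    conv_lhs => rw [← f3]
    group)
  have c2 := cov_le (Q := centralizer {z}) (U := CC z a) [1, c, c * c] fun d m => by
    have d1 : Commute z d := (mem_centralizer_singleton_iff.1 m).symm
    obtain ⟨l, l1, l2⟩ := h.fix3 d1
    exact ⟨l, by simpa using l1, mCC.2 ⟨Commute.mul_right (by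
      rcases l1 with rfl | rfl | rfl; exacts [Commute.one_right _, h.zc, h.zc.mul_right h.zc]) d1, l2⟩⟩
  generalize CC z a = H at *
  have l2 : H ≤ cj g (centralizer {z}) := fun k b => mem_cj.2 (mem_centralizer_singleton_iff.2 (c0 b).symm)
  have c3 := relIndex_le_of_le_right (H := H) (cj_mono g (show J ≤ centralizer {z} from fun j b =>
    mem_centralizer_singleton_iff.2 (h.cJ b).symm)) index_ne_zero_of_finite
  have k : ∀ B : Subgroup G, Nat.card ↥(B ⊓ H) * H.relIndex B = Nat.card B := fun B => by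
    rw [← (H.subgroupOf B).card_mul_index, ← inf_subgroupOf_left, Nat.card_congr (subgroupOfEquivOfLe inf_le_left).toEquiv,
      inf_subgroupOf_left]; rfl
  have k1 := k (cj g J)
  have k2 := k (cj g (centralizer {z}))
  have k3 := card_le_of_le (inf_le_right : centralizer {z} ⊓ H ≤ H)
  have k4 := card_le_of_le h.EJ
  rw [card_cj] at k1 k2
  rw [inf_eq_right.2 l2] at k2
  rw [h.card] at k4
  have : H.relIndex (cj g (centralizer {z})) ≤ 3 := by
    by_contra n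
    have : 0 < Nat.card H := Nat.card_pos
    simp only [List.length_cons, List.length_nil] at c2
    nlinarith
  nlinarith

theorem DW (hg : ∀ j ∈ J, Commute (g * z * g⁻¹) j) : g * z * g⁻¹ = z := by
  have k : ∀ {u v}, z * u = v → u = z * v := fun e => by rw [← e, ← mul_assoc, h.zz, one_mul]
  rcases h.cenW hg with e | e | (e | e | e) | e | e | e
  exacts [absurd (conj_eq_one_iff.1 e) h.ne, e, absurd e (h.nc0 (Or.inl rfl)), absurd e (h.rot.nc0 (Or.inl rfl)), absurd e (h.rot3.nc0 (Or.inl rfl)),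
    absurd (k e) (h.nc0 (Or.inr rfl)), absurd (k e) (h.rot.nc0 (Or.inr rfl)), absurd (k e) (h.rot3.nc0 (Or.inr rfl))]

theorem syl {X T : Subgroup G} (l : J ≤ X) (hT : IsPGroup 2 T) (lT : T ≤ X) : ∃ c ∈ X, ∀ t ∈ T, Commute z (c * t * c⁻¹) := by
  have : Fact (Nat.Prime 2) := ⟨Nat.prime_two⟩
  obtain ⟨S, s1, s2⟩ := exists_syl_ge h.pJ l
  obtain ⟨c, c1, c2⟩ := s1.exists_conj_le hT lT
  refine ⟨c, c1, fun t b => by_contra fun n => ?_⟩
  have := s1.isPGroup.isNilpotent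
  obtain ⟨x, x1, x2⟩ := SetLike.exists_of_lt (lt_normalizer_of_ne_top (H := (centralizer {z}).subgroupOf S) fun e =>
    n (mem_centralizer_singleton_iff.1 (e.ge (mem_top (⟨_, c2 (conj_mem_cj c b)⟩ : S)))).symm)
  refine x2 (mem_centralizer_singleton_iff.2 (conj_eq_self_iff.1 (h.DW fun j b => commute_conj_left_iff.2 ?_)))
  exact (mem_centralizer_singleton_iff.1 ((mem_normalizer_iff''.1 x1 ⟨j, s2 b⟩).1 (mem_centralizer_singleton_iff.2 (h.cJ b).symm))).symm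

theorem fuse {u : G} (hu : ∀ j ∈ J, Commute u j) (hv : ∀ j ∈ J, Commute (g * u * g⁻¹) j) : ∃ w, Commute z w ∧ Commute u (w⁻¹ * g) := by
  obtain ⟨c, c1, c2⟩ := h.syl (X := centralizer {u}) (fun j b => mem_centralizer_singleton_iff.2 (hu j b).symm) (isPGroup_cj g⁻¹ h.pJ)
    fun j b => mem_centralizer_singleton_iff.2 (by
      have := (commute_conj_left_iff.1 (hv _ (mem_cj.1 b))).symm.eq
      rwa [show g⁻¹ * (g⁻¹⁻¹ * j * g⁻¹) * g = j by group] at this)
  refine ⟨g * c⁻¹, (conj_eq_self_iff.1 (h.DW fun j b => commute_conj_left_iff.2 ?_)).symm, by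
    simpa using Commute.symm (mem_centralizer_singleton_iff.1 c1)⟩
  simpa [mul_assoc] using c2 _ (conj_mem_cj g⁻¹ b)

end TJ

end Cfsg.Lib.Par
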