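import Cfsg.Agent.Lib.Known2.TC0
import Cfsg.Agent.S1696
import Cfsg.Agent.S1714

/-! The group `(2² × 2^{1+8}).(3 × U₄(2)).2`: quotients of centralizers of central involutions of `O₂`. -/

set_option autoImplicit false
set_option linter.unusedSectionVars false

namespace Cfsg.Lib.Par

open Subgroup Cfsg.Lib.Known2 Cfsg.Lib.Core Cfsg.Lib.Fi Cfsg.Lib.Amalg Cfsg.Lib.Psp43

variable {G : Type*} [Group G]

structure DH (J E : Subgroup G) (z a : G) : Prop where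
  es : ES E z
  hc : Nat.card E = 512
  EJ : E ≤ J
  aJ : a ∈ J
  aE : a ∉ E
  aa : a * a = 1
  ca : ∀ {j}, j ∈ J → Commute a j
  dec : ∀ {j}, j ∈ J → j ∈ E ∨ j * a ∈ E
  selfc : ∀ g, (∀ j ∈ J, Commute g j) → g ∈ J
  nm : ∀ {g j}, Commute z g → j ∈ J → g * j * g⁻¹ ∈ J
  cJ : ∀ j ∈ J, Commute z j
  pi : PI J z

theorem DH.d3 [Finite G] {J E : Subgroup G} {z a : G} (h : DH J E z a) :
    ∃ H, (∃ x y, CJ J E H z a x y) ∨ ∃ Y ν α, FJ J E H Y z a ν α ∧ ∃ w, Commute z w ∧ w ∉ H ∧ V4 z a (w * w) :=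
  let ⟨π, h1, h2⟩ := h.pi; dicho3 h.es h.hc h.EJ h.aJ h.aE h.aa h.ca h.dec h.selfc h.nm h.cJ π h1 h2

theorem DH.one [Finite G] {J E : Subgroup G} {z a : G} (h : DH J E z a) (I : ∀ c, Commute z c → Commute a c)
    {K : Type*} [Field K] [Fintype K] (hK : Fintype.card K = 4) : (∀ g, g * z * g⁻¹ ∈ J → g * z * g⁻¹ = z) ∧
    ((∀ g, Commute z (g * z * g⁻¹) → g * z * g⁻¹ = z) ∨ C2 J z (PSU 6 K 2)) := by
  obtain ⟨H, ⟨x, y, C⟩ | ⟨Y, ν, α, C, -⟩⟩ := h.d3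
  · exact ⟨fun g b => C.isoG (h.cJ _ b), Or.inl fun g => C.isoG⟩
  have I' : ∀ c, Commute z c → Commute (z * a) c := fun c b => b.mul_left (I c b)
  have A := (C.either h.pi I).elim (fun U => C.caseI h.pi I U hK) fun U => C.swap.caseI h.pi I' U hK
  refine ⟨fun g b => ?_, A⟩
  rcases A with A | ⟨u, u1, u2, u3, u4, u5, u6, -⟩
  · exact A g (h.cJ _ b)
  have c : Commute u g := (conj_eq_self_iff.1 (((mem_zpowers_invol u1).1 (u6.conj_mem u (mem_zpowers u) g)).resolve_left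
    fun e => u2 (conj_eq_one_iff.1 e))).symm
  by_contra n
  rcases C.cenV u5 with e | e | rfl | rfl
  exacts [u2 e, u3 e, (C.uq' h.pi I c (h.cJ _ b) n).1 b, (C.swap.uq' h.pi I' c (h.cJ _ b) n).1 b]

theorem DH.two [Finite G] {J E : Subgroup G} {z a w : G} (h : DH J E z a) (w1 : Commute z w) (w2 : ¬ Commute a w) :
    (∀ g, Commute z (g * z * g⁻¹) → g * z * g⁻¹ = z) ∨ Spor.IsoFi22 G := by
  obtain ⟨H, ⟨x, y, C⟩ | ⟨Y, ν, α, C, v, v1, v2, v3⟩⟩ := h.d3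
  · exact Or.inl fun g => C.isoG
  have I : ¬ Commute a v := fun I => w2 (by
    simpa using (C.ha ((C.two w1 v1).2 (iff_of_false (fun m => w2 (C.ha m)) v2))).mul_right I.inv_right)
  have w3 := (C.nV v1).resolve_left fun e => I (conj_eq_self_iff.1 e).symm
  by_cases U : Iso z a
  exacts [Or.inl fun g => C.caseII0 v1 w3 U, Or.inr (C.caseII h.pi v1 v2 w3 v3 U)]

namespace TJ
variable [Finite G] {J E : Subgroup G} {z a b c : G} (h : TJ J E z a b c) {g j k r v u : G} (hu : u = a ∨ u = z * a)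
include h

theorem bfix (h1 : Commute z g) (h2 : Commute a g) : g * b * g⁻¹ = b ∨ g * b * g⁻¹ = a * b := by
  rcases h.rot.nV h1 with e | e | e
  exacts [Or.inl e, Or.inr e, absurd (mul_left_cancel (mul_right_cancel (e.trans (h.bab.trans (cz h2).symm)))) h.ba]

theorem twob (h1 : g ∈ CC z a) (h2 : k ∈ CC z a) : Commute b (g * k) ↔ (Commute b g ↔ Commute b k) :=
  chom' h.a1 h.aa (mCC.1 h1).2 ((h.cb h.aJ).eq ▸ h.bfix (mCC.1 h1).1 (mCC.1 h1).2) ((h.cb h.aJ).eq ▸ h.bfix (mCC.1 h2).1 (mCC.1 h2).2)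

theorem JC : J ≤ CC z a := fun _ d => mCC.2 ⟨h.cJ d, h.ca d⟩

include hu
theorem uJ : u ∈ J := by rcases hu with rfl | rfl; exacts [h.aJ, mul_mem h.zJ h.aJ]
theorem uu : u * u = 1 := by
  rcases hu with rfl | rfl; exacts [h.aa, by rw [h.za.symm.mul_mul_mul_comm, h.zz, h.aa, mul_one]]
theorem cu (hg : Commute z g) : Commute u g ↔ Commute a g := by
  rcases hu with rfl | rfl; exacts [Iff.rfl, ⟨fun e => by simpa using hg.inv_left.mul_left e, hg.mul_left⟩]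
theorem cC : ∀ g ∈ CC z a, Commute u g := fun _ d => (h.cu hu (mCC.1 d).1).2 (mCC.1 d).2
theorem cuJ : ∀ j ∈ J, Commute u j := fun j d => h.cC hu j (h.JC d)
theorem cuE : ∀ j ∈ E, Commute u j := fun j d => h.cuJ hu j (h.EJ d)
theorem uE : u ∉ E := fun m => h.nE (Or.inl rfl) (by rcases hu with rfl | rfl; exacts [m, (mul_mem_cancel_left h.es.mem).1 m])
theorem zu : Commute u z := h.cuJ hu z h.zJ

variable {Γ : Type*} [Group Γ] {F : G → Γ} (q : QF u F)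
include q

theorem Fz (hg : Commute u g) : Commute (F z) (F g) ↔ Commute z g := by
  rw [Commute.symm_iff, ← conj_eq_self_iff, ← q.cj0 hg (h.zu hu), eq_comm, q.eq (h.zu hu) ((hg.mul_right (h.zu hu)).mul_right hg.inv_right),
    or_iff_left (h.nc0 (by rcases hu with rfl | rfl <;> simp [← mul_assoc, h.zz])), conj_eq_self_iff, Commute.symm_iff]

theorem Fc (hj : j ∈ J) (hk : k ∈ J) : Commute (F j) (F k) ↔ Commute j k := by
  rw [← conj_eq_self_iff, ← q.cj0 (h.cuJ hu _ hj) (h.cuJ hu _ hk), eq_comm, q.eq (h.cuJ hu _ hk) (h.cuJ hu _ (h.nm (h.cJ hj) hk)),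
    ← conj_eq_self_iff]
  refine or_iff_left fun e => h.uE hu ?_
  rcases h.conj_eq hj hk with f | f <;> rw [e] at f
  exacts [mul_eq_left.1 f ▸ one_mem _, mul_left_cancel f ▸ h.es.mem]

theorem Fm (hj : j ∈ J) (hk : k ∈ J) : F (j * k) = F j * F k := q.mul (h.cuJ hu _ hj) (h.cuJ hu _ hk)
theorem Fu : F u = 1 := (q.ker (Commute.refl u)).2 (Or.inr rfl)
theorem Fa : F a = 1 ∨ F a = F z := by
  have := h.Fu hu q
  rcases hu with rfl | rfl
  · exact Or.inl this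
  · exact Or.inr ((q.eq (h.cuJ (Or.inr rfl) _ h.aJ) (h.zu (Or.inr rfl))).2 (Or.inr (by rw [h.za.symm.left_comm, h.aa, mul_one])))

theorem Cz (γ : Γ) : γ ∈ centralizer {F z} ↔ γ ∈ q.im (h.cC hu) := by
  obtain ⟨g, d, rfl⟩ := q.sur γ
  rw [q.mim (h.JC (h.uJ hu)) d, mem_centralizer_singleton_iff, mCC]
  exact Commute.symm_iff.trans ((h.Fz hu q d).trans ⟨fun e => ⟨e, (h.cu hu e).1 d⟩, fun e => e.1⟩)

theorem dh [Finite Γ] : DH (q.im (h.cuJ hu)) (q.im (h.cuE hu)) (F z) (F b) := by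
  have cJ := h.cuJ hu
  have FaE : F a ∈ q.im (h.cuE hu) := by rcases h.Fa hu q with e | e <;> rw [e]; exacts [one_mem _, ⟨z, h.es.mem, rfl⟩]
  obtain ⟨π, h1, h2⟩ := h.piK
  refine ⟨⟨⟨z, h.es.mem, rfl⟩, fun e => ((q.ker (h.zu hu)).1 e).elim h.ne fun e => h.uE hu (e ▸ h.es.mem),
    by rw [← h.Fm hu q h.zJ h.zJ, h.zz, q.one], ?_, ?_, ?_, ?_, ?_⟩, ?_, fun _ ⟨e, d, f⟩ => ⟨e, h.EJ d, f⟩, ⟨b, h.bJ, rfl⟩, ?_,
    by rw [← h.Fm hu q h.bJ h.bJ, h.bb, q.one], ?_, ?_, fun γ d => ?_, fun {γ δ} d => ?_, ?_, q.lift (h.uJ hu) _ π h1 h2 (h.Cz hu q)⟩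
  · rintro _ ⟨j, d, rfl⟩; exact (h.Fc hu q (h.EJ d) h.zJ).2 (h.cJ (h.EJ d)).symm
  · rintro _ ⟨j, d, rfl⟩ e
    exact (h.es.of_cen j d fun y m => (h.Fc hu q (h.EJ d) (h.EJ m)).1 (e _ ⟨y, m, rfl⟩)).imp (fun e => by rw [e, q.one]) (congrArg F)
  · rintro _ ⟨j, d, rfl⟩ _ ⟨k, e, rfl⟩
    rw [← h.Fm hu q (h.EJ d) (h.EJ e), ← h.Fm hu q (h.EJ e) (h.EJ d), ← h.Fm hu q (h.EJ (mul_mem e d)) h.zJ]
    exact (h.es.comm j d k e).imp (congrArg F) (congrArg F)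
  · rintro _ ⟨j, d, rfl⟩
    rw [← h.Fm hu q (h.EJ d) (h.EJ d)]
    exact (h.es.sq_mem j d).imp (fun e => by rw [e, q.one]) (congrArg F)
  · obtain ⟨x, d, y, e, n⟩ := h.es.nonab
    exact ⟨_, ⟨x, d, rfl⟩, _, ⟨y, e, rfl⟩, mt (h.Fc hu q (h.EJ d) (h.EJ e)).1 n⟩
  · rw [← h.card]
    refine (Nat.card_eq_of_bijective (fun e : E => (⟨F e, e, e.2, rfl⟩ : q.im (h.cuE hu))) ⟨fun e f d => ?_, ?_⟩).symm
    · rcases (q.eq (cJ _ (h.EJ e.2)) (cJ _ (h.EJ f.2))).1 (congrArg Subtype.val d) with d | d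
      exacts [Subtype.ext d.symm, absurd ((mul_mem_cancel_left e.2).1 (d ▸ f.2)) (h.uE hu)]
    · rintro ⟨_, j, d, rfl⟩; exact ⟨⟨j, d⟩, rfl⟩
  · rintro ⟨e, d, f⟩
    rcases (q.eq (cJ _ (h.EJ d)) (cJ _ h.bJ)).1 f with f | f
    · exact h.nE (Or.inr (Or.inl rfl)) (f ▸ d)
    refine h.nE (Or.inr (Or.inr rfl)) ?_
    rw [f]
    rcases hu with rfl | rfl
    · rwa [(h.ca (h.EJ d)).left_comm, h.aa, mul_one]
    · rw [(h.ca (h.EJ d)).left_comm, h.za.symm.left_comm, h.aa, mul_one]; exact mul_mem d h.es.mem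
  · rintro _ ⟨j, d, rfl⟩; exact (h.Fc hu q h.bJ d).2 (h.cb d)
  · rintro _ ⟨j, d, rfl⟩
    rw [← h.Fm hu q d h.bJ]
    obtain ⟨e, e1, rfl | rfl | rfl | rfl⟩ := h.dec d
    exacts [Or.inl ⟨_, e1, rfl⟩, Or.inl (h.Fm hu q (h.EJ e1) h.aJ ▸ mul_mem ⟨e, e1, rfl⟩ FaE),
      Or.inr ⟨e, e1, by rw [mul_assoc, h.bb, mul_one]⟩, Or.inr (by
        rw [mul_assoc, mul_assoc, h.bb, mul_one, h.Fm hu q (h.EJ e1) h.aJ]; exact mul_mem ⟨e, e1, rfl⟩ FaE)]
  · obtain ⟨g, g1, rfl⟩ := q.sur γ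
    have g2 := (h.Fz hu q g1).1 (d _ ⟨z, h.zJ, rfl⟩).symm
    let N : Subgroup G :=
      { carrier := {g | g ∈ CC z a ∧ ∀ j ∈ J, Commute (F g) (F j)}
        one_mem' := ⟨one_mem _, fun j _ => by rw [q.one]; exact Commute.one_left _⟩
        mul_mem' := fun {x y} d e => ⟨mul_mem d.1 e.1, fun j f => by
          rw [q.mul (h.cC hu _ d.1) (h.cC hu _ e.1)]; exact (d.2 j f).mul_left (e.2 j f)⟩
        inv_mem' := fun {x} d => ⟨inv_mem d.1, fun j f => by rw [q.inv (h.cC hu _ d.1)]; exact (d.2 j f).inv_left⟩ }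
    refine ⟨g, h.o2K (N := N) (fun _ d => d.1) (fun k k1 x d => ⟨mul_mem (mul_mem k1 d.1) (inv_mem k1), fun j f => ?_⟩)
      (isPGroup_iff_mem.2 fun x d => ⟨3, ?_⟩) ⟨mCC.2 ⟨g2, (h.cu hu g2).1 g1⟩, fun j f => d _ ⟨j, f, rfl⟩⟩, rfl⟩
    · have := d.2 _ (h.nm (mCC.1 (inv_mem k1)).1 f)
      rw [q.cj0 (h.cC hu _ (inv_mem k1)) (cJ j f), q.inv (h.cC hu _ k1), inv_inv] at this
      rw [q.cj0 (h.cC hu _ k1) (h.cC hu _ d.1)]
      exact commute_conj_left_iff.2 this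
    · rw [pow_succ' 2 2, pow_mul, _root_.sq x]
      refine h.p4 (h.selfc _ fun j f => conj_eq_self_iff.1 ?_)
      rw [← conj_conj']
      have x1 := h.cC hu _ d.1
      rcases (q.eq (cJ j f) (cJ _ (h.nm (mCC.1 d.1).1 f))).1 (by rw [q.cj0 x1 (cJ j f), cz (d.2 j f).symm]) with e | e <;> rw [e]
      · exact e
      · rw [← conj_mul, e, cz x1, mul_assoc, h.uu hu, mul_one]
  · obtain ⟨g, g1, rfl⟩ := q.sur γ
    rintro ⟨j, e, rfl⟩
    exact ⟨_, h.nm ((h.Fz hu q g1).1 d) e, q.cj0 g1 (cJ j e)⟩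
  · rintro _ ⟨j, d, rfl⟩; exact (h.Fc hu q h.zJ d).2 (h.cJ d)

theorem isoU (A : ∀ γ, Commute (F z) (γ * F z * γ⁻¹) → γ * F z * γ⁻¹ = F z) : Iso z u := fun k k1 k2 =>
  cz ((h.Fz hu q k1).1 (conj_eq_self_iff.1 (A _ (q.cj0 k1 (h.zu hu) ▸ (h.Fz hu q ((k1.mul_right (h.zu hu)).mul_right k1.inv_right)).2 k2))).symm)

omit hu q in
theorem fi23 : Iso z (z * a) ∨ Spor.IsoFi23 G := by
  have hu : z * a = a ∨ z * a = z * a := Or.inr rfl
  obtain ⟨F, q, hF⟩ := exQF (h.uu hu)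
  obtain ⟨w, w1, w2, w3⟩ := h.sw
  have w4 := (h.bfix w1 w2).resolve_left fun e => w3 (conj_eq_self_iff.1 e).symm
  have w5 := w1.mul_left w2
  have cJ := h.cuJ hu
  refine ((h.dh hu q).two (w := F w) ((h.Fz hu q w5).2 w1) fun e => ?_).imp (h.isoU hu q) fun e => ?_
  · have := cz e
    rw [← q.cj0 w5 (cJ _ h.bJ), w4, q.eq (cJ _ (mul_mem h.aJ h.bJ)) (cJ _ h.bJ), (h.cb h.aJ).symm.eq, mul_assoc, h.za.symm.left_comm, h.aa] at this
    simpa [h.a1, h.ne] using this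
  have m : ∀ {g}, Commute (z * a) g → g ∈ centralizer {z * a} := fun b => mem_centralizer_singleton_iff.2 b.symm
  obtain ⟨x, x1, y, y1, n⟩ := h.es.nonab
  have xJ := h.EJ x1
  have yJ := h.EJ y1
  have n' := mt (h.Fc hu q xJ yJ).1 n
  have : IsSimpleGroup _ := let ⟨e⟩ := e; haveI := Cfsg.Agent.S1696.result.1; e.isSimpleGroup
  have dm : (⟨z * a, m (Commute.refl _)⟩ : centralizer {z * a}) ∈ commutator (centralizer {z * a}) := by
    have k : ∀ x y : centralizer {z * a}, x * y * x⁻¹ * y⁻¹ ∈ commutator (centralizer {z * a}) := fun x y =>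
      commutator_mem_commutator (mem_top x) (mem_top y)
    convert mul_mem (k ⟨x, m (cJ x xJ)⟩ ⟨y, m (cJ y yJ)⟩) (k ⟨w, m w5⟩ ⟨b, m (cJ b h.bJ)⟩) using 1
    refine Subtype.ext ?_
    simp only [coe_mul, coe_inv]
    rw [w4, h.es.conj_anti x1 y1 n, cz (h.cJ yJ), mul_inv_cancel_right]
  have top : (commutator (centralizer {z * a})).map (QuotientGroup.mk' ((zpowers (z * a)).subgroupOf (centralizer {z * a}))) = ⊤ :=
    (Normal.map inferInstance _ (QuotientGroup.mk'_surjective _)).eq_bot_or_eq_top.resolve_left fun f => n' (by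
      have := f.le (mem_map_of_mem _ (commutator_mem_commutator (mem_top ⟨x, m (cJ x xJ)⟩) (mem_top ⟨y, m (cJ y yJ)⟩)))
      rw [mem_bot, map_commutatorElement, commutatorElement_eq_one_iff_commute] at this
      rw [hF ⟨x, m (cJ x xJ)⟩, hF ⟨y, m (cJ y yJ)⟩]
      exact this)
  refine Cfsg.Agent.S1714.result (z * a) (orderOf_eq_two_of (h.uu hu) fun e => h.uE hu (e ▸ one_mem _)) ⟨⟨eq_top_iff.2 fun g _ => ?_⟩,
    (QuotientGroup.quotientMulEquivOfEq (N := (zpowers (z * a)).subgroupOf (centralizer {z * a})) (Subgroup.ext fun g => ?_)).isSimpleGroup⟩ e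
    ⟨c, by rw [← conj_mul, cz h.zc, h.cab]; exact m (cJ _ (mul_mem h.zJ h.bJ)), by rw [← conj_mul, cz h.zc, h.cab]; exact mt mul_left_cancel h.ba⟩
  · obtain ⟨d, d1, d2⟩ := top.ge (mem_top (F g))
    rcases (q.eq (mem_centralizer_singleton_iff.1 d.2).symm (mem_centralizer_singleton_iff.1 g.2).symm).1 ((hF d).trans d2) with e | e
    exacts [Subtype.ext e ▸ d1, (Subtype.ext e : g = d * ⟨z * a, m (Commute.refl _)⟩) ▸ mul_mem d1 dm]
  rw [mem_subgroupOf, mem_zpowers_invol (h.uu hu), mem_center_iff]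
  have g1 : Commute (z * a) g := (mem_centralizer_singleton_iff.1 g.2).symm
  refine ⟨fun d => (q.ker g1).1 (mem_bot.1 (((center _).normal_of_characteristic.eq_bot_or_eq_top.resolve_right fun f =>
    n' (mem_center_iff.1 (f.ge (mem_top _)) _)).le (mem_center_iff.2 fun γ => ?_))), fun d k => Subtype.ext ?_⟩
  · obtain ⟨k, k1, rfl⟩ := q.sur γ
    rw [← q.mul k1 g1, ← q.mul g1 k1]
    exact congrArg F (congrArg Subtype.val (d ⟨k, m k1⟩))
  · rcases d with d | d <;> simp only [coe_mul, d]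
    exacts [by simp, mem_centralizer_singleton_iff.1 k.2]

end TJ

end Cfsg.Lib.Par
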