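import Cfsg.Agent.Lib.Known2.TB

/-! Commuting conjugates of the centre of `O₂`, unitary module, elementary abelian centre. -/

set_option autoImplicit false
set_option linter.unusedSectionVars false

namespace Cfsg.Lib.Par

open Subgroup Cfsg.Lib.Known2 Cfsg.Lib.Core Cfsg.Lib.Fi Cfsg.Lib.Amalg

variable {G : Type*} [Group G]

structure LC (J W H Y : Subgroup G) (z a : G) (ν : G → ℕ) (α : G → ℕ → ℕ) : Prop extends GJ J W H Y z ν α where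
  aW : a ∈ W
  ca : ∀ {j}, j ∈ J → Commute a j
  mY : ∀ {g}, g ∈ Y ↔ Commute z g ∧ Commute a g
  nm : ∀ {g j}, Commute z g → j ∈ J → g * j * g⁻¹ ∈ J
  nW : ∀ {g j}, Commute z g → j ∈ W → g * j * g⁻¹ ∈ W
  U : Iso z a
  DW : ∀ {g}, g * z * g⁻¹ ∈ W → g * z * g⁻¹ = z
  fuse : ∀ {g u}, u ∈ W → g * u * g⁻¹ ∈ W → ∃ w, Commute z w ∧ Commute u (w⁻¹ * g)
  Wh : ∀ c, Commute (z * a) c → c * z * c⁻¹ ∈ J → c * z * c⁻¹ = z

def Cg (J : Subgroup G) (z a g : G) : Prop := Cf z a g ∧ (∀ j ∈ J, Commute (g * z * g⁻¹) j → Commute (g * a * g⁻¹) j) ∧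
  ∀ j ∈ J, Commute (g⁻¹ * z * g⁻¹⁻¹) j → Commute (g⁻¹ * a * g⁻¹⁻¹) j

theorem Cg.inv {J : Subgroup G} {z a g : G} (c : Cg J z a g) : Cg J z a g⁻¹ := ⟨c.1.inv, c.2.2, by simpa using c.2.1⟩

namespace LC
variable [Finite G] {J W H Y : Subgroup G} {z a : G} {ν : G → ℕ} {α : G → ℕ → ℕ} (h : LC J W H Y z a ν α) {g j : G}
include h

theorem aJ : a ∈ J := h.WJ h.aW
theorem aa : a * a = 1 := h.v2 h.aW
theorem za : Commute z a := h.cJ h.aJ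
theorem p4 (hj : j ∈ J) : j ^ 2 ^ 2 = 1 := by
  rw [show j ^ 2 ^ 2 = j * j * (j * j) by simp [pow_succ, mul_assoc]]
  rcases h.sq hj with e | e <;> simp only [e, h.zz, mul_one]

theorem P {x : G} (hx : Commute (g * a * g⁻¹) x)
    (e : g * z * g⁻¹ * (x * (g * z * g⁻¹) * x⁻¹) * (g * z * g⁻¹ * (x * (g * z * g⁻¹) * x⁻¹)) ∈ J) : Commute x (g * z * g⁻¹) := by
  have := h.U.dih h.zz h.za (commute_conj_left_iff.1 hx) 3 (by
    rw [show z * (g⁻¹ * x * g * z * (g⁻¹ * x * g)⁻¹) = g⁻¹ * (g * z * g⁻¹ * (x * (g * z * g⁻¹) * x⁻¹)) * g⁻¹⁻¹ by group, conj_pow,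
      conj_eq_one_iff, pow_succ' 2 2, pow_mul, _root_.sq (_ * _), h.p4 e])
  exact (commute_conj_left_iff.2 (conj_eq_self_iff.1 this).symm).symm

theorem PJ (ht : Commute z (g * z * g⁻¹)) (hj : j ∈ J) (hx : Commute (g * a * g⁻¹) j) : Commute j (g * z * g⁻¹) := by
  have m : g * z * g⁻¹ * (j * (g * z * g⁻¹) * j⁻¹) ∈ J := by
    have := mul_mem (h.nm ht hj) (inv_mem hj)
    rw [inv_eq_of_mul_eq_one_right (conj_sq_iff.2 h.zz)] at this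
    simpa only [mul_assoc] using this
  exact h.P hx (mul_mem m m)

theorem bk {w : G} (w1 : Commute z w) (e : w⁻¹ * g * z * (w⁻¹ * g)⁻¹ = z) : g * z * g⁻¹ = z := by
  rw [← conj_conj'] at e
  exact (cj_inv_eq e).symm.trans (cz w1)

theorem F2 (c : Cf z a g) (hd : g * a * g⁻¹ ∈ J) : g * z * g⁻¹ = z := by
  have := h.hyp (h.mY.2 ⟨c.1, c.2.1⟩) hd (conj_sq_iff.2 h.aa) fun j b e => (h.PJ c.1 b e).symm
  refine this.elim h.DW fun e => ?_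
  have m := (mul_mem_cancel_right hd).1 (h.WJ e)
  rw [conj_mul] at e
  obtain ⟨w, w1, w2⟩ := h.fuse (mul_mem h.zW h.aW) e
  exact h.bk w1 (h.Wh _ w2 (by rw [← conj_conj']; exact h.nm w1.inv_right m))

variable (c : Cg J z a g)
include c

theorem side (n1 : g * z * g⁻¹ ≠ z) (n2 : g * (z * a) * g⁻¹ ∉ W) :
    (g * z * g⁻¹ ∈ J ∨ g * (z * a) * g⁻¹ ∈ J) ∧ ∃ j ∈ J, j * (g * a * g⁻¹) * j⁻¹ = g * a * g⁻¹ * z := by
  have dJ := mt (h.F2 c.1) n1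
  have hd := h.mY.2 ⟨c.1.2.2.1, c.1.2.2.2⟩
  have ht := h.mY.2 ⟨c.1.1, c.1.2.1⟩
  have dd := (conj_sq_iff (g := g)).2 h.aa
  have tt := (conj_sq_iff (g := g)).2 h.zz
  have td : Commute (g * z * g⁻¹) (g * a * g⁻¹) := commute_conj_conj_iff.2 h.za
  have A : g * z * g⁻¹ ∈ J ∨ g * (z * a) * g⁻¹ ∈ J := (conj_mul (b := g) (a := z) (c := a)) ▸ (h.beta hd dd dJ ht tt td
    (fun j b => ⟨fun e => (h.PJ c.1.1 b e).symm, c.2.1 j b⟩) fun y _ e => h.P e.symm)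
  have P := fun x => h.P (x := x) (g := g)
  refine ⟨A, ?_⟩
  rcases A with e | e
  · exact h.gam hd dd dJ (h.lt _) (fun f => n1 (h.DW ((h.zero e).1 f))) (h.fix hd e td.symm) fun y y1 y2 => by
      have m := mul_mem e (h.nm' (h.lY y1) e)
      exact h.fix (h.lY y1) e (P y y2.symm (mul_mem m m))
  · refine h.gam hd dd dJ (h.lt _) (fun f => n2 ((h.zero e).1 f)) (h.fix hd e ?_) fun y y1 y2 => ?_
    · rw [← conj_mul]; exact td.symm.mul_right (Commute.refl _)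
    rw [← conj_mul] at e ⊢
    have m := mul_mem e (h.nm' hd (h.nm' (h.lY y1) e))
    refine h.fix (h.lY y1) e ((P y y2.symm ?_).mul_right y2)
    generalize g * a * g⁻¹ = d at *
    generalize g * z * g⁻¹ = t at *
    rw [← conj_mul (b := y), cz y2.symm, show t * d * (d * (y * t * y⁻¹ * d) * d⁻¹) = t * (d * d) * (y * t * y⁻¹) by group, dd, mul_one] at m
    exact mul_mem m m

theorem nj (hj : j ∈ J) (e : j * (g * a * g⁻¹) * j⁻¹ = g * a * g⁻¹ * z) : ¬ Commute (g * z * g⁻¹) j := fun f =>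
  h.ne (mul_eq_left.1 (e.symm.trans (cz (c.2.1 j hj f))))

theorem F3 (hj : j ∈ J) (e : j * (g * a * g⁻¹) * j⁻¹ = g * a * g⁻¹ * z) : g⁻¹ * z * g⁻¹⁻¹ ∉ J := fun m => by
  have n := h.nj c hj e
  replace c := c.1
  have ht := h.mY.2 ⟨c.1, c.2.1⟩
  have tt := (conj_sq_iff (g := g)).2 h.zz
  have td : Commute (g * z * g⁻¹) (g * a * g⁻¹) := commute_conj_conj_iff.2 h.za
  have P : ∀ x ∈ Y, Commute x (g * z * g⁻¹) → Commute x (g * a * g⁻¹) → Commute x (j * (g * z * g⁻¹) * j⁻¹) := fun x x1 x2 x3 => by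
    rw [conj_conj']
    refine h.P (by rw [← conj_conj', e]; exact (x3.mul_right (h.mY.1 x1).1.symm).symm) ?_
    rw [← conj_conj']
    have c1 := (h.νc ht hj).1
    have m := mul_mem c1 (h.nm' ht (h.nm' x1 c1))
    generalize g * z * g⁻¹ = t at *
    rw [← conj_mul (b := x), cz x2.inv_right.symm, show j * t * j⁻¹ * t⁻¹ * (t * (x * (j * t * j⁻¹) * x⁻¹ * t⁻¹) * t⁻¹) =
      j * t * j⁻¹ * (x * (j * t * j⁻¹) * x⁻¹) * (t * t)⁻¹ by group, tt, inv_one, mul_one] at m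
    exact mul_mem m m
  have k : ∀ u, g⁻¹ * j * g * u * (g⁻¹ * j * g)⁻¹ = g⁻¹ * (j * (g * u * g⁻¹) * j⁻¹) * g := fun u => by group
  have := h.F2 (g := g⁻¹ * j * g) ⟨by rw [k]; exact commute_conj_left_iff.1 (P _ ht (Commute.refl _) td),
    by rw [k]; exact commute_conj_left_iff.1 (P _ (h.mY.2 ⟨c.2.2.1, c.2.2.2⟩) td.symm (Commute.refl _)),
    by rw [k, e]; exact commute_conj_left_iff.1 (td.mul_right c.1.symm),
    by rw [k, e]; exact commute_conj_left_iff.1 ((Commute.refl _).mul_right c.2.2.1.symm)⟩ (by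
      rw [k, e]; convert mul_mem h.aJ m using 1; group)
  exact n (commute_conj_left_iff.2 (conj_eq_self_iff.1 this).symm)

theorem fin1 (m : g * (z * a) * g⁻¹ ∈ J) (hj : j ∈ J) (e : j * (g * a * g⁻¹) * j⁻¹ = g * a * g⁻¹ * z) :
    j * (g * (z * a) * g⁻¹) * j⁻¹ = g * (z * a) * g⁻¹ ∧ j * (g * z * g⁻¹) * j⁻¹ = g * z * g⁻¹ * z := by
  have n := h.nj c hj e
  have f := h.conj_eq hj m
  rw [← conj_mul (b := g), ← conj_mul (b := j), e] at f ⊢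
  have f := f.resolve_right fun f => n (conj_eq_self_iff.1 (mul_right_cancel (f.trans (mul_assoc _ _ _)))).symm
  refine ⟨f, mul_right_cancel (f.trans ?_)⟩
  rw [← c.1.2.2.1.eq, ← mul_assoc _ z (g * a * g⁻¹), mul_assoc _ z z, h.zz, mul_one]

theorem lemC : g * z * g⁻¹ = z ∨ ∃ w, Commute z w ∧ (Commute (z * a) (w⁻¹ * g) ∨ Commute (z * a) (w⁻¹ * g⁻¹)) := by
  by_contra n
  rw [not_or] at n
  have zaW := mul_mem h.zW h.aW
  have n2 : g * (z * a) * g⁻¹ ∉ W := fun e => let ⟨w, a, b⟩ := h.fuse zaW e; n.2 ⟨w, a, Or.inl b⟩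
  have n3 : g⁻¹ * (z * a) * g⁻¹⁻¹ ∉ W := fun e => let ⟨w, a, b⟩ := h.fuse zaW e; n.2 ⟨w, a, Or.inr b⟩
  have n1 : g⁻¹ * z * g⁻¹⁻¹ ≠ z := fun e => n.1 (cj_inv_eq e)
  obtain ⟨a1, j, j1, j2⟩ := h.side c n.1 n2
  obtain ⟨b1, k, k1, k2⟩ := h.side c.inv n1 n3
  obtain ⟨c1, c2⟩ := h.fin1 c (a1.resolve_left (by simpa using h.F3 c.inv k1 k2)) j1 j2
  obtain ⟨d1, d2⟩ := h.fin1 c.inv (b1.resolve_left (h.F3 c j1 j2)) k1 k2
  have u1 : Commute z ((g * k * g⁻¹)⁻¹ * j * g) := (conj_eq_self_iff.1 (by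
    rw [show (g * k * g⁻¹)⁻¹ * j * g * z * ((g * k * g⁻¹)⁻¹ * j * g)⁻¹ = g * k⁻¹ * g⁻¹ * (j * (g * z * g⁻¹) * j⁻¹) * g * k * g⁻¹ by group, c2,
      ← c.1.1.eq, show g * k⁻¹ * g⁻¹ * (z * (g * z * g⁻¹)) * g * k * g⁻¹ = g * k⁻¹ * (g⁻¹ * z * g⁻¹⁻¹ * z) * k * g⁻¹ by group, ← d2]
    group)).symm
  have u2 := h.nW u1 zaW
  rw [← conj_conj', ← conj_conj', c1, show (g * k * g⁻¹)⁻¹ * (g * (z * a) * g⁻¹) * (g * k * g⁻¹)⁻¹⁻¹ = g * (k⁻¹ * (z * a) * k⁻¹⁻¹) * g⁻¹ by group,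
    cz ((h.cJ (inv_mem k1)).mul_left (h.ca (inv_mem k1)))] at u2
  exact n2 u2

end LC

end Cfsg.Lib.Par
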