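import Cfsg.Agent.Lib.Known2.TE1
import Cfsg.Agent.Lib.Known2.TE3

/-! The group `(2² × 2^{1+8}).(3 × U₄(2)).2`: unitary coordinates. -/

set_option autoImplicit false
set_option linter.unusedSectionVars false

namespace Cfsg.Lib.Par

open Subgroup Cfsg.Lib.Known2 Cfsg.Lib.Core Cfsg.Lib.Fi Cfsg.Lib.Amalg Cfsg.Lib.Psp43

variable {G : Type*} [Group G]

theorem killP {K : Type*} [Group K] (π : K →* MulAut P0) (h1 : Function.Surjective π) (μ : K → Prop) (p1 : ∀ a b, μ (a * b) ↔ (μ a ↔ μ b))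
    (p2 : ∀ g, π g = 1 → μ g) {g : K} (hg : π g ∈ (MulAut.conj : P0 →* MulAut P0).range) : μ g := by
  classical
  let ψ : K →* ℤˣ := MonoidHom.mk' (fun a => if μ a then 1 else -1) fun a b => by
    rw [p1]; by_cases μ a <;> by_cases μ b <;> simp [*]
  have hψ : ∀ a, ψ a = 1 ↔ μ a := fun a => by
    show (if μ a then (1 : ℤˣ) else -1) = 1 ↔ _
    by_cases μ a <;> simp [*]
  have := simple0
  obtain ⟨γ, e⟩ := hg
  rcases ((π.liftOfSurjective h1 ⟨ψ, fun a b => (hψ a).2 (p2 _ b)⟩).comp MulAut.conj).normal_ker.eq_bot_or_eq_top with f | f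
  · have := Nat.card_le_card_of_injective _ ((MonoidHom.ker_eq_bot_iff _).1 f)
    rw [Psp43.card_P0] at this
    simp at this
  · have : γ ∈ MonoidHom.ker _ := f ▸ mem_top γ
    rw [MonoidHom.mem_ker, MonoidHom.comp_apply, e] at this
    exact (hψ g).1 ((π.liftOfRightInverse_comp_apply _ _ _ _).symm.trans this)

/-- The centre of `J`. -/
def ZJ (J : Subgroup G) : Subgroup G := J ⊓ centralizer J

theorem mZJ {J : Subgroup G} {g : G} : g ∈ ZJ J ↔ g ∈ J ∧ ∀ j ∈ J, Commute g j :=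
  and_congr_right fun _ => ⟨fun b j c => (b j c).symm, fun b j c => (b j c).symm⟩

namespace TJ
variable [Finite G] {J E : Subgroup G} {z a b c : G} (h : TJ J E z a b c) {g j k r v : G}
include h

theorem mW : g ∈ ZJ J ↔ ∀ j ∈ J, Commute g j := mZJ.trans (and_iff_right_of_imp (h.selfc g))
theorem zW : z ∈ ZJ J := h.mW.2 fun _ => h.cJ
theorem aW : a ∈ ZJ J := h.mW.2 fun _ => h.ca
theorem bW : b ∈ ZJ J := h.mW.2 fun _ => h.cb
theorem nW (hg : Commute z g) (hv : v ∈ ZJ J) : g * v * g⁻¹ ∈ ZJ J :=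
  h.mW.2 fun j d => commute_conj_left_iff.2 (by simpa using h.mW.1 hv _ (h.nm hg.inv_right d))

theorem cW (hv : v ∈ ZJ J) (h1 : Commute z g) (h2 : Commute a g) (h3 : Commute b g) : Commute v g := by
  have k : ∀ {v}, V0 a b v → Commute v g := by rintro _ (rfl | rfl | rfl); exacts [h2, h3, h2.mul_left h3]
  rcases h.cenW (h.mW.1 hv) with rfl | rfl | e | e
  exacts [Commute.one_left _, h1, k e, by simpa using h1.inv_left.mul_left (k e)]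

theorem v2 (hv : v ∈ ZJ J) : v * v = 1 := by
  rcases h.cenW (h.mW.1 hv) with rfl | rfl | e | e
  exacts [mul_one _, h.zz, (h.v0 e).2.1, by
    have := (h.v0 e).2.1
    rwa [(h.cJ hv.1).symm.mul_mul_mul_comm, h.zz, one_mul] at this]

theorem nrm3 (hj : j ∈ J) : j * (c * j * c⁻¹) * (c * (c * j * c⁻¹) * c⁻¹) = 1 ∨ j * (c * j * c⁻¹) * (c * (c * j * c⁻¹) * c⁻¹) = z := by
  have m := mul_mem (mul_mem hj (h.nm h.zc hj)) (h.nm h.zc (h.nm h.zc hj))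
  have e : c * (j * (c * j * c⁻¹) * (c * (c * j * c⁻¹) * c⁻¹)) * c⁻¹ = j⁻¹ * (j * (c * j * c⁻¹) * (c * (c * j * c⁻¹) * c⁻¹)) * j⁻¹⁻¹ := by
    rw [show c * (j * (c * j * c⁻¹) * (c * (c * j * c⁻¹) * c⁻¹)) * c⁻¹ = c * j * c⁻¹ * (c * (c * j * c⁻¹) * c⁻¹) * (c * c * c * j * (c * c * c)⁻¹) by group,
      h.c3]; group
  have f := h.conj_eq (inv_mem hj) m
  rw [← e] at f
  generalize j * (c * j * c⁻¹) * (c * (c * j * c⁻¹) * c⁻¹) = y at *
  refine h.fpf y m (conj_eq_self_iff.1 (f.resolve_right fun f => h.ne ?_))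
  have : c * c * c * y * (c * c * c)⁻¹ = y * z := by
    rw [← conj_conj', ← conj_conj', f, ← conj_mul (a := y), f, cz h.zc, mul_assoc y, h.zz, mul_one, f]
  rw [h.c3] at this
  simpa using this

section
variable {Γ : Type*} [Group Γ] [Finite Γ] {F : G → Γ} (q : QF a F)
include q

theorem VW (hr : r ∈ J) : V4 (F z) (F b) (F r) ↔ r ∈ ZJ J := by
  have hu : a = a ∨ a = z * a := Or.inl rfl
  have D := h.dh hu q
  refine ⟨fun e => h.mW.2 fun j d => (h.Fc hu q hr d).1 ?_, fun e => ?_⟩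
  · have c1 := D.cJ _ ⟨j, d, rfl⟩
    have c2 := D.ca ⟨j, d, rfl⟩
    rcases e with e | e | e | e <;> rw [e]
    exacts [Commute.one_left _, c1, c2, c1.mul_left c2]
  have k : ∀ {v}, V0 a b v → F v = 1 ∨ F v = F b := by
    rintro _ (rfl | rfl | rfl)
    exacts [Or.inl (h.Fu hu q), Or.inr rfl, Or.inr (by rw [h.Fm hu q h.aJ h.bJ, h.Fu hu q, one_mul])]
  rcases h.cenW (h.mW.1 e) with rfl | rfl | e | e
  exacts [Or.inl q.one, Or.inr (Or.inl rfl), (k e).imp id fun e => Or.inr (Or.inl e), by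
    rw [show r = z * (z * r) by rw [← mul_assoc, h.zz, one_mul], h.Fm hu q h.zJ (mul_mem h.zJ hr)]
    exact Or.inr ((k e).imp (fun e => by rw [e, mul_one]) fun e => Or.inr (by rw [e]))]

theorem Ia (γ : Γ) (e : Commute (F z) γ) : Commute (F b) γ := by
  have hu : a = a ∨ a = z * a := Or.inl rfl
  obtain ⟨g, g1, rfl⟩ := q.sur γ
  refine (conj_eq_self_iff.1 ?_).symm
  rw [← q.cj0 g1 (h.ca h.bJ)]
  rcases h.bfix ((h.Fz hu q g1).1 e) g1 with e | e <;> rw [e]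
  rw [h.Fm hu q h.aJ h.bJ, h.Fu hu q, one_mul]

theorem mu (hg : Commute a g) : (∃ k, Commute a k ∧ F k = F g ∧ Commute b k) ↔ Commute b g :=
  ⟨fun ⟨k, k1, k2, k3⟩ => by
    rcases (q.eq k1 hg).1 k2 with rfl | rfl
    exacts [k3, k3.mul_right (h.cb h.aJ)], fun e => ⟨g, hg, rfl, e⟩⟩

theorem mu2 {γ δ : Γ} (h1 : Commute (F z) γ) (h2 : Commute (F z) δ) : (∃ k, Commute a k ∧ F k = γ * δ ∧ Commute b k) ↔
    ((∃ k, Commute a k ∧ F k = γ ∧ Commute b k) ↔ ∃ k, Commute a k ∧ F k = δ ∧ Commute b k) := by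
  obtain ⟨g, g1, rfl⟩ := q.sur γ
  obtain ⟨k, k1, rfl⟩ := q.sur δ
  rw [← q.mul g1 k1, h.mu q g1, h.mu q k1, h.mu q (g1.mul_right k1)]
  exact h.twob (mCC.2 ⟨(h.Fz (Or.inl rfl) q g1).1 h1, g1⟩) (mCC.2 ⟨(h.Fz (Or.inl rfl) q k1).1 h2, k1⟩)
end

theorem ck (h1 : Commute z k) (h2 : Commute a k) (h3 : Commute b k) : c⁻¹ * k⁻¹ * c * k ∈ J := by
  obtain ⟨π, -, p⟩ := h.pi
  have m : ∀ {g}, Commute z g → g ∈ centralizer {z} := fun b => mem_centralizer_singleton_iff.2 b.symm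
  have l : π ⟨c, m h.zc⟩ = 1 := (p _).2 (Or.inr (Or.inr (by rw [← mul_assoc, h.c3]; exact one_mem _)))
  have e : Commute a (c⁻¹ * k⁻¹ * c * k) := Commute.mul_right (by
    have : Commute (c * a * c⁻¹) k⁻¹ := h.cab.symm ▸ h3.inv_right
    exact commute_conj_left_iff.1 this) h2
  have n : ¬ Commute a c := fun e => h.ba (h.cab.symm.trans (cz e))
  have := (p ((⟨c, m h.zc⟩ : centralizer {z})⁻¹ * (⟨k, m h1⟩ : centralizer {z})⁻¹ * ⟨c, m h.zc⟩ * ⟨k, m h1⟩)).1 (by simp [l])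
  replace this : c⁻¹ * k⁻¹ * c * k ∈ J ∨ c⁻¹ * k⁻¹ * c * k * c ∈ J ∨ c⁻¹ * k⁻¹ * c * k * (c * c) ∈ J := this
  rcases this with f | f | f
  exacts [f, absurd (by simpa only [inv_mul_cancel_left] using e.inv_right.mul_right (h.ca f)) n,
    absurd (Commute.inv_right_iff.1 (h.ci ▸ by simpa only [inv_mul_cancel_left] using e.inv_right.mul_right (h.ca f))) n]

theorem lc (U : Iso z (z * a)) : ∃ H ν α, LC J (ZJ J) H (CC z a) z (z * a) ν α := by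
  have hu : a = a ∨ a = z * a := Or.inl rfl
  have := Fintype.ofFinite (GaloisField 2 2)
  have hK : Fintype.card (GaloisField 2 2) = 4 := by rw [← Nat.card_eq_fintype_card, GaloisField.card 2 2 (by norm_num)]; rfl
  obtain ⟨F, q, -⟩ := exQF h.aa
  have D := h.dh hu q
  choose σ s1 s2 using q.sur
  have K : ∀ j ∈ J, ∃ w ∈ ZJ J, F (c * σ (F j) * c⁻¹) = F (c * j * c⁻¹ * w) := fun j d => by
    rcases (q.eq (h.ca d) (s1 _)).1 (s2 _).symm with e | e <;> rw [e]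
    exacts [⟨1, one_mem _, by rw [mul_one]⟩, ⟨b, h.bW, by rw [← conj_mul, h.cab]⟩]
  have cm : ∀ {j w}, j ∈ J → w ∈ ZJ J → c * j * c⁻¹ * w ∈ J := fun d e => mul_mem (h.nm h.zc d) e.1
  obtain ⟨π, h1, h2⟩ := D.pi
  obtain ⟨H, Y, ν, α, C, -⟩ := dicho4 D.es D.hc D.EJ D.aJ D.aE D.aa D.ca D.dec D.selfc D.nm D.cJ π h1 h2 (fun γ => F (c * σ γ * c⁻¹))
    (by rintro _ ⟨j, d, rfl⟩; obtain ⟨w, w1, w2⟩ := K j d; exact ⟨_, cm d w1, w2.symm⟩)
    (by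
      rintro _ ⟨j, d, rfl⟩ _ ⟨k, e, rfl⟩
      obtain ⟨w, w1, w2⟩ := K j d
      obtain ⟨u, u1, u2⟩ := K k e
      obtain ⟨v, v1, v2⟩ := K _ (mul_mem d e)
      rw [← h.Fm hu q d e, w2, u2, v2, ← q.inv (h.ca (cm (mul_mem d e) v1)), ← h.Fm hu q (cm d w1) (cm e u1),
        ← h.Fm hu q (inv_mem (cm (mul_mem d e) v1)) (mul_mem (cm d w1) (cm e u1)),
        h.VW q (mul_mem (inv_mem (cm (mul_mem d e) v1)) (mul_mem (cm d w1) (cm e u1)))]
      convert mul_mem (mul_mem (inv_mem v1) (h.nW (h.cJ (inv_mem (h.nm h.zc e))) w1)) u1 using 1; group)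
    (fun v e => by
      obtain ⟨r, r1, rfl⟩ : v ∈ q.im (h.cuJ hu) := by
        rcases e with rfl | rfl | rfl | rfl
        exacts [one_mem _, D.EJ D.es.mem, D.aJ, mul_mem (D.EJ D.es.mem) D.aJ]
      obtain ⟨w, w1, w2⟩ := K r r1
      rw [w2, h.VW q (cm r1 w1)]
      exact mul_mem (h.nW h.zc ((h.VW q r1).1 e)) w1)
    (by
      rintro γ e _ ⟨j, d, rfl⟩
      obtain ⟨k, k1, k2, k3⟩ := killP π h1 (fun γ => ∃ k, Commute a k ∧ F k = γ ∧ Commute b k)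
        (fun γ δ => h.mu2 q (mem_centralizer_singleton_iff.1 γ.2).symm (mem_centralizer_singleton_iff.1 δ.2).symm)
        (fun γ e => let ⟨j, d, f⟩ := (h2 γ).1 e; ⟨j, h.ca d, f, h.cb d⟩) e
      have k0 : Commute z k := (h.Fz hu q k1).1 (k2 ▸ (mem_centralizer_singleton_iff.1 γ.2).symm)
      obtain ⟨w, w1, w2⟩ := K j d
      obtain ⟨u, u1, u2⟩ := K _ (h.nm k0 d)
      rw [← k2, ← q.cj0 k1 (h.ca d), w2, u2, ← q.cj0 k1 (h.ca (cm d w1)), ← q.inv (h.ca (cm (h.nm k0 d) u1)),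
        ← h.Fm hu q (inv_mem (cm (h.nm k0 d) u1)) (h.nm k0 (cm d w1)), h.VW q (mul_mem (inv_mem (cm (h.nm k0 d) u1)) (h.nm k0 (cm d w1)))]
      have m := h.ck k0 k1 k3
      have zc := (k0.mul_right h.zc)
      have f : (c⁻¹ * k⁻¹ * c * k * j * (c⁻¹ * k⁻¹ * c * k)⁻¹)⁻¹ * j ∈ ZJ J := by
        rcases h.conj_eq m d with e | e <;> rw [e]
        exacts [by simp [one_mem], by simpa using h.zW]
      convert mul_mem (mul_mem (inv_mem u1) (h.nW zc f)) (h.nW k0 w1) using 1; group)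
    (by
      rintro _ ⟨j, d, rfl⟩
      obtain ⟨w, w1, w2⟩ := K j d
      obtain ⟨u, u1, u2⟩ := K _ (cm d w1)
      rw [w2, u2, ← h.Fm hu q d (cm d w1), ← h.Fm hu q (mul_mem d (cm d w1)) (cm (cm d w1) u1),
        h.VW q (mul_mem (mul_mem d (cm d w1)) (cm (cm d w1) u1))]
      have f : j * (c * j * c⁻¹) * (c * (c * j * c⁻¹) * c⁻¹) ∈ ZJ J := by
        rcases h.nrm3 d with e | e <;> rw [e]; exacts [one_mem _, h.zW]
      convert mul_mem (mul_mem (mul_mem f (h.nW (h.cJ (inv_mem (h.nm h.zc (h.nm h.zc d)))) w1)) (h.nW h.zc w1)) u1 using 1; simp [mul_assoc])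
  have Fy : ∀ {g}, g ∈ CC z a → F g ∈ Y := fun {g} d => by
    have := (h.Fz hu q (mCC.1 d).2).2 (mCC.1 d).1
    exact C.mY.2 ⟨this, h.Ia q _ this⟩
  have FJ : ∀ {g}, g ∈ J → F g ∈ q.im (h.cuJ hu) := fun d => ⟨_, d, rfl⟩
  let H0 : Subgroup G :=
    { carrier := {g | g ∈ CC z a ∧ F g ∈ H}
      one_mem' := ⟨one_mem _, q.one ▸ one_mem _⟩
      mul_mem' := fun d e => ⟨mul_mem d.1 e.1, q.mul (mCC.1 d.1).2 (mCC.1 e.1).2 ▸ mul_mem d.2 e.2⟩
      inv_mem' := fun d => ⟨inv_mem d.1, q.inv (mCC.1 d.1).2 ▸ inv_mem d.2⟩ }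
  refine ⟨H0, fun g => ν (F g), fun g => α (F g), ⟨h.zz, h.ne, h.zW, inf_le_left, fun j d => ⟨h.JC d, C.le (FJ d)⟩, fun _ d => d.1,
    fun d => (mCC.1 d).1, fun d => h.nm (mCC.1 d).1, fun {x y} d e => ?_, h.conj_eq, h.sq, fun {v g} d e => ?_, h.v2, fun _ => C.lt _,
    fun d e => by rw [h.Fm hu q d e, C.mul (FJ d) (FJ e)], fun d => (C.zero (FJ d)).trans (h.VW q d),
    fun n d => let ⟨_, ⟨y, e, rfl⟩, f⟩ := C.sur n d; ⟨y, e, f⟩, fun {y} d => ?_, fun d e => (h.Fc hu q d e).symm.trans (C.comm (FJ d) (FJ e)),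
    fun d e => by rw [q.cj0 (mCC.1 d).2 (h.ca e), C.conj (Fy d) (FJ e)], fun d => C.om d.2, fun d e => C.om2 (Fy d) fun f => e ⟨d, f⟩,
    fun v d e => ?_, fun d e => (q.mim h.aJ (mCC.1 d).2).1 (C.ker (Fy d) e)⟩, mul_mem h.zW h.aW, fun d => (h.cJ d).mul_left (h.ca d),
    mCC.trans (and_congr_right fun d => (h.cu (Or.inr rfl) d).symm), h.nm, h.nW, U, fun d => h.DW (h.mW.1 d),
    fun d e => h.fuse (h.mW.1 d) (h.mW.1 e), fun k d e => ?_⟩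
  · change _ ∧ _ ↔ (_ ∧ _ ↔ _ ∧ _)
    rw [q.mul (mCC.1 d).2 (mCC.1 e).2, C.two (C.mY.1 (Fy d)).1 (C.mY.1 (Fy e)).1]
    simp only [d, e, mul_mem d e, true_and]
  · exact h.cW d (mCC.1 e.1).1 (mCC.1 e.1).2 ((h.mu q (mCC.1 e.1).2).1 (C.perf (fun γ => ∃ k, Commute a k ∧ F k = γ ∧ Commute b k)
      (fun _ d _ e => h.mu2 q (C.hz d) (C.hz e)) (fun _ ⟨j, d, f⟩ => ⟨j, h.ca d, f, h.cb d⟩) e.2))
  · rw [← C.sq' (FJ d), ← h.Fm hu q d d]
    refine ⟨fun e => by rw [e, q.one], fun e => (h.sq d).resolve_right fun f => D.es.ne (f ▸ e)⟩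
  · obtain ⟨γ, e1, e2⟩ := C.refl v d e
    obtain ⟨g, g1, rfl⟩ := q.sur γ
    exact ⟨g, ⟨mCC.2 ⟨(h.Fz hu q g1).1 (C.hz e1), g1⟩, e1⟩, e2⟩
  · rw [← mul_assoc, h.zz, one_mul] at d
    have := (D.one (h.Ia q) hK).1 (F k) (q.cj0 d h.za.symm ▸ FJ e)
    exact cz ((h.Fz hu q d).1 (conj_eq_self_iff.1 this).symm)

end TJ

end Cfsg.Lib.Par
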