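import Cfsg.Agent.Lib.Known2.TE2

/-! The group `(2² × 2^{1+8}).(3 × U₄(2)).2`: commuting conjugates of the central involution and the normal four-group. -/

set_option autoImplicit false
set_option linter.unusedSectionVars false

namespace Cfsg.Lib.Par

open Subgroup Cfsg.Lib.Known2 Cfsg.Lib.Core Cfsg.Lib.Fi Cfsg.Lib.Amalg Cfsg.Lib.Psp43

variable {G : Type*} [Group G]

theorem killS {K P : Type*} [Group K] [Group P] [IsSimpleGroup P] (hP : 2 < Nat.card P) (π : K →* P) (h1 : Function.Surjective π) (μ : K → Prop)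
    (p1 : ∀ a b, μ (a * b) ↔ (μ a ↔ μ b)) (p2 : ∀ g, π g = 1 → μ g) (g : K) : μ g := by
  classical
  let ψ : K →* ℤˣ := MonoidHom.mk' (fun a => if μ a then 1 else -1) fun a b => by
    rw [p1]; by_cases μ a <;> by_cases μ b <;> simp [*]
  have hψ : ∀ a, ψ a = 1 ↔ μ a := fun a => by
    show (if μ a then (1 : ℤˣ) else -1) = 1 ↔ _
    by_cases μ a <;> simp [*]
  rcases (π.liftOfSurjective h1 ⟨ψ, fun a b => (hψ a).2 (p2 _ b)⟩).normal_ker.eq_bot_or_eq_top with f | f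
  · have := Nat.card_le_card_of_injective _ ((MonoidHom.ker_eq_bot_iff _).1 f)
    simp at this
    omega
  · exact (hψ g).1 ((π.liftOfRightInverse_comp_apply _ _ _ _).symm.trans (show π g ∈ MonoidHom.ker _ from f ▸ mem_top _))

theorem dih3 [Finite G] {s t : G} (ss : s * s = 1) (tt : t * t = 1) : ∃ x, x * t * x⁻¹ = s ∨
    ∃ i, i ≠ 1 ∧ Commute s i ∧ Commute t i ∧ (x * t * x⁻¹ = s * i ∨ x * t * x⁻¹ = t * i) := by
  obtain ⟨r, rfl⟩ : ∃ r, t = s * r := ⟨s⁻¹ * t, by simp⟩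
  have si := inv_eq_of_mul_eq_one_right ss
  have i1 : s * r * s⁻¹ = r⁻¹ := by rw [si]; exact eq_inv_of_mul_eq_one_left (by rw [mul_assoc]; exact tt)
  have i2 : ∀ k : ℕ, (r ^ k)⁻¹ * s = s * r ^ k := fun k => by rw [← inv_pow, ← i1, conj_pow, inv_mul_cancel_right]
  have i3 : ∀ k : ℕ, (r ^ k)⁻¹ * (s * r) * (r ^ k)⁻¹⁻¹ = s * r ^ (2 * k + 1) := fun k => by rw [← mul_assoc, i2]; group
  have o := pow_orderOf_eq_one r
  obtain ⟨m, e | e⟩ := Nat.even_or_odd' (orderOf r)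
  swap
  · exact ⟨_, Or.inl (by rw [i3 m, ← e, o, mul_one])⟩
  have p := orderOf_pos r
  have n : r ^ m ≠ 1 := pow_ne_one_of_lt_orderOf (by omega) (by omega)
  have c : Commute s (r ^ m) := by
    have := i2 m
    rw [inv_eq_of_mul_eq_one_right (show r ^ m * r ^ m = 1 by rw [← pow_add, ← two_mul, ← e, o])] at this
    exact this.symm
  obtain ⟨k, rfl | rfl⟩ := Nat.even_or_odd' m
  exacts [⟨_, Or.inr ⟨_, n, c, c.mul_left (Commute.self_pow _ _), Or.inr (by rw [i3 k, pow_succ', mul_assoc])⟩⟩,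
    ⟨_, Or.inr ⟨_, n, c, c.mul_left (Commute.self_pow _ _), Or.inl (i3 k)⟩⟩]

def NV [Finite G] (a b : G) : Subgroup G where
  carrier := {g | ∀ v, V0 a b v → V0 a b (g * v * g⁻¹)}
  one_mem' := fun v d => by simpa using d
  mul_mem' := fun d e v f => conj_conj' _ _ v ▸ d _ (e v f)
  inv_mem' := fun {g} d => by
    have k : ∀ n : ℕ, ∀ v, V0 a b v → V0 a b (g ^ n * v * (g ^ n)⁻¹) := fun n => by
      induction n with
      | zero => exact fun v d => by simpa using d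
      | succ n ih => exact fun v f => by rw [pow_succ', ← conj_conj']; exact d _ (ih v f)
    rw [← show g ^ (orderOf g - 1) = g⁻¹ from eq_inv_of_mul_eq_one_left (by rw [← pow_succ, Nat.sub_add_cancel (orderOf_pos g), pow_orderOf_eq_one])]
    exact k _

namespace TJ
variable [Finite G] {J E : Subgroup G} {z a b c : G} (h : TJ J E z a b c) {g j k r v : G}
include h

theorem aba : a * b * a = b := by rw [mul_assoc, (h.cb h.aJ).eq, ← mul_assoc, h.aa, one_mul]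

theorem rotv (hv : V0 a b v) : ∃ u, TJ J E z v u c ∧ ∀ x, V0 v u x ↔ V0 a b x := by
  rcases hv with rfl | rfl | rfl
  exacts [⟨b, h, fun _ => Iff.rfl⟩, ⟨_, h.rot, fun x => by rw [V0, V0, h.bab]; tauto⟩, ⟨_, h.rot3, fun x => by rw [V0, V0, h.aba]; tauto⟩]

theorem zN (hg : Commute z g) : g ∈ NV a b := fun v d => let ⟨_, t, e⟩ := h.rotv d; (e _).1 (t.nV hg)

theorem tr3 (hv : V0 a b v) : ∃ l, Commute z l ∧ l * a * l⁻¹ = v := by
  rcases hv with rfl | rfl | rfl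
  exacts [⟨1, Commute.one_right _, by simp⟩, ⟨c, h.zc, h.cab⟩, ⟨c * c, h.zc.mul_right h.zc, by rw [← conj_conj', h.cab, h.cb']⟩]

theorem card3 [DecidableEq G] : ({a, b, a * b} : Finset G).card = 3 :=
  Finset.card_eq_three.2 ⟨a, b, a * b, h.ba.symm, by simpa using h.rot.a1, by simpa using h.a1, rfl⟩

theorem fixg (g : G) : ∃ v, V0 a b v ∧ ∀ j ∈ J, Commute (g * z * g⁻¹) j → Commute (g * v * g⁻¹) j := by
  classical
  have : Fact (Nat.Prime 2) := ⟨Nat.prime_two⟩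
  let T := J ⊓ centralizer {g * z * g⁻¹}
  have m : ∀ t : T, Commute z (g⁻¹ * t * g) := fun t => commute_conj_left_iff.1 (mem_centralizer_singleton_iff.1 t.2.2).symm
  have s : ∀ {v}, v ∈ ({a, b, a * b} : Finset G) ↔ V0 a b v := by simp [V0]
  let _ : MulAction T ({a, b, a * b} : Finset G) :=
    { smul := fun t v => ⟨g⁻¹ * t * g * v * (g⁻¹ * t * g)⁻¹, s.2 (h.zN (m t) _ (s.1 v.2))⟩
      one_smul := fun v => Subtype.ext (show g⁻¹ * 1 * g * v * (g⁻¹ * 1 * g)⁻¹ = v by group)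
      mul_smul := fun t u v => Subtype.ext (show g⁻¹ * (t * u) * g * v * (g⁻¹ * (t * u) * g)⁻¹ =
        g⁻¹ * t * g * (g⁻¹ * u * g * v * (g⁻¹ * u * g)⁻¹) * (g⁻¹ * t * g)⁻¹ by group) }
  obtain ⟨v, e⟩ := (h.pJ.to_le (inf_le_left : T ≤ J)).nonempty_fixed_point_of_prime_not_dvd_card ({a, b, a * b} : Finset G) (by
    rw [Nat.card_eq_fintype_card, Fintype.card_coe, h.card3]; norm_num)
  exact ⟨v, s.1 v.2, fun j d f => commute_conj_left_iff.2 (conj_eq_self_iff.1 (congrArg Subtype.val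
    (e ⟨j, d, mem_centralizer_singleton_iff.2 f.symm⟩))).symm⟩

theorem cov (U : ∀ v, V0 a b v → Iso z (z * v)) (hg : Commute z (g * z * g⁻¹)) :
    g * z * g⁻¹ = z ∨ ∃ v w u, V0 a b v ∧ Commute z w ∧ Commute z u ∧ Commute v (w * g * u) := by
  obtain ⟨v, v1, B⟩ := h.fixg g⁻¹
  obtain ⟨x, x1, A⟩ := h.fixg g
  obtain ⟨u, t, e⟩ := h.rotv v1
  obtain ⟨l, l1, rfl⟩ := t.tr3 ((e x).2 x1)
  obtain ⟨H, ν, α, L⟩ := t.lc (U v v1)
  have e0 : g * l * z * (g * l)⁻¹ = g * z * g⁻¹ := by rw [← conj_conj', cz l1]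
  replace B : ∀ j ∈ J, Commute ((g * l)⁻¹ * z * (g * l)⁻¹⁻¹) j → Commute ((g * l)⁻¹ * v * (g * l)⁻¹⁻¹) j := fun j d f => by
    rw [mul_inv_rev, ← conj_conj'] at f ⊢
    exact commute_conj_left_iff.2 (B _ (by simpa using h.nm l1 d) (commute_conj_left_iff.1 f))
  rw [conj_conj', ← e0] at A
  rw [← e0] at hg ⊢
  have k : ∀ {u v g : G}, Commute u (g * v * g⁻¹) → Commute (g⁻¹ * u * g⁻¹⁻¹) v := fun e => by simpa using (commute_conj_left_iff.1 e.symm).symm
  have k' : ∀ {u v g : G}, Commute (g⁻¹ * u * g⁻¹⁻¹) v → Commute u (g * v * g⁻¹) := fun e => by simpa using commute_conj_left_iff.1 e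
  have c1 := (A z h.zJ hg.symm).symm
  have c2 := k' (B z h.zJ (k hg))
  have c3 := k' (B v t.aJ (k c1))
  refine (L.lemC (g := g * l) ⟨⟨hg, hg.mul_left c2, by rw [← conj_mul]; exact hg.mul_right c1,
    by rw [← conj_mul]; exact (hg.mul_right c1).mul_left (c2.mul_right c3)⟩, fun j d f => by rw [← conj_mul]; exact f.mul_left (A j d f),
    fun j d f => by rw [← conj_mul]; exact f.mul_left (B j d f)⟩).imp id ?_
  rintro ⟨w, w1, f | f⟩ <;> rw [← mul_assoc, h.zz, one_mul] at f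
  exacts [⟨v, w⁻¹, l, v1, w1.inv_right, l1, by rwa [mul_assoc]⟩, ⟨v, 1, l * w, v1, Commute.one_right _, l1.mul_right w1, by
    simpa [mul_assoc] using f.inv_right⟩]

theorem isoA (U : ∀ v, V0 a b v → Iso z (z * v)) (U' : ∀ v, V0 a b v → Iso z v) (hg : Commute z (g * z * g⁻¹)) : g * z * g⁻¹ = z := by
  refine (h.cov U hg).elim id fun ⟨v, w, u, v1, w1, u1, e⟩ => ?_
  have f : w * g * u * z * (w * g * u)⁻¹ = w * (g * z * g⁻¹) * w⁻¹ := by rw [← conj_conj', cz u1, conj_conj']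
  have := U' v v1 _ e (f ▸ (w1.mul_right hg).mul_right w1.inv_right)
  rw [f] at this
  exact mul_left_cancel (mul_right_cancel (this.trans (cz w1).symm))

theorem exφ (U : Iso z (z * b)) (n : ¬ Iso z a) {K : Type*} [Field K] [Fintype K] (hK : Fintype.card K = 4) :
    (∀ k, Commute a k → k * b * k⁻¹ = b ∨ k * b * k⁻¹ = a * b) ∧
      ∃ φ : CC a b →* PSU 6 K 2, Function.Surjective φ ∧ ∀ m, φ m = 1 ↔ (m : G) = 1 ∨ V0 a b m := by
  have hu : a = a ∨ a = z * a := Or.inl rfl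
  obtain ⟨F, q, -⟩ := exQF h.aa
  have D := h.dh hu q
  obtain ⟨w, w1, w2, w3⟩ := h.sw
  have w4 := (h.bfix w1 w2).resolve_left fun e => w3 (conj_eq_self_iff.1 e).symm
  obtain ⟨_, u1, u2, u3, ⟨u, uJ, rfl⟩, u5, u6, G₀, u7, i2, _, ⟨e⟩⟩ := (D.one (h.Ia q) hK).2.resolve_left fun A => n (h.isoU hu q A)
  have cu : ∀ k, Commute a k → k * u * k⁻¹ = u ∨ k * u * k⁻¹ = u * a := fun k d =>
    (q.eq (h.ca uJ) ((d.mul_right (h.ca uJ)).mul_right d.inv_right)).1 (by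
      rw [q.cj0 d (h.ca uJ)]
      exact (((mem_zpowers_invol u1).1 (u6.conj_mem _ (mem_zpowers _) (F k))).resolve_left fun e => u2 (conj_eq_one_iff.1 e)).symm)
  have tr : ∀ {x}, x ∈ J → F u = F x → ∀ k, Commute a k → k * x * k⁻¹ = x ∨ k * x * k⁻¹ = x * a := fun {x} d f k k1 => by
    rcases (q.eq (h.ca uJ) (h.ca d)).1 f with rfl | rfl
    · exact cu k k1
    · rw [← conj_mul, cz k1]
      exact (cu k k1).imp (fun e => by rw [e]) fun e => by rw [e]
  have ub : F u = F b := by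
    rcases (h.VW q uJ).2 (h.mW.2 fun j d => (h.Fc hu q uJ d).1 (u5 _ ⟨j, d, rfl⟩)) with f | f | f | f
    exacts [absurd f u2, absurd f u3, f, absurd (fun k k1 k2 => by
      rw [← h.Fm hu q h.zJ h.bJ] at f
      rcases tr (mul_mem h.zJ h.bJ) f k k1 with e | e
      · exact U k (conj_eq_self_iff.1 e).symm k2
      · have := U (k * w) (conj_eq_self_iff.1 (by
          rw [← conj_conj', ← conj_mul (b := w), cz w1, w4, h.za.left_comm, ← conj_mul (b := k) (a := a), cz k1, e, ← (h.ca (mul_mem h.zJ h.bJ)).eq,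
            ← mul_assoc, h.aa, one_mul])).symm (by rwa [← conj_conj', cz w1])
        rwa [← conj_conj', cz w1] at this) n]
  have nb := tr h.bJ ub
  refine ⟨fun k d => (h.cb h.aJ).eq ▸ nb k d, ?_⟩
  have := simp6 hK
  have le : ∀ γ : G₀, ∃ k, Commute a k ∧ F k = γ ∧ Commute b k := killS (by rw [card_psu6 hK]; norm_num) (e.toMonoidHom.comp (QuotientGroup.mk' _))
    (e.surjective.comp (QuotientGroup.mk'_surjective _)) _ (fun γ δ => by
      obtain ⟨g, g1, g2⟩ := q.sur γ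
      obtain ⟨k, k1, k2⟩ := q.sur δ
      rw [coe_mul, ← g2, ← k2, ← q.mul g1 k1, h.mu q g1, h.mu q k1, h.mu q (g1.mul_right k1)]
      exact chom' h.a1 h.aa g1 (nb g g1) (nb k k1)) fun γ f => by
    rcases (mem_zpowers_invol u1).1 ((QuotientGroup.eq_one_iff γ).1 ((map_eq_one_iff _ e.injective).1 f)) with f | f
    exacts [⟨1, Commute.one_right _, q.one.trans f.symm, Commute.one_right _⟩, ⟨b, h.ca h.bJ, ub.symm.trans f.symm, Commute.refl _⟩]
  have ge : ∀ m : CC a b, F m ∈ G₀ := fun m => by_contra fun f => by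
    have m1 := mCC.1 m.2
    have := (h.mu q (m1.1.mul_right w2)).1 (le ⟨_, q.mul m1.1 w2 ▸ (mul_mem_iff_of_index_two i2).2 (iff_of_false f fun f =>
      w3 ((h.mu q w2).1 (le ⟨_, f⟩)))⟩)
    exact w3 (by simpa using m1.2.inv_right.mul_right this)
  let ψ : CC a b →* G₀ := MonoidHom.mk' (fun m => ⟨F m, ge m⟩) fun x y => Subtype.ext (q.mul (mCC.1 x.2).1 (mCC.1 y.2).1)
  refine ⟨(e.toMonoidHom.comp (QuotientGroup.mk' _)).comp ψ, (e.surjective.comp (QuotientGroup.mk'_surjective _)).comp fun γ =>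
    let ⟨k, k1, k2, k3⟩ := le γ; ⟨⟨k, mCC.2 ⟨k1, k3⟩⟩, Subtype.ext k2⟩, fun m => ?_⟩
  refine (map_eq_one_iff _ e.injective).trans ((QuotientGroup.eq_one_iff _).trans ((mem_zpowers_invol u1).trans ?_))
  change F m = 1 ∨ F m = F u ↔ _
  rw [ub, q.ker (mCC.1 m.2).1, eq_comm (a := F m), q.eq (h.ca h.bJ) (mCC.1 m.2).1, (h.cb h.aJ).eq, V0, or_assoc]

end TJ

end Cfsg.Lib.Par
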