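import Cfsg.Agent.Lib.Known2.TE4
import Cfsg.Agent.S0815

/-! The group `(2² × 2^{1+8}).(3 × U₄(2)).2`: the recognition theorem. -/

set_option autoImplicit false
set_option linter.unusedSectionVars false

namespace Cfsg.Lib.Par

open Subgroup Cfsg.Lib.Known2 Cfsg.Lib.Core Cfsg.Lib.Fi Cfsg.Lib.Amalg Cfsg.Lib.Psp43

variable {G : Type*} [Group G]

theorem exΨ {P : Type*} [Group P] [Finite P] {M : Subgroup G} [hM : M.Normal] (φ : M →* P) (s : Function.Surjective φ)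
    (k : ∀ g m, φ m = 1 → φ (MulAut.conjNormal g m) = 1) : ∃ Ψ : G →* MulAut P, ∀ g m, Ψ g (φ m) = φ (MulAut.conjNormal g m) := by
  have : ∀ g, ∃ ρ : MulAut P, ∀ m, ρ (φ m) = φ (MulAut.conjNormal g m) := fun g => by
    obtain ⟨f, e⟩ : ∃ f : P →* P, ∀ m, f (φ m) = φ (MulAut.conjNormal g m) := ⟨_, φ.liftOfRightInverse_comp_apply _
      (Function.rightInverse_surjInv s) ⟨φ.comp (MulAut.conjNormal g : MulAut M).toMonoidHom, fun m d => k g m d⟩⟩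
    refine ⟨MulEquiv.ofBijective f ((Finite.surjective_iff_bijective).1 fun γ => ?_), e⟩
    obtain ⟨m, rfl⟩ := s γ
    exact ⟨_, (e ((MulAut.conjNormal g).symm m)).trans (by simp)⟩
  choose ρ hρ using this
  exact ⟨MonoidHom.mk' ρ fun g l => MulEquiv.ext (s.forall.2 fun m => by rw [MulAut.mul_apply, hρ, hρ, hρ, map_mul]; rfl), hρ⟩

namespace TJ
variable [Finite G] {J E : Subgroup G} {z a b c : G} (h : TJ J E z a b c) {g j k r v : G}
include h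

theorem JM : J ≤ CC a b := fun _ d => mCC.2 ⟨h.ca d, h.cb d⟩
theorem vM (hv : V0 a b v) (hg : g ∈ CC a b) : Commute v g := by
  rcases hv with rfl | rfl | rfl
  exacts [(mCC.1 hg).1, (mCC.1 hg).2, (mCC.1 hg).1.mul_left (mCC.1 hg).2]
theorem zV : ¬ (z = 1 ∨ V0 a b z) := fun e => e.elim h.ne fun e => h.nE e h.es.mem

section
variable (U : ∀ v, V0 a b v → Iso z (z * v)) (nb : ∀ k, Commute a k → k * b * k⁻¹ = b ∨ k * b * k⁻¹ = a * b)
include nb

theorem cN (hv : V0 a b v) (hk : Commute v k) : k ∈ NV a b := by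
  have A : ∀ k, Commute a k → k ∈ NV a b := fun k d => by
    rintro _ (rfl | rfl | rfl)
    exacts [Or.inl (cz d), Or.inr (nb k d), by
      rw [← conj_mul, cz d]
      exact Or.inr ((nb k d).symm.imp (fun e => by rw [e, ← mul_assoc, h.aa, one_mul]) fun e => by rw [e])]
  obtain ⟨l, l1, rfl⟩ := h.tr3 hv
  have := A _ (commute_conj_left_iff.1 hk)
  rwa [mul_mem_cancel_right (h.zN l1), mul_mem_cancel_left (inv_mem (h.zN l1))] at this

include U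
theorem f1 (hg : g * z * g⁻¹ ∈ NV a b) : g ∈ NV a b := by
  obtain ⟨n, n1, n2⟩ := h.syl (X := NV a b) (fun j d => h.zN (h.cJ d)) (two_zp ((conj_sq_iff (g := g)).2 h.zz)) (zpowers_le.2 hg)
  have n2 := n2 _ (mem_zpowers _)
  rw [conj_conj'] at n2
  refine (mul_mem_cancel_left n1).1 ((h.cov U n2).elim (fun e => h.zN (conj_eq_self_iff.1 e).symm) fun ⟨v, w, u, v1, w1, u1, e⟩ => ?_)
  have := h.cN nb v1 e
  rwa [mul_mem_cancel_right (h.zN u1), mul_mem_cancel_left (h.zN w1)] at this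

theorem f2 (hv : V0 a b v) (hg : g * v * g⁻¹ ∈ NV a b) : g ∈ NV a b := by
  obtain ⟨n, n1, n2⟩ := h.syl (X := NV a b) (fun j d => h.zN (h.cJ d)) (two_zp ((conj_sq_iff (g := g)).2 (h.v0 hv).2.1)) (zpowers_le.2 hg)
  have n2 := n2 _ (mem_zpowers _)
  rw [conj_conj'] at n2
  exact (mul_mem_cancel_left n1).1 (inv_mem_iff.1 (h.f1 U nb (h.cN nb hv (by simpa using commute_conj_left_iff.1 n2.symm))))

theorem top {P : Type*} [Group P] [IsSimpleGroup P] (φ : CC a b →* P) (s : Function.Surjective φ) (hφ : ∀ m, φ m = 1 ↔ (m : G) = 1 ∨ V0 a b m)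
    (g : G) : g ∈ NV a b := by
  by_contra n
  have a0 : V0 a b a := Or.inl rfl
  have key : ∀ m ∈ NV a b, ∃ v, V0 a b v ∧ g⁻¹ * (m * z * m⁻¹ * v) * g ∈ NV a b := fun m m1 => by
    have ss := (conj_sq_iff (g := m)).2 h.zz
    obtain ⟨x, e | ⟨i, i1, i2, i3, e⟩⟩ := dih3 ss ((conj_sq_iff (g := g)).2 h.aa)
    · refine absurd (show (x * g)⁻¹ * m * z * ((x * g)⁻¹ * m)⁻¹ = a by rw [← conj_conj', ← e]; group) (h.nc0 (Or.inl rfl))
    have i4 : i ∈ NV a b := by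
      have := h.zN (commute_conj_left_iff.1 i2)
      rwa [mul_mem_cancel_right m1, mul_mem_cancel_left (inv_mem m1)] at this
    have i5 := h.cN nb a0 (commute_conj_left_iff.1 i3)
    rcases e with e | e
    · rw [conj_conj'] at e
      have := h.f2 U nb a0 (e ▸ mul_mem (mul_mem (mul_mem m1 (h.zN (Commute.refl z))) (inv_mem m1)) i4) a a0
      exact ⟨_, this, by rwa [e, ← mul_assoc (m * z * m⁻¹), ss, one_mul]⟩
    have e' : g⁻¹ * x * g * a * (g⁻¹ * x * g)⁻¹ = a * (g⁻¹ * i * g) := by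
      rw [show g⁻¹ * x * g * a * (g⁻¹ * x * g)⁻¹ = g⁻¹ * (x * (g * a * g⁻¹) * x⁻¹) * g by group, e]; group
    have := h.f2 U nb a0 (e' ▸ mul_mem (h.zN h.za) i5) a a0
    rw [e'] at this
    refine absurd (h.f2 U nb (v := g⁻¹ * i * g) ?_ (by simpa [mul_assoc] using i4)) n
    rcases this with f | f | f
    exacts [absurd (conj_eq_one_iff.1 (show g⁻¹ * i * g⁻¹⁻¹ = 1 by simpa using f)) i1,
      Or.inr (Or.inr (by rw [← f, ← mul_assoc a a, h.aa, one_mul])), Or.inr (Or.inl (mul_left_cancel f))]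
  have zM := h.JM h.zJ
  have T := (((cj g (NV a b)).subgroupOf (CC a b)).map φ).normalCore_normal.eq_bot_or_eq_top.resolve_left fun f =>
    h.zV ((hφ ⟨z, zM⟩).1 (mem_bot.1 (f.le (s.forall.2 fun m => by
      obtain ⟨v, v1, v2⟩ := key m (h.cN nb a0 (mCC.1 m.2).1)
      have vM := h.JM (h.v0 v1).1
      exact ⟨m * ⟨z, zM⟩ * m⁻¹ * ⟨v, vM⟩, mem_cj.2 v2, by rw [map_mul, (hφ ⟨v, vM⟩).2 (Or.inr v1)]; simp⟩))))
  have K : ∀ x ∈ J, ∃ v, (∀ j ∈ J, Commute v j) ∧ x * v ∈ cj g (NV a b) := fun x d => by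
    obtain ⟨y, y1, y2⟩ := normalCore_le _ (T.ge (mem_top (φ ⟨x, h.JM d⟩)))
    have := (hφ ((⟨x, h.JM d⟩ : CC a b)⁻¹ * y)).1 (by rw [map_mul, map_inv, y2, inv_mul_cancel])
    refine ⟨x⁻¹ * y, this.elim (fun e => by rw [show x⁻¹ * (y : G) = 1 from e]; simp) fun e => (h.v0 e).2.2, by rw [mul_inv_cancel_left]; exact y1⟩
  obtain ⟨x, x1, y, y1, f⟩ := h.es.nonab
  obtain ⟨u, u1, u2⟩ := K x (h.EJ x1)
  obtain ⟨v, v1, v2⟩ := K y (h.EJ y1)
  have uJ := h.selfc u u1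
  have := mul_mem (mul_mem (mul_mem u2 v2) (inv_mem u2)) (inv_mem v2)
  rw [← conj_conj', cz (u1 _ (mul_mem (h.EJ y1) (h.selfc v v1))).symm, ← conj_mul, cz (v1 x (h.EJ x1)), h.es.conj_anti x1 y1 f,
    mul_inv_rev, mul_assoc, mul_inv_cancel_left, cz (h.cJ (h.EJ y1))] at this
  exact n (inv_mem_iff.1 (h.f1 U nb (by simpa using mem_cj.1 this)))
end

theorem kerV (n : ¬ Iso z a) (nb : ∀ k, Commute a k → k * b * k⁻¹ = b ∨ k * b * k⁻¹ = a * b)
    (e : ∀ m ∈ CC a b, ∃ v, (v = 1 ∨ V0 a b v) ∧ g * m * g⁻¹ = m * v) (e' : ∀ m ∈ CC a b, ∃ v, (v = 1 ∨ V0 a b v) ∧ g⁻¹ * m * g⁻¹⁻¹ = m * v) :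
    g = 1 ∨ V0 a b g := by
  have vW : ∀ {v}, (v = 1 ∨ V0 a b v) → v ∈ ZJ J := fun d => d.elim (· ▸ one_mem _) fun d => h.mW.2 (h.v0 d).2.2
  have zg : Commute z g := by
    obtain ⟨v, v1, v2⟩ := e z (h.JM h.zJ)
    exact (conj_eq_self_iff.1 (h.DW (h.mW.1 (v2 ▸ mul_mem h.zW (vW v1))))).symm
  obtain ⟨π, h1, h2⟩ := h.pi
  obtain ⟨p1, p2⟩ := h.piK0 π h1 h2
  have m : ∀ {g}, Commute z g → g ∈ centralizer {z} := fun b => mem_centralizer_singleton_iff.2 b.symm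
  have cr : ∀ (ρ : MulAut P0) γ, MulAut.conj (ρ γ) * ρ = ρ * MulAut.conj γ := fun ρ γ => MulEquiv.ext fun x => by simp
  have A := (h2 ⟨g, m zg⟩).1 (MulEquiv.ext fun γ => conj_inj0 (by
    obtain ⟨k, k1⟩ := p1 (MulAut.conj γ)
    have k2 : Commute b k := killP _ p1 (fun k => Commute b k) (fun x y => h.twob x.2 y.2) (fun x d => h.cb ((p2 x).1 d)) ⟨γ, k1.symm⟩
    obtain ⟨v, v1, v2⟩ := e k (mCC.2 ⟨(mCC.1 k.2).2, k2⟩)
    have := (h2 ((⟨k, k.2.1⟩ : centralizer {z})⁻¹ * (⟨g, m zg⟩ * ⟨k, k.2.1⟩ * (⟨g, m zg⟩ : centralizer {z})⁻¹))).2 (Or.inl (by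
      show (k : G)⁻¹ * (g * k * g⁻¹) ∈ J
      rw [v2, inv_mul_cancel_left]; exact (vW v1).1))
    rw [map_mul, map_mul, map_mul, map_inv, map_inv, show π ⟨k, k.2.1⟩ = _ from k1, ← cr, mul_inv_cancel_right, inv_mul_eq_one] at this
    exact this.symm))
  have B : ∀ g, g * c ∈ J → ¬ ∀ m ∈ CC a b, ∃ v, (v = 1 ∨ V0 a b v) ∧ g * m * g⁻¹ = m * v := fun g d e => by
    obtain ⟨x, x1, y, y1, f⟩ := h.es.nonab
    have xJ := h.EJ x1
    have k : ∀ y ∈ J, ∃ w ∈ ZJ J, c * y * c⁻¹ = y * w := fun y f => by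
      obtain ⟨v, v1, v2⟩ := e _ (h.JM (h.nm h.zc f))
      rw [conj_conj'] at v2
      rcases h.conj_eq d f with e | e <;> rw [e] at v2
      exacts [⟨v⁻¹, inv_mem (vW v1), eq_mul_inv_of_mul_eq v2.symm⟩,
        ⟨_, mul_mem h.zW (inv_mem (vW v1)), by rw [← mul_assoc]; exact eq_mul_inv_of_mul_eq v2.symm⟩]
    obtain ⟨w, w1, w2⟩ := k x xJ
    have s1 : x * (c * x * c⁻¹) * (c * (c * x * c⁻¹) * c⁻¹) ∈ ZJ J := by rcases h.nrm3 xJ with e | e <;> rw [e]; exacts [one_mem _, h.zW]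
    have s2 : x * x ∈ ZJ J := by rcases h.sq xJ with e | e <;> rw [e]; exacts [one_mem _, h.zW]
    rw [w2, ← conj_mul, w2, ← mul_assoc x x, mul_mem_cancel_left (mul_mem s2 w1), mul_mem_cancel_right (h.nW h.zc w1),
      mul_mem_cancel_right w1] at s1
    exact f (h.mW.1 s1 y (h.EJ y1))
  replace A : g ∈ J ∨ g * c ∈ J ∨ g * (c * c) ∈ J := A
  rcases A with A | A | A
  swap
  · exact absurd e (B g A)
  swap
  · refine absurd e' (B _ ?_)
    rw [← h.ci] at A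
    simpa [mul_assoc] using inv_mem (h.nm h.zc.inv_right A)
  have gW : ∀ j ∈ J, Commute g j := fun j d => conj_eq_self_iff.1 ((h.conj_eq A d).resolve_right fun f => by
    obtain ⟨v, v1, v2⟩ := e j (h.JM d)
    exact h.zV (mul_left_cancel (f.symm.trans v2) ▸ v1))
  have Z : (∀ m ∈ CC a b, z * m * z⁻¹ = g * m * g⁻¹) → False := fun f => n fun k k1 _ => by
    have cM : ∀ m ∈ CC a b, m * z * m⁻¹ = z := fun m d => by
      obtain ⟨v, v1, v2⟩ := e _ (inv_mem d)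
      refine h.DW (h.mW.1 ?_)
      rw [← f _ (inv_mem d)] at v2
      rw [show m * z * m⁻¹ = m * (z * m⁻¹ * z⁻¹) * z by group, v2, mul_inv_cancel_left]
      exact mul_mem (vW v1) h.zW
    obtain ⟨w, w1, w2, w3⟩ := h.sw
    by_cases k2 : Commute b k
    · exact cM k (mCC.2 ⟨k1, k2⟩)
    have := cM (k * w) (mCC.2 ⟨k1.mul_right w2, (chom' h.a1 h.aa k1 ((h.cb h.aJ).eq ▸ nb k k1) ((h.cb h.aJ).eq ▸ nb w w2)).2 (iff_of_false k2 w3)⟩)
    rwa [← conj_conj', cz w1] at this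
  rcases h.cenW gW with f | f | f | f
  exacts [Or.inl f, (Z fun _ _ => by rw [f]).elim, Or.inr f, (Z fun m d => by
    conv_rhs => rw [show g = z * (z * g) by rw [← mul_assoc, h.zz, one_mul], ← conj_conj', cz (h.vM f d).symm]).elim]

theorem aut (U : ∀ v, V0 a b v → Iso z (z * v)) (n : ¬ Iso z a) {K : Type*} [Field K] [Fintype K] (hK : Fintype.card K = 4) :
    ∃ (W : Subgroup G) (_ : W.Normal), Nat.card W = 4 ∧ (∀ w ∈ W, w ^ 2 = 1) ∧ Nonempty ((G ⧸ W) ≃* MulAut (PSU 6 K 2)) := by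
  classical
  obtain ⟨nb, φ, s, hφ⟩ := h.exφ (U b (Or.inr (Or.inl rfl))) n hK
  have := simp6 hK
  have cP := card_psu6 hK
  have : Finite (PSU 6 K 2) := Nat.finite_of_card_ne_zero (by omega)
  have T := h.top U nb φ s hφ
  have hM : (CC a b).Normal := ⟨fun m d g => mCC.2 ⟨(commute_conj_left_iff.2 (by simpa using (h.vM (T g⁻¹ a (Or.inl rfl)) d).symm)).symm,
    (commute_conj_left_iff.2 (by simpa using (h.vM (T g⁻¹ b (Or.inr (Or.inl rfl))) d).symm)).symm⟩⟩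
  obtain ⟨Ψ, hΨ⟩ := exΨ φ s fun g m d => (hφ _).2 (((hφ m).1 d).imp (fun e => by simp [e]) (T g _))
  have k0 : ∀ g, Ψ g = 1 → ∀ m ∈ CC a b, ∃ v, (v = 1 ∨ V0 a b v) ∧ g * m * g⁻¹ = m * v := fun g d m e =>
    ⟨_, (hφ ((⟨m, e⟩ : CC a b)⁻¹ * MulAut.conjNormal g ⟨m, e⟩)).1 (by rw [map_mul, map_inv, ← hΨ, d]; simp), by simp⟩
  have k1 : ∀ g, g ∈ Ψ.ker ↔ g = 1 ∨ V0 a b g := fun g => ⟨fun d => h.kerV n nb (k0 g d) (k0 _ (inv_mem d)), fun d =>
    d.elim (· ▸ one_mem _) fun d => MulEquiv.ext (s.forall.2 fun m => (hΨ g m).trans (congrArg φ (Subtype.ext (cz (h.vM d m.2).symm))))⟩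
  have c4 : Nat.card Ψ.ker = 4 := by
    have : (Ψ.ker : Set G) = (insert 1 {a, b, a * b} : Finset G) := Set.ext fun g => by simp [k1, V0]
    rw [← SetLike.coe_sort_coe, this, Nat.card_coe_set_eq, Set.ncard_coe_finset, Finset.card_insert_of_notMem (by
      simpa [not_or] using ⟨h.a1.symm, h.rot.a1.symm, h.rot3.a1.symm⟩), h.card3]
  refine ⟨Ψ.ker, inferInstance, c4, fun w d => ((k1 w).1 d).elim (fun e => by simp [e]) fun e => by rw [_root_.sq, (h.v0 e).2.1],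
    ⟨QuotientGroup.quotientKerEquivOfSurjective Ψ (MonoidHom.range_eq_top.1 (eq_top_of_le_card _ ?_))⟩⟩
  have : Fact (Nat.Prime 2) := ⟨Nat.prime_two⟩
  rw [Cfsg.Agent.S0815.result 2 1 le_rfl (q := 2) rfl hK 6 (by norm_num) (by norm_num), ← index_ker, cP]
  have l : Ψ.ker ≤ CC a b := fun g d => ((k1 g).1 d).elim (· ▸ one_mem _) fun d => h.JM (h.v0 d).1
  have e1 : Ψ.ker.subgroupOf (CC a b) = φ.ker := Subgroup.ext fun m => (k1 m).trans (hφ m).symm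
  have i1 := relIndex_mul_index l
  rw [relIndex, e1, index_ker, MonoidHom.range_eq_top.2 s, card_top, cP] at i1
  have i2 := relIndex_mul_index (H := CC a b) (K := centralizer {a}) inf_le_left
  have n1 : ¬ Commute a c := fun e => h.ba (h.cab.symm.trans (cz e))
  have j0 : (centralizer {a}).index ≠ 0 := index_ne_zero_of_finite
  have j1 : (centralizer {a}).index ≠ 1 := fun e => n1 (mem_centralizer_singleton_iff.1 ((index_eq_one.1 e).ge (mem_top c))).symm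
  have j2 : (centralizer {a}).index ≠ 2 := fun e => n1 (Commute.inv_right_iff.1 (h.ci ▸
    (mem_centralizer_singleton_iff.1 (mul_self_mem_of_index_two e c)).symm))
  obtain ⟨w, -, w2, w3⟩ := h.sw
  have j3 : (CC a b).relIndex (centralizer {a}) ≠ 0 := index_ne_zero_of_finite
  have j4 : (CC a b).relIndex (centralizer {a}) ≠ 1 := fun e => w3 (mCC.1 (relIndex_eq_one.1 e (mem_centralizer_singleton_iff.2 w2.symm))).2
  have : 2 * 3 ≤ (CC a b).index := i2 ▸ Nat.mul_le_mul (by omega) (by omega)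
  norm_num
  omega

theorem main {K : Type*} [Field K] [Fintype K] (hK : Fintype.card K = 4) :
    (∀ g, Commute z (g * z * g⁻¹) → g * z * g⁻¹ = z) ∨ Spor.IsoFi23 G ∨
    ∃ (W : Subgroup G) (_ : W.Normal), Nat.card W = 4 ∧ (∀ w ∈ W, w ^ 2 = 1) ∧ Nonempty ((G ⧸ W) ≃* MulAut (PSU 6 K 2)) := by
  by_cases n : Spor.IsoFi23 G
  · exact Or.inr (Or.inl n)
  have U : ∀ v, V0 a b v → Iso z (z * v) := fun v d => let ⟨_, t, _⟩ := h.rotv d; t.fi23.resolve_right n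
  by_cases U' : ∀ v, V0 a b v → Iso z v
  · exact Or.inl fun g => h.isoA U U'
  push Not at U'
  obtain ⟨v, v1, v2⟩ := U'
  obtain ⟨u, t, e⟩ := h.rotv v1
  exact Or.inr (Or.inr (t.aut (fun x d => U x ((e x).1 d)) v2 hK))

end TJ

end Cfsg.Lib.Par
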