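import Cfsg.Agent.Lib.Known2.TE5

/-! The group `(2² × 2^{1+8}).(3 × U₄(2)).2`: the standard generators of the four-group. -/

set_option autoImplicit false
set_option linter.unusedSectionVars false

namespace Cfsg.Lib.Par

open Subgroup Cfsg.Lib.Known2 Cfsg.Lib.Core Cfsg.Lib.Fi Cfsg.Lib.Amalg Cfsg.Lib.Psp43

variable {G : Type*} [Group G]

theorem exTJ [Finite G] {J E V : Subgroup G} {z y c : G} (es : ES E y) (card : Nat.card E = 512) (EJ : E ≤ J) (VJ : V ≤ J) (hV : Nat.card V = 4)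
    (V2 : ∀ v ∈ V, v * v = 1) (VE : ∀ v ∈ V, v ∈ E → v = 1) (cV : ∀ v ∈ V, ∀ e ∈ E, Commute v e) (dec : ∀ j ∈ J, ∃ e ∈ E, ∃ v ∈ V, j = e * v)
    (c3 : c * c * c = 1) (zc : Commute z c) (selfc : ∀ g, (∀ j ∈ J, Commute g j) → g ∈ J)
    (nm : ∀ {g j}, Commute z g → j ∈ J → g * j * g⁻¹ ∈ J) (cJ : ∀ {j}, j ∈ J → Commute z j) (fpf : ∀ j ∈ J, Commute c j → j = 1 ∨ j = z)
    (π : centralizer {z} →* MulAut P0) (h1 : Function.Surjective π) (h2 : ∀ g, π g = 1 ↔ (g : G) ∈ J ∨ g * c ∈ J ∨ g * (c * c) ∈ J)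
    (nf : ¬ ∀ ρ, ∃ g : centralizer {z}, Commute c g ∧ π g = ρ) : ∃ a b, TJ J E z a b c := by
  classical
  have cVJ : ∀ v ∈ V, ∀ j ∈ J, Commute v j := fun v d j f => by
    obtain ⟨e, e1, u, u1, rfl⟩ := dec j f
    exact (cV v d e e1).mul_right (comm_of_sq V2 d u1)
  have cyJ : ∀ j ∈ J, Commute y j := fun j f => by
    obtain ⟨e, e1, u, u1, rfl⟩ := dec j f
    exact (Commute.symm (es.cen e e1)).mul_right (cV u u1 y es.mem).symm
  have ce : ∀ j ∈ J, ∀ k ∈ J, j * k * j⁻¹ = k ∨ j * k * j⁻¹ = k * y := fun j hj k hk => by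
    obtain ⟨e, e1, v, v1, rfl⟩ := dec j hj
    obtain ⟨f, f1, u, u1, rfl⟩ := dec k hk
    rw [← conj_conj', cz (cVJ v v1 _ hk).symm, ← conj_mul, cz (cV u u1 e e1), mul_assoc f u, (cV u u1 y es.mem).eq, ← mul_assoc]
    exact (es.conj_eq e1 f1).imp (fun e => by rw [e]) fun e => by rw [e]
  obtain rfl : y = z := by
    obtain ⟨x, x1, u, u1, n⟩ := es.nonab
    have := (ce _ (nm zc (EJ x1)) _ (nm zc (EJ u1))).resolve_left fun e => n (commute_conj_conj_iff.1 (conj_eq_self_iff.1 e))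
    rw [show c * x * c⁻¹ * (c * u * c⁻¹) * (c * x * c⁻¹)⁻¹ = c * (x * u * x⁻¹) * c⁻¹ by group, es.conj_anti x1 u1 n, ← conj_mul] at this
    exact (fpf y (EJ es.mem) (conj_eq_self_iff.1 (mul_left_cancel this))).resolve_left es.ne
  have mW : ∀ {g}, g ∈ ZJ J ↔ ∀ j ∈ J, Commute g j := mZJ.trans (and_iff_right_of_imp (selfc _))
  have nW : ∀ {g v}, Commute y g → v ∈ ZJ J → g * v * g⁻¹ ∈ ZJ J := fun d e =>
    mW.2 fun j f => commute_conj_left_iff.2 (by simpa using mW.1 e _ (nm d.inv_right f))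
  have dW : ∀ w ∈ ZJ J, ∃ e, (e = 1 ∨ e = y) ∧ ∃ v ∈ V, w = e * v := fun w d => by
    obtain ⟨e, e1, v, v1, rfl⟩ := dec w d.1
    exact ⟨e, es.of_cen e e1 fun u f => by simpa using ((mW.1 d u (EJ f)).mul_left (cV v v1 u f).inv_left).eq, v, v1, rfl⟩
  have W2 : ∀ w ∈ ZJ J, w * w = 1 := fun w d => by
    obtain ⟨e, rfl | rfl, v, v1, rfl⟩ := dW w d
    exacts [by simpa using V2 v v1, by rw [(cV v v1 e es.mem).mul_mul_mul_comm, es.sq, V2 v v1, mul_one]]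
  have cW : ∀ {u v}, u ∈ ZJ J → v ∈ ZJ J → Commute u v := fun d e => mW.1 d _ e.1
  obtain ⟨v, v1, v2⟩ : ∃ v ∈ V, v ≠ 1 := by
    by_contra n
    push Not at n
    rw [(eq_bot_iff_forall _).2 n] at hV
    simp at hV
  have vW := mW.2 (cVJ v v1)
  obtain ⟨a, ha⟩ : ∃ a, a = v⁻¹ * (c * v * c⁻¹) := ⟨_, rfl⟩
  obtain ⟨b, hb⟩ : ∃ b, c * a * c⁻¹ = b := ⟨_, rfl⟩
  have aW : a ∈ ZJ J := ha ▸ mul_mem (inv_mem vW) (nW zc vW)
  have bW : b ∈ ZJ J := hb ▸ nW zc aW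
  have N : c * b * c⁻¹ = a * b := by
    rw [← inv_eq_of_mul_eq_one_right (W2 _ (mul_mem aW bW)), ← hb, ha]
    refine eq_inv_of_mul_eq_one_right ?_
    rw [show v⁻¹ * (c * v * c⁻¹) * (c * (v⁻¹ * (c * v * c⁻¹)) * c⁻¹) * (c * (c * (v⁻¹ * (c * v * c⁻¹)) * c⁻¹) * c⁻¹) =
      v⁻¹ * (c * c * c * v * (c * c * c)⁻¹) by group, c3]; group
  have a1 : a ≠ 1 := fun e => (fpf v (VJ v1) (conj_eq_self_iff.1 (inv_mul_eq_one.1 (ha ▸ e)).symm)).elim v2 fun e => v2 (VE v v1 (e ▸ es.mem))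
  have az : a ≠ y := fun e => by
    rw [e, cz zc] at hb
    rw [← hb, e, cz zc, es.sq] at N
    exact es.ne N
  have k : ∀ {x}, x ≠ 1 → x ≠ y → c * x * c⁻¹ ≠ 1 ∧ c * x * c⁻¹ ≠ y := fun d e =>
    ⟨mt conj_eq_one_iff.1 d, fun f => e (mul_left_cancel (mul_right_cancel (f.trans (cz zc).symm)))⟩
  have b1 := hb ▸ k a1 az
  have ab1 := N ▸ k b1.1 b1.2
  have dV : ∀ u ∈ V, ∃ e, (e = 1 ∨ e = y) ∧ ∃ x, (x = 1 ∨ V0 a b x) ∧ u = e * x := by
    obtain ⟨e, e1, p, p1, pe⟩ := dW a aW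
    obtain ⟨f, f1, q, q1, qe⟩ := dW b bW
    have ee : ∀ {e}, e = 1 ∨ e = y → e * e = 1 ∧ ∀ j ∈ J, Commute e j := by rintro _ (rfl | rfl); exacts [by simp, ⟨es.sq, cyJ⟩]
    have ef : e * f = 1 ∨ e * f = y := by rcases e1 with rfl | rfl <;> rcases f1 with rfl | rfl <;> simp [es.sq]
    have pq : a * b = e * f * (p * q) := by rw [pe, qe, ((ee f1).2 p (VJ p1)).symm.mul_mul_mul_comm]
    have p0 : p ≠ 1 := by rintro rfl; rw [mul_one] at pe; exact (pe ▸ e1).elim a1 az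
    have q0 : q ≠ 1 := by rintro rfl; rw [mul_one] at qe; exact (qe ▸ f1).elim b1.1 b1.2
    have pq0 : p * q ≠ 1 := fun g => by rw [g, mul_one] at pq; exact (pq ▸ ef).elim ab1.1 ab1.2
    have : ((insert 1 {p, q, p * q} : Finset G) : Set G) = V := Set.eq_of_subset_of_ncard_le (by
      simp [Set.insert_subset_iff, one_mem, p1, q1, mul_mem]) (by
      rw [Set.ncard_coe_finset, Finset.card_insert_of_notMem (by simpa [not_or] using ⟨p0.symm, q0.symm, pq0.symm⟩),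
        Finset.card_eq_three.2 ⟨p, q, p * q, fun g => pq0 (g ▸ V2 p p1), by simpa using q0, by simpa using p0, rfl⟩, ← Nat.card_coe_set_eq]
      exact hV.le)
    intro u d
    have : u = 1 ∨ u = p ∨ u = q ∨ u = p * q := by simpa using this.ge d
    rcases this with rfl | rfl | rfl | rfl
    exacts [⟨1, by simp, 1, by simp, by simp⟩, ⟨e, e1, a, by simp [V0], by rw [pe, ← mul_assoc, (ee e1).1, one_mul]⟩,
      ⟨f, f1, b, by simp [V0], by rw [qe, ← mul_assoc, (ee f1).1, one_mul]⟩, ⟨_, ef, a * b, by simp [V0], by rw [pq, ← mul_assoc, (ee ef).1, one_mul]⟩]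
  have aa := W2 a aW
  have bb := W2 b bW
  have ba := (cW bW aW).eq
  have bab : b * (a * b) = a := by rw [← mul_assoc, ba, mul_assoc, bb, mul_one]
  have cc : c * (a * b) * c⁻¹ = a := by rw [← conj_mul, hb, N, bab]
  let VV : Subgroup G :=
    { carrier := {x | x = 1 ∨ V0 a b x}
      one_mem' := Or.inl rfl
      mul_mem' := by
        have aab : a * (a * b) = b := by rw [← mul_assoc, aa, one_mul]
        rintro x u (e | e | e | e) (f | f | f | f) <;> rw [e, f] <;> simp [V0, mul_assoc, aa, bb, ba, aab, bab]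
      inv_mem' := by
        rintro x (rfl | rfl | rfl | rfl)
        exacts [by simp, by simp [V0, inv_eq_of_mul_eq_one_right aa], by simp [V0, inv_eq_of_mul_eq_one_right bb],
          by simp [V0, inv_eq_of_mul_eq_one_right (W2 _ (mul_mem aW bW))]] }
  have VW : VV ≤ ZJ J := by rintro x (rfl | rfl | rfl | rfl); exacts [one_mem _, aW, bW, mul_mem aW bW]
  have cv : ∀ x ∈ VV, c * x * c⁻¹ ∈ VV := by
    rintro x (rfl | rfl | rfl | rfl)
    exacts [Or.inl (by simp), Or.inr (Or.inr (Or.inl hb)), Or.inr (Or.inr (Or.inr N)), Or.inr (Or.inl cc)]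
  have ci : c⁻¹ = c * c := inv_eq_of_mul_eq_one_right (by rw [← mul_assoc, c3])
  have m : ∀ {g}, Commute y g → g ∈ centralizer {y} := fun b => mem_centralizer_singleton_iff.2 b.symm
  have pc : π ⟨c, m zc⟩ = 1 := (h2 _).2 (Or.inr (Or.inr (by rw [← mul_assoc, c3]; exact one_mem _)))
  have act : ∀ g, Commute y g → g * c * g⁻¹ ∈ J ∨ g * c * g⁻¹ * c ∈ J ∨ g * c * g⁻¹ * (c * c) ∈ J := fun g d =>
    (h2 (⟨g, m d⟩ * ⟨c, m zc⟩ * (⟨g, m d⟩ : centralizer {y})⁻¹)).1 (by rw [map_mul, map_mul, pc, mul_one, map_inv, mul_inv_cancel])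
  have act' : ∀ {l x}, l * c ∈ J → x ∈ ZJ J → l * x * l⁻¹ = c * (c * x * c⁻¹) * c⁻¹ := fun {l x} d e => by
    rw [← cz (mW.1 (nW zc (nW zc e)) _ d), conj_conj', conj_conj', mul_assoc, mul_assoc l, mul_assoc l, c3, mul_one, mul_assoc l x]
  have act'' : ∀ {l x}, l * (c * c) ∈ J → x ∈ ZJ J → l * x * l⁻¹ = c * x * c⁻¹ := fun {l x} d e => by
    rw [← cz (mW.1 (nW zc e) _ d), conj_conj', mul_assoc l (c * c), c3, mul_one]
  have nV : ∀ {g}, Commute y g → V0 a b (g * a * g⁻¹) := fun {g} d => by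
    refine Or.resolve_left (show g * a * g⁻¹ ∈ VV from ?_) (mt conj_eq_one_iff.1 a1)
    obtain ⟨e, e1, u, u1, ue⟩ := dW _ (nW d vW)
    obtain ⟨f, f1, x, x1, rfl⟩ := dV u u1
    have l : Commute y (g * c * g⁻¹) := (d.mul_right zc).mul_right d.inv_right
    have ef : Commute (e * f) (g * c * g⁻¹) := by rcases e1 with rfl | rfl <;> rcases f1 with rfl | rfl <;> simp [es.sq, l]
    rw [ha, show g * (v⁻¹ * (c * v * c⁻¹)) * g⁻¹ = (g * v * g⁻¹)⁻¹ * (g * c * g⁻¹ * (g * v * g⁻¹) * (g * c * g⁻¹)⁻¹) by group, ue, ← mul_assoc e,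
      ← conj_mul (a := e * f), cz ef, mul_inv_rev, mul_assoc, inv_mul_cancel_left]
    refine mul_mem (inv_mem x1) ?_
    rcases act g d with r | r | r
    exacts [by rw [cz (mW.1 (VW x1) _ r)]; exact x1, by rw [act' r (VW x1)]; exact cv _ (cv _ x1), by rw [act'' r (VW x1)]; exact cv _ x1]
  refine ⟨a, b, es, card, EJ, aW.1, aa, a1, az, mW.1 aW _, c3, zc, hb, N, fun {j} d => ?_, selfc, nm, cJ, nV, fpf, ⟨π, h1, h2⟩, by_contra fun n => nf fun ρ => ?_⟩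
  · obtain ⟨e, e1, u, u1, rfl⟩ := dec j d
    obtain ⟨f, f1, x, x1, rfl⟩ := dV u u1
    exact ⟨e * f, mul_mem e1 (by rcases f1 with rfl | rfl; exacts [one_mem _, es.mem]), by
      rcases x1 with rfl | rfl | rfl | rfl <;> simp [mul_assoc]⟩
  push Not at n
  have : Fact (Nat.Prime 3) := ⟨Nat.prime_three⟩
  have : Fact (Nat.Prime 2) := ⟨Nat.prime_two⟩
  have nac : ¬ Commute a c := fun e => ab1.1 (by rw [← hb, cz e, aa])
  obtain ⟨g, rfl⟩ := h1 ρ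
  have pJ : IsPGroup 2 J := isPGroup_iff_mem.2 fun j d => ⟨2, by
    obtain ⟨e, e1, u, u1, rfl⟩ := dec j d
    rw [show (e * u) ^ 2 ^ 2 = e * u * (e * u) * (e * u * (e * u)) by simp [pow_succ, mul_assoc], (cV u u1 e e1).mul_mul_mul_comm, V2 u u1, mul_one]
    rcases es.sq_mem e e1 with f | f <;> simp [f, es.sq]⟩
  have p3 : ∀ x : G, x * x * x = 1 → IsPGroup 3 (zpowers x) := fun x e => isPGroup_iff_mem.2 fun _ ⟨i, f⟩ => ⟨1, by
    rw [← f, ← zpow_natCast, ← zpow_mul, mul_comm, zpow_mul, zpow_natCast, show x ^ 3 ^ 1 = 1 by simpa [pow_succ] using e, one_zpow]⟩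
  obtain ⟨T, t1, t2⟩ := exists_syl_ge (H := π.ker.map (centralizer {y}).subtype) (p3 c c3) (zpowers_le.2 ⟨⟨c, m zc⟩, pc, rfl⟩)
  obtain ⟨_, ⟨l, l1, rfl⟩, l2⟩ := t1.exists_conj_le (p3 (g * c * (g : G)⁻¹) (by rw [conj_mul, conj_mul, c3]; simp))
    (zpowers_le.2 ⟨g * ⟨c, m zc⟩ * g⁻¹, show π _ = 1 by rw [map_mul, map_mul, pc, mul_one, map_inv, mul_inv_cancel], rfl⟩)
  have l3 := l2 (conj_mem_cj _ (mem_zpowers _))
  rw [conj_conj'] at l3
  have kz : Commute y ((l : G) * g) := (mem_centralizer_singleton_iff.1 (l * g).2).symm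
  have dj : ∀ {x}, x ∈ T → x ∈ J → x = 1 := disjoint_def.1 (IsPGroup.disjoint_of_ne 3 2 (by norm_num) T J t1.isPGroup pJ)
  have cT := t2 (mem_zpowers c)
  rcases act _ kz with r | r | r
  · exact absurd (conj_eq_one_iff.1 (dj l3 r) ▸ Commute.one_right a) nac
  swap
  · refine ⟨l * g, (conj_eq_self_iff.1 (mul_right_cancel ((dj (mul_mem l3 (mul_mem cT cT)) r).trans ?_))).symm, by
      rw [map_mul, show π l = 1 from l1, one_mul]⟩
    rw [← mul_assoc, c3]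
  have r := eq_inv_of_mul_eq_one_left (dj (mul_mem l3 cT) r)
  change (l : G) * g * c * ((l : G) * g)⁻¹ = _ at r
  generalize (l : G) * g = k at *
  obtain ⟨u, u1, u2, u3⟩ : ∃ u, Commute c u ∧ Commute y u ∧ u * k * a * (u * k)⁻¹ = a := by
    rcases nV kz with e | e | e
    exacts [⟨1, by simp, by simp, by simpa using e⟩, ⟨c * c, by simp, zc.mul_right zc, by rw [← conj_conj', e, ← conj_conj', N, cc]⟩,
      ⟨c, by simp, zc, by rw [← conj_conj', e, cc]⟩]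
  have := cz (n _ (u2.mul_right kz) (conj_eq_self_iff.1 u3).symm)
  rw [← hb, show u * k * (c * a * c⁻¹) * (u * k)⁻¹ = u * (k * c * k⁻¹) * u⁻¹ * (u * k * a * (u * k)⁻¹) * (u * (k * c * k⁻¹) * u⁻¹)⁻¹ by group,
    u3, r, cz u1.inv_left, hb, ← cc, show c⁻¹ * (c * (a * b) * c⁻¹) * c⁻¹⁻¹ = a * b by group] at this
  exact absurd (mul_eq_right.1 this) a1

end Cfsg.Lib.Par
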