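import Cfsg.Agent.Lib.Known2.TC2
import Cfsg.Agent.Lib.Known2.ThreeTr
import Cfsg.Agent.Lib.Core.Nilpotent
import Cfsg.Agent.S0199
import Cfsg.Prelude.Def_FischerSpaces

/-! Sets of 3-transpositions closed under conjugation by their own members; the width one theorem. -/

set_option autoImplicit false

namespace Cfsg.Lib.Known2

open Subgroup Cfsg.Lib.Core

variable {G : Type*} [Group G]

/-- `D` is a set of 3-transpositions closed under conjugation by its own members. -/
structure TT (D : Set G) : Prop where
  set : IsThreeTranspositionSet D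
  conj : ∀ a ∈ D, ∀ b ∈ D, a * b * a ∈ D

theorem TT.of_conj {D : Set G} (h : IsThreeTranspositionSet D) (hc : ∀ g : G, ∀ d ∈ D, g * d * g⁻¹ ∈ D) :
    TT D := ⟨h, fun a ha b hb => by simpa [tt_inv h ha] using hc a b hb⟩

theorem TT.of_group {D : Set G} (h : IsThreeTranspositionGroup D) : TT D := TT.of_conj h.1 h.2.1

theorem group_of_class {D : Set G} (h : IsThreeTranspositionClass D) : IsThreeTranspositionGroup D := by
  refine ⟨h.1, fun g x hx => ?_, h.2.2⟩
  obtain ⟨d, -, rfl⟩ := h.2.1
  exact IsConj.trans hx (isConj_iff.2 ⟨g, rfl⟩)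

theorem class_trans {D : Set G} (h : IsThreeTranspositionClass D) {a b : G} (ha : a ∈ D) (hb : b ∈ D) :
    ∃ g : G, g * a * g⁻¹ = b := by
  obtain ⟨d, -, rfl⟩ := h.2.1
  exact isConj_iff.1 (IsConj.trans (IsConj.symm ha) hb)

theorem class_of_trans {D : Set G} (h : IsThreeTranspositionGroup D) {d : G} (hd : d ∈ D)
    (ht : ∀ a ∈ D, ∀ b ∈ D, ∃ g : G, g * a * g⁻¹ = b) : IsThreeTranspositionClass D := by
  refine ⟨h.1, ⟨d, hd, ?_⟩, h.2.2⟩
  ext x
  constructor
  · intro hx; exact isConj_iff.2 (ht d hd x hx)
  · intro hx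
    obtain ⟨g, rfl⟩ := isConj_iff.1 hx
    exact h.2.1 g d hd

theorem TT.of_class {D : Set G} (h : IsThreeTranspositionClass D) : TT D := TT.of_group (group_of_class h)

namespace TT

variable {D : Set G} (h : TT D)
include h

theorem sq {a : G} (ha : a ∈ D) : a * a = 1 := tt_mul_self h.set ha
theorem inv {a : G} (ha : a ∈ D) : a⁻¹ = a := tt_inv h.set ha
theorem ne_one {a : G} (ha : a ∈ D) : a ≠ 1 := tt_ne_one h.set ha
theorem cancel {a : G} (ha : a ∈ D) (x : G) : a * (a * x) = x := tt_cancel h.set ha x
theorem cancel' {a : G} (ha : a ∈ D) (x : G) : x * a * a = x := by rw [mul_assoc, h.sq ha, mul_one]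
theorem braid {a b : G} (ha : a ∈ D) (hb : b ∈ D) (hn : ¬ Commute a b) : a * b * a = b * a * b :=
  tt_braid h.set ha hb hn
theorem cube {a b : G} (ha : a ∈ D) (hb : b ∈ D) (hn : ¬ Commute a b) : (a * b) ^ 3 = 1 :=
  tt_cube h.set ha hb hn

theorem mono {E : Set G} (hE : E ⊆ D) (hc : ∀ a ∈ E, ∀ b ∈ E, a * b * a ∈ E) : TT E :=
  ⟨⟨fun a ha => h.set.1 a (hE ha), fun a ha b hb => h.set.2 a (hE ha) b (hE hb)⟩, hc⟩

theorem conj_mem {g b : G} (hg : g ∈ closure D) (hb : b ∈ D) : g * b * g⁻¹ ∈ D := by
  induction hg using Subgroup.closure_induction_left generalizing b with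
  | one => simpa using hb
  | mul_left x hx y _ ih =>
    have := h.conj x hx _ (ih hb)
    rw [mul_inv_rev, h.inv hx]; simpa [mul_assoc] using this
  | inv_mul_cancel x hx y _ ih =>
    have := h.conj x hx _ (ih hb)
    rw [mul_inv_rev, inv_inv, h.inv hx]; simpa [mul_assoc] using this

theorem inter (K : Subgroup G) : TT (D ∩ K) :=
  h.mono Set.inter_subset_left fun a ha b hb =>
    ⟨h.conj a ha.1 b hb.1, K.mul_mem (K.mul_mem ha.2 hb.2) ha.2⟩

theorem conj_eq_iff {a b : G} (ha : a ∈ D) : a * b * a = b ↔ Commute a b := by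
  constructor
  · intro e
    show a * b = b * a
    calc a * b = a * b * a * a := (h.cancel' ha _).symm
      _ = b * a := by rw [e]
  · intro e; rw [e.eq, h.cancel' ha]

theorem conj_conj {a : G} (ha : a ∈ D) (b : G) : a * (a * b * a) * a = b := by
  simp [mul_assoc, h.cancel ha, h.sq ha]

theorem conj_inj {a x y : G} (ha : a ∈ D) (e : a * x * a = a * y * a) : x = y := by
  rw [← h.conj_conj ha x, e, h.conj_conj ha]

theorem commute_conj_iff {a x y : G} (ha : a ∈ D) : Commute (a * x * a) (a * y * a) ↔ Commute x y := by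
  have : ∀ x y : G, a * x * a * (a * y * a) = a * (x * y) * a := fun x y => by
    simp [mul_assoc, h.cancel ha]
  simp only [Commute, SemiconjBy, this]
  exact ⟨h.conj_inj ha, fun e => by rw [e]⟩

theorem commute_conj_iff' {a x y : G} (ha : a ∈ D) : Commute (a * x * a) y ↔ Commute x (a * y * a) := by
  rw [← h.commute_conj_iff (x := x) ha, h.conj_conj ha]

/-- the third point is not fixed by `a` -/
theorem not_commute_third {a b : G} (ha : a ∈ D) (hn : ¬ Commute a b) : ¬ Commute a (a * b * a) := by
  rwa [← h.commute_conj_iff' ha, h.cancel' ha]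

theorem not_commute_third' {a b : G} (ha : a ∈ D) (hb : b ∈ D) (hn : ¬ Commute a b) :
    ¬ Commute b (a * b * a) := by
  rw [h.braid ha hb hn]; exact h.not_commute_third hb fun e => hn e.symm

/-- `e` commutes with `a` but not with `b`: then not with `a b a`. -/
theorem not_commute_conj {a b e : G} (ha : a ∈ D) (h1 : Commute e a) (h2 : ¬ Commute e b) :
    ¬ Commute e (a * b * a) := by
  rwa [← h.commute_conj_iff' ha, (h.conj_eq_iff ha).2 h1.symm]

omit h in
theorem commute_conj {a b e : G} (h1 : Commute e a) (h2 : Commute e b) : Commute e (a * b * a) :=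
  (h1.mul_right h2).mul_right h1

/-- third points determine each other -/
theorem third_inj {a x y : G} (ha : a ∈ D) (hx : x ∈ D) (hy : y ∈ D) (h1 : ¬ Commute a x) (h2 : ¬ Commute a y)
    (e : x * a * x = y * a * y) : x = y := by
  rw [← h.braid ha hx h1, ← h.braid ha hy h2] at e
  exact h.conj_inj ha e

theorem s4a {a b c : G} (ha : a ∈ D) (hb : b ∈ D) (hc : c ∈ D) (hac : Commute a c) (hba : ¬ Commute b a)
    (hbc : ¬ Commute b c) : Commute (a * b * a) (c * b * c) := by
  rw [← h.braid hb ha hba, ← h.braid hb hc hbc, h.commute_conj_iff hb]; exact hac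

theorem s4b {a b c : G} (ha : a ∈ D) (hb : b ∈ D) (hc : c ∈ D) (hac : Commute a c) (hba : ¬ Commute b a)
    (hbc : ¬ Commute b c) : Commute b (a * (c * b * c) * a) := by
  rw [← h.commute_conj_iff' ha]; exact h.s4a ha hb hc hac hba hbc

theorem s4_ne {a b c : G} (ha : a ∈ D) (hb : b ∈ D) (hc : c ∈ D) (hne : a ≠ c) (hba : ¬ Commute b a)
    (hbc : ¬ Commute b c) : a * b * a ≠ c * b * c := fun e => hne (h.third_inj hb ha hc hba hbc e)

theorem commute_mul_iff {a b e : G} (ha : a ∈ D) (hb : b ∈ D) (he : e ∈ D) (hab : a ≠ b) (hc : Commute a b) :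
    Commute e (a * b) ↔ Commute e a ∧ Commute e b := tt_commute_mul_iff h.set ha hb he hab hc

omit h in
theorem ev_mem {g : ℕ → G} (hg : ∀ s, g s ∈ D) (u : List ℕ) : TC.ev g u ∈ closure D := by
  induction u with
  | nil => exact one_mem _
  | cons s u ih => rw [TC.ev_cons]; exact mul_mem (subset_closure (hg s)) ih

theorem cw_mem {g : ℕ → G} (hg : ∀ s, g s ∈ D) (u : List ℕ) (s : ℕ) : TC.ev g (TC.cw u s) ∈ D := by
  rw [TC.ev_cw fun s => h.sq (hg s)]
  exact h.conj_mem (ev_mem hg u) (hg s)

end TT

namespace TC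

def pl_st0 : List ℕ := [8, 524296, 1048584, 524304, 1048592, 24, 1048600, 32, 524320, 40, 135790633, 1048616, 48, 136314929, 524336, 1048632, 64, 524352, 136839233, 524360, 80, 1048664, 96, 524384, 136839265, 524392, 112, 120, 136315001, 524408, 524416, 136, 144, 135790737, 1048720, 1048728, 160, 136315041, 524448, 136839329, 524456, 176, 184, 135790777, 1048760, 271057001, 1048768, 524488, 208, 216, 135790809, 1048792, 1048800, 270532745, 1048808, 240, 524536, 524544, 264, 137363721, 538444161, 673710465, 673186169, 272, 135790865, 271581321, 1048848, 270533001, 271057065, 1048856, 270532785, 271057289, 1048864, 405799025, 1573177, 296, 135790889, 136315177, 524592, 270008729, 136839473]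
def pl_steps : List ℕ := pl_st0
def pl_rels : List (List ℕ) := [[0, 0], [1, 1], [2, 2], [0, 1, 0, 1, 0, 1], [0, 2, 0, 2, 0, 2], [1, 2, 1, 2, 1, 2], [0, 1, 2, 1, 0, 1, 2, 1, 0, 1, 2, 1]]
def pl_al : ℕ := 0x36003500340033003200310030002f002e002d002c002b002a0029002800270026002500240023002200210020001f001e001d001c001b001a0019001800170016001500140013001200110010000f000e000d000c000b000a000900080007000600050004000300020001
def pl_ft : ℕ := 0x270025002d0026002900240023002700260022002a00250021002c0029002800220021002d002b0020002c001f002b002f001e0035002e0031001d001c002f002e001b0032001e001a003400310030001b001a0035003300190034001800330017003500320016001d003400330017001600320030001500310014003000190013002f0014002e00130012002d002a00110024002c002b00120011002a002800100029000f00280020000e0027000f0026000e00250023000d0024000c0023000d000b0022001f0021000b000a0020001f001e001c0009001d0008001c00090007001b0018001a0007000600190018001500050017000800160005000400150014001300060004001000030012000c0011000300020010000f000e000a00020001000d000c000b0001000a000000090008000700000006000500040000000300020001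
def w1_st0 : List ℕ := [3, 524296, 16, 136314897, 1048600, 524320, 40, 805830659, 674758697, 1572888, 524344, 64, 806354947, 676331585, 1572904, 538443779, 1048592, 1572880, 32, 1572896, 524336, 1572912, 56, 1048632, 524360, 1048648, 80, 524368, 88, 137887833, 524376, 1572952, 96, 139460705, 524384, 1048672, 524392, 270532641, 272629802, 134217914, 135266489, 134742250, 1572968, 112, 524400, 1048688, 1572984, 128, 139460737, 524416, 1048704, 524424, 270532665, 274202690, 134217938, 135790801, 134742322, 1048712, 144, 524432, 1573008, 1048728, 160, 137887905, 408944802, 134218010, 135790873, 135266658, 524448, 524456, 176, 1048752, 1573040, 200, 524488, 1048776, 224, 524512, 1573088, 240, 139460849, 524528, 1048816, 524536, 1048824, 256, 1573120, 264, 272, 139460881, 524560, 1048848, 288, 1048864, 1573152, 312, 137888057, 524600, 1573176, 524608, 1573184, 328, 344, 137888089, 524632, 1573208, 360, 136315241, 1048936, 1573224, 368, 136315249, 1048944, 1573232, 1048952, 1573240, 392, 524680, 524688, 1048976, 408, 1048984,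 1573272, 416, 524704, 1573280, 675807265, 274202802, 134218386, 134742674, 2097865, 541065274, 134218457, 134742746, 134218498, 135791362, 134742729, 272105889, 275251617, 1214251378, 134218234, 135266570, 540541305, 2016411753, 1348993506, 135266945, 1573288, 273678561, 1049008, 1573296, 524736, 456, 1049032, 1573320, 464, 137888209, 274727377, 542114153, 408420641, 540017266, 134742818, 1212154057, 943718465, 2097737, 1573328, 472, 136315353, 1049048, 1573336, 1573344, 1049064, 1573352, 524800, 1049088, 520, 1049096, 1573384, 528, 136839697, 272106001, 543162898, 135267226, 134218290, 270533129, 274203145, 406848058, 134218634, 135267209, 135267234, 135791522, 134218665, 524816, 1573392, 1573400, 273678625, 524832, 1573408, 1049144, 524864, 1049152]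
def w1_st1 : List ℕ := [1049160, 1573448, 592, 524880, 1049168, 524912, 1049200, 524936, 1049224, 524952, 524960, 1049248, 688, 139461297, 524976, 1049264, 704, 525008, 1573584, 273679001, 736, 136315617, 1573600, 525064, 810025249, 1482162378, 135791418, 538969114, 134743106, 274202897, 139461778, 134218777, 134743065, 2284323969, 1213727346, 134218858, 134742722, 134218122, 135790986, 135791290, 134218833, 808976954, 135267090, 1480589586, 135267186, 134218218, 134742506, 135791082, 134742274, 135790850, 134218578, 135791442, 134218618, 135267122, 1344798770, 134743010, 2152202410, 135267426, 1479540786, 135267377, 1348468874, 135267362, 1881670009, 1481113674, 134743129, 2152202961, 408945330, 134743098, 135791674, 135267345, 943718570, 135267313, 1747452801, 1077936649, 406323785, 808453266, 135791434, 2017984761, 1211105297, 1049352, 271057569, 807928097, 543687465, 792, 136315673, 137364249, 271581753, 1049368, 271058081, 807928209, 405799321]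
def w1_steps : List ℕ := w1_st0 ++ w1_st1
def w1_rels : List (List ℕ) := [[0, 0], [1, 1], [2, 2], [3, 3], [0, 1, 0, 1, 0, 1], [0, 2, 3, 1, 3, 2, 0, 2, 3, 1, 3, 2, 0, 2, 3, 1, 3, 2], [0, 3, 2, 1, 2, 3, 0, 3, 2, 1, 2, 3, 0, 3, 2, 1, 2, 3], [0, 2, 0, 2, 0, 2], [0, 1, 2, 1, 0, 1, 2, 1, 0, 1, 2, 1], [0, 1, 3, 2, 3, 1, 0, 1, 3, 2, 3, 1, 0, 1, 3, 2, 3, 1], [0, 3, 0, 3, 0, 3], [0, 1, 3, 1, 0, 1, 3, 1, 0, 1, 3, 1], [0, 2, 3, 2, 0, 2, 3, 2, 0, 2, 3, 2], [1, 2, 3, 2, 1, 2, 3, 2, 1, 2, 3, 2]]
def w1_subs : List (List ℕ) := [[0], [0, 1, 0, 2, 1, 0, 2, 0], [0, 1, 0, 3, 1, 0, 3, 0], [0, 2, 0, 3, 2, 0, 3, 0]]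
def w1_al : ℕ := 0x3400380041004c0040001600390047001500120032004f001f001c00240049003300140053003a0011004200550013008e009000080035000e004300190028002d0036003b0010002f0022002b001e002e002700700065000a000c003c00440068005a0007005c007600090054000d00480056004e000f009400920005004a000b0051000400610078006c0063000600930003008f007a006d0002009500910001
def w1_ft : ℕ := 0x430032002c002800440030002a002900420031002b0027004500350025002a004600330026002b004700340024002c0040002e002900250041002f00270026003f002d00280024004b001e00340031004c001f00350032004d002000330030004f0022002e003400500023002f0035004e0021002d00330049001c0031002e004a001d0032002f0048001b0030002d003a00280021001f003b002900220020003900270023001e003d002b001c0021003e002c001d0022003c002a001b002300370025001f001c003800260020001d00360024001e001b000d004d00460043000e004b00470044000c004c0045004200100050004000460011004e00410047000f004f003f0045000a004900430040000b004a00440041000900480042003f0017003a0050004b0015003b004e004c00160039004f004d0019003d004a004f001a003e004800500018003c0049004e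00130037004c004900140038004d004a00120036004b004800030043003c003900040044003d003a00050042003e003b000800450037003d000600460038003e000700470036003c00010040003a003700020041003b00380000003f0039003600280017000f000d002900150010000e002700160011000c002c001a000a0011002a0018000b000f002b00190009001000250013000c000a00260014000d000b00240012000e00090031000500180017003200030019001500300004001a00160034000700120019003500080013001a0033000600140018002e000100160013002f000200170014002d0000001500120020000d00060005001e000e00070003001f000c0008000400210011000100080022000f000200060023001000000007001c000a00040001001d000b00050002001b000900030000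
def w1_rd : List (ℕ × List ℕ × ℕ) := [(0, [], 1), (0, [2, 3], 1), (0, [3, 2], 1), (0, [], 2), (0, [1], 2), (0, [1, 3], 2), (0, [], 3), (0, [1], 3), (0, [2], 3), (1, [2], 3)]

theorem pl_check : check 3 id pl_rels [] pl_steps 54 (get pl_al) (tab 3 pl_ft) = true := by
  decide +kernel

theorem w1_check : check 4 id w1_rels w1_subs w1_steps 81 (get w1_al) (tab 4 w1_ft) = true := by
  decide +kernel

theorem w1_tri : ∀ s ∈ [1, 2, 3], triB 3 4 (tr (tab 4 w1_ft) [0, s]) = true ∧
    triB 3 4 (tr (tab 4 w1_ft) [s, 0]) = true := by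
  decide +kernel

end TC

/-- In the group of an affine plane `a` centralises the commutator `[a b, a c]`. -/
theorem plane_commute {a b c : G} (ha : a * a = 1) (hb : b * b = 1) (hc : c * c = 1) (hab : (a * b) ^ 3 = 1)
    (hac : (a * c) ^ 3 = 1) (hbc : (b * c) ^ 3 = 1) (habc : (a * (b * c * b)) ^ 3 = 1) :
    Commute (a * (b * (a * (c * (b * (a * (c * a))))))) a := by
  have hg : ∀ s, [a, b, c].getD s 1 * [a, b, c].getD s 1 = 1 := by
    intro s
    rcases s with _ | _ | _ | s <;> simp [*]
  have := TC.word_eq_one TC.pl_check (by norm_num) (fun s => [a, b, c].getD s 1)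
    (fun s _ => (inv_eq_of_mul_eq_one_right (hg s)).symm)
    (by
      simp only [TC.pl_rels, List.mem_cons, List.not_mem_nil, or_false, forall_eq_or_imp, forall_eq]
      simp only [pow_succ, pow_zero, one_mul, mul_assoc] at hab hac hbc habc
      simp [*])
    (TC.cw [0, 1, 0, 2, 1, 0, 2, 0] 0 ++ [0]) (by decide) (by decide +kernel)
  rw [TC.ev_append, TC.ev_cw hg] at this
  simp only [TC.ev_cons, TC.ev_nil, List.getD_cons_zero, List.getD_cons_succ, mul_one] at this
  generalize a * (b * (a * (c * (b * (a * (c * a)))))) = w at this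
  have h2 : w * a * w⁻¹ = a := by
    rw [eq_inv_of_mul_eq_one_left this]; exact inv_eq_of_mul_eq_one_right ha
  show w * a = a * w
  conv_rhs => rw [← h2]
  group

theorem isPGroup_closure_of_pow_central [Finite G] {p : ℕ} [Fact p.Prime] {S : Set G}
    (hS : ∀ x ∈ S, ∃ k, x ^ p ^ k = 1)
    (h : ∀ x ∈ closure S, ∃ k, ∀ y ∈ S, Commute (x ^ p ^ k) y) : IsPGroup p (closure S) := by
  have h1 : IsPGroup p (closure S ⧸ center (closure S)) := by
    intro x
    obtain ⟨x, rfl⟩ := QuotientGroup.mk_surjective x
    obtain ⟨k, hk⟩ := h x x.2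
    refine ⟨k, ?_⟩
    rw [← QuotientGroup.mk_pow, QuotientGroup.eq_one_iff, mem_center_iff]
    intro y
    apply Subtype.ext
    have : closure S ≤ centralizer {(x : G) ^ p ^ k} :=
      (closure_le _).2 fun y hy => mem_centralizer_singleton_iff.2 (hk y hy).symm.eq
    exact mem_centralizer_singleton_iff.1 (this y.2)
  have : Group.IsNilpotent (closure S) := Group.of_quotient_center_nilpotent h1.isNilpotent
  refine (isPGroup_pCoreOf (p := p) (closure S)).to_le ((closure_le _).2 fun x hx => ?_)
  obtain ⟨k, hk⟩ := hS x hx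
  exact le_pCoreOf_of_nilpotent (isPGroup_zpowers_of_pow_eq_one hk)
    (zpowers_le_of_mem (subset_closure hx)) (mem_zpowers x)

namespace TT

variable {D : Set G} (h : TT D)
include h

theorem cube_of_w1 (hw : ∀ a ∈ D, ∀ b ∈ D, Commute a b → a = b) {a b : G} (ha : a ∈ D) (hb : b ∈ D) :
    (a * b) ^ 3 = 1 := by
  by_cases e : Commute a b
  · rw [← hw a ha b hb e, h.sq ha, one_pow]
  · exact h.cube ha hb e

theorem four_gen [Finite G] (hw : ∀ a ∈ D, ∀ b ∈ D, Commute a b → a = b) {a b c d : G} (ha : a ∈ D)
    (hb : b ∈ D) (hc : c ∈ D) (hd : d ∈ D) : IsPGroup 3 (closure ({a * b, a * c, a * d} : Set G)) := by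
  have : Fact (Nat.Prime 3) := ⟨Nat.prime_three⟩
  let g : ℕ → G := fun s => [a, b, c, d].getD s a
  have hg : ∀ s, g s ∈ D := by
    intro s
    rcases s with _ | _ | _ | _ | s <;> simp [g, *]
  have h3 := @h.cube_of_w1 _ _ _ hw
  obtain ⟨q, h0, hq⟩ := TC.conj_sound TC.w1_check g (fun s _ => (h.inv (hg s)).symm)
    (by
      have e : TC.w1_rels = [0, 1, 2, 3].map (fun s => [s, s]) ++ TC.w1_rd.map
        (fun x => (x.1 :: TC.cw x.2.1 x.2.2) ++ ((x.1 :: TC.cw x.2.1 x.2.2) ++ (x.1 :: TC.cw x.2.1 x.2.2))) := by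
        decide
      rw [e]
      intro r hr
      rcases List.mem_append.1 hr with hr | hr <;> obtain ⟨x, -, rfl⟩ := List.mem_map.1 hr
      · simp [h.sq (hg x)]
      · have := h3 (hg x.1) (h.cw_mem hg x.2.1 x.2.2)
        simpa only [TC.ev_append, TC.ev_cons, pow_succ, pow_zero, one_mul, mul_assoc] using this)
    a (by
      have pc : ∀ {x y : G}, x ∈ D → y ∈ D → Commute (a * (x * (a * (y * (x * (a * (y * a))))))) a :=
        fun hx hy => plane_commute (h.sq ha) (h.sq hx) (h.sq hy) (h3 ha hx) (h3 ha hy) (h3 hx hy)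
          (h3 ha (h.conj _ hx _ hy))
      simp only [TC.w1_subs, List.mem_cons, List.not_mem_nil, or_false, forall_eq_or_imp, forall_eq]
      simp [g, pc, *])
  have hS : ∀ s ∈ [1, 2, 3], (∃ σ, TC.Tri 3 4 σ ∧ ∀ i < 3 ^ 4, q i = (a * g s) * q (σ i) * (a * g s)⁻¹) ∧
      ∃ σ, TC.Tri 3 4 σ ∧ ∀ i < 3 ^ 4, q i = (a * g s)⁻¹ * q (σ i) * (a * g s)⁻¹⁻¹ := by
    intro s hs
    have hs4 : s < 4 := by simp at hs; omega
    refine ⟨⟨_, TC.tri_of_triB (TC.w1_tri s hs).1, fun i hi => ?_⟩,
      ⟨_, TC.tri_of_triB (TC.w1_tri s hs).2, fun i hi => ?_⟩⟩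
    · simpa [g] using (TC.tr_conj hq [0, s] (by simp [hs4]) i hi).2
    · have := (TC.tr_conj hq [s, 0] (by simp [hs4]) i hi).2
      rw [mul_inv_rev, h.inv ha, h.inv (hg s)]
      simpa [g] using this
  have hpt : ∀ s, s < 4 → ∃ i < 3 ^ 4, q i = g s := by
    intro s hs
    obtain ⟨h1, h2⟩ := TC.tr_conj hq [s, 0] (by simp [hs]) 0 (by norm_num)
    refine ⟨_, h1, ?_⟩
    rw [h0] at h2
    have e : TC.ev g [s, 0] = g s * a := by simp [g]
    rw [e] at h2
    generalize q _ = y at h2
    have e2 : y = a * (g s * a * g s) * a := by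
      have : y = (g s * a)⁻¹ * a * (g s * a) := by
        generalize g s * a = w at h2
        rw [h2]; group
      rw [this, mul_inv_rev, h.inv ha, h.inv (hg s)]; group
    rw [e2, ← braid_of_cube (h.sq ha) (h.sq (hg s)) (h3 ha (hg s)), h.conj_conj ha]
  apply isPGroup_closure_of_pow_central
  · rintro x (rfl | rfl | rfl) <;> exact ⟨1, h3 ha ‹_›⟩
  · intro x hx
    have key := TC.pow_commute_of_tri (p := 3) (n := 4) (q := q) (by norm_num) (by
      rintro x (rfl | rfl | rfl)
      · exact hS 1 (by simp)
      · exact hS 2 (by simp)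
      · exact hS 3 (by simp)) hx
    have k2 : ∀ s, s < 4 → Commute (x ^ 3 ^ 4) (g s) := fun s hs => by
      obtain ⟨i, hi, e⟩ := hpt s hs
      rw [← e]; exact key i hi
    refine ⟨4, ?_⟩
    rintro y (rfl | rfl | rfl)
    · exact (k2 0 (by norm_num)).mul_right (k2 1 (by norm_num))
    · exact (k2 0 (by norm_num)).mul_right (k2 2 (by norm_num))
    · exact (k2 0 (by norm_num)).mul_right (k2 3 (by norm_num))

end TT

/-- Baer–Suzuki inside a subgroup. -/
theorem mem_pCoreOf_of_baer_suzuki [Finite G] {p : ℕ} [Fact p.Prime] {K : Subgroup G} {x : G} (hx : x ∈ K)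
    (h : ∀ g ∈ K, IsPGroup p (closure ({x, g * x * g⁻¹} : Set G))) : x ∈ (pCore p K).map K.subtype := by
  obtain ⟨N, hN, hp, hle⟩ := Cfsg.Agent.S0199.result (p := p) (zpowers (⟨x, hx⟩ : K))
    (by
      rw [← isPGroup_map_subtype_iff]
      refine (h 1 (one_mem _)).to_le ?_
      rw [MonoidHom.map_zpowers]
      exact zpowers_le_of_mem (subset_closure (by simp)))
    (fun g => by
      rw [← isPGroup_map_subtype_iff]
      refine (h g g.2).to_le ?_
      rw [Subgroup.map_sup, MonoidHom.map_zpowers, MonoidHom.map_zpowers, MonoidHom.map_zpowers]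
      exact sup_le (zpowers_le_of_mem (subset_closure (by simp))) (zpowers_le_of_mem (subset_closure (by simp))))
  exact ⟨⟨x, hx⟩, le_pCore hp (hle (mem_zpowers _)), rfl⟩

theorem mem_pCore_of_baer_suzuki [Finite G] {p : ℕ} [Fact p.Prime] {x : G}
    (h : ∀ g, IsPGroup p (closure ({x, g * x * g⁻¹} : Set G))) : x ∈ pCore p G := by
  rw [← pCoreOf_top]; exact mem_pCoreOf_of_baer_suzuki (mem_top x) fun g _ => h g

namespace TT

variable {D : Set G} (h : TT D)
include h

theorem pair_isPGroup [Finite G] (hw : ∀ a ∈ D, ∀ b ∈ D, Commute a b → a = b) {a b c d : G} (ha : a ∈ D)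
    (hb : b ∈ D) (hc : c ∈ D) (hd : d ∈ D) : IsPGroup 3 (closure ({a * b, c * d} : Set G)) := by
  refine (h.four_gen hw ha hb hc hd).to_le ((closure_le _).2 ?_)
  rintro x (rfl | rfl)
  · exact subset_closure (by simp)
  · have : c * d = (a * c)⁻¹ * (a * d) := by conv_lhs => rw [← h.inv hc]
                                             group
    rw [this]
    exact mul_mem (inv_mem (subset_closure (by simp))) (subset_closure (by simp))

/-- The width one theorem. -/
theorem mul_mem_pCoreOf_three [Finite G] (hw : ∀ a ∈ D, ∀ b ∈ D, Commute a b → a = b) {a b : G} (ha : a ∈ D)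
    (hb : b ∈ D) : a * b ∈ (pCore 3 (closure D)).map (closure D).subtype := by
  have : Fact (Nat.Prime 3) := ⟨Nat.prime_three⟩
  refine mem_pCoreOf_of_baer_suzuki (mul_mem (subset_closure ha) (subset_closure hb)) fun g hg => ?_
  rw [← conj_mul]
  exact h.pair_isPGroup hw ha hb (h.conj_mem hg ha) (h.conj_mem hg hb)

theorem isPGroup_three [Finite G] (hw : ∀ a ∈ D, ∀ b ∈ D, Commute a b → a = b) :
    IsPGroup 3 (closure {x | ∃ a ∈ D, ∃ b ∈ D, x = a * b}) := by
  refine (isPGroup_pCoreOf (p := 3) (closure D)).to_le ((closure_le _).2 ?_)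
  rintro _ ⟨a, ha, b, hb, rfl⟩
  exact h.mul_mem_pCoreOf_three hw ha hb

end TT

end Cfsg.Lib.Known2
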